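import Cfsg.Prelude.Def_FischerSpaces
import Cfsg.Agent.Lib.Spor.ThreeTransRank
import Cfsg.Agent.Lib.Spor.ThreeTransPerp

/-! Twin-freeness and quotients of perpendicular groups in classes of 3-transpositions. -/

set_option autoImplicit false
set_option linter.style.haveILetI false

namespace Cfsg.Agent.Block.FischerTypes

open Cfsg.Agent.Spor.ThreeTrans
open scoped commutatorElement

variable {G : Type*} [Group G]

/-- Members with the same commuting members coincide. -/
def TwinFree (D : Set G) : Prop := ∀ a b, perpTwo D a b → a = b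

/-- The group generated by the other members commuting with `a`. -/
abbrev PerpGroup (D : Set G) (a : G) : Subgroup G := Subgroup.closure (perp D a)

/-- That group modulo its centre. -/
abbrev PerpQuot (D : Set G) (a : G) : Type _ :=
  ↥(PerpGroup D a) ⧸ Subgroup.center ↥(PerpGroup D a)

/-- The image of the commuting members in the quotient. -/
abbrev perpSet (D : Set G) (a : G) : Set (PerpQuot D a) :=
  (QuotientGroup.mk : ↥(PerpGroup D a) → _) '' {x | (x : G) ∈ perp D a}

/-- The image of a commuting member. -/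
abbrev pr (D : Set G) (a u : G) (hu : u ∈ perp D a) : PerpQuot D a :=
  QuotientGroup.mk (⟨u, Subgroup.subset_closure hu⟩ : ↥(PerpGroup D a))

variable {D : Set G}

theorem pr_mem {a u : G} (hu : u ∈ perp D a) : pr D a u hu ∈ perpSet D a :=
  ⟨_, hu, rfl⟩

theorem exists_of_mem {a : G} {x : PerpQuot D a} (hx : x ∈ perpSet D a) :
    ∃ (u : G) (hu : u ∈ perp D a), pr D a u hu = x := by
  obtain ⟨y, hy, rfl⟩ := hx
  exact ⟨y, hy, rfl⟩

theorem commute_all {a u : G} (hu : ∀ x ∈ perp D a, Commute x u) {g : G}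
    (hg : g ∈ PerpGroup D a) : Commute g u := by
  have : PerpGroup D a ≤ Subgroup.centralizer {u} := by
    rw [Subgroup.closure_le]
    intro x hx
    rw [SetLike.mem_coe, Subgroup.mem_centralizer_singleton_iff]
    exact (hu x hx).eq
  exact Subgroup.mem_centralizer_singleton_iff.mp (this hg)

theorem commute_of_center {a : G} {z : ↥(PerpGroup D a)}
    (hz : z ∈ Subgroup.center ↥(PerpGroup D a)) {x : G} (hx : x ∈ PerpGroup D a) :
    Commute x (z : G) :=
  congrArg Subtype.val (Subgroup.mem_center_iff.mp hz ⟨x, hx⟩)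

variable [Finite G]

theorem ncard_commute_eq (h : IsThreeTranspositionClass D) {a b : G} (ha : a ∈ D) (hb : b ∈ D) :
    {e : G | e ∈ D ∧ Commute a e}.ncard = {e : G | e ∈ D ∧ Commute b e}.ncard := by
  obtain ⟨g, hg⟩ := transitive h ha hb
  have : {e : G | e ∈ D ∧ Commute b e} =
      (fun e => g * e * g⁻¹) '' {e : G | e ∈ D ∧ Commute a e} := by
    ext e
    constructor
    · rintro ⟨he, hc⟩
      refine ⟨g⁻¹ * e * g, ⟨by simpa using conj_mem h g⁻¹ he, ?_⟩, by simp [mul_assoc]⟩
      rw [← commute_conj_iff g, hg]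
      simpa [mul_assoc] using hc
    · rintro ⟨u, ⟨hu, hc⟩, rfl⟩
      exact ⟨conj_mem h g hu, hg ▸ (commute_conj_iff g a u).mpr hc⟩
  rw [this, Set.ncard_image_of_injective _ fun u v e => by simpa using e]

/-- A member commuting with `a` and with all members commuting with `a` is a twin of `a`. -/
theorem twin_of_central (h : IsThreeTranspositionClass D) {a u : G} (ha : a ∈ D)
    (hu : u ∈ perp D a) (hc : ∀ x ∈ perp D a, Commute x u) : perpTwo D a u := by
  have hsub : {e : G | e ∈ D ∧ Commute a e} ⊆ {e : G | e ∈ D ∧ Commute u e} := by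
    rintro e ⟨he, hce⟩
    refine ⟨he, ?_⟩
    by_cases hea : e = a
    · exact hea ▸ hu.2.2.symm
    · exact (hc e ⟨he, hea, hce⟩).symm
  have heq := Set.eq_of_subset_of_ncard_le hsub (ncard_commute_eq h ha hu.1).ge (Set.toFinite _)
  refine ⟨ha, hu.1, fun e he => ?_⟩
  have := Set.ext_iff.mp heq e
  simp only [Set.mem_ofPred_eq, he, true_and] at this
  exact this

/-- In a twin-free class no member commutes with all members commuting with `a`. -/
theorem exists_noncentral (h : IsThreeTranspositionClass D) (htf : TwinFree D) {a u : G}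
    (ha : a ∈ D) (hu : u ∈ perp D a) : ∃ x ∈ perp D a, ¬ Commute x u := by
  by_contra hno
  push Not at hno
  exact hu.2.1 (htf a u (twin_of_central h ha hu hno)).symm

theorem pr_injective (h : IsThreeTranspositionClass D) (htf : TwinFree D) {a u v : G}
    (ha : a ∈ D) (hu : u ∈ perp D a) (hv : v ∈ perp D a) (he : pr D a u hu = pr D a v hv) :
    u = v := by
  by_contra hne
  have hz := QuotientGroup.eq.mp he
  have hz' : ∀ x ∈ PerpGroup D a, Commute x (u * v) := fun x hx => by
    have := commute_of_center hz hx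
    simpa [inv_eq h.1 hu.1] using this
  have huv : Commute u v := by
    have := hz' u (Subgroup.subset_closure hu)
    have e : u * (u * v) = u * v * u := this.eq
    rw [mul_self_mul h.1 hu.1] at e
    show u * v = v * u
    conv_rhs => rw [e, mul_assoc, mul_self h.1 hu.1, mul_one]
  obtain ⟨x, hx, hxu⟩ := exists_noncentral h htf ha hu
  exact hxu ((commute_mul_iff h.1 hu.1 hv.1 hx.1 hne huv).mp
    (hz' x (Subgroup.subset_closure hx))).1

theorem commute_of_pr (h : IsThreeTranspositionClass D) (htf : TwinFree D) {a u v : G}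
    (ha : a ∈ D) (hu : u ∈ perp D a) (hv : v ∈ perp D a)
    (hc : Commute (pr D a u hu) (pr D a v hv)) : Commute u v := by
  by_contra hnc
  apply hnc
  have hu' := mul_self h.1 hu.1
  set U : ↥(PerpGroup D a) := ⟨u, Subgroup.subset_closure hu⟩
  set V : ↥(PerpGroup D a) := ⟨v, Subgroup.subset_closure hv⟩
  have hUU : U * U = 1 := Subtype.ext hu'
  have hVV : V * V = 1 := Subtype.ext (mul_self h.1 hv.1)
  have h3 : (U * V) ^ 3 = 1 := Subtype.ext (by
    simpa [U, V] using pow_three_of_not_commute h hu.1 hv.1 hnc)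
  set π := QuotientGroup.mk' (Subgroup.center ↥(PerpGroup D a))
  have h2 : (π U * π V) ^ 2 = 1 := by
    have hc' : Commute (π U) (π V) := hc
    rw [hc'.mul_pow, pow_two, pow_two, ← map_mul, hUU, ← map_mul, hVV, map_one, mul_one]
  have h3' : (π U * π V) ^ 3 = 1 := by rw [← map_mul, ← map_pow, h3, map_one]
  rw [pow_succ, h2, one_mul] at h3'
  have : pr D a u hu = pr D a v hv := by
    show π U = π V
    rw [eq_inv_of_mul_eq_one_left h3', ← map_inv, inv_eq_of_mul_eq_one_left hVV]
  rw [pr_injective h htf ha hu hv this]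

omit [Finite G] in
theorem commute_pr {a u v : G} (hu : u ∈ perp D a) (hv : v ∈ perp D a) (hc : Commute u v) :
    Commute (pr D a u hu) (pr D a v hv) :=
  Commute.map (Subtype.ext hc.eq : Commute (⟨u, Subgroup.subset_closure hu⟩ : ↥(PerpGroup D a))
    ⟨v, Subgroup.subset_closure hv⟩) (QuotientGroup.mk' _)

theorem perpSet_set (h : IsThreeTranspositionClass D) (htf : TwinFree D) {a : G} (ha : a ∈ D) :
    IsThreeTranspositionSet (perpSet D a) := by
  constructor
  · intro x hx
    obtain ⟨u, hu, rfl⟩ := exists_of_mem hx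
    refine orderOf_eq_prime ?_ ?_
    · rw [← QuotientGroup.mk_pow, show (⟨u, Subgroup.subset_closure hu⟩ : ↥(PerpGroup D a)) ^ 2 = 1
        from Subtype.ext (by rw [pow_two]; exact mul_self h.1 hu.1), QuotientGroup.mk_one]
    · intro e
      obtain ⟨x, hx, hxu⟩ := exists_noncentral h htf ha hu
      exact hxu (commute_of_center ((QuotientGroup.eq_one_iff _).mp e) (Subgroup.subset_closure hx))
  · intro x hx y hy
    obtain ⟨u, hu, rfl⟩ := exists_of_mem hx
    obtain ⟨v, hv, rfl⟩ := exists_of_mem hy
    rw [← QuotientGroup.mk_mul, ← QuotientGroup.mk_pow, ← QuotientGroup.mk_pow]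
    rcases h.1.2 u hu.1 v hv.1 with e | e
    · left
      rw [show (⟨u, Subgroup.subset_closure hu⟩ * ⟨v, Subgroup.subset_closure hv⟩ :
        ↥(PerpGroup D a)) ^ 2 = 1 from Subtype.ext e, QuotientGroup.mk_one]
    · right
      rw [show (⟨u, Subgroup.subset_closure hu⟩ * ⟨v, Subgroup.subset_closure hv⟩ :
        ↥(PerpGroup D a)) ^ 3 = 1 from Subtype.ext e, QuotientGroup.mk_one]

theorem perpSet_conj (h : IsThreeTranspositionClass D) {a : G} (q : PerpQuot D a)
    {x : PerpQuot D a} (hx : x ∈ perpSet D a) : q * x * q⁻¹ ∈ perpSet D a := by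
  obtain ⟨u, hu, rfl⟩ := exists_of_mem hx
  induction q using QuotientGroup.induction_on with
  | H g =>
    have hga : Commute (g : G) a :=
      commute_all (fun x hx => hx.2.2.symm) g.2
    exact ⟨g * ⟨u, Subgroup.subset_closure hu⟩ * g⁻¹, perp_conj' h hga hu, by simp⟩

omit [Finite G] in
theorem closure_perpSet {a : G} : Subgroup.closure (perpSet D a) = ⊤ := by
  rw [eq_top_iff]
  intro q _
  induction q using QuotientGroup.induction_on with
  | H g =>
    suffices ∀ u (hu : u ∈ PerpGroup D a),
        (QuotientGroup.mk (⟨u, hu⟩ : ↥(PerpGroup D a)) : PerpQuot D a) ∈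
          Subgroup.closure (perpSet D a) from this g g.2
    intro u hu
    induction hu using Subgroup.closure_induction with
    | mem u hu => exact Subgroup.subset_closure ⟨⟨u, Subgroup.subset_closure hu⟩, hu, rfl⟩
    | one => exact one_mem _
    | mul u v hu hv ihu ihv => exact mul_mem ihu ihv
    | inv u hu ih => exact inv_mem ih

/-- The image is a class when the perpendicular group permutes it transitively. -/
theorem perpSet_class (h : IsThreeTranspositionClass D) (htf : TwinFree D) {a : G} (ha : a ∈ D)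
    (hne : (perp D a).Nonempty)
    (htr : ∀ y ∈ perp D a, ∀ y' ∈ perp D a, ∃ g ∈ PerpGroup D a, g * y * g⁻¹ = y') :
    IsThreeTranspositionClass (perpSet D a) := by
  refine ⟨perpSet_set h htf ha, ?_, closure_perpSet⟩
  obtain ⟨y, hy⟩ := hne
  refine ⟨_, pr_mem hy, Set.ext fun x => ⟨fun hx => ?_, fun hx => ?_⟩⟩
  · obtain ⟨y', hy', rfl⟩ := exists_of_mem hx
    obtain ⟨g, hg, e⟩ := htr y hy y' hy'
    refine isConj_iff.mpr ?_
    refine ⟨QuotientGroup.mk ⟨g, hg⟩, ?_⟩
    rw [← QuotientGroup.mk_inv, ← QuotientGroup.mk_mul, ← QuotientGroup.mk_mul]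
    exact congrArg QuotientGroup.mk (Subtype.ext e)
  · obtain ⟨q, rfl⟩ := isConj_iff.mp hx
    exact perpSet_conj h q (pr_mem hy)

theorem pow_gcd_mem {H : Type*} [Group H] (Z : Subgroup H) {g : H} {m n : ℕ} (hm : g ^ m ∈ Z)
    (hn : g ^ n ∈ Z) (hco : Nat.Coprime m n) : g ∈ Z := by
  have := Z.mul_mem (Z.zpow_mem hm (Nat.gcdA m n)) (Z.zpow_mem hn (Nat.gcdB m n))
  rwa [← zpow_natCast, ← zpow_natCast, ← zpow_mul, ← zpow_mul, ← zpow_add,
    ← Nat.gcd_eq_gcd_ab, hco.gcd_eq_one, Nat.cast_one, zpow_one] at this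

/-- A 2- or 3-core inside the centre disappears in the central quotient. -/
theorem pCore_quot_center {H : Type*} [Group H] [Finite H] (p : ℕ) [Fact p.Prime]
    (hp : pCore p H ≤ Subgroup.center H) : pCore p (H ⧸ Subgroup.center H) = ⊥ := by
  set π := QuotientGroup.mk' (Subgroup.center H)
  haveI := Transfer.pCore_normal' p (H ⧸ Subgroup.center H)
  set K := (pCore p (H ⧸ Subgroup.center H)).comap π
  have hKn : K.Normal := inferInstance
  let f : ↥K →* ↥(pCore p (H ⧸ Subgroup.center H)) := π.subgroupComap _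
  have hker : f.ker ≤ Subgroup.center ↥K := by
    intro k hk
    have hk' : (k : H) ∈ Subgroup.center H := by
      have := congrArg Subtype.val (MonoidHom.mem_ker.mp hk)
      exact (QuotientGroup.eq_one_iff _).mp this
    exact Subgroup.mem_center_iff.mpr fun g => Subtype.ext (Subgroup.mem_center_iff.mp hk' g)
  haveI : Group.IsNilpotent ↥(pCore p (H ⧸ Subgroup.center H)) :=
    (Transfer.pCore_isPGroup p _).isNilpotent
  haveI hKnil : Group.IsNilpotent ↥K := Subgroup.isNilpotent_of_ker_le_center f hker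
  obtain ⟨P⟩ : Nonempty (Sylow p ↥K) := inferInstance
  have hPn : (P : Subgroup ↥K).Normal := by
    have := (Group.isNilpotent_of_finite_tfae (G := ↥K)).out 0 3
    exact this.mp hKnil p inferInstance P
  haveI : (P : Subgroup ↥K).Characteristic := P.characteristic_of_normal hPn
  have hPc : (P : Subgroup ↥K).map K.subtype ≤ Subgroup.center H :=
    (Transfer.le_pCore inferInstance (P.isPGroup'.map _)).trans hp
  rw [eq_bot_iff]
  intro q hq
  induction q using QuotientGroup.induction_on with
  | H g =>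
    have hgK : g ∈ K := hq
    obtain ⟨k, hk⟩ := Transfer.pCore_isPGroup p _ ⟨_, hq⟩
    have hk' : g ^ p ^ k ∈ Subgroup.center H := by
      have := congrArg Subtype.val hk
      exact (QuotientGroup.eq_one_iff _).mp this
    have hm : g ^ (P : Subgroup ↥K).index ∈ Subgroup.center H :=
      hPc ⟨_, Subgroup.pow_index_mem _ (⟨g, hgK⟩ : ↥K), rfl⟩
    have hco : Nat.Coprime (p ^ k) (P : Subgroup ↥K).index :=
      Nat.Coprime.pow_left _ ((Fact.out : p.Prime).coprime_iff_not_dvd.mpr P.not_dvd_index)
    exact (QuotientGroup.eq_one_iff _).mpr (pow_gcd_mem _ hk' hm hco)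

theorem pCore_le_center_congr {X Y : Type*} [Group X] [Group Y] (p : ℕ) (e : X ≃* Y)
    (hX : pCore p X ≤ Subgroup.center X) : pCore p Y ≤ Subgroup.center Y := by
  intro y hy
  have hle : (pCore p Y).map e.symm.toMonoidHom ≤ pCore p X :=
    Transfer.le_pCore ((Transfer.pCore_normal' p Y).map _ e.symm.surjective)
      ((Transfer.pCore_isPGroup p Y).map _)
  have h1 := hX (hle ⟨y, hy, rfl⟩)
  refine Subgroup.mem_center_iff.mpr fun g => ?_
  have := congrArg e (Subgroup.mem_center_iff.mp h1 (e.symm g))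
  simpa using this

theorem twinFree_of_core (h : IsThreeTranspositionClass D) (h2 : pCore 2 G = ⊥) : TwinFree D := by
  intro a b hab
  have := mul_mem_core_two h hab
  rw [h2, Subgroup.mem_bot] at this
  rw [eq_inv_of_mul_eq_one_left this, inv_eq h.1 hab.2.1]

/-- Twin-freeness from the quotient of one perpendicular group. -/
theorem twinFree_of_perpQuot (h : IsThreeTranspositionClass D) {x : G} (hx : x ∈ D)
    (h2 : pCore 2 (PerpQuot D x) = ⊥)
    (hnc : ∃ u ∈ perp D x, ∃ v ∈ perp D x, ¬ Commute u v) : TwinFree D := by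
  intro a b hab
  by_contra hne
  have hR := isSys_perpTwo h
  obtain ⟨u, hu, v, hv, huv⟩ := hnc
  obtain ⟨p, hp, hpx⟩ : ∃ p ∈ perp D x, ¬ perpTwo D x p := by
    by_contra hall
    push Not at hall
    exact huv (perpTwo_commute (hR.trans (hR.symm (hall u hu)) (hall v hv)))
  obtain ⟨g, rfl⟩ := transitive h hab.1 hp.1
  have hab' := hR.inv g hab
  set p := g * a * g⁻¹
  set p' := g * b * g⁻¹
  have hpp' : Commute p p' := perpTwo_commute hab'
  have hne' : p ≠ p' := fun e => hne (by simpa [p, p'] using e)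
  have hp' : p' ∈ perp D x := by
    refine ⟨hab'.2.1, fun e => hpx (hR.symm (e ▸ hab')), ?_⟩
    exact ((hab'.2.2 x hx).mp hp.2.2.symm).symm
  have hcore := mul_mem_core_two h hab'
  set H := PerpGroup D x
  set N := (pCore 2 G).subgroupOf H
  haveI := Transfer.pCore_normal' 2 G
  have hNp : IsPGroup 2 ↥(N.map (QuotientGroup.mk' (Subgroup.center ↥H))) :=
    ((Transfer.pCore_isPGroup 2 G).comap_of_injective H.subtype Subtype.val_injective).map _
  have hbot : N.map (QuotientGroup.mk' (Subgroup.center ↥H)) ≤ ⊥ :=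
    h2 ▸ Transfer.le_pCore (Subgroup.Normal.map inferInstance _ (QuotientGroup.mk'_surjective _)) hNp
  have hmem : (⟨p, Subgroup.subset_closure hp⟩ * ⟨p', Subgroup.subset_closure hp'⟩ : ↥H) ∈ N :=
    hcore
  have hz := (QuotientGroup.eq_one_iff _).mp (hbot ⟨_, hmem, rfl⟩)
  refine hpx (twin_of_central h hx hp fun y hy => ?_)
  exact ((commute_mul_iff h.1 hp.1 hp'.1 hy.1 hne' hpp').mp
    (by simpa using commute_of_center hz (Subgroup.subset_closure hy))).1

end Cfsg.Agent.Block.FischerTypes
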