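import Cfsg.Agent.Lib.Block.FischerTypes.Basic

/-! Deriving Fischer's hypotheses: centre, cores and primitivity. -/

set_option autoImplicit false
set_option linter.style.haveILetI false

namespace Cfsg.Agent.Block.FischerTypes

open Cfsg.Agent.Spor.ThreeTrans
open scoped commutatorElement

variable {G : Type*} [Group G] [Finite G] {D : Set G}

omit [Finite G] in
theorem mem_center_of_commute (h : IsThreeTranspositionClass D) {g : G}
    (hg : ∀ d ∈ D, Commute d g) : g ∈ Subgroup.center G := by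
  have hle : Subgroup.closure D ≤ Subgroup.centralizer {g} := by
    rw [Subgroup.closure_le]
    intro d hd
    rw [SetLike.mem_coe, Subgroup.mem_centralizer_singleton_iff]
    exact (hg d hd).eq
  rw [h.2.2] at hle
  exact Subgroup.mem_center_iff.mpr fun x =>
    (Subgroup.mem_centralizer_singleton_iff.mp (hle (Subgroup.mem_top x)))

omit [Finite G] in
/-- Elements of exponent `p` of an abelian normal subgroup lie in the `p`-core. -/
theorem mem_pCore_of_abelian (p : ℕ) (A : Subgroup G) [A.Normal]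
    (hA : ∀ x ∈ A, ∀ y ∈ A, Commute x y) {y : G} (hy : y ∈ A) (hyp : y ^ p = 1) :
    y ∈ pCore p G := by
  let P : Subgroup G :=
    { carrier := {z | z ∈ A ∧ z ^ p = 1}
      one_mem' := ⟨one_mem _, one_pow _⟩
      mul_mem' := fun {u v} hu hv =>
        ⟨mul_mem hu.1 hv.1, by rw [(hA u hu.1 v hv.1).mul_pow, hu.2, hv.2, one_mul]⟩
      inv_mem' := fun {u} hu => ⟨inv_mem hu.1, by rw [inv_pow, hu.2, inv_one]⟩ }
  have hn : P.Normal := ⟨fun z hz g =>
    ⟨Subgroup.Normal.conj_mem inferInstance z hz.1 g, by rw [conj_pow, hz.2, mul_one, mul_inv_cancel]⟩⟩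
  have hp : IsPGroup p P := fun z => ⟨1, Subtype.ext (by simpa using z.2.2)⟩
  exact Transfer.le_pCore hn hp ⟨hy, hyp⟩

theorem solvable_normal_eq_bot (h : IsThreeTranspositionClass D) (hc : Subgroup.center G = ⊥)
    (h2 : pCore 2 G = ⊥) (h3 : pCore 3 G = ⊥) :
    ∀ (n : ℕ) (N : Subgroup G), Nat.card N = n → N.Normal → Group.IsSolvable N → N = ⊥ := by
  intro n
  induction n using Nat.strong_induction_on with
  | _ n ih =>
    intro N hn hN hs
    by_contra hne
    haveI := hN
    haveI : Nontrivial N := (Subgroup.nontrivial_iff_ne_bot N).mpr hne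
    have hlt : ⁅N, N⁆ < N := by
      refine lt_of_le_of_ne (Subgroup.commutator_le_self N) fun e => ?_
      exact hne (Cfsg.Agent.Grp.eq_bot_of_perfect_of_solvable e hs)
    have hbot : ⁅N, N⁆ = ⊥ := by
      refine ih _ ?_ _ rfl inferInstance (Cfsg.Agent.Grp.isSolvable_of_le hlt.le hs)
      rw [← hn]
      exact Set.ncard_lt_ncard (SetLike.coe_ssubset_coe.mpr hlt) (Set.toFinite _)
    have hA : ∀ x ∈ N, ∀ y ∈ N, Commute x y := fun x hx y hy =>
      commutatorElement_eq_one_iff_commute.mp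
        (Subgroup.mem_bot.mp (hbot ▸ Subgroup.commutator_mem_commutator hx hy))
    refine hne (eq_bot_iff.mpr fun m hm => ?_)
    rw [← hc]
    refine mem_center_of_commute h fun d hd => ?_
    have hy : d * (m * d * m⁻¹) ∈ N := by
      have := mul_mem (hN.conj_mem m hm d) (inv_mem hm)
      rwa [inv_eq h.1 hd, show d * m * d * m⁻¹ = d * (m * d * m⁻¹) by simp [mul_assoc]] at this
    have hy1 : d * (m * d * m⁻¹) = 1 := by
      rw [← Subgroup.mem_bot]
      rcases h.1.2 d hd _ (conj_mem h m hd) with e | e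
      · exact h2 ▸ mem_pCore_of_abelian 2 N hA hy e
      · exact h3 ▸ mem_pCore_of_abelian 3 N hA hy e
    have : m * d * m⁻¹ = d := by
      rw [eq_inv_of_mul_eq_one_right hy1, inv_eq h.1 hd]
    exact (mul_inv_eq_iff_eq_mul.mp this).symm

/-- Commuting members agree modulo the second derived subgroup. -/
theorem mul_mem_second (h : IsThreeTranspositionClass D) {a b : G} (ha : a ∈ D) (hb : b ∈ D)
    (hab : Commute a b) : a * b ∈ ⁅commutator G, commutator G⁆ := by
  set N := ⁅commutator G, commutator G⁆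
  set π := QuotientGroup.mk' N
  have hcomm : ∀ x ∈ commutator G, ∀ y ∈ commutator G, Commute (π x) (π y) := fun x hx y hy => by
    rw [← commutatorElement_eq_one_iff_commute, ← map_commutatorElement]
    exact (QuotientGroup.eq_one_iff _).mpr (Subgroup.commutator_mem_commutator hx hy)
  let M : Set G := {e | e ∈ D ∧ π (a * e) ^ 3 = 1}
  have haM : a ∈ M := ⟨ha, by rw [mul_self h.1 ha, map_one, one_pow]⟩
  have hM := noncomm_closed_eq h (M := M) (fun e he => he.1) ⟨a, haM⟩ (fun e he f hf hef => by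
    refine ⟨hf, ?_⟩
    have h1 : a * f = (a * e) * (e * f) := by
      rw [mul_assoc a e, mul_self_mul h.1 he.1]
    rw [h1, map_mul, (hcomm _ (mul_conj_mem_commutator h ha he.1) _
      (mul_conj_mem_commutator h he.1 hf)).mul_pow, he.2, ← map_pow,
      pow_three_of_not_commute h he.1 hf hef, map_one, one_mul]) b hb
  have hsq : π (a * b) ^ 2 = 1 := by rw [← map_pow, sq_of_commute h ha hb hab, map_one]
  have h3 := hM.2
  rw [pow_succ, hsq, one_mul] at h3
  exact (QuotientGroup.eq_one_iff _).mp h3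

theorem commutator_perfect (h : IsThreeTranspositionClass D)
    (hall : ∀ a ∈ D, ∀ b ∈ D, a * b ∈ ⁅commutator G, commutator G⁆) :
    ⁅commutator G, commutator G⁆ = commutator G := by
  refine le_antisymm (Subgroup.commutator_le_self _) ?_
  set N := ⁅commutator G, commutator G⁆
  obtain ⟨a, ha, -⟩ := h.2.1
  set π := QuotientGroup.mk' N
  have hrange : ∀ g, π g ∈ Subgroup.zpowers (π a) := by
    intro g
    have hle : Subgroup.closure D ≤ (Subgroup.zpowers (π a)).comap π := by
      rw [Subgroup.closure_le]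
      intro b hb
      rw [SetLike.mem_coe, Subgroup.mem_comap]
      have e : π a * π b = 1 := by
        rw [← map_mul]; exact (QuotientGroup.eq_one_iff _).mpr (hall a ha b hb)
      rw [eq_inv_of_mul_eq_one_right e]
      exact inv_mem (Subgroup.mem_zpowers _)
    exact hle (h.2.2 ▸ Subgroup.mem_top g)
  rw [commutator_eq_closure, Subgroup.closure_le]
  rintro _ ⟨u, v, rfl⟩
  refine (QuotientGroup.eq_one_iff _).mp ?_
  rw [← QuotientGroup.mk'_apply, map_commutatorElement, commutatorElement_eq_one_iff_commute]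
  obtain ⟨i, hi⟩ := Subgroup.mem_zpowers_iff.mp (hrange u)
  obtain ⟨j, hj⟩ := Subgroup.mem_zpowers_iff.mp (hrange v)
  rw [← hi, ← hj]
  exact Commute.zpow_zpow_self _ i j

theorem hyp_of (h : IsThreeTranspositionClass D) (hc : Subgroup.center G = ⊥)
    (h2 : pCore 2 G = ⊥) (h3 : pCore 3 G = ⊥) (hnc : ∃ a ∈ D, ∃ b ∈ D, ¬ Commute a b)
    (hall : ∀ a ∈ D, ∀ b ∈ D, a * b ∈ ⁅commutator G, commutator G⁆) : Hyp D where
  cls := h
  perf := commutator_perfect h hall
  solv N hN hs _ := solvable_normal_eq_bot h hc h2 h3 _ N rfl hN hs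
  nc := hnc

omit [Finite G] in
theorem class_of_prim (hD : IsThreeTranspositionGroup D) (hp : IsPrimitiveUnderConj D) :
    IsThreeTranspositionClass D := by
  obtain ⟨a, ha, -⟩ := hp.2.1
  refine ⟨hD.1, ⟨a, ha, Set.ext fun b => ⟨fun hb => isConj_iff.mpr (hp.1 a ha b hb), fun hb => ?_⟩⟩,
    hD.2.2⟩
  obtain ⟨g, rfl⟩ := isConj_iff.mp hb
  exact hD.2.1 g a ha

/-- Congruence modulo a normal subgroup is trivial or universal on a primitive class. -/
theorem block_dichotomy (h : IsThreeTranspositionClass D) (hp : IsPrimitiveUnderConj D)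
    (N : Subgroup G) [N.Normal] :
    (∀ d ∈ D, ∀ e ∈ D, d * e ∈ N) ∨ (∀ d ∈ D, ∀ e ∈ D, d * e ∈ N → d = e) := by
  by_cases hsing : ∀ d ∈ D, ∀ e ∈ D, d * e ∈ N → d = e
  · exact Or.inr hsing
  left
  push Not at hsing
  obtain ⟨d, hd, e, he, hde, hne⟩ := hsing
  let B : Set G := {x | x ∈ D ∧ d * x ∈ N}
  have hB : B = D := by
    refine (hp.2.2 B (fun x hx => hx.1) fun g => ?_).resolve_left fun hs =>
      hne (hs ⟨hd, by rw [mul_self h.1 hd]; exact one_mem _⟩ ⟨he, hde⟩)
    by_cases hdisj : Disjoint ((fun x => g * x * g⁻¹) '' B) B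
    · exact Or.inr hdisj
    left
    obtain ⟨z, ⟨y, hy, rfl⟩, hz⟩ := Set.not_disjoint_iff.mp hdisj
    have hgd : g * d * g⁻¹ ∈ D := conj_mem h g hd
    have h1 : g * d * g⁻¹ * (g * y * g⁻¹) ∈ N := by
      rw [show g * d * g⁻¹ * (g * y * g⁻¹) = g * (d * y) * g⁻¹ by simp [mul_assoc]]
      exact Subgroup.Normal.conj_mem inferInstance _ hy.2 g
    have hzd : d * (g * d * g⁻¹) ∈ N :=
      mul_trans_mem h (conj_mem h g hy.1) hz.2 (mul_symm_mem h hgd (conj_mem h g hy.1) h1)
    ext x
    constructor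
    · rintro ⟨w, hw, rfl⟩
      refine ⟨conj_mem h g hw.1, mul_trans_mem h hgd hzd ?_⟩
      rw [show g * d * g⁻¹ * (g * w * g⁻¹) = g * (d * w) * g⁻¹ by simp [mul_assoc]]
      exact Subgroup.Normal.conj_mem inferInstance _ hw.2 g
    · rintro ⟨hx, hdx⟩
      refine ⟨g⁻¹ * x * g, ⟨by simpa using conj_mem h g⁻¹ hx, ?_⟩, by simp [mul_assoc]⟩
      have h2 : g * d * g⁻¹ * x ∈ N :=
        mul_trans_mem h hd (mul_symm_mem h hd hgd hzd) hdx
      have := Subgroup.Normal.conj_mem inferInstance _ h2 g⁻¹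
      simpa [mul_assoc] using this
  intro u hu v hv
  rw [← hB] at hu hv
  exact mul_trans_mem h hd (mul_symm_mem h hd hu.1 hu.2) hv.2

theorem eq_bot_of_separated (h : IsThreeTranspositionClass D) (hc : Subgroup.center G = ⊥)
    (N : Subgroup G) [N.Normal] (hN : ∀ d ∈ D, ∀ e ∈ D, d * e ∈ N → d = e) : N = ⊥ := by
  refine eq_bot_iff.mpr fun m hm => ?_
  rw [← hc]
  refine mem_center_of_commute h fun d hd => ?_
  have hy : d * (m * d * m⁻¹) ∈ N := by
    have := mul_mem (Subgroup.Normal.conj_mem inferInstance m hm d) (inv_mem hm)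
    rwa [inv_eq h.1 hd, show d * m * d * m⁻¹ = d * (m * d * m⁻¹) by simp [mul_assoc]] at this
  exact (mul_inv_eq_iff_eq_mul.mp (hN d hd _ (conj_mem h m hd) hy).symm).symm

theorem hyp_of_prim (h : IsThreeTranspositionClass D) (hp : IsPrimitiveUnderConj D)
    (hc : Subgroup.center G = ⊥) (hnc : ∃ a ∈ D, ∃ b ∈ D, ¬ Commute a b)
    (hperp : ∃ a ∈ D, (perp D a).Nonempty) : Hyp D ∧ TwinFree D := by
  obtain ⟨x, hx, y, hy, hyx, hxy⟩ := hperp
  obtain ⟨u, hu, v, hv, huv⟩ := hnc
  haveI := Transfer.pCore_normal' 2 G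
  haveI := Transfer.pCore_normal' 3 G
  have h2 : pCore 2 G = ⊥ := eq_bot_of_separated h hc _
    ((block_dichotomy h hp _).resolve_left fun hall => huv (commute_of_core_two h hu hv (hall u hu v hv)))
  have h3 : pCore 3 G = ⊥ := eq_bot_of_separated h hc _
    ((block_dichotomy h hp _).resolve_left fun hall => hyx (eq_of_commute_core h hy hx
      (hall y hy x hx) hxy.symm))
  refine ⟨hyp_of h hc h2 h3 ⟨u, hu, v, hv, huv⟩ ?_, twinFree_of_core h h2⟩
  exact (block_dichotomy h hp _).resolve_right fun hsep =>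
    hyx (hsep x hx y hy (mul_mem_second h hx hy hxy)).symm

end Cfsg.Agent.Block.FischerTypes
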