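import Cfsg.Agent.Lib.Block.FischerTypes.M22Centralizer

/-! The centraliser of a member from local transitivity and connectedness. -/

set_option autoImplicit false
set_option linter.style.haveILetI false
set_option linter.unusedSectionVars false

namespace Cfsg.Agent.Block.FischerTypes.Cov

open Cfsg.Agent.Spor.ThreeTrans
open Cfsg.Agent.Block.FischerTypes.M22 (perp_symm commute_self group_conj)

variable {G : Type*} [Group G] [Finite G] {D : Set G}

/-- Local data determining the centralisers. -/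
structure Cover (D : Set G) : Prop where
  cls : IsThreeTranspositionClass D
  self : ∀ a ∈ D, a ∈ PerpGroup D a
  perp_ne : ∀ a ∈ D, (perp D a).Nonempty
  point : ∀ d ∈ D, ∀ x, x ∈ perp D d → ∀ {k : G}, k ∈ PerpGroup D x → Commute k d → k ∈ PerpGroup D d
  move : ∀ x ∈ D, ∀ p ∈ perp D x, ∀ q ∈ perp D x, ∃ k ∈ PerpGroup D x, k * p * k⁻¹ = q
  moveFix : ∀ x ∈ D, ∀ y ∈ perp D x, ∀ p ∈ perp D x, ∀ q ∈ perp D x, p ∈ perp D y → q ∈ perp D y →
    ∃ k ∈ PerpGroup D x, k ∈ PerpGroup D y ∧ k * p * k⁻¹ = q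
  common_ne : ∀ p ∈ D, ∀ q ∈ D, p ≠ q → (common D p q).Nonempty
  tri : ∀ x ∈ D, ∀ p ∈ perp D x, ∀ r ∈ perp D x, p ≠ r →
    ∃ y, y ∈ perp D x ∧ y ∈ perp D p ∧ y ∈ perp D r
  diam : ∀ p ∈ D, ∀ q ∈ D, p ≠ q → Commute p q → ∀ x ∈ common D p q, ∀ y ∈ common D p q, ¬ Commute x y →
    ∃ z ∈ common D p q, Commute z x ∧ Commute z y
  zl : ∀ d ∈ D, ∀ f ∈ D, ¬ Commute d f → ∀ x ∈ common D d f, ∀ w ∈ perp D d, ¬ Commute x w →
    ∃ z ∈ common D d f, Commute z w

variable (C : Cover D)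
include C

theorem mem_group {a u : G} (ha : a ∈ D) (hu : u ∈ D) (hc : Commute a u) : u ∈ PerpGroup D a := by
  by_cases e : u = a
  · rw [e]; exact C.self a ha
  · exact Subgroup.subset_closure ⟨hu, e, hc⟩

/-- A transporter between two members through a third. -/
def Tr (D : Set G) (p q k : G) : Prop :=
  ∃ x ∈ common D p q, k ∈ PerpGroup D x ∧ k * p * k⁻¹ = q

/-- The coset of transporters. -/
def R (D : Set G) (p q k : G) : Prop := ∃ k₀, Tr D p q k₀ ∧ k₀⁻¹ * k ∈ PerpGroup D p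

theorem exists_tr {p q : G} (hp : p ∈ D) (hq : q ∈ D) : ∃ k, Tr D p q k := by
  have hne : (common D p q).Nonempty := by
    by_cases e : p = q
    · subst e
      obtain ⟨x, hx⟩ := C.perp_ne p hp
      exact ⟨x, hx, hx⟩
    exact C.common_ne p hp q hq e
  obtain ⟨x, hx⟩ := hne
  obtain ⟨k, hk, e⟩ := C.move x hx.1.1 p (perp_symm hp hx.1) q (perp_symm hq hx.2)
  exact ⟨k, x, hx, hk, e⟩

theorem tr_unique {p q k l : G} (hp : p ∈ D) (hq : q ∈ D) (hk : Tr D p q k) (hl : Tr D p q l) :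
    k⁻¹ * l ∈ PerpGroup D p := by
  by_cases e : p = q
  · subst e
    obtain ⟨x, hx, hxk, ek⟩ := hk
    obtain ⟨y, hy, hyl, el'⟩ := hl
    exact mul_mem (inv_mem (C.point p hp _ hx.1 hxk (mul_inv_eq_iff_eq_mul.mp ek)))
      (C.point p hp _ hy.1 hyl (mul_inv_eq_iff_eq_mul.mp el'))
  have same : ∀ {x k l : G}, x ∈ common D p q → k ∈ PerpGroup D x → k * p * k⁻¹ = q →
      l ∈ PerpGroup D x → l * p * l⁻¹ = q → k⁻¹ * l ∈ PerpGroup D p := by
    intro x k l hx hk ek hl el'
    refine C.point p hp _ hx.1 (mul_mem (inv_mem hk) hl) (mul_inv_eq_iff_eq_mul.mp ?_)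
    calc k⁻¹ * l * p * (k⁻¹ * l)⁻¹ = k⁻¹ * (l * p * l⁻¹) * k := by simp [mul_assoc]
      _ = k⁻¹ * (k * p * k⁻¹) * k := by rw [el', ek]
      _ = p := by simp [mul_assoc]
  have step : ∀ {x y k l : G}, x ∈ common D p q → y ∈ common D p q → Commute x y →
      k ∈ PerpGroup D x → k * p * k⁻¹ = q → l ∈ PerpGroup D y → l * p * l⁻¹ = q →
      k⁻¹ * l ∈ PerpGroup D p := by
    intro x y k l hx hy hxy hk ek hl el'
    by_cases e' : y = x
    · subst e'
      exact same hx hk ek hl el'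
    obtain ⟨m, hmx, hmy, em⟩ := C.moveFix x hx.1.1 y ⟨hy.1.1, e', hxy⟩ p (perp_symm hp hx.1) q
      (perp_symm hq hx.2) (perp_symm hp hy.1) (perp_symm hq hy.2)
    have := mul_mem (same hx hk ek hmx em) (same hy hmy em hl el')
    simpa [mul_assoc] using this
  obtain ⟨x, hx, hxk, ek⟩ := hk
  obtain ⟨y, hy, hyl, el'⟩ := hl
  by_cases hpq : Commute p q
  swap
  · -- for an apart pair the third member of the line is a common transporter
    have hmem : ∀ z ∈ common D p q, p * q * p ∈ PerpGroup D z := fun z hz =>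
      mul_mem (mul_mem (Subgroup.subset_closure (perp_symm hp hz.1))
        (Subgroup.subset_closure (perp_symm hq hz.2))) (Subgroup.subset_closure (perp_symm hp hz.1))
    have ht : p * q * p * p * (p * q * p)⁻¹ = q := by
      have hb := braid C.cls.1 hp hq hpq
      simp only [mul_inv_rev, inv_eq C.cls.1 hp, inv_eq C.cls.1 hq, mul_assoc, mul_self_mul C.cls.1 hp]
      calc p * (q * (p * (q * p))) = p * (q * p * q) * p := by simp only [mul_assoc]
        _ = q := by rw [← hb]; simp [mul_assoc, mul_self_mul C.cls.1 hp, mul_self C.cls.1 hp]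
    have := mul_mem (same hx hxk ek (hmem x hx) ht) (same hy (hmem y hy) ht hyl el')
    simpa [mul_assoc] using this
  by_cases hxy : Commute x y
  · exact step hx hy hxy hxk ek hyl el'
  obtain ⟨z, hz, hzx, hzy⟩ := C.diam p hp q hq e hpq x hx y hy hxy
  obtain ⟨m, hm, em⟩ := C.move z hz.1.1 p (perp_symm hp hz.1) q (perp_symm hq hz.2)
  have := mul_mem (step hx hz hzx.symm hxk ek hm em) (step hz hy hzy hm em hyl el')
  simpa [mul_assoc] using this

theorem R_conj {p q k : G} (hk : R D p q k) : k * p * k⁻¹ = q := by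
  obtain ⟨k₀, ⟨x, -, -, e⟩, ha⟩ := hk
  have hc := commute_self ha
  have h1 := conj_self_eq hc
  calc k * p * k⁻¹ = k₀ * (k₀⁻¹ * k * p * (k₀⁻¹ * k)⁻¹) * k₀⁻¹ := by simp [mul_assoc]
    _ = q := by rw [h1, e]

theorem R_unique {p q k l : G} (hp : p ∈ D) (hq : q ∈ D) (hk : R D p q k) (hl : R D p q l) :
    k⁻¹ * l ∈ PerpGroup D p := by
  obtain ⟨k₀, hk₀, ha⟩ := hk
  obtain ⟨l₀, hl₀, hb⟩ := hl
  have := mul_mem (mul_mem (inv_mem ha) (tr_unique C hp hq hk₀ hl₀)) hb
  simpa [mul_assoc] using this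

omit C in
theorem R_of_tr {p q k : G} (hk : Tr D p q k) : R D p q k :=
  ⟨k, hk, by rw [inv_mul_cancel]; exact one_mem _⟩

omit C in
theorem R_mul {p q k a : G} (hk : R D p q k) (ha : a ∈ PerpGroup D p) : R D p q (k * a) := by
  obtain ⟨k₀, hk₀, hb⟩ := hk
  exact ⟨k₀, hk₀, by rw [← mul_assoc]; exact mul_mem hb ha⟩

theorem R_self {p k : G} (hp : p ∈ D) : R D p p k ↔ k ∈ PerpGroup D p := by
  constructor
  · rintro ⟨k₀, ⟨x, hx, hxk, e⟩, ha⟩
    have := mul_mem (C.point p hp _ hx.1 hxk (mul_inv_eq_iff_eq_mul.mp e)) ha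
    rwa [mul_inv_cancel_left] at this
  · intro hk
    obtain ⟨k₀, hk₀⟩ := exists_tr C hp hp
    obtain ⟨x, hx, hxk, e⟩ := id hk₀
    exact ⟨k₀, hk₀, mul_mem (inv_mem (C.point p hp _ hx.1 hxk (mul_inv_eq_iff_eq_mul.mp e))) hk⟩

theorem R_mul_left {p q k b : G} (hk : R D p q k) (hb : b ∈ PerpGroup D q) : R D p q (b * k) := by
  have e := R_conj C hk
  have h1 := group_conj C.cls k⁻¹ hb
  rw [show k⁻¹ * q * k⁻¹⁻¹ = p by rw [← e]; simp [mul_assoc]] at h1
  have := R_mul hk h1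
  simpa [mul_assoc] using this

theorem R_inv {p q k : G} (hk : R D p q k) : R D q p k⁻¹ := by
  have e := R_conj C hk
  obtain ⟨k₀, ⟨x, hx, hxk, e₀⟩, ha⟩ := hk
  refine ⟨k₀⁻¹, ⟨x, ⟨hx.2, hx.1⟩, inv_mem hxk, by rw [← e₀]; simp [mul_assoc]⟩, ?_⟩
  have h3 := inv_mem (group_conj C.cls k₀ ha)
  rw [e₀] at h3
  simpa [mul_assoc] using h3

theorem R_conj_all (g : G) {p q k : G} (hk : R D p q k) :
    R D (g * p * g⁻¹) (g * q * g⁻¹) (g * k * g⁻¹) := by
  have h := C.cls
  obtain ⟨k₀, ⟨x, hx, hxk, e₀⟩, ha⟩ := hk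
  refine ⟨g * k₀ * g⁻¹, ⟨g * x * g⁻¹, ⟨(conj_mem_perp h g p).mpr hx.1, (conj_mem_perp h g q).mpr hx.2⟩,
    group_conj h g hxk, by rw [← e₀]; simp [mul_assoc]⟩, ?_⟩
  have := group_conj h g ha
  simpa [mul_assoc] using this

/-- Transporters compose. -/
def Coc (D : Set G) (p q r : G) : Prop := ∀ k l, R D p q k → R D q r l → R D p r (l * k)

theorem coc_rev {p q r : G} (h : Coc D p q r) : Coc D r q p := fun k l hk hl => by
  have := R_inv C (h _ _ (R_inv C hl) (R_inv C hk))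
  simpa using this

theorem coc_swap {p q r : G} (hp : p ∈ D) (hq : q ∈ D) (hr : r ∈ D) (h : Coc D p q r) :
    Coc D q p r := fun k l hk hl => by
  obtain ⟨m, hm⟩ := exists_tr C hq hr
  have hm' := R_of_tr hm
  have ha := R_unique C hp hr (h _ _ (R_inv C hk) hm') hl
  have hb := group_conj C.cls k⁻¹ ha
  rw [R_conj C (R_inv C hk)] at hb
  have := R_mul hm' hb
  simpa [mul_assoc] using this

theorem coc_split {p q r x : G} (hq : q ∈ D) (hr : r ∈ D) (hx : x ∈ D) (h1 : Coc D q x r)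
    (h2 : Coc D p q x) (h3 : Coc D p x r) : Coc D p q r := fun k l hk hl => by
  obtain ⟨a, ha⟩ := exists_tr C hq hx
  obtain ⟨b, hb⟩ := exists_tr C hx hr
  have hc := R_unique C hq hr (h1 _ _ (R_of_tr ha) (R_of_tr hb)) hl
  have := h3 _ _ (h2 _ _ (R_mul_left C hk hc) (R_of_tr ha)) (R_of_tr hb)
  simpa [mul_assoc] using this

theorem coc_common {p q r x : G} (hp : p ∈ D) (hq : q ∈ D) (hr : r ∈ D) (hx : x ∈ perp D p)
    (hx' : x ∈ perp D q) (hx'' : x ∈ perp D r) : Coc D p q r := fun k l hk hl => by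
  obtain ⟨a, ha, ea⟩ := C.move x hx.1 p (perp_symm hp hx) q (perp_symm hq hx')
  obtain ⟨b, hb, eb⟩ := C.move x hx.1 q (perp_symm hq hx') r (perp_symm hr hx'')
  have hc := R_unique C hp hq (R_of_tr ⟨x, ⟨hx, hx'⟩, ha, ea⟩) hk
  have he := R_unique C hq hr (R_of_tr ⟨x, ⟨hx', hx''⟩, hb, eb⟩) hl
  have hba : R D p r (b * a) := R_of_tr ⟨x, ⟨hx, hx''⟩, mul_mem hb ha, by
    rw [← eb, ← ea]; simp [mul_assoc]⟩
  have he' := group_conj C.cls a⁻¹ he
  rw [show a⁻¹ * q * a⁻¹⁻¹ = p by rw [← ea]; simp [mul_assoc]] at he'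
  have := R_mul hba (mul_mem he' hc)
  simpa [mul_assoc] using this

theorem coc_refl {p q : G} (hp : p ∈ D) : Coc D p q p := fun k l hk hl => by
  have h1 := R_conj C hk
  rw [R_self C hp]
  obtain ⟨l₀, hl₀, ha⟩ := hl
  obtain ⟨x, hx, hxl, el'⟩ := id hl₀
  have hq : q ∈ D := by
    rw [← h1]
    exact conj_mem C.cls k hp
  have hc := R_unique C hp hq (R_inv C (R_of_tr hl₀)) hk
  rw [inv_inv] at hc
  have hd := group_conj C.cls k⁻¹ ha
  rw [show k⁻¹ * q * k⁻¹⁻¹ = p by rw [← h1]; simp [mul_assoc]] at hd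
  have := mul_mem hc hd
  simpa [mul_assoc] using this

/-- Paths of length two. -/
theorem coc_path {p x r : G} (hp : p ∈ D) (hr : r ∈ D) (hx : x ∈ common D p r) : Coc D p x r := by
  by_cases e : p = r
  · subst e
    exact coc_refl C hp
  obtain ⟨y, hy, hyp, hyr⟩ := C.tri x hx.1.1 p (perp_symm hp hx.1) r (perp_symm hr hx.2) e
  exact coc_common C hp hx.1.1 hr hyp hy hyr

/-- Triples with a commuting pair. -/
theorem coc_edge {p q r : G} (hp : p ∈ D) (hq : q ∈ D) (hr : r ∈ D) (hpq : Commute p q) :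
    Coc D p q r := by
  by_cases e : p = q
  · subst e
    intro k l hk hl
    exact R_mul hl ((R_self C hp).mp hk)
  by_cases e' : q = r
  · subst e'
    intro k l hk hl
    exact R_mul_left C hk ((R_self C hq).mp hl)
  by_cases e'' : p = r
  · subst e''
    exact coc_refl C hp
  have hqp : q ∈ perp D p := ⟨hq, Ne.symm e, hpq⟩
  by_cases hqr : Commute q r
  · exact coc_path C hp hr ⟨hqp, hq, e', hqr.symm⟩
  by_cases hpr : Commute p r
  · refine coc_swap C hq hp hr ?_
    exact coc_path C hq hr ⟨perp_symm hp hqp, hp, e'', hpr.symm⟩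
  obtain ⟨x, hx⟩ := C.common_ne q hq r hr e'
  obtain ⟨z, hz, hzp⟩ : ∃ z ∈ common D q r, Commute z p := by
    by_cases hxp : Commute x p
    · exact ⟨x, hx, hxp⟩
    obtain ⟨z, hz, c⟩ := C.zl q hq r hr hqr x hx p (perp_symm hp hqp) hxp
    exact ⟨z, hz, c⟩
  have hpz : p ≠ z := fun k => hpr (k ▸ hz.2.2.2.symm)
  have hzp' : z ∈ perp D p := ⟨hz.1.1, Ne.symm hpz, hzp.symm⟩
  refine coc_split C hq hr hz.1.1 (coc_path C hq hr hz) (coc_path C hp hz.1.1 ⟨hqp, ?_⟩)
    (coc_path C hp hr ⟨hzp', hz.2⟩)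
  exact ⟨hq, Ne.symm hz.1.2.1, hz.1.2.2.symm⟩

theorem coc {p q r : G} (hp : p ∈ D) (hq : q ∈ D) (hr : r ∈ D) : Coc D p q r := by
  by_cases hpq : Commute p q
  · exact coc_edge C hp hq hr hpq
  by_cases hqr : Commute q r
  · exact coc_rev C (coc_edge C hr hq hp hqr.symm)
  by_cases e : p = r
  · subst e
    exact coc_refl C hp
  obtain ⟨x, hx⟩ := C.common_ne q hq r hr fun k => hqr (k ▸ Commute.refl q)
  exact coc_split C hq hr hx.1.1 (coc_path C hq hr hx)
    (coc_rev C (coc_edge C hx.1.1 hq hp hx.1.2.2.symm))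
    (coc_rev C (coc_edge C hr hx.1.1 hp hx.2.2.2))

/-- The centraliser of a member is the group generated by its perpendicular. -/
theorem centralizer_eq {d : G} (hd : d ∈ D) : Subgroup.centralizer ({d} : Set G) = PerpGroup D d := by
  have h := C.cls
  refine le_antisymm (fun g hg => ?_) fun g hg =>
    Subgroup.mem_centralizer_singleton_iff.mpr (commute_self hg).eq
  have hall : ∀ g : G, R D d (g * d * g⁻¹) g := by
    intro g
    have hgD : g ∈ Subgroup.closure D := h.2.2 ▸ Subgroup.mem_top g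
    induction hgD using Subgroup.closure_induction_left with
    | one =>
      simp only [one_mul, inv_one, mul_one]
      exact (R_self C hd).mpr (one_mem _)
    | mul_left t ht y _ ih =>
      have htd : R D d (t * d * t⁻¹) t := by
        by_cases hc : Commute t d
        · rw [conj_self_eq hc]
          exact (R_self C hd).mpr (mem_group C hd ht hc.symm)
        · obtain ⟨x, hx1, hx2⟩ := C.common_ne t ht d hd fun k => hc (k ▸ Commute.refl t)
          have hxt : Commute t x := hx1.2.2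
          refine R_of_tr ⟨x, ⟨hx2, ?_⟩, mem_group C hx1.1 ht hxt.symm, rfl⟩
          have := (conj_mem_perp h t d).mpr hx2
          rwa [conj_self_eq hxt] at this
      have h1 := coc C hd (conj_mem h t hd) (conj_mem h t (conj_mem h y hd)) _ _ htd (R_conj_all C t ih)
      convert h1 using 1 <;> simp [mul_assoc]
    | inv_mul_cancel t ht y hy ih =>
      rw [inv_eq h.1 ht]
      have htd : R D d (t * d * t⁻¹) t := by
        by_cases hc : Commute t d
        · rw [conj_self_eq hc]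
          exact (R_self C hd).mpr (mem_group C hd ht hc.symm)
        · obtain ⟨x, hx1, hx2⟩ := C.common_ne t ht d hd fun k => hc (k ▸ Commute.refl t)
          have hxt : Commute t x := hx1.2.2
          refine R_of_tr ⟨x, ⟨hx2, ?_⟩, mem_group C hx1.1 ht hxt.symm, rfl⟩
          have := (conj_mem_perp h t d).mpr hx2
          rwa [conj_self_eq hxt] at this
      have h1 := coc C hd (conj_mem h t hd) (conj_mem h t (conj_mem h y hd)) _ _ htd (R_conj_all C t ih)
      convert h1 using 1 <;> simp [mul_assoc]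
  have := hall g
  rw [conj_self_eq (Subgroup.mem_centralizer_singleton_iff.mp hg)] at this
  exact (R_self C hd).mp this

end Cfsg.Agent.Block.FischerTypes.Cov
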