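import Cfsg.Prelude.Def_Transfer
import Mathlib

/-! A group with squares in a subgroup of order two and centre twice as large splits off a factor. -/

set_option autoImplicit false
set_option linter.style.haveILetI false

namespace Cfsg.Agent.Block.FischerTypes

open Cfsg
open scoped commutatorElement

variable {E : Type*} [Group E] [Finite E]

omit [Finite E] in
/-- If squares lie in a central subgroup, so do commutators. -/
theorem commutator_mem_of_sq {Z : Subgroup E} (hZ : Z ≤ Subgroup.center E) (h : ∀ x : E, x * x ∈ Z) (x y : E) :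
    x * y * x⁻¹ * y⁻¹ ∈ Z := by
  have e1 := Subgroup.mem_center_iff.mp (hZ (inv_mem (h x))) y⁻¹
  have key : x * y * x⁻¹ * y⁻¹ = (x * y * (x * y)) * (x * x)⁻¹ * (y * y)⁻¹ := by
    calc x * y * x⁻¹ * y⁻¹ = x * y * (x * y) * (y⁻¹ * (x * x)⁻¹) * y * (y⁻¹ * y⁻¹) := by simp [mul_assoc]
      _ = x * y * (x * y) * ((x * x)⁻¹ * y⁻¹) * y * (y⁻¹ * y⁻¹) := by rw [e1]
      _ = _ := by simp [mul_assoc]
  rw [key]
  exact mul_mem (mul_mem (h _) (inv_mem (h _))) (inv_mem (h _))

/-- Off a subgroup of order two holding the squares there is a subgroup of index two. -/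
theorem exists_index_two {j x : E} (hj : j ∈ Subgroup.center E) (hsq : ∀ y : E, y * y ∈ Subgroup.zpowers j)
    (hx : x ∉ Subgroup.zpowers j) : ∃ M : Subgroup E, j ∈ M ∧ x ∉ M ∧ M.index = 2 := by
  obtain ⟨M, ⟨hjM, hxM⟩, hmax⟩ := Set.Finite.exists_maximal (s := {M : Subgroup E | j ∈ M ∧ x ∉ M})
    (Set.toFinite _) ⟨Subgroup.zpowers j, Subgroup.mem_zpowers j, hx⟩
  have hZM : Subgroup.zpowers j ≤ M := Subgroup.zpowers_le.mpr hjM
  haveI : M.Normal := ⟨fun n hn g => by
    have := mul_mem (hZM (commutator_mem_of_sq (Subgroup.zpowers_le.mpr hj) hsq g n)) hn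
    simpa using this⟩
  refine ⟨M, hjM, hxM, Subgroup.index_eq_two_iff.mpr ⟨x, fun b => ?_⟩⟩
  by_cases hb : b ∈ M
  · refine Or.inr ⟨hb, fun k => hxM ?_⟩
    have := mul_mem (inv_mem hb) k
    simpa using this
  refine Or.inl ⟨?_, hb⟩
  have hxs : x ∈ M ⊔ Subgroup.zpowers b := by
    by_contra hno
    exact hb (hmax (show M ⊔ Subgroup.zpowers b ∈ _ from ⟨le_sup_left (b := Subgroup.zpowers b) hjM, hno⟩)
      le_sup_left (Subgroup.mem_sup_right (Subgroup.mem_zpowers b)))
  obtain ⟨m, hm, z, ⟨n, rfl⟩, e⟩ := Subgroup.mem_sup_of_normal_left.mp hxs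
  simp only at e
  have hbb : b * b ∈ M := hZM (hsq b)
  obtain ⟨k, rfl | rfl⟩ := Int.even_or_odd' n
  · exfalso
    refine hxM (e ▸ mul_mem hm ?_)
    rw [zpow_mul, show b ^ (2 : ℤ) = b * b by rw [show (2 : ℤ) = ((2 : ℕ) : ℤ) from rfl, zpow_natCast, pow_two]]
    exact zpow_mem hbb k
  · have hk : b ^ (2 * k) ∈ M := by
      rw [zpow_mul, show b ^ (2 : ℤ) = b * b by rw [show (2 : ℤ) = ((2 : ℕ) : ℤ) from rfl, zpow_natCast, pow_two]]
      exact zpow_mem hbb k
    rw [← e, zpow_add, zpow_one, ← mul_assoc, ← mul_assoc,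
      show b * m * b ^ (2 * k) * b = (b * (m * b ^ (2 * k)) * b⁻¹) * (b * b) by simp [mul_assoc]]
    exact mul_mem (‹M.Normal›.conj_mem _ (mul_mem hm hk) b) hbb

/-- The splitting. -/
theorem exists_extraspecial_factor {a j : E} (hcard : Nat.card E = 2 ^ 10) (ha2 : a * a = 1) (hj2 : j * j = 1)
    (hj1 : j ≠ 1) (ha1 : a ≠ 1) (haj : a ≠ j) (hsq : ∀ x : E, x * x ∈ Subgroup.zpowers j)
    (hacen : a ∈ Subgroup.center E) (hjcen : j ∈ Subgroup.center E)
    (hcen : ∀ z ∈ Subgroup.center E, z = 1 ∨ z = a ∨ z = j ∨ z = a * j) :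
    ∃ X : Subgroup E, IsExtraspecial 2 ↥X ∧ Nat.card ↥X = 2 ^ 9 ∧ Nonempty (E ≃* Multiplicative (ZMod 2) × ↥X) := by
  have hzj : ∀ z ∈ Subgroup.zpowers j, z = 1 ∨ z = j := by
    rintro z ⟨n, rfl⟩
    have h2 : j ^ (2 : ℤ) = 1 := by
      rw [show (2 : ℤ) = ((2 : ℕ) : ℤ) from rfl, zpow_natCast, pow_two, hj2]
    obtain ⟨k, rfl | rfl⟩ := Int.even_or_odd' n
    · left; simp [zpow_mul, h2]
    · right; simp [zpow_add, zpow_mul, h2]
  obtain ⟨X, hjX, haX, hidx⟩ := exists_index_two hjcen hsq (x := a) fun k => (hzj a k).elim ha1 haj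
  have hXcard : Nat.card ↥X = 2 ^ 9 := by
    have := Subgroup.index_mul_card X
    rw [hidx, hcard] at this
    omega
  have hXE : ∀ b : E, b ∈ X ∨ b * a ∈ X := fun b => by
    by_cases hb : b ∈ X
    · exact Or.inl hb
    · right
      rw [Subgroup.mul_mem_iff_of_index_two hidx]
      exact iff_of_false hb haX
  obtain ⟨J, hJ⟩ : ∃ J : ↥X, J = ⟨j, hjX⟩ := ⟨_, rfl⟩
  have hJcen : J ∈ Subgroup.center ↥X :=
    Subgroup.mem_center_iff.mpr fun y => Subtype.ext (by rw [hJ]; exact Subgroup.mem_center_iff.mp hjcen y)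
  have hJ1 : J ≠ 1 := fun e => hj1 (by rw [hJ] at e; exact congrArg Subtype.val e)
  have hJsq : ∀ y : ↥X, y * y ∈ Subgroup.zpowers J := fun y => by
    rcases hzj _ (hsq (y : E)) with e | e
    · rw [show y * y = 1 from Subtype.ext e]; exact one_mem _
    · rw [show y * y = J from Subtype.ext (by rw [hJ]; exact e)]; exact Subgroup.mem_zpowers J
  have hcX : Subgroup.center ↥X = Subgroup.zpowers J := by
    refine le_antisymm (fun z hz => ?_) (Subgroup.zpowers_le.mpr hJcen)
    have hzE : (z : E) ∈ Subgroup.center E := by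
      rw [Subgroup.mem_center_iff]
      intro b
      have hza : a * z = z * a := (Subgroup.mem_center_iff.mp hacen z).symm
      rcases hXE b with hb | hb
      · exact congrArg Subtype.val (Subgroup.mem_center_iff.mp hz ⟨b, hb⟩)
      · have e : b * a * z = z * (b * a) := congrArg Subtype.val (Subgroup.mem_center_iff.mp hz ⟨b * a, hb⟩)
        rw [mul_assoc, hza, ← mul_assoc, ← mul_assoc] at e
        exact mul_right_cancel e
    rcases hcen _ hzE with e | e | e | e
    · rw [show z = 1 from Subtype.ext e]; exact one_mem _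
    · exact absurd (e ▸ z.2) haX
    · rw [show z = J from Subtype.ext (by rw [hJ]; exact e)]; exact Subgroup.mem_zpowers J
    · exfalso
      refine haX ?_
      have h := mul_mem (e ▸ z.2) hjX
      rwa [mul_assoc, hj2, mul_one] at h
  have hJcard : Nat.card ↥(Subgroup.zpowers J) = 2 := by
    rw [Nat.card_zpowers]
    exact orderOf_eq_prime (by rw [pow_two]; exact Subtype.ext (by rw [hJ]; exact hj2)) hJ1
  have hcomm : commutator ↥X = Subgroup.zpowers J := by
    refine le_antisymm ?_ ?_
    · rw [commutator_def, Subgroup.commutator_le]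
      intro p _ q _
      rw [commutatorElement_def]
      exact commutator_mem_of_sq (Subgroup.zpowers_le.mpr hJcen) hJsq p q
    · rw [Subgroup.zpowers_le]
      by_contra hJc
      have htop : Subgroup.center ↥X = ⊤ := by
        refine eq_top_iff.mpr fun p _ => Subgroup.mem_center_iff.mpr fun q => ?_
        have h1 : ⁅q, p⁆ ∈ commutator ↥X :=
          Subgroup.commutator_mem_commutator (Subgroup.mem_top q) (Subgroup.mem_top p)
        have h2 : ⁅q, p⁆ ∈ Subgroup.zpowers J := by
          rw [commutatorElement_def]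
          exact commutator_mem_of_sq (Subgroup.zpowers_le.mpr hJcen) hJsq q p
        have : ⁅q, p⁆ = 1 := by
          obtain ⟨n, hn⟩ := h2
          rcases hzj ((⁅q, p⁆ : ↥X) : E) ⟨n, by rw [← hn, hJ]; simp⟩ with k | k
          · exact Subtype.ext k
          · exact absurd (show J ∈ commutator ↥X by rw [show J = ⁅q, p⁆ from Subtype.ext (by rw [hJ]; exact k.symm)]; exact h1) hJc
        exact commutatorElement_eq_one_iff_mul_comm.mp this
      have : Nat.card ↥(Subgroup.center ↥X) = 2 := by rw [hcX, hJcard]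
      rw [htop, Subgroup.card_top, hXcard] at this
      norm_num at this
  have hfr : frattini ↥X = Subgroup.zpowers J := by
    refine le_antisymm (fun x hx => ?_) ?_
    · by_contra hxJ
      obtain ⟨M, -, hxM, hMi⟩ := exists_index_two hJcen hJsq hxJ
      have hco : IsCoatom M := by
        refine ⟨fun e => by rw [e, Subgroup.index_top] at hMi; norm_num at hMi, fun K hK => ?_⟩
        have h1 := Subgroup.relIndex_mul_index hK.le
        have h2 : M.relIndex K ≠ 1 := fun e => not_le_of_gt hK (Subgroup.relIndex_eq_one.mp e)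
        rw [hMi] at h1
        have h3 : M.relIndex K ∣ 2 := ⟨_, h1.symm⟩
        rcases (Nat.dvd_prime Nat.prime_two).mp h3 with k | k
        · exact absurd k h2
        · rw [k] at h1
          exact Subgroup.index_eq_one.mp (by omega)
      exact hxM (frattini_le_coatom hco hx)
    · rw [frattini, Order.radical]
      refine le_iInf₂ fun M hM => ?_
      have hM : IsCoatom M := hM
      rw [Subgroup.zpowers_le]
      by_contra hJM
      have htop : M ⊔ Subgroup.zpowers J = ⊤ :=
        hM.2 _ (lt_of_le_of_ne le_sup_left fun e => hJM (by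
          rw [e]; exact Subgroup.mem_sup_right (Subgroup.mem_zpowers J)))
      haveI : (Subgroup.zpowers J).Normal :=
        ⟨fun n hn g => by
          rw [Subgroup.mem_center_iff.mp (Subgroup.zpowers_le.mpr hJcen hn) g, mul_inv_cancel_right]; exact hn⟩
      have hle : commutator ↥X ≤ M := by
        rw [commutator_def, Subgroup.commutator_le]
        intro p _ q _
        obtain ⟨m, hm, z, hz, rfl⟩ := Subgroup.mem_sup_of_normal_right.mp (htop ▸ Subgroup.mem_top p)
        obtain ⟨m', hm', z', hz', rfl⟩ := Subgroup.mem_sup_of_normal_right.mp (htop ▸ Subgroup.mem_top q)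
        have cz := Subgroup.mem_center_iff.mp (Subgroup.zpowers_le.mpr hJcen hz)
        have cz' := Subgroup.mem_center_iff.mp (Subgroup.zpowers_le.mpr hJcen hz')
        have e : ⁅m * z, m' * z'⁆ = ⁅m, m'⁆ := by
          simp only [commutatorElement_def, mul_inv_rev]
          calc m * z * (m' * z') * (z⁻¹ * m⁻¹) * (z'⁻¹ * m'⁻¹)
              = m * (z * (m' * z')) * z⁻¹ * m⁻¹ * z'⁻¹ * m'⁻¹ := by simp [mul_assoc]
            _ = m * ((m' * z') * z) * z⁻¹ * m⁻¹ * z'⁻¹ * m'⁻¹ := by rw [cz]
            _ = m * m' * (z' * m⁻¹) * z'⁻¹ * m'⁻¹ := by simp [mul_assoc]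
            _ = m * m' * (m⁻¹ * z') * z'⁻¹ * m'⁻¹ := by rw [cz']
            _ = _ := by simp [mul_assoc]
        rw [e, commutatorElement_def]
        exact mul_mem (mul_mem (mul_mem hm hm') (inv_mem hm)) (inv_mem hm')
      exact hJM (hle (hcomm ▸ Subgroup.mem_zpowers J))
  refine ⟨X, ⟨⟨IsPGroup.of_card hXcard, by rw [hfr, hcX], by rw [hcomm, hcX]⟩, by rw [hcX, hJcard]⟩, hXcard, ?_⟩
  let g : Multiplicative (ZMod 2) →* E :=
    { toFun := fun i => if i = 1 then 1 else a
      map_one' := by simp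
      map_mul' := by
        intro p q
        revert p q
        intro p q
        have h2 : ∀ p : Multiplicative (ZMod 2), p = 1 ∨ p = Multiplicative.ofAdd 1 := by decide
        have h3 : (Multiplicative.ofAdd (1 : ZMod 2)) * Multiplicative.ofAdd 1 = 1 := by decide
        have h4 : (Multiplicative.ofAdd (1 : ZMod 2)) ≠ 1 := by decide
        rcases h2 p with rfl | rfl <;> rcases h2 q with rfl | rfl <;> simp [h3, h4, ha2] }
  have hg : ∀ i, g i ∈ Subgroup.center E := fun i => by
    show (if i = 1 then (1 : E) else a) ∈ _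
    split
    · exact one_mem _
    · exact hacen
  let f : Multiplicative (ZMod 2) × ↥X →* E :=
    MonoidHom.noncommCoprod g X.subtype fun i x => (Subgroup.mem_center_iff.mp (hg i) x).symm
  have hinj : Function.Injective f := by
    rw [injective_iff_map_eq_one]
    rintro ⟨i, x⟩ e
    have e' : (if i = 1 then (1 : E) else a) * x = 1 := e
    by_cases hi : i = 1
    · rw [if_pos hi, one_mul] at e'
      exact Prod.ext hi (Subtype.ext e')
    · rw [if_neg hi] at e'
      exfalso
      rw [eq_inv_of_mul_eq_one_left e'] at haX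
      exact haX (inv_mem x.2)
  refine ⟨(MulEquiv.ofBijective f ((Nat.bijective_iff_injective_and_card f).mpr ⟨hinj, ?_⟩)).symm⟩
  rw [Nat.card_prod, hXcard, hcard, show Nat.card (Multiplicative (ZMod 2)) = 2 by
    rw [Nat.card_congr Multiplicative.toAdd, Nat.card_zmod]]
  rfl

end Cfsg.Agent.Block.FischerTypes
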