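import Cfsg.Agent.Lib.Block.FischerTypes.Types

/-! Products of at most three commuting members determine their factors. -/

set_option autoImplicit false
set_option linter.style.haveILetI false

namespace Cfsg.Agent.Block.FischerTypes

open Cfsg.Agent.Spor.ThreeTrans

variable {G : Type*} [Group G] [Finite G] {D : Set G}

omit [Finite G] in
/-- Two factors. -/
theorem uniq2 (h : IsThreeTranspositionClass D) (htf : TwinFree D) {a b c e : G} (ha : a ∈ D)
    (hb : b ∈ D) (hc : c ∈ D) (he : e ∈ D) (hab : a ≠ b) (hce : c ≠ e) (kab : Commute a b)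
    (kce : Commute c e) (heq : a * b = c * e) : a = c ∨ a = e := by
  by_contra hno
  push Not at hno
  obtain ⟨hac, hae⟩ := hno
  have hbc : b ≠ c := by
    rintro rfl
    exact hae (mul_right_cancel (heq.trans kce.eq))
  have hbe : b ≠ e := by
    rintro rfl
    exact hac (mul_right_cancel heq)
  have hcab : Commute c a ∧ Commute c b := (commute_mul_iff h.1 ha hb hc hab kab).mp
    (heq ▸ (Commute.refl c).mul_right kce)
  have heab : Commute e a ∧ Commute e b := (commute_mul_iff h.1 ha hb he hab kab).mp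
    (heq ▸ kce.symm.mul_right (Commute.refl e))
  have hb' : b = a * c * e := by rw [mul_assoc, ← heq, mul_self_mul h.1 ha]
  have ha' : a = b * c * e := by rw [mul_assoc, ← heq, kab.eq, mul_self_mul h.1 hb]
  refine hab (htf a b ⟨ha, hb, fun x hx => ⟨fun k => ?_, fun k => ?_⟩⟩)
  · have k' := k.symm
    rw [ha'] at k'
    exact ((commute_mul_three_iff h.1 hb hc he hx hbc hbe hce hcab.2.symm heab.2.symm kce).mp
      k').1.symm
  · have k' := k.symm
    rw [hb'] at k'
    exact ((commute_mul_three_iff h.1 ha hc he hx hac hae hce hcab.1.symm heab.1.symm kce).mp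
      k').1.symm

omit [Finite G] in
/-- Three factors. -/
theorem uniq3 (h : IsThreeTranspositionClass D) (htf : TwinFree D)
    (hgood : ∀ a ∈ D, ∀ b ∈ perp D a, TwinFree₂ D a b) {a b c e f g : G} (ha : a ∈ D) (hb : b ∈ D)
    (hc : c ∈ D) (he : e ∈ D) (hf : f ∈ D) (hg : g ∈ D) (hab : a ≠ b) (hac : a ≠ c) (hbc : b ≠ c)
    (hef : e ≠ f) (heg : e ≠ g) (hfg : f ≠ g) (kab : Commute a b) (kac : Commute a c)
    (kbc : Commute b c) (kef : Commute e f) (keg : Commute e g) (kfg : Commute f g)
    (heq : a * b * c = e * f * g) : a = e ∨ a = f ∨ a = g := by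
  by_contra hno
  push Not at hno
  obtain ⟨hae, haf, hag⟩ := hno
  have hbac : a * b * c = b * (a * c) := by rw [kab.eq, mul_assoc]
  have hcab : a * b * c = c * (a * b) := (kac.mul_left kbc).eq
  have hefg : e * f * g = e * (f * g) := mul_assoc e f g
  have hfeg : e * f * g = f * (e * g) := by rw [kef.eq, mul_assoc]
  have hgef : e * f * g = g * (e * f) := (keg.mul_left kfg).eq
  have two : ∀ {u v w z : G}, u ∈ D → v ∈ D → w ∈ D → z ∈ D → u ≠ v → w ≠ z → Commute u v →
      Commute w z → u * v = w * z → u = a → a ≠ w → a ≠ z → False := by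
    intro u v w z hu hv hw hz huv hwz kuv kwz e' hua haw haz
    subst hua
    exact (uniq2 h htf hu hv hw hz huv hwz kuv kwz e').elim haw haz
  have hbe : b ≠ e := fun e' => two ha hc hf hg hac hfg kac kfg
    (mul_left_cancel (a := b) (by rw [← hbac, heq, hefg, e'])) rfl haf hag
  have hbf : b ≠ f := fun e' => two ha hc he hg hac heg kac keg
    (mul_left_cancel (a := b) (by rw [← hbac, heq, hfeg, e'])) rfl hae hag
  have hbg : b ≠ g := fun e' => two ha hc he hf hac hef kac kef
    (mul_left_cancel (a := b) (by rw [← hbac, heq, hgef, e'])) rfl hae haf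
  have hce : c ≠ e := fun e' => two ha hb hf hg hab hfg kab kfg
    (mul_left_cancel (a := c) (by rw [← hcab, heq, hefg, e'])) rfl haf hag
  have hcf : c ≠ f := fun e' => two ha hb he hg hab heg kab keg
    (mul_left_cancel (a := c) (by rw [← hcab, heq, hfeg, e'])) rfl hae hag
  have hcg : c ≠ g := fun e' => two ha hb he hf hab hef kab kef
    (mul_left_cancel (a := c) (by rw [← hcab, heq, hgef, e'])) rfl hae haf
  have split : ∀ x ∈ D, Commute x (a * b * c) → Commute x a ∧ Commute x b ∧ Commute x c :=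
    fun x hx => (commute_mul_three_iff h.1 ha hb hc hx hab hac hbc kab kac kbc).mp
  have ke := split e he (heq ▸ ((Commute.refl e).mul_right kef).mul_right keg)
  have kf := split f hf (heq ▸ (kef.symm.mul_right (Commute.refl f)).mul_right kfg)
  have kg := split g hg (heq ▸ (keg.symm.mul_right kfg.symm).mul_right (Commute.refl g))
  have hswap : a * b * e = c * f * g := by
    calc a * b * e = a * b * c * (c * e) := by simp [mul_assoc, mul_self_mul h.1 hc]
      _ = e * f * g * c * e := by rw [heq, ← mul_assoc]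
      _ = c * (e * (f * g)) * e := by
        rw [((ke.2.2.mul_left kf.2.2).mul_left kg.2.2).eq, mul_assoc e f g]
      _ = c * (f * g * e) * e := by rw [(kef.mul_right keg).eq]
      _ = c * f * g := by simp [mul_assoc, mul_self h.1 he]
  have hbP : b ∈ perp D a := ⟨hb, hab.symm, kab⟩
  have hcC : c ∈ common D a b := ⟨⟨hc, hac.symm, kac⟩, ⟨hc, hbc.symm, kbc⟩⟩
  have heC : e ∈ common D a b := ⟨⟨he, hae.symm, ke.1.symm⟩, ⟨he, hbe.symm, ke.2.1.symm⟩⟩
  refine hce (hgood a ha b hbP c hcC e heC fun x hx => ⟨fun k => ?_, fun k => ?_⟩)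
  · have k' := (hx.1.2.2.symm.mul_right hx.2.2.2.symm).mul_right k
    rw [heq] at k'
    exact ((commute_mul_three_iff h.1 he hf hg hx.1.1 hef heg hfg kef keg kfg).mp k').1
  · have k' := (hx.1.2.2.symm.mul_right hx.2.2.2.symm).mul_right k
    rw [hswap] at k'
    exact ((commute_mul_three_iff h.1 hc hf hg hx.1.1 hcf hcg hfg kf.2.2.symm kg.2.2.symm kfg).mp
      k').1

omit [Finite G] in
/-- Lists of at most three commuting members with the same product. -/
theorem uniq_list (h : IsThreeTranspositionClass D) (htf : TwinFree D)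
    (hgood : ∀ a ∈ D, ∀ b ∈ perp D a, TwinFree₂ D a b) {m : ℕ} (hm : m ≤ 3) {l l' : List G}
    (hn : l.Nodup) (hlen : l.length = m) (hD : ∀ a ∈ l, a ∈ D)
    (hc : ∀ a ∈ l, ∀ b ∈ l, Commute a b) (hn' : l'.Nodup) (hlen' : l'.length = m)
    (hD' : ∀ a ∈ l', a ∈ D) (hc' : ∀ a ∈ l', ∀ b ∈ l', Commute a b) (hprod : l.prod = l'.prod) :
    ∀ x ∈ l, x ∈ l' := by
  interval_cases m
  · rw [List.length_eq_zero_iff.mp hlen]
    simp
  · obtain ⟨a, rfl⟩ := List.length_eq_one_iff.mp hlen
    obtain ⟨c, rfl⟩ := List.length_eq_one_iff.mp hlen'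
    simpa using hprod
  · obtain ⟨a, b, rfl⟩ := List.length_eq_two.mp hlen
    obtain ⟨c, e, rfl⟩ := List.length_eq_two.mp hlen'
    simp only [List.mem_cons, List.not_mem_nil, or_false, forall_eq_or_imp, forall_eq,
      List.nodup_cons, List.nodup_nil, not_false_eq_true, and_true, List.prod_cons, List.prod_nil,
      mul_one] at hn hn' hD hD' hprod hc hc' ⊢
    obtain ⟨⟨-, kab⟩, -⟩ := hc
    obtain ⟨⟨-, kce⟩, -⟩ := hc'
    exact ⟨uniq2 h htf hD.1 hD.2 hD'.1 hD'.2 hn hn' kab kce hprod,
      uniq2 h htf hD.2 hD.1 hD'.1 hD'.2 (Ne.symm hn) hn' kab.symm kce (kab.eq.symm.trans hprod)⟩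
  · obtain ⟨a, b, c, rfl⟩ := List.length_eq_three.mp hlen
    obtain ⟨e, f, g, rfl⟩ := List.length_eq_three.mp hlen'
    simp only [List.mem_cons, List.not_mem_nil, or_false, forall_eq_or_imp, forall_eq, not_or,
      List.nodup_cons, List.nodup_nil, not_false_eq_true, and_true, List.prod_cons, List.prod_nil,
      mul_one, ← mul_assoc] at hn hn' hD hD' hprod hc hc' ⊢
    obtain ⟨⟨hab, hac⟩, hbc⟩ := hn
    obtain ⟨⟨hef, heg⟩, hfg⟩ := hn'
    obtain ⟨⟨-, kab, kac⟩, ⟨-, -, kbc⟩, -⟩ := hc
    obtain ⟨⟨-, kef, keg⟩, ⟨-, -, kfg⟩, -⟩ := hc'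
    obtain ⟨ha, hb, hc₀⟩ := hD
    obtain ⟨he, hf, hg⟩ := hD'
    refine ⟨uniq3 h htf hgood ha hb hc₀ he hf hg hab hac hbc hef heg hfg kab kac kbc kef keg kfg
      hprod, ?_, ?_⟩
    · exact uniq3 h htf hgood hb ha hc₀ he hf hg (Ne.symm hab) hbc hac hef heg hfg kab.symm kbc kac
        kef keg kfg (by rw [← kab.eq, hprod])
    · refine uniq3 h htf hgood hc₀ ha hb he hf hg (Ne.symm hac) (Ne.symm hbc) hab hef heg hfg
        kac.symm kbc.symm kab kef keg kfg ?_
      rw [← hprod, mul_assoc c a b, ← (kac.mul_left kbc).eq]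

/-- Two of three commuting members are exchanged by an element fixing the third. -/
theorem exists_swap (S : Setting D) (hgood : ∀ a ∈ D, ∀ b ∈ perp D a, Trans₂ D a b) {a b c : G}
    (ha : a ∈ D) (hb : b ∈ D) (hc : c ∈ D) (hab : a ≠ b) (hac : a ≠ c) (hbc : b ≠ c)
    (kab : Commute a b) (kac : Commute a c) (kbc : Commute b c) :
    ∃ g : G, g * a * g⁻¹ = b ∧ g * b * g⁻¹ = a ∧ g * c * g⁻¹ = c := by
  have h := S.cls
  have haP : a ∈ perp D c := ⟨ha, hac, kac.symm⟩
  have hbP : b ∈ perp D c := ⟨hb, hbc, kbc.symm⟩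
  have hE := S.qcls hc
  obtain ⟨f, hf, y, hy, hya, hyf⟩ : ∃ f ∈ common D c a, ∃ y ∈ perp D c,
      ¬ Commute y a ∧ ¬ Commute y f := by
    by_contra hno
    push Not at hno
    let M : Set (PerpQuot D c) :=
      {e | e ∈ perpSet D c ∧ (e = pr D c a haP ∨ ¬ Commute e (pr D c a haP))}
    have hall := noncomm_closed_eq hE (M := M) (fun e he => he.1)
      ⟨_, pr_mem haP, Or.inl rfl⟩ (by
        rintro e ⟨he, hee⟩ v hv hev
        refine ⟨hv, ?_⟩
        by_contra hor
        push Not at hor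
        rcases hee with rfl | hea
        · exact hev hor.2.symm
        obtain ⟨f, hf, rfl⟩ := exists_of_mem hv
        obtain ⟨y, hy, rfl⟩ := exists_of_mem he
        have kfa := commute_of_pr h S.tf hc hf haP hor.2
        have hfa : f ≠ a := fun e' => hor.1 (by subst e'; rfl)
        exact hev (commute_pr hy hf (hno f ⟨hf, ⟨hf.1, hfa, kfa.symm⟩⟩ y hy fun k =>
          hea (commute_pr hy haP k))))
    rcases (hall _ (pr_mem hbP)).2 with e | e
    · exact hab.symm (pr_injective h S.tf hc hbP haP e)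
    · exact e (commute_pr hbP haP kab.symm)
  obtain ⟨g, hgc, hga, hgf⟩ := hgood c hc a haP f hf b ⟨hbP, ⟨hb, hab.symm, kab⟩⟩
  have hx := perp_conj' h hgc hy
  have hxa : ¬ Commute (g * y * g⁻¹) a := fun k => hya
    ((commute_conj_iff g y a).mp (by rwa [conj_self_eq hga]))
  have hxb : ¬ Commute (g * y * g⁻¹) b := fun k => hyf
    ((commute_conj_iff g y f).mp (by rwa [hgf]))
  set x := g * y * g⁻¹
  set t := x * a * b * x
  have mx := mul_self h.1 hx.1
  have htt : t * t = 1 := by
    calc t * t = x * (a * b) * (x * x) * (a * b) * x := by simp [t, mul_assoc]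
      _ = x * ((a * b) * (a * b)) * x := by rw [mx, mul_one]; simp [mul_assoc]
      _ = 1 := by rw [← pow_two (a * b), sq_of_commute h ha hb kab, mul_one, mx]
  have e1 : x * a * x = a * x * a := braid h.1 hx.1 ha hxa
  have e2 : x * b * x = b * x * b := braid h.1 hx.1 hb hxb
  have eab : a * b * a = b := by
    rw [kab.eq, mul_assoc, mul_self h.1 ha, mul_one]
  have hta : t * a * t⁻¹ = b := by
    rw [inv_eq_of_mul_eq_one_left htt]
    calc t * a * t = x * a * b * (x * a * x) * (a * b * x) := by simp [t, mul_assoc]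
      _ = x * (a * b * a) * x * (a * a) * b * x := by rw [e1]; simp [mul_assoc]
      _ = x * b * x * b * x := by rw [eab, mul_self h.1 ha, mul_one]
      _ = b := by rw [e2]; simp [mul_assoc, mul_self_mul h.1 hb, mx]
  refine ⟨t, hta, ?_, conj_self_eq ?_⟩
  · calc t * b * t⁻¹ = t * (t * a * t⁻¹) * t⁻¹ := by rw [hta]
      _ = (t * t) * a * (t * t)⁻¹ := by simp [mul_assoc]
      _ = a := by rw [htt]; simp
  · exact ((hx.2.2.symm.mul_left kac).mul_left kbc).mul_left hx.2.2.symm

end Cfsg.Agent.Block.FischerTypes
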