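import Cfsg.Agent.Lib.Block.FischerTypes.U6Class
import Cfsg.Agent.Lib.Block.FischerTypes.Unique

/-! Hexads of commuting transpositions in the type M(22). -/

set_option autoImplicit false
set_option linter.style.haveILetI false

namespace Cfsg.Agent.Block.FischerTypes

open Cfsg.Agent.Spor.ThreeTrans

variable {G : Type*} [Group G] {D : Set G}

theorem class_image {X Y : Type*} [Group X] [Group Y] (e : X ≃* Y) {E : Set X}
    (h : IsThreeTranspositionClass E) : IsThreeTranspositionClass (e '' E) := by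
  refine ⟨⟨?_, ?_⟩, ?_, ?_⟩
  · rintro _ ⟨x, hx, rfl⟩
    rw [e.orderOf_eq]
    exact h.1.1 x hx
  · rintro _ ⟨x, hx, rfl⟩ _ ⟨y, hy, rfl⟩
    rcases h.1.2 x hx y hy with k | k
    · exact Or.inl (by rw [← map_mul, ← map_pow, k, map_one])
    · exact Or.inr (by rw [← map_mul, ← map_pow, k, map_one])
  · obtain ⟨d, hd, hc⟩ := h.2.1
    refine ⟨e d, Set.mem_image_of_mem e hd, Set.ext fun y => ⟨?_, fun hy => ?_⟩⟩
    · rintro ⟨x, hx, rfl⟩
      rw [hc] at hx
      obtain ⟨g, rfl⟩ := isConj_iff.mp hx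
      exact isConj_iff.mpr ⟨e g, by simp⟩
    · obtain ⟨g, rfl⟩ := isConj_iff.mp hy
      refine ⟨e.symm g * d * (e.symm g)⁻¹, ?_, by simp⟩
      rw [hc]
      exact isConj_iff.mpr ⟨_, rfl⟩
  · have : Subgroup.map e.toMonoidHom (Subgroup.closure E) = ⊤ := by
      rw [h.2.2]
      exact Subgroup.map_top_of_surjective _ e.surjective
    rw [MonoidHom.map_closure] at this
    exact this

variable [Finite G]

/-- The members commuting with `a`, `b` that look like `c` make, with `b`, a central product. -/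
theorem local_hexad (h : IsThreeTranspositionClass D) (htf : TwinFree D) {a : G} (ha : a ∈ D)
    {F : Type} [Field F] [Fintype F] (h4 : Fintype.card F = 4)
    (e : PerpQuot D a ≃* PSU 6 F 2) {b c : G} (hb : b ∈ perp D a) (hc : c ∈ common D a b) :
    ∃ l : List G, l.Nodup ∧ l.length = 4 ∧
      (∀ x, x ∈ l ↔ (x ∈ common D a b ∧ ∀ y ∈ common D a b, Commute y c ↔ Commute y x)) ∧
      (∀ x ∈ l, ∀ y ∈ l, Commute x y) ∧ ∀ y ∈ perp D a, Commute y (b * l.prod) := by
  classical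
  obtain ⟨hs, x₀, y₀, hxy⟩ := psu_six h4
  haveI := hs
  have hs' : IsSimpleGroup (PerpQuot D a) := (MulEquiv.isSimpleGroup_congr e).mpr hs
  have hnc : ∃ x y : PerpQuot D a, ¬ Commute x y :=
    ⟨e.symm x₀, e.symm y₀, fun k => hxy (by simpa using k.map e)⟩
  have hE := (m22_perp_class h htf ha hs' hnc).1
  have hroots := U6.class_eq h4 (by norm_num) (class_image e hE)
  let ψ : G → PSU 6 F 2 := fun u => if hu : u ∈ perp D a then e (pr D a u hu) else 1
  have hψ : ∀ u (hu : u ∈ perp D a), ψ u = e (pr D a u hu) := fun u hu => dif_pos hu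
  have hmem : ∀ u, u ∈ perp D a → ψ u ∈ U6.roots h4 6 := fun u hu => by
    rw [← hroots, hψ u hu]
    exact ⟨_, pr_mem hu, rfl⟩
  have hinj : ∀ u ∈ perp D a, ∀ v ∈ perp D a, ψ u = ψ v → u = v := fun u hu v hv k => by
    rw [hψ u hu, hψ v hv] at k
    exact pr_injective h htf ha hu hv (e.injective k)
  have hcom : ∀ u ∈ perp D a, ∀ v ∈ perp D a, Commute (ψ u) (ψ v) ↔ Commute u v := by
    intro u hu v hv
    rw [hψ u hu, hψ v hv]
    constructor
    · intro k
      exact commute_of_pr h htf ha hu hv (by simpa using k.map e.symm)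
    · exact fun k => (commute_pr hu hv k).map e
  have hsurj : ∀ x ∈ U6.roots h4 6, ∃ u ∈ perp D a, ψ u = x := fun x hx => by
    rw [← hroots] at hx
    obtain ⟨q, hq, rfl⟩ := hx
    obtain ⟨u, hu, rfl⟩ := exists_of_mem hq
    exact ⟨u, hu, hψ u hu⟩
  have hperp : ∀ u ∈ perp D a, ψ u ∈ perp (U6.roots h4 6) (ψ b) ↔ u ∈ perp D b := fun u hu =>
    ⟨fun k => ⟨hu.1, fun k' => k.2.1 (by rw [k']), (hcom b hb u hu).mp k.2.2⟩,
      fun k => ⟨hmem u hu, fun k' => k.2.1 (hinj u hu b hb k'), (hcom b hb u hu).mpr k.2.2⟩⟩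
  obtain ⟨l', hnd, hlen, hl', hcomm, hprod⟩ :=
    U6.line h4 (by norm_num) (hmem b hb) ((hperp c hc.1).mpr hc.2)
  choose φ hφ hφψ using hsurj
  let φ' : PSU 6 F 2 → G := fun x => if hx : x ∈ U6.roots h4 6 then φ x hx else 1
  have hl'mem : ∀ x ∈ l', x ∈ U6.roots h4 6 := fun x hx => ((hl' x).mp hx).1.1
  have hφ' : ∀ x ∈ U6.roots h4 6, φ' x ∈ perp D a ∧ ψ (φ' x) = x := fun x hx => by
    simp only [φ', dif_pos hx]
    exact ⟨hφ x hx, hφψ x hx⟩
  let l := l'.map φ'
  have hlperp : ∀ x ∈ l, x ∈ perp D a := fun x hx => by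
    obtain ⟨x', hx', rfl⟩ := List.mem_map.mp hx
    exact (hφ' x' (hl'mem x' hx')).1
  have hlψ : l.map ψ = l' := by
    simp only [l, List.map_map]
    conv_rhs => rw [← List.map_id l']
    exact List.map_congr_left fun x hx => (hφ' x (hl'mem x hx)).2
  have hlmem : ∀ x, x ∈ l ↔ (x ∈ perp D a ∧ ψ x ∈ l') := fun x => by
    constructor
    · exact fun hx => ⟨hlperp x hx, hlψ ▸ List.mem_map_of_mem hx⟩
    · rintro ⟨hx, hx'⟩
      refine List.mem_map.mpr ⟨ψ x, hx', ?_⟩
      exact hinj _ (hφ' _ (hl'mem _ hx')).1 x hx (hφ' _ (hl'mem _ hx')).2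
  refine ⟨l, List.Nodup.of_map ψ (hlψ.symm ▸ hnd), by simp [l, hlen], fun x => ?_, ?_, ?_⟩
  · rw [hlmem, hl']
    constructor
    · rintro ⟨hx, hxp, hsame⟩
      refine ⟨⟨hx, (hperp x hx).mp hxp⟩, fun y hy => ?_⟩
      rw [← hcom y hy.1 c hc.1, ← hcom y hy.1 x hx]
      exact hsame _ ((hperp y hy.1).mpr hy.2)
    · rintro ⟨hx, hsame⟩
      refine ⟨hx.1, (hperp x hx.1).mpr hx.2, fun z hz => ?_⟩
      have hy := hφ' z hz.1
      rw [← hy.2] at hz ⊢
      rw [hcom _ hy.1 c hc.1, hcom _ hy.1 x hx.1]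
      exact hsame _ ⟨hy.1, (hperp _ hy.1).mp hz⟩
  · intro x hx y hy
    exact (hcom x (hlperp x hx) y (hlperp y hy)).mp
      (hcomm _ ((hlmem x).mp hx).2 _ ((hlmem y).mp hy).2)
  · have lift : ∀ m : List G, (∀ x ∈ m, x ∈ perp D a) → ∃ U : ↥(PerpGroup D a),
        (U : G) = m.prod ∧ e (QuotientGroup.mk U : PerpQuot D a) = (m.map ψ).prod := by
      intro m
      induction m with
      | nil => exact fun _ => ⟨1, rfl, by simp⟩
      | cons x m ih =>
        intro hm
        obtain ⟨U, hU, hU'⟩ := ih fun y hy => hm y (List.mem_cons_of_mem _ hy)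
        have hx := hm x List.mem_cons_self
        refine ⟨⟨x, Subgroup.subset_closure hx⟩ * U, by simp [hU], ?_⟩
        rw [QuotientGroup.mk_mul, map_mul, hU', List.map_cons, List.prod_cons, hψ x hx]
    obtain ⟨U, hU, hU'⟩ := lift (b :: l) (by
      intro x hx
      rcases List.mem_cons.mp hx with rfl | hx
      exacts [hb, hlperp x hx])
    rw [List.map_cons, hlψ, List.prod_cons, hprod, e.map_eq_one_iff, QuotientGroup.eq_one_iff] at hU'
    intro y hy
    have := commute_of_center hU' (Subgroup.subset_closure hy : y ∈ PerpGroup D a)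
    rwa [hU, List.prod_cons] at this

/-- The property of hexads at a point. -/
def HexadAt (D : Set G) (a : G) : Prop :=
  ∀ b ∈ perp D a, ∀ c ∈ common D a b, ∃ l : List G, l.Nodup ∧ l.length = 4 ∧
    (∀ x, x ∈ l ↔ (x ∈ common D a b ∧ ∀ y ∈ common D a b, Commute y c ↔ Commute y x)) ∧
    (∀ x ∈ l, ∀ y ∈ l, Commute x y) ∧ ∀ y ∈ perp D a, Commute y (b * l.prod)

theorem hexadAt_conj (h : IsThreeTranspositionClass D) (g : G) {a : G} (ha : HexadAt D a) :
    HexadAt D (g * a * g⁻¹) := by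
  intro b hb c hc
  obtain ⟨b, rfl⟩ : ∃ b', g * b' * g⁻¹ = b := ⟨g⁻¹ * b * g, by simp [mul_assoc]⟩
  obtain ⟨c, rfl⟩ : ∃ c', g * c' * g⁻¹ = c := ⟨g⁻¹ * c * g, by simp [mul_assoc]⟩
  have hcom : ∀ {y}, g * y * g⁻¹ ∈ common D (g * a * g⁻¹) (g * b * g⁻¹) ↔ y ∈ common D a b :=
    fun {y} => and_congr (conj_mem_perp h g a) (conj_mem_perp h g b)
  obtain ⟨l, hn, hlen, hmem, hcomm, hp⟩ := ha b ((conj_mem_perp h g a).mp hb) c (hcom.mp hc)
  let σ := MulAut.conj g
  refine ⟨l.map σ, hn.map σ.injective, by simp [hlen], fun x => ?_, ?_, fun y hy => ?_⟩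
  · obtain ⟨x, rfl⟩ := σ.surjective x
    rw [List.mem_map_of_injective σ.injective, hmem]
    simp only [σ, MulAut.conj_apply, hcom]
    refine and_congr_right fun _ => ⟨fun k y hy => ?_, fun k y hy => ?_⟩
    · obtain ⟨y, rfl⟩ : ∃ y', g * y' * g⁻¹ = y := ⟨g⁻¹ * y * g, by simp [mul_assoc]⟩
      rw [commute_conj_iff, commute_conj_iff]
      exact k y (hcom.mp hy)
    · have := k _ (hcom.mpr hy)
      rwa [commute_conj_iff, commute_conj_iff] at this
  · simp only [List.mem_map, forall_exists_index, and_imp, forall_apply_eq_imp_iff₂]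
    exact fun x hx y hy => (hcomm x hx y hy).map σ
  · obtain ⟨y, rfl⟩ := σ.surjective y
    have := (hp y ((conj_mem_perp h g a).mp hy)).map σ
    rwa [map_mul, map_list_prod] at this

theorem prod_mul_prod (h : IsThreeTranspositionSet D) :
    ∀ l : List G, (∀ x ∈ l, x ∈ D) → (∀ x ∈ l, ∀ y ∈ l, Commute x y) → l.prod * l.prod = 1
  | [], _, _ => by simp
  | x :: l, hD, hc => by
    have k : Commute l.prod x := Commute.list_prod_left l x fun y hy =>
      hc y (List.mem_cons_of_mem _ hy) x List.mem_cons_self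
    have ih := prod_mul_prod h l (fun y hy => hD y (List.mem_cons_of_mem _ hy))
      fun y hy z hz => hc y (List.mem_cons_of_mem _ hy) z (List.mem_cons_of_mem _ hz)
    rw [List.prod_cons, mul_assoc, ← mul_assoc l.prod x, k.eq, mul_assoc x l.prod, ih, mul_one,
      mul_self h (hD x List.mem_cons_self)]

/-- Six members with product one. -/
theorem hexad (S : Setting D) (hcen : Subgroup.center G = ⊥) (hat : ∀ a ∈ D, HexadAt D a)
    {a b c : G} (ha : a ∈ D) (hb : b ∈ perp D a) (hc : c ∈ common D a b) :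
    ∃ l : List G, l.Nodup ∧ l.length = 4 ∧
      (∀ x, x ∈ l ↔ (x ∈ common D a b ∧ ∀ y ∈ common D a b, Commute y c ↔ Commute y x)) ∧
      (∀ x ∈ l, ∀ y ∈ l, Commute x y) ∧ a * b * l.prod = 1 := by
  have h := S.cls
  obtain ⟨l, hn, hlen, hmem, hcomm, hpa⟩ := hat a ha b hb c hc
  have ha' : a ∈ perp D b := ⟨ha, hb.2.1.symm, hb.2.2.symm⟩
  obtain ⟨m, hm, -, hmem', -, hpb⟩ := hat b hb.1 a ha' c ⟨hc.2, hc.1⟩
  have hperm : l.Perm m := (List.perm_ext_iff_of_nodup hn hm).mpr fun x => by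
    rw [hmem, hmem', show common D b a = common D a b from Set.inter_comm _ _]
  have hprod : l.prod = m.prod := hperm.prod_eq' (List.pairwise_of_forall_mem_list fun x hx y hy =>
    hcomm x hx y hy)
  rw [← hprod] at hpb
  refine ⟨l, hn, hlen, hmem, hcomm, ?_⟩
  have hla : Commute a l.prod := Commute.list_prod_right l a fun x hx => ((hmem x).mp hx).1.1.2.2
  have hlb : Commute b l.prod := Commute.list_prod_right l b fun x hx => ((hmem x).mp hx).1.2.2.2
  have hPa : ∀ y ∈ D, Commute y a → Commute y (a * b * l.prod) := fun y hy hya => by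
    by_cases e : y = a
    · subst e
      exact (hya.mul_right hb.2.2).mul_right hla
    · rw [mul_assoc]
      exact hya.mul_right (hpa y ⟨hy, e, hya.symm⟩)
  have hPb : ∀ y ∈ D, Commute y b → Commute y (a * b * l.prod) := fun y hy hyb => by
    rw [hb.2.2.eq]
    by_cases e : y = b
    · subst e
      exact (hyb.mul_right hb.2.2.symm).mul_right hlb
    · rw [mul_assoc]
      exact hyb.mul_right (hpb y ⟨hy, e, hyb.symm⟩)
  have key : ∀ p ∈ D, (∀ y ∈ D, Commute y p → Commute y (a * b * l.prod)) →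
      ∀ x ∈ apart D p, Commute x (a * b * l.prod) → a * b * l.prod = 1 := by
    intro p hp hPp x hx hxP
    have := mem_center_of_commute h fun y hy => by
      by_cases hyp : Commute y p
      · exact hPp y hy hyp
      obtain ⟨g, hg, rfl⟩ := transitive_apart S.hyp hp hx ⟨hy, hyp⟩
      have hgP : Commute g (a * b * l.prod) := by
        have hle : localGroup D p ≤ Subgroup.centralizer {a * b * l.prod} := by
          refine (Subgroup.closure_le _).mpr ?_
          rintro z (rfl | hz) <;> rw [SetLike.mem_coe, Subgroup.mem_centralizer_singleton_iff]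
          · exact (hPp _ hp (Commute.refl _)).eq
          · exact (hPp z hz.1 hz.2.2.symm).eq
        exact Subgroup.mem_centralizer_singleton_iff.mp (hle hg)
      exact (hgP.mul_left hxP).mul_left hgP.inv_left
    rwa [hcen, Subgroup.mem_bot] at this
  by_cases hsub : ∀ x ∈ D, Commute a x → Commute b x
  · have hno : ¬ ∀ x ∈ D, Commute b x → Commute a x := fun k =>
      hb.2.1 (S.tf a b ⟨ha, hb.1, fun x hx => ⟨hsub x hx, k x hx⟩⟩).symm
    push Not at hno
    obtain ⟨x, hx, hxb, hxa⟩ := hno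
    exact key a ha hPa x ⟨hx, fun k => hxa k.symm⟩ (hPb x hx hxb.symm)
  · push Not at hsub
    obtain ⟨x, hx, hxa, hxb⟩ := hsub
    exact key b hb.1 hPb x ⟨hx, fun k => hxb k.symm⟩ (hPa x hx hxa.symm)

omit [Finite G] in
theorem twin_of_triple (h : IsThreeTranspositionClass D) {a b c e f g : G} (ha : a ∈ D) (hb : b ∈ D)
    (hc : c ∈ D) (he : e ∈ D) (hf : f ∈ D) (hg : g ∈ D) (hab : a ≠ b) (hac : a ≠ c) (hbc : b ≠ c)
    (hef : e ≠ f) (heg : e ≠ g) (hfg : f ≠ g) (hae : a ≠ e) (hbe : b ≠ e) (hcf : c ≠ f) (hcg : c ≠ g)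
    (kab : Commute a b) (kac : Commute a c) (kbc : Commute b c) (kef : Commute e f) (keg : Commute e g)
    (kfg : Commute f g) (heq : a * b * c = e * f * g) :
    e ∈ common D a b ∧ ∀ y ∈ common D a b, Commute y c ↔ Commute y e := by
  have split : ∀ x ∈ D, Commute x (a * b * c) → Commute x a ∧ Commute x b ∧ Commute x c :=
    fun x hx => (commute_mul_three_iff h.1 ha hb hc hx hab hac hbc kab kac kbc).mp
  have ke := split e he (heq ▸ ((Commute.refl e).mul_right kef).mul_right keg)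
  have kf := split f hf (heq ▸ (kef.symm.mul_right (Commute.refl f)).mul_right kfg)
  have kg := split g hg (heq ▸ (keg.symm.mul_right kfg.symm).mul_right (Commute.refl g))
  have hswap : a * b * e = c * f * g := by
    calc a * b * e = a * b * c * (c * e) := by simp [mul_assoc, mul_self_mul h.1 hc]
      _ = e * f * g * c * e := by rw [heq, ← mul_assoc]
      _ = c * (e * (f * g)) * e := by
        rw [((ke.2.2.mul_left kf.2.2).mul_left kg.2.2).eq, mul_assoc e f g]
      _ = c * (f * g * e) * e := by rw [(kef.mul_right keg).eq]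
      _ = c * f * g := by simp [mul_assoc, mul_self h.1 he]
  refine ⟨⟨⟨he, (Ne.symm hae), ke.1.symm⟩, ⟨he, (Ne.symm hbe), ke.2.1.symm⟩⟩,
    fun x hx => ⟨fun k => ?_, fun k => ?_⟩⟩
  · have k' := (hx.1.2.2.symm.mul_right hx.2.2.2.symm).mul_right k
    rw [heq] at k'
    exact ((commute_mul_three_iff h.1 he hf hg hx.1.1 hef heg hfg kef keg kfg).mp k').1
  · have k' := (hx.1.2.2.symm.mul_right hx.2.2.2.symm).mul_right k
    rw [hswap] at k'
    exact ((commute_mul_three_iff h.1 hc hf hg hx.1.1 hcf hcg hfg kf.2.2.symm kg.2.2.symm kfg).mp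
      k').1

/-- A list of commuting members with a given length and product. -/
abbrev Fact' (D : Set G) (n : ℕ) (j : G) (l : List G) : Prop :=
  l.Nodup ∧ l.length = n ∧ (∀ a ∈ l, a ∈ D) ∧ (∀ a ∈ l, ∀ b ∈ l, Commute a b) ∧ l.prod = j

omit [Finite G] in
theorem pair_unique (h : IsThreeTranspositionClass D) (htf : TwinFree D) {j : G} {l l' : List G}
    (hl : Fact' D 2 j l) (hl' : Fact' D 2 j l') : ∀ x, x ∈ l ↔ x ∈ l' := by
  have half : ∀ {m m' : List G}, Fact' D 2 j m → Fact' D 2 j m' → ∀ x ∈ m, x ∈ m' := by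
    rintro m m' ⟨hn, hlen, hD, hc, hp⟩ ⟨hn', hlen', hD', hc', hp'⟩
    obtain ⟨a, b, rfl⟩ := List.length_eq_two.mp hlen
    obtain ⟨c, e, rfl⟩ := List.length_eq_two.mp hlen'
    rw [← hp'] at hp
    simp only [List.mem_cons, List.not_mem_nil, or_false, forall_eq_or_imp, forall_eq,
      List.nodup_cons, List.nodup_nil, not_false_eq_true, and_true, List.prod_cons, List.prod_nil,
      mul_one] at hn hn' hD hD' hp hc hc' ⊢
    obtain ⟨⟨-, kab⟩, -⟩ := hc
    obtain ⟨⟨-, kce⟩, -⟩ := hc'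
    exact ⟨uniq2 h htf hD.1 hD.2 hD'.1 hD'.2 hn hn' kab kce hp,
      uniq2 h htf hD.2 hD.1 hD'.1 hD'.2 (Ne.symm hn) hn' kab.symm kce (kab.eq.symm.trans hp)⟩
  exact fun x => ⟨half hl hl' x, half hl' hl x⟩

omit [Finite G] in
theorem share [DecidableEq G] (h : IsThreeTranspositionClass D) (htf : TwinFree D) {j : G}
    {l l' : List G} (hl : Fact' D 3 j l) (hl' : Fact' D 3 j l') {x : G} (hx : x ∈ l) (hx' : x ∈ l') :
    ∀ y, y ∈ l ↔ y ∈ l' := by
  have cut : ∀ {m : List G}, Fact' D 3 j m → x ∈ m → Fact' D 2 (x⁻¹ * j) (m.erase x) := by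
    rintro m ⟨hn, hlen, hD, hc, hp⟩ hxm
    refine ⟨hn.erase x, by rw [List.length_erase_of_mem hxm, hlen], fun a ha => hD a
      (List.mem_of_mem_erase ha), fun a ha b hb => hc a (List.mem_of_mem_erase ha) b
      (List.mem_of_mem_erase hb), ?_⟩
    rw [← hp, (List.perm_cons_erase hxm).prod_eq' (List.pairwise_of_forall_mem_list hc),
      List.prod_cons, inv_mul_cancel_left]
  intro y
  by_cases hy : y = x
  · subst hy
    exact iff_of_true hx hx'
  · rw [← List.mem_erase_of_ne hy, ← List.mem_erase_of_ne (l := l') hy]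
    exact pair_unique h htf (cut hl hx) (cut hl' hx') y

theorem triples (S : Setting D) (hcen : Subgroup.center G = ⊥) (hat : ∀ a ∈ D, HexadAt D a)
    (j : G) (l₀ : List G) (hl₀ : Fact' D 3 j l₀) :
    ∃ l₁ l₂ : List G, Fact' D 3 j l₁ ∧ Fact' D 3 j l₂ ∧ ¬ (∀ x, x ∈ l₁ ↔ x ∈ l₂) ∧
      ∀ l, Fact' D 3 j l → ((∀ x, x ∈ l ↔ x ∈ l₁) ∨ ∀ x, x ∈ l ↔ x ∈ l₂) := by
  classical
  have h := S.cls
  obtain ⟨a, b, c, rfl⟩ := List.length_eq_three.mp hl₀.2.1
  obtain ⟨hn, -, hD, hc, hp⟩ := id hl₀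
  simp only [List.mem_cons, List.not_mem_nil, or_false, forall_eq_or_imp, forall_eq, not_or,
    List.nodup_cons, List.nodup_nil, not_false_eq_true, and_true, List.prod_cons, List.prod_nil,
    mul_one, ← mul_assoc] at hn hD hp hc
  obtain ⟨⟨hab, hac⟩, hbc⟩ := hn
  obtain ⟨⟨-, kab, kac⟩, ⟨-, -, kbc⟩, -⟩ := hc
  obtain ⟨ha, hb, hc₀⟩ := hD
  have hcc : c ∈ common D a b := ⟨⟨hc₀, (Ne.symm hac), kac⟩, ⟨hc₀, (Ne.symm hbc), kbc⟩⟩
  obtain ⟨T, hTn, hTlen, hT, hTc, hT1⟩ := hexad S hcen hat ha ⟨hb, (Ne.symm hab), kab⟩ hcc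
  have hcT : c ∈ T := (hT c).mpr ⟨hcc, fun _ _ => Iff.rfl⟩
  have hTD : ∀ x ∈ T, x ∈ D := fun x hx => ((hT x).mp hx).1.1.1
  have hl₂ : Fact' D 3 j (T.erase c) := by
    refine ⟨hTn.erase c, by rw [List.length_erase_of_mem hcT, hTlen],
      fun x hx => hTD x (List.mem_of_mem_erase hx), fun x hx y hy =>
        hTc x (List.mem_of_mem_erase hx) y (List.mem_of_mem_erase hy), ?_⟩
    rw [(List.perm_cons_erase hcT).prod_eq' (List.pairwise_of_forall_mem_list hTc), List.prod_cons,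
      ← mul_assoc, hp] at hT1
    have h2 := prod_mul_prod h.1 (T.erase c) (fun x hx => hTD x (List.mem_of_mem_erase hx))
      fun x hx y hy => hTc x (List.mem_of_mem_erase hx) y (List.mem_of_mem_erase hy)
    rw [eq_inv_of_mul_eq_one_left hT1]
    exact eq_inv_of_mul_eq_one_left h2
  have hdisj : ∀ x ∈ [a, b, c], x ∉ T.erase c := by
    intro x hx hxT
    have := (hT x).mp (List.mem_of_mem_erase hxT)
    simp only [List.mem_cons, List.not_mem_nil, or_false] at hx
    rcases hx with rfl | rfl | rfl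
    · exact this.1.1.2.1 rfl
    · exact this.1.2.2.1 rfl
    · exact hTn.not_mem_erase hxT
  refine ⟨[a, b, c], T.erase c, hl₀, hl₂, fun k => hdisj a (by simp) ((k a).mp (by simp)),
    fun l hl => ?_⟩
  by_cases hsh : ∃ x ∈ l, x ∈ [a, b, c]
  · obtain ⟨x, hx, hx'⟩ := hsh
    exact Or.inl (share h S.tf hl hl₀ hx hx')
  right
  push Not at hsh
  obtain ⟨e, f, g, rfl⟩ := List.length_eq_three.mp hl.2.1
  obtain ⟨hn, -, hD, hc, hp'⟩ := id hl
  simp only [List.mem_cons, List.not_mem_nil, or_false, forall_eq_or_imp, forall_eq, not_or,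
    List.nodup_cons, List.nodup_nil, not_false_eq_true, and_true, List.prod_cons, List.prod_nil,
    mul_one, ← mul_assoc] at hn hD hp' hc hsh
  obtain ⟨⟨hef, heg⟩, hfg⟩ := hn
  obtain ⟨⟨-, kef, keg⟩, ⟨-, -, kfg⟩, -⟩ := hc
  obtain ⟨he, hf, hg⟩ := hD
  obtain ⟨⟨hea, heb, hec⟩, ⟨hfa, hfb, hfc⟩, ⟨hga, hgb, hgc⟩⟩ := hsh
  have heq : a * b * c = e * f * g := hp.trans hp'.symm
  have t1 := twin_of_triple h ha hb hc₀ he hf hg hab hac hbc hef heg hfg (Ne.symm hea) (Ne.symm heb)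
    (Ne.symm hfc) (Ne.symm hgc) kab kac kbc kef keg kfg heq
  have hmemT : e ∈ T.erase c := (List.mem_erase_of_ne hec).mpr ((hT e).mpr t1)
  exact share h S.tf hl hl₂ (by simp) hmemT

end Cfsg.Agent.Block.FischerTypes
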