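import Cfsg.Agent.Lib.Block.FischerTypes.Cores
import Cfsg.Agent.S0280
import Cfsg.Agent.S0283

/-! The successive perpendicular quotients of the types M(22), M(23). -/

set_option autoImplicit false
set_option linter.style.haveILetI false

namespace Cfsg.Agent.Block.FischerTypes

open Cfsg.Agent.Spor.ThreeTrans

theorem exists_noncommute_of_card {X : Type*} [Group X] (hs : IsSimpleGroup X)
    (hc : ¬ (Nat.card X).Prime) : ∃ x y : X, ¬ Commute x y := by
  by_contra hall
  push Not at hall
  haveI : IsMulCommutative X := ⟨⟨hall⟩⟩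
  exact hc (Group.is_simple_iff_prime_card.mp hs)

theorem psu_six {F : Type} [Field F] [Fintype F] (hF : Fintype.card F = 4) :
    IsSimpleGroup (PSU 6 F 2) ∧ ∃ x y : PSU 6 F 2, ¬ Commute x y := by
  have hF' : Fintype.card F = 2 ^ 2 := by rw [hF]; norm_num
  have hs := Cfsg.Agent.S0283.result hF' 6 (by norm_num) (by norm_num)
  refine ⟨hs, exists_noncommute_of_card hs fun hp => ?_⟩
  have hc := Cfsg.Agent.S0280.result hF' 6 (by norm_num)
  norm_num [Finset.prod_range_succ, Nat.even_iff] at hc
  have : Nat.card (PSU 6 F 2) = 9196830720 := by omega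
  rw [this] at hp
  norm_num at hp

theorem pCore_eq_bot_of_simple {X : Type*} [Group X] [Finite X] (p : ℕ) [Fact p.Prime]
    (hs : IsSimpleGroup X) (hnc : ∃ x y : X, ¬ Commute x y) : pCore p X = ⊥ := by
  haveI := Transfer.pCore_normal' p X
  refine (Subgroup.Normal.eq_bot_or_eq_top inferInstance).resolve_right fun ht => ?_
  have hp : IsPGroup p X := by
    have := Transfer.pCore_isPGroup p X
    rw [ht] at this
    exact this.of_equiv Subgroup.topEquiv
  haveI : Nontrivial X := hs.toNontrivial
  haveI := hp.center_nontrivial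
  have htop : Subgroup.center X = ⊤ :=
    (Subgroup.Normal.eq_bot_or_eq_top inferInstance).resolve_left
      ((Subgroup.nontrivial_iff_ne_bot _).mp inferInstance)
  obtain ⟨x, y, hxy⟩ := hnc
  exact hxy (Subgroup.mem_center_iff.mp (htop ▸ Subgroup.mem_top x) y).symm

/-- A conjugation-closed generating set of 3-transpositions of a simple group is a class. -/
theorem class_of_simple {X : Type*} [Group X] [Finite X] {E : Set X}
    (hE : IsThreeTranspositionSet E) (hconj : ∀ g : X, ∀ x ∈ E, g * x * g⁻¹ ∈ E)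
    (hgen : Subgroup.closure E = ⊤) (hs : IsSimpleGroup X) (hnc : ∃ x y : X, ¬ Commute x y) :
    IsThreeTranspositionClass E := by
  haveI := hs
  obtain ⟨x, y, hxy⟩ := hnc
  obtain ⟨d, hd⟩ : E.Nonempty := by
    rw [Set.nonempty_iff_ne_empty]
    intro e
    rw [e, Subgroup.closure_empty] at hgen
    have hx : x ∈ (⊥ : Subgroup X) := hgen ▸ Subgroup.mem_top x
    rw [Subgroup.mem_bot.mp hx] at hxy
    exact hxy (Commute.one_left y)
  refine ⟨hE, ⟨d, hd, Set.ext fun e => ⟨fun he => ?_, fun he => ?_⟩⟩, hgen⟩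
  · by_contra hne
    have hcl : ∀ u ∈ conjugatesOf d, u ∈ E := fun u hu => by
      obtain ⟨g, rfl⟩ := isConj_iff.mp hu
      exact hconj g d hd
    have hcom : ∀ u ∈ conjugatesOf d, Commute u e := by
      intro u hu
      by_contra hc
      refine hne (IsConj.trans hu (isConj_iff.mpr ⟨u * e, ?_⟩))
      rw [mul_inv_rev, inv_eq hE he, inv_eq hE (hcl u hu), braid hE (hcl u hu) he hc]
      simp [mul_assoc, mul_self hE (hcl u hu), mul_self_mul hE he]
    have htop : Subgroup.normalClosure {d} = ⊤ :=
      (Subgroup.Normal.eq_bot_or_eq_top inferInstance).resolve_left fun h0 => by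
        have := Subgroup.subset_normalClosure (s := {d}) (Set.mem_singleton d)
        rw [h0, SetLike.mem_coe, Subgroup.mem_bot] at this
        exact ne_one hE hd this
    have hle : Subgroup.normalClosure {d} ≤ Subgroup.centralizer {e} := by
      rw [Subgroup.normalClosure, Subgroup.closure_le]
      intro u hu
      obtain ⟨d', hd', hud⟩ := Group.mem_conjugatesOfSet_iff.mp hu
      rw [Set.mem_singleton_iff] at hd'
      rw [hd'] at hud
      rw [SetLike.mem_coe, Subgroup.mem_centralizer_singleton_iff]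
      exact (hcom u hud).eq
    rw [htop] at hle
    have hec : e ∈ Subgroup.center X := Subgroup.mem_center_iff.mpr fun g =>
      Subgroup.mem_centralizer_singleton_iff.mp (hle (Subgroup.mem_top g))
    have hbot : Subgroup.center X = ⊥ :=
      (Subgroup.Normal.eq_bot_or_eq_top inferInstance).resolve_right fun ht =>
        hxy (Subgroup.mem_center_iff.mp (ht ▸ Subgroup.mem_top x) y).symm
    rw [hbot, Subgroup.mem_bot] at hec
    exact ne_one hE he hec
  · obtain ⟨g, rfl⟩ := isConj_iff.mp he
    exact hconj g d hd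

variable {K : Type*} [Group K] {E : Set K}

theorem exists_perp_noncommute {d : K} (hnc : ∃ x y : PerpQuot E d, ¬ Commute x y) :
    ∃ u ∈ perp E d, ∃ v ∈ perp E d, ¬ Commute u v := by
  by_contra hall
  push Not at hall
  obtain ⟨x, y, hxy⟩ := hnc
  have : IsMulCommutative ↥(PerpGroup E d) :=
    Subgroup.isMulCommutative_closure (fun u hu v hv => (hall u hu v hv).eq)
  apply hxy
  induction x using QuotientGroup.induction_on with
  | H a =>
    induction y using QuotientGroup.induction_on with
    | H b => exact Commute.map (mul_comm' a b : Commute a b) (QuotientGroup.mk' _)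

theorem m22_data (h : IsOfTypeM22 K E) : Subgroup.center K = ⊥ ∧
    ∃ d ∈ E, (∃ c ∈ E, ¬ Commute d c) ∧ IsSimpleGroup (PerpQuot E d) ∧
      ∃ x y : PerpQuot E d, ¬ Commute x y := by
  obtain ⟨hc, d, hd, c, hc', hdc, ⟨F, _, _, hF, ⟨e⟩⟩, -⟩ := h
  obtain ⟨hs, x, y, hxy⟩ := psu_six hF
  refine ⟨hc, d, hd, ⟨c, hc', hdc⟩, ?_, e.symm x, e.symm y, fun hcom => hxy ?_⟩
  · haveI := hs
    exact (MulEquiv.isSimpleGroup_congr e).mpr hs
  · show x * y = y * x
    have h' := congrArg e hcom.eq
    erw [e.map_mul, e.map_mul, e.apply_symm_apply, e.apply_symm_apply] at h'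
    exact h'

theorem m22_twinFree [Finite K] (hE : IsThreeTranspositionClass E) (h : IsOfTypeM22 K E) :
    TwinFree E := by
  obtain ⟨-, d, hd, -, hs, hnc⟩ := m22_data h
  exact twinFree_of_perpQuot hE hd (pCore_eq_bot_of_simple 2 hs hnc) (exists_perp_noncommute hnc)

theorem m22_perp_class [Finite K] (hE : IsThreeTranspositionClass E) (htf : TwinFree E) {d : K}
    (hd : d ∈ E) (hs : IsSimpleGroup (PerpQuot E d)) (hnc : ∃ x y : PerpQuot E d, ¬ Commute x y) :
    IsThreeTranspositionClass (perpSet E d) ∧ TwinFree (perpSet E d) :=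
  have h := class_of_simple (perpSet_set hE htf hd) (fun q _ hx => perpSet_conj hE q hx)
    closure_perpSet hs hnc
  ⟨h, twinFree_of_core h (pCore_eq_bot_of_simple 2 hs hnc)⟩

end Cfsg.Agent.Block.FischerTypes
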