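import Cfsg.Agent.Lib.Block.FischerTypes.Cores

/-! A separated subset closed under the group it generates, modulo the centre of that group. -/

set_option autoImplicit false
set_option linter.style.haveILetI false
set_option linter.unusedSectionVars false

namespace Cfsg.Agent.Block.FischerTypes

open Cfsg.Agent.Spor.ThreeTrans

variable {G : Type*} [Group G] [Finite G] {D : Set G}

/-- The stabiliser of a member is transitive on the members apart from it. -/
theorem local_transitive_apart (h : IsThreeTranspositionClass D) {E : Set G} (hE : E ⊆ D)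
    (hconj : ∀ l ∈ Subgroup.closure E, ∀ x ∈ E, l * x * l⁻¹ ∈ E)
    (htr : ∀ x ∈ E, ∀ y ∈ E, ∃ l ∈ Subgroup.closure E, l * x * l⁻¹ = y)
    (hsep : ∀ x ∈ E, ∀ w ∈ E, (∀ y ∈ E, Commute x y ↔ Commute w y) → x = w)
    (hapart : ∀ x ∈ E, ∀ w ∈ E, ¬ Commute x w → ∃ z ∈ E, z ≠ x ∧ Commute z x ∧ ¬ Commute z w)
    (hmeet : ∀ x ∈ E, ∀ w ∈ E, ¬ Commute x w → ∃ z ∈ E, Commute z x ∧ Commute z w)
    {x a b : G} (hx : x ∈ E) (ha : a ∈ E) (hb : b ∈ E) (hxa : ¬ Commute x a)
    (hxb : ¬ Commute x b) :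
    ∃ l ∈ Subgroup.closure E, l * x * l⁻¹ = x ∧ l * a * l⁻¹ = b := by
  let L := Subgroup.closure E
  let π := QuotientGroup.mk' (Subgroup.center ↥L)
  let em : ∀ {u : G}, u ∈ E → ↥L := fun {u} hu => ⟨u, Subgroup.subset_closure hu⟩
  let E' : Set (↥L ⧸ Subgroup.center ↥L) := {q | ∃ (u : G) (hu : u ∈ E), π (em hu) = q}
  have cinj : ∀ u (hu : u ∈ E), ∀ v (hv : v ∈ E), π (em hu) = π (em hv) → u = v := by
    intro u hu v hv e
    obtain ⟨z, hz, e'⟩ := (QuotientGroup.mk'_eq_mk' _).mp e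
    have e'' : u * (z : G) = v := congrArg Subtype.val e'
    refine hsep u hu v hv fun y hy => ?_
    have hzy : Commute y (z : G) := congrArg Subtype.val (Subgroup.mem_center_iff.mp hz (em hy))
    rw [← e'']
    refine ⟨fun k => k.mul_left hzy.symm, fun k => ?_⟩
    simpa using k.mul_left hzy.symm.inv_left
  have ccom : ∀ u (hu : u ∈ E), ∀ v (hv : v ∈ E),
      Commute (π (em hu)) (π (em hv)) → Commute u v := by
    intro u hu v hv k
    by_contra hnc
    have hU : em hu * em hu = 1 := Subtype.ext (mul_self h.1 (hE hu))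
    have hV : em hv * em hv = 1 := Subtype.ext (mul_self h.1 (hE hv))
    have h3 : (em hu * em hv) ^ 3 = 1 :=
      Subtype.ext (pow_three_of_not_commute h (hE hu) (hE hv) hnc)
    have h2 : (π (em hu) * π (em hv)) ^ 2 = 1 := by
      rw [k.mul_pow, pow_two, pow_two, ← map_mul, hU, ← map_mul, hV, map_one, mul_one]
    have h3' : (π (em hu) * π (em hv)) ^ 3 = 1 := by rw [← map_mul, ← map_pow, h3, map_one]
    rw [pow_succ, h2, one_mul] at h3'
    have e : π (em hu) = π (em hv) := by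
      rw [eq_inv_of_mul_eq_one_left h3', ← map_inv, inv_eq_of_mul_eq_one_left hV]
    exact hnc (cinj u hu v hv e ▸ Commute.refl u)
  have hnz : ∀ u (hu : u ∈ E), π (em hu) ≠ 1 := by
    intro u hu e
    obtain ⟨l, hl, el⟩ := htr u hu x hx
    have hz : (⟨l, hl⟩ : ↥L) * em hu * ⟨l, hl⟩⁻¹ ∈ Subgroup.center ↥L :=
      Subgroup.Normal.conj_mem inferInstance _ ((QuotientGroup.eq_one_iff _).mp e) _
    rw [show (⟨l, hl⟩ : ↥L) * em hu * ⟨l, hl⟩⁻¹ = em hx from Subtype.ext el] at hz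
    exact hxa (congrArg Subtype.val (Subgroup.mem_center_iff.mp hz (em ha))).symm
  have hclass : IsThreeTranspositionClass E' := by
    refine ⟨⟨?_, ?_⟩, ⟨π (em hx), ⟨x, hx, rfl⟩, Set.ext fun q => ⟨?_, fun hq => ?_⟩⟩, ?_⟩
    · rintro _ ⟨u, hu, rfl⟩
      refine orderOf_eq_prime ?_ (hnz u hu)
      rw [pow_two, ← map_mul, show em hu * em hu = 1 from Subtype.ext (mul_self h.1 (hE hu)),
        map_one]
    · rintro _ ⟨u, hu, rfl⟩ _ ⟨v, hv, rfl⟩
      rw [← map_mul, ← map_pow, ← map_pow]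
      rcases h.1.2 u (hE hu) v (hE hv) with e | e
      · left; rw [show (em hu * em hv) ^ 2 = 1 from Subtype.ext e, map_one]
      · right; rw [show (em hu * em hv) ^ 3 = 1 from Subtype.ext e, map_one]
    · rintro ⟨u, hu, rfl⟩
      obtain ⟨l, hl, e⟩ := htr x hx u hu
      refine isConj_iff.mpr ⟨π ⟨l, hl⟩, ?_⟩
      rw [← map_inv, ← map_mul, ← map_mul]
      exact congrArg π (Subtype.ext e)
    · obtain ⟨g, rfl⟩ := isConj_iff.mp hq
      obtain ⟨g, rfl⟩ := QuotientGroup.mk'_surjective _ g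
      exact ⟨_, hconj g g.2 x hx, by rw [← map_inv, ← map_mul, ← map_mul]; exact congrArg π (Subtype.ext rfl)⟩
    · rw [eq_top_iff]
      intro q _
      obtain ⟨g, rfl⟩ := QuotientGroup.mk'_surjective _ q
      suffices ∀ u (hu : u ∈ L), π ⟨u, hu⟩ ∈ Subgroup.closure E' from this g g.2
      intro u hu
      induction hu using Subgroup.closure_induction with
      | mem u hu => exact Subgroup.subset_closure ⟨u, hu, rfl⟩
      | one => exact one_mem _
      | mul u v hu hv ihu ihv => exact mul_mem ihu ihv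
      | inv u hu ih => exact inv_mem ih
  have hcen : Subgroup.center (↥L ⧸ Subgroup.center ↥L) = ⊥ := by
    refine eq_bot_iff.mpr fun q hq => ?_
    obtain ⟨g, rfl⟩ := QuotientGroup.mk'_surjective _ q
    rw [Subgroup.mem_bot]
    refine (QuotientGroup.eq_one_iff _).mpr (Subgroup.mem_center_iff.mpr fun l => Subtype.ext ?_)
    have hle : L ≤ Subgroup.centralizer ({(g : G)} : Set G) := by
      refine (Subgroup.closure_le _).mpr fun u hu => ?_
      have e : (g : G) * u * (g : G)⁻¹ = u := by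
        refine cinj _ (hconj g g.2 u hu) u hu ?_
        calc π (em (hconj g g.2 u hu)) = π g * π (em hu) * (π g)⁻¹ := by
              rw [← map_inv, ← map_mul, ← map_mul]; exact congrArg π (Subtype.ext rfl)
          _ = π (em hu) := by
              rw [← Subgroup.mem_center_iff.mp hq (π (em hu)), mul_inv_cancel_right]
      exact Subgroup.mem_centralizer_singleton_iff.mpr (mul_inv_eq_iff_eq_mul.mp e).symm
    exact Subgroup.mem_centralizer_singleton_iff.mp (hle l.2)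
  haveI := Transfer.pCore_normal' 2 (↥L ⧸ Subgroup.center ↥L)
  haveI := Transfer.pCore_normal' 3 (↥L ⧸ Subgroup.center ↥L)
  have hmap : ∀ u (hu : u ∈ E), ∀ v (hv : v ∈ E), Commute u v →
      Commute (π (em hu)) (π (em hv)) := fun u hu v hv k =>
    (show Commute (em hu) (em hv) from Subtype.ext k.eq).map π
  have h2 : pCore 2 (↥L ⧸ Subgroup.center ↥L) = ⊥ := by
    refine eq_bot_of_separated hclass hcen _ ?_
    rintro _ ⟨u, hu, rfl⟩ _ ⟨v, hv, rfl⟩ he
    have htw := (perpTwo_of_core hclass ⟨u, hu, rfl⟩ ⟨v, hv, rfl⟩ he).2.2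
    have := hsep u hu v hv fun y hy =>
      ⟨fun k => ccom v hv y hy ((htw _ ⟨y, hy, rfl⟩).mp (hmap u hu y hy k)),
        fun k => ccom u hu y hy ((htw _ ⟨y, hy, rfl⟩).mpr (hmap v hv y hy k))⟩
    subst this
    rfl
  have h3 : pCore 3 (↥L ⧸ Subgroup.center ↥L) = ⊥ := by
    refine eq_bot_of_separated hclass hcen _ ?_
    rintro _ ⟨u, hu, rfl⟩ _ ⟨v, hv, rfl⟩ he
    by_cases huv : Commute u v
    · exact eq_of_commute_core hclass ⟨u, hu, rfl⟩ ⟨v, hv, rfl⟩ he (hmap u hu v hv huv)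
    obtain ⟨z, hz, hzu, c1, c2⟩ := hapart u hu v hv huv
    have hset := Set.ext_iff.mp (perpThree_of_core hclass ⟨u, hu, rfl⟩ ⟨v, hv, rfl⟩ he).2.2 (π (em hz))
    have hm : π (em hz) ∈ {y | y ∈ E' ∧ y ≠ π (em hu) ∧ Commute (π (em hu)) y} :=
      ⟨⟨z, hz, rfl⟩, fun e => hzu (cinj z hz u hu e), hmap u hu z hz c1.symm⟩
    exact absurd (ccom v hv z hz (hset.mp hm).2.2).symm c2
  have hhyp : Hyp E' := by
    refine hyp_of hclass hcen h2 h3
      ⟨_, ⟨x, hx, rfl⟩, _, ⟨a, ha, rfl⟩, fun k => hxa (ccom x hx a ha k)⟩ ?_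
    rintro _ ⟨u, hu, rfl⟩ _ ⟨v, hv, rfl⟩
    by_cases huv : Commute u v
    · exact mul_mem_second hclass ⟨u, hu, rfl⟩ ⟨v, hv, rfl⟩ (hmap u hu v hv huv)
    obtain ⟨z, hz, c1, c2⟩ := hmeet u hu v hv huv
    have e := mul_mem (mul_mem_second hclass ⟨u, hu, rfl⟩ ⟨z, hz, rfl⟩ (hmap u hu z hz c1.symm))
      (mul_mem_second hclass ⟨z, hz, rfl⟩ ⟨v, hv, rfl⟩ (hmap z hz v hv c2))
    rwa [show π (em hu) * π (em hz) * (π (em hz) * π (em hv)) = π (em hu) * π (em hv) by
      rw [mul_assoc, mul_self_mul hclass.1 ⟨z, hz, rfl⟩]] at e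
  obtain ⟨q, hq, e⟩ := transitive_apart hhyp (x := π (em hx)) ⟨x, hx, rfl⟩
    (a₀ := π (em ha)) ⟨⟨a, ha, rfl⟩, fun k => hxa (ccom x hx a ha k.symm)⟩
    (b₀ := π (em hb)) ⟨⟨b, hb, rfl⟩, fun k => hxb (ccom x hx b hb k.symm)⟩
  have hqx := conj_self_eq (localGroup_commute hq)
  obtain ⟨l, rfl⟩ := QuotientGroup.mk'_surjective _ q
  have back : ∀ u (hu : u ∈ E), π (em (hconj l l.2 u hu)) = π l * π (em hu) * (π l)⁻¹ := fun u hu => by
    rw [← map_inv, ← map_mul, ← map_mul]; exact congrArg π (Subtype.ext rfl)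
  exact ⟨l, l.2, cinj _ (hconj l l.2 x hx) x hx ((back x hx).trans hqx),
    cinj _ (hconj l l.2 a ha) b hb ((back a ha).trans e)⟩

end Cfsg.Agent.Block.FischerTypes
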