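import Cfsg.Agent.Lib.Block.FischerTypes.U6Stab

/-! A further root commuting with three roots of `PSU_6(2)`. -/

set_option autoImplicit false
set_option linter.style.haveILetI false
set_option linter.unusedSectionVars false

namespace Cfsg.Agent.Block.FischerTypes.U6

open Matrix Cfsg Cfsg.Agent.Classical Cfsg.Agent.Classical.PSUAut Cfsg.Agent.Spor.UnitTwo
open Cfsg.Agent.Spor

variable {F : Type} [Field F] [Fintype F] (h4 : Fintype.card F = 4)

local notation "hh" => hermForm 6 F 2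
local notation "hF" => card_sq h4
local notation "π" => suToPSU 6 F 2

include h4

/-- A second isotropic vector perpendicular to an isotropic one in four coordinates. -/
theorem perp_iso {v : Fin 4 → F} (hv0 : v ≠ 0) (hv : hermForm 4 F 2 v v = 0) :
    ∃ u : Fin 4 → F, u ≠ 0 ∧ hermForm 4 F 2 u u = 0 ∧ hermForm 4 F 2 u v = 0 ∧
      ∀ a : F, u ≠ a • v := by
  classical
  have n3 : ∀ {a : F}, a ≠ 0 → a * a ^ 2 = 1 := fun {a} ha => by
    have := norm_one h4 ha
    rwa [qFrob_apply] at this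
  have two : (1 : F) + 1 = 0 := add_self h4 1
  let u : Fin 4 → F :=
    if ∀ i, v i ≠ 0 then ![v 0, v 1, 0, 0] else fun i => if v i = 0 then 1 else 0
  refine ⟨u, ?_⟩
  have hne : ¬ (v 0 = 0 ∧ v 1 = 0 ∧ v 2 = 0 ∧ v 3 = 0) := fun k => hv0 (by
    funext i; fin_cases i <;> simp [k])
  simp only [hermForm, Fin.sum_univ_four] at hv ⊢
  rcases eq_or_ne (v 0) 0 with k0 | k0 <;> rcases eq_or_ne (v 1) 0 with k1 | k1 <;>
    rcases eq_or_ne (v 2) 0 with k2 | k2 <;> rcases eq_or_ne (v 3) 0 with k3 | k3 <;>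
    first
      | (exfalso; revert hne; simp [k0, k1, k2, k3]; done)
      | (exfalso; revert hv; simp [k0, k1, k2, k3, n3, two]; done)
      | (simp [u, k0, k1, k2, k3, n3, two, funext_iff, Fin.forall_fin_succ])

/-- Three roots, the third commuting with the other two, commute with a fourth. -/
theorem common_three {p q r : PSU 6 F 2} (hp : p ∈ roots h4 6) (hq : q ∈ roots h4 6)
    (hr : r ∈ roots h4 6) (hpq : ¬ Commute p q) (hrp : Commute r p) (hrq : Commute r q) :
    ∃ z ∈ roots h4 6, z ≠ r ∧ Commute z p ∧ Commute z q ∧ Commute z r := by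
  obtain ⟨w, hw0, hw1, hww, hwc, -⟩ := exists_omega h4
  have h := roots_class h4
  have hn : (1 : ℕ) ≤ 6 := by norm_num
  obtain ⟨g, hgp, hgq⟩ := pair_conj h4 hw0 hwc hp hq hpq
  obtain ⟨R, hR0, hRR, e⟩ := ThreeTrans.conj_mem h g hr
  have hQne : Q0 w ≠ 0 := fun k => hw0 (by rw [← hPQ0 h4 hwc, k, h_zero_right hF])
  have k1 : hh R P0 = 0 := (root_commute h4 hn hRR (hP0 h4) hR0 (P0_ne h4)).mp (by
    show Commute (root h4 hRR) (p0 h4)
    rw [← hgp, e]
    exact (ThreeTrans.commute_conj_iff g r p).mpr hrp)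
  have k2 : hh R (Q0 w) = 0 := (root_commute h4 hn hRR (hQ0 h4 hw0) hR0 hQne).mp (by
    rw [← hgq, e]
    exact (ThreeTrans.commute_conj_iff g r q).mpr hrq)
  obtain ⟨a, v, rfl⟩ := cat_split R
  rw [P0, h_cat] at k1
  rw [Q0, h_cat] at k2
  simp [hermForm, Fin.sum_univ_two] at k1 k2
  have ha0 : a 0 = 0 := by
    have : a 0 * w = 0 := by
      linear_combination k1 + k2 - (a 0 + a 1) * add_self h4 (1 : F) -
        a 0 * hww
    exact (mul_eq_zero.mp this).resolve_right hw0
  have ha : a = 0 := by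
    funext i
    fin_cases i
    · exact ha0
    · show a 1 = 0
      linear_combination k1 - ha0
  subst ha
  have hvv : hermForm 4 F 2 v v = 0 := by
    rw [h_cat] at hRR
    simpa [hermForm] using hRR
  obtain ⟨u, hu0, huu, huv, hindep⟩ := perp_iso h4 (fun k => hR0 (by rw [k, cat_zero])) hvv
  have hU : hh (cat 0 u) (cat 0 u) = 0 := by rw [h_cat, huu]; simp [hermForm]
  have hU0 : cat (0 : Fin 2 → F) u ≠ 0 := fun k => hu0 (by
    rw [← cat_zero] at k; exact (cat_inj k).2)
  have c1 : Commute (root h4 hU) (p0 h4) := (root_commute h4 hn hU (hP0 h4) hU0 (P0_ne h4)).mpr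
    (by rw [P0, h_cat]; simp [hermForm])
  have c2 : Commute (root h4 hU) (root h4 (hQ0 h4 hw0)) :=
    (root_commute h4 hn hU (hQ0 h4 hw0) hU0 hQne).mpr (by rw [Q0, h_cat]; simp [hermForm])
  have c3 : Commute (root h4 hU) (g * r * g⁻¹) := by
    rw [← e]
    exact (root_commute h4 hn hU hRR hU0 hR0).mpr (by rw [h_cat, huv]; simp [hermForm])
  have hne : root h4 hU ≠ g * r * g⁻¹ := fun k => by
    rw [← e] at k
    obtain ⟨c, -, e'⟩ := root_eq h4 hn hU hRR hU0 k
    rw [← cat_smul] at e'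
    first
      | exact hindep c (cat_inj e').2
      | exact hindep c (cat_inj e').2.symm
  obtain ⟨z, hz⟩ : ∃ z, g * z * g⁻¹ = root h4 hU := ⟨g⁻¹ * root h4 hU * g, by simp [mul_assoc]⟩
  rw [← hz] at c1 c2 c3 hne
  rw [← hgp, ThreeTrans.commute_conj_iff] at c1
  rw [← hgq, ThreeTrans.commute_conj_iff] at c2
  rw [ThreeTrans.commute_conj_iff] at c3
  refine ⟨z, ?_, fun k => hne (by rw [k]), c1, c2, c3⟩
  have := ThreeTrans.conj_mem h g⁻¹ (show root h4 hU ∈ roots h4 6 from ⟨_, hU0, hU, rfl⟩)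
  rw [← hz] at this
  simpa [mul_assoc] using this

end Cfsg.Agent.Block.FischerTypes.U6
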