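import Cfsg.Agent.Lib.Block.FischerTypes.M22Group
import Cfsg.Agent.Lib.Block.FischerTypes.U6Three

/-! In type M(22) a transposition centraliser is generated by the perpendicular. -/

set_option autoImplicit false
set_option linter.style.haveILetI false
set_option linter.unusedSectionVars false

namespace Cfsg.Agent.Block.FischerTypes.M22

open Cfsg.Agent.Spor.ThreeTrans
open Cfsg.Agent.Spor.UnitTwo (card_sq)

variable {G : Type*} [Group G] [Finite G] {D : Set G}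

/-- A member of the perpendicular as an element of the group it generates. -/
abbrev el {a u : G} (hu : u ∈ perp D a) : ↥(PerpGroup D a) := ⟨u, Subgroup.subset_closure hu⟩

/-- A map from the perpendicular group onto the unitary group. -/
def IsModel {F : Type} [Field F] [Fintype F] (h4 : Fintype.card F = 4) (a : G)
    (Φ : ↥(PerpGroup D a) →* PSU 6 F 2) : Prop :=
  Function.Surjective Φ ∧ (∀ u (hu : u ∈ perp D a), Φ (el hu) ∈ U6.roots h4 6) ∧
    (∀ x ∈ U6.roots h4 6, ∃ (u : G) (hu : u ∈ perp D a), Φ (el hu) = x) ∧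
    (∀ u (hu : u ∈ perp D a), ∀ v (hv : v ∈ perp D a), Φ (el hu) = Φ (el hv) → u = v) ∧
    (∀ u (hu : u ∈ perp D a), ∀ v (hv : v ∈ perp D a),
      Commute (Φ (el hu)) (Φ (el hv)) ↔ Commute u v) ∧
    ∀ g, Φ g = 1 → g ∈ Subgroup.center ↥(PerpGroup D a)

theorem exists_isModel (h : IsThreeTranspositionClass D) (htf : TwinFree D) {a : G} (ha : a ∈ D)
    {F : Type} [Field F] [Fintype F] (h4 : Fintype.card F = 4)
    (e : PerpQuot D a ≃* PSU 6 F 2) : ∃ Φ, IsModel (D := D) h4 a Φ := by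
  obtain ⟨hs, x₀, y₀, hxy⟩ := psu_six h4
  haveI := hs
  have hs' : IsSimpleGroup (PerpQuot D a) := (MulEquiv.isSimpleGroup_congr e).mpr hs
  have hnc : ∃ x y : PerpQuot D a, ¬ Commute x y :=
    ⟨e.symm x₀, e.symm y₀, fun k => hxy (by simpa using k.map e)⟩
  have hE := (m22_perp_class h htf ha hs' hnc).1
  have hroots := U6.class_eq h4 (by norm_num) (class_image e hE)
  refine ⟨e.toMonoidHom.comp (QuotientGroup.mk' _),
    e.surjective.comp (QuotientGroup.mk'_surjective _), fun u hu => ?_, fun x hx => ?_,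
    fun u hu v hv k => ?_, fun u hu v hv => ⟨fun k => ?_, fun k => ?_⟩, fun g hg => ?_⟩
  · rw [← hroots]
    exact ⟨_, pr_mem hu, rfl⟩
  · rw [← hroots] at hx
    obtain ⟨q, hq, rfl⟩ := hx
    obtain ⟨u, hu, rfl⟩ := exists_of_mem hq
    exact ⟨u, hu, rfl⟩
  · exact pr_injective h htf ha hu hv (e.injective k)
  · have k' : Commute (e (pr D a u hu)) (e (pr D a v hv)) := k
    exact commute_of_pr h htf ha hu hv (by simpa using k'.map e.symm)
  · exact (commute_pr hu hv k).map e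
  · exact (QuotientGroup.eq_one_iff g).mp (e.map_eq_one_iff.mp hg)

/-- The standing facts. -/
structure Ctx (D : Set G) : Prop where
  set : Setting D
  cen : Subgroup.center G = ⊥
  hex : ∀ a ∈ D, HexadAt D a
  mdl : ∀ a ∈ D, ∃ (F : Type) (_ : Field F) (_ : Fintype F) (h4 : Fintype.card F = 4)
    (Φ : ↥(PerpGroup D a) →* PSU 6 F 2), IsModel h4 a Φ
  self : ∀ a ∈ D, a ∈ PerpGroup D a
  centre : ∀ a ∈ D, Subgroup.center ↥(PerpGroup D a) = (Subgroup.zpowers a).subgroupOf (PerpGroup D a)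
  meets : ∀ a ∈ D, ∀ c ∈ D, ¬ Commute a c → (common D a c).Nonempty

theorem ctx (hD : IsThreeTranspositionGroup D) (hprim : IsPrimitiveUnderConj D)
    (h22 : IsOfTypeM22 G D) : Ctx D := by
  obtain ⟨S, hcen, hat, hmod, hcc⟩ := m22_standing hD hprim h22
  obtain ⟨-, hstr⟩ := m22_structure hD hprim h22
  refine ⟨S, hcen, hat, fun a ha => ?_, fun a ha => (hstr a ha).1, fun a ha => (hstr a ha).2.2,
    fun a ha c hc hac => ?_⟩
  · obtain ⟨F, _, _, h4, ⟨e⟩⟩ := hmod a ha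
    obtain ⟨Φ, hΦ⟩ := exists_isModel S.cls S.tf ha h4 e
    exact ⟨F, _, _, h4, Φ, hΦ⟩
  · obtain ⟨b, hb, hab, x, hx1, hx2⟩ := hcc a ha
    obtain ⟨g, hg1, hg2⟩ := apart_pair_conj S ha hb hab ha hc hac
    refine ⟨g * x * g⁻¹, ?_, ?_⟩
    · rw [← hg1]
      exact (conj_mem_perp S.cls g a).mpr hx1
    · rw [← hg2]
      exact (conj_mem_perp S.cls g b).mpr hx2

variable (C : Ctx D)
include C

omit C in
theorem perp_symm {a x : G} (ha : a ∈ D) (hx : x ∈ perp D a) : a ∈ perp D x :=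
  ⟨ha, Ne.symm hx.2.1, hx.2.2.symm⟩

omit C in
theorem commute_self {a k : G} (hk : k ∈ PerpGroup D a) : Commute k a :=
  localGroup_commute (Subgroup.closure_mono (Set.subset_insert _ _) hk)

omit C in
theorem group_conj (h : IsThreeTranspositionClass D) (g : G) {a k : G} (hk : k ∈ PerpGroup D a) :
    g * k * g⁻¹ ∈ PerpGroup D (g * a * g⁻¹) := by
  have : (PerpGroup D a).map (MulAut.conj g).toMonoidHom ≤ PerpGroup D (g * a * g⁻¹) := by
    rw [Subgroup.map_le_iff_le_comap]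
    refine (Subgroup.closure_le _).mpr fun u hu => Subgroup.subset_closure ?_
    exact (conj_mem_perp h g a).mpr hu
  exact this ⟨k, hk, rfl⟩

theorem mem_perpGroup {a u : G} (ha : a ∈ D) (hu : u ∈ D) (hc : Commute a u) : u ∈ PerpGroup D a := by
  by_cases e : u = a
  · rw [e]; exact C.self a ha
  · exact Subgroup.subset_closure ⟨hu, e, hc⟩

/-- An element of a perpendicular group fixing a member of the perpendicular is in its group. -/
theorem point {d x : G} (hd : d ∈ D) (hx : x ∈ perp D d) {k : G} (hk : k ∈ PerpGroup D x)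
    (hkd : Commute k d) : k ∈ PerpGroup D d := by
  obtain ⟨F, _, _, h4, Φ, hsurj, hmem, hlift, hinj, hcom, hker⟩ := C.mdl x hx.1
  have hd' := perp_symm hd hx
  have hcomm : Commute (Φ ⟨k, hk⟩) (Φ (el hd')) := (show Commute (⟨k, hk⟩ : ↥(PerpGroup D x)) (el hd')
    from Subtype.ext hkd.eq).map Φ
  have hle : localGroup (U6.roots h4 6) (Φ (el hd')) ≤
      ((PerpGroup D d).subgroupOf (PerpGroup D x)).map Φ := by
    refine (Subgroup.closure_le _).mpr ?_
    rintro r (rfl | hr)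
    · exact ⟨el hd', C.self d hd, rfl⟩
    · obtain ⟨u, hu, rfl⟩ := hlift r hr.1
      refine ⟨el hu, Subgroup.subset_closure (k := perp D d) ?_, rfl⟩
      exact ⟨hu.1, fun e => hr.2.1 (by subst e; rfl), ((hcom d hd' u hu).mp hr.2.2)⟩
  obtain ⟨k', hk', e⟩ := hle (U6.point_stab h4 (hmem d hd') hcomm)
  have hz := hker (k'⁻¹ * ⟨k, hk⟩) (by rw [map_mul, map_inv, e, inv_mul_cancel])
  rw [C.centre x hx.1, Subgroup.mem_subgroupOf] at hz
  have hz' : (k' : G)⁻¹ * k ∈ PerpGroup D d :=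
    (Subgroup.zpowers_le.mpr (Subgroup.subset_closure hx)) hz
  have := mul_mem (show (k' : G) ∈ PerpGroup D d from hk') hz'
  rwa [mul_inv_cancel_left] at this

/-- Conjugating inside a perpendicular. -/
theorem lift_conj {x p q : G} (hx : x ∈ D) (hp : p ∈ perp D x) (hq : q ∈ perp D x) :
    ∃ k ∈ PerpGroup D x, k * p * k⁻¹ = q := by
  obtain ⟨F, _, _, h4, Φ, hsurj, hmem, hlift, hinj, hcom, hker⟩ := C.mdl x hx
  obtain ⟨g, hg⟩ := transitive (U6.roots_class h4) (hmem p hp) (hmem q hq)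
  obtain ⟨k, rfl⟩ := hsurj g
  have hm : (k : G) * p * (k : G)⁻¹ ∈ perp D x := perp_conj' C.set.cls (commute_self k.2) hp
  refine ⟨k, k.2, hinj _ hm q hq ?_⟩
  rw [show el hm = k * el hp * k⁻¹ from Subtype.ext rfl, map_mul, map_mul, map_inv, hg]

/-- Conjugating inside the perpendicular of a pair. -/
theorem lift_conj_fix {x y p q : G} (hx : x ∈ D) (hy : y ∈ perp D x) (hp : p ∈ perp D x)
    (hq : q ∈ perp D x) (hpy : p ∈ perp D y) (hqy : q ∈ perp D y) :
    ∃ k ∈ PerpGroup D x, k ∈ PerpGroup D y ∧ k * p * k⁻¹ = q := by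
  obtain ⟨F, _, _, h4, Φ, hsurj, hmem, hlift, hinj, hcom, hker⟩ := C.mdl x hx
  have hin : ∀ u (hu : u ∈ perp D x), u ∈ perp D y →
      Φ (el hu) ∈ perp (U6.roots h4 6) (Φ (el hy)) := fun u hu huy =>
    ⟨hmem u hu, fun e => huy.2.1 (hinj u hu y hy e), (hcom y hy u hu).mpr huy.2.2⟩
  obtain ⟨g, hg, hg'⟩ := transitive_perp (U6.roots_hyp h4) (hmem y hy) (hin p hp hpy) (hin q hq hqy)
  obtain ⟨k, rfl⟩ := hsurj g
  have hm : (k : G) * p * (k : G)⁻¹ ∈ perp D x := perp_conj' C.set.cls (commute_self k.2) hp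
  have hm' : (k : G) * y * (k : G)⁻¹ ∈ perp D x := perp_conj' C.set.cls (commute_self k.2) hy
  have hky : (k : G) * y * (k : G)⁻¹ = y := hinj _ hm' y hy (by
    rw [show el hm' = k * el hy * k⁻¹ from Subtype.ext rfl, map_mul, map_mul, map_inv]
    exact conj_self_eq (commute_self hg))
  refine ⟨k, k.2, point C hy.1 (perp_symm hx hy) k.2 (mul_inv_eq_iff_eq_mul.mp hky), ?_⟩
  refine hinj _ hm q hq ?_
  rw [show el hm = k * el hp * k⁻¹ from Subtype.ext rfl, map_mul, map_mul, map_inv, hg']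

/-- A member of the perpendicular meets a common perpendicular. -/
theorem z_lemma {d f w : G} (hd : d ∈ D) (hf : f ∈ D) (hdf : ¬ Commute d f) {x : G}
    (hx : x ∈ common D d f) (hw : w ∈ perp D d) (hxw : ¬ Commute x w) :
    ∃ z ∈ common D d f, z ≠ x ∧ Commute z x ∧ Commute z w := by
  classical
  have h := C.set.cls
  obtain ⟨F, _, _, h4, Φ, hsurj, hmem, hlift, hinj, hcom, hker⟩ := C.mdl d hd
  let T : Set (PSU 6 F 2) := {r | ∃ (u : G) (hu : u ∈ perp D d), u ∈ perp D f ∧ Φ (el hu) = r}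
  have hclosed : ∀ s ∈ T, ∀ s' ∈ T, ¬ Commute s s' → s * s' * s ∈ T := by
    rintro _ ⟨u, hu, huf, rfl⟩ _ ⟨v, hv, hvf, rfl⟩ -
    have h1 : u * v * u⁻¹ ∈ perp D d := perp_conj' h hu.2.2.symm hv
    have h2 : u * v * u⁻¹ ∈ perp D f := perp_conj' h huf.2.2.symm hvf
    rw [inv_eq h.1 hu.1] at h1 h2
    exact ⟨_, h1, h2, by rw [← map_mul, ← map_mul]; rfl⟩
  have hline : ∀ s ∈ T, ∀ c ∈ perp (U6.roots h4 6) s, ∃ e ∈ T, e ∈ perp (U6.roots h4 6) s ∧
      ∀ y ∈ perp (U6.roots h4 6) s, Commute y c ↔ Commute y e := by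
    rintro _ ⟨u, hu, huf, rfl⟩ c hc
    obtain ⟨v, hv, rfl⟩ := hlift c hc.1
    have hvu : v ∈ perp D u :=
      ⟨hv.1, fun e => hc.2.1 (by subst e; rfl), (hcom u hu v hv).mp hc.2.2⟩
    obtain ⟨K, _, _, k4, Ψ, ksurj, kmem, klift, kinj, kcom, -⟩ := C.mdl u hu.1
    have hdu := perp_symm hd hu
    have hfu := perp_symm hf huf
    obtain ⟨P, hP, hPP, eP⟩ := kmem d hdu
    obtain ⟨Q, hQ, hQQ, eQ⟩ := kmem f hfu
    obtain ⟨V, hV, hVV, eV⟩ := kmem v hvu
    have hn : (1 : ℕ) ≤ 6 := by norm_num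
    have hPQ : hermForm 6 K 2 P Q ≠ 0 := fun k => hdf ((kcom d hdu f hfu).mp (by
      rw [← eP, ← eQ]; exact (U6.root_commute k4 hn hPP hQQ hP hQ).mpr k))
    have hPV : hermForm 6 K 2 P V = 0 := (U6.root_commute k4 hn hPP hVV hP hV).mp (by
      rw [eP, eV]; exact (kcom d hdu v hvu).mpr hv.2.2)
    have hVP := Cfsg.Agent.Classical.PSUAut.h_comm_zero (card_sq k4) hPV
    obtain ⟨α, hα⟩ : ∃ α : K, α = -(hermForm 6 K 2 V Q) / hermForm 6 K 2 P Q := ⟨_, rfl⟩
    open Cfsg.Agent.Classical.PSUAut in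
    have hEE : hermForm 6 K 2 (V + α • P) (V + α • P) = 0 := by
      rw [h_add_left, h_add_right (card_sq k4), h_add_right (card_sq k4), h_smul_left, h_smul_left,
        h_smul_right (card_sq k4), h_smul_right (card_sq k4), hVV, hVP, hPV, hPP]
      ring
    have hind : ∀ a : K, V + α • P ≠ a • P := fun a k => by
      have e' : V = (a - α) • P := by rw [sub_smul, ← k, add_sub_cancel_right]
      have : U6.root k4 hVV = U6.root k4 hPP := by
        rw [U6.root_congr k4 hVV (e' ▸ hVV) e']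
        exact U6.root_smul k4 hPP (fun h0 => hV (by rw [e', h0, zero_smul])) _
      exact hv.2.1 (kinj v hvu d hdu (by rw [← eV, ← eP, this]))
    have hE0 : V + α • P ≠ 0 := fun k => hind 0 (by rw [k, zero_smul])
    obtain ⟨e, he, eE⟩ := klift _ ⟨V + α • P, hE0, hEE, rfl⟩
    open Cfsg.Agent.Classical.PSUAut in
    have hed : Commute e d := (kcom e he d hdu).mp (by
      rw [eE, ← eP, U6.root_commute k4 hn hEE hPP hE0 hP, h_add_left, h_smul_left, hVP, hPP,
        mul_zero, add_zero])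
    open Cfsg.Agent.Classical.PSUAut in
    have hef : Commute e f := (kcom e he f hfu).mp (by
      rw [eE, ← eQ, U6.root_commute k4 hn hEE hQQ hE0 hQ, h_add_left, h_smul_left, hα,
        div_mul_cancel₀ _ hPQ, add_neg_cancel])
    have hed' : e ∈ perp D d := ⟨he.1, fun k => hdf (k ▸ hef), hed.symm⟩
    have hef' : e ∈ perp D f := ⟨he.1, fun k => hdf ((k ▸ hed).symm), hef.symm⟩
    refine ⟨_, ⟨e, hed', hef', rfl⟩, ⟨hmem e hed', fun k => he.2.1 (hinj e hed' u hu k),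
      (hcom u hu e hed').mpr he.2.2⟩, fun r hr => ?_⟩
    obtain ⟨y, hy, rfl⟩ := hlift r hr.1
    have hyu : y ∈ perp D u :=
      ⟨hy.1, fun k => hr.2.1 (by subst k; rfl), (hcom u hu y hy).mp hr.2.2⟩
    rw [hcom y hy v hv, hcom y hy e hed', ← kcom y hyu v hvu, ← kcom y hyu e he, eE, ← eV]
    obtain ⟨Y, hY, hYY, eY⟩ := kmem y hyu
    have hYP : hermForm 6 K 2 Y P = 0 := (U6.root_commute k4 hn hYY hPP hY hP).mp (by
      rw [eP, eY]; exact (kcom y hyu d hdu).mpr hy.2.2.symm)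
    open Cfsg.Agent.Classical.PSUAut in
    rw [← eY, U6.root_commute k4 hn hYY hVV hY hV, U6.root_commute k4 hn hYY hEE hY hE0,
      h_add_right (card_sq k4), h_smul_right (card_sq k4), hYP, mul_zero, add_zero]
  obtain ⟨r, ⟨z, hz, hzf, rfl⟩, hne, c1, c2⟩ := U6.meet h4 hline hclosed
    (x := Φ (el hx.1)) (y := Φ (el hw)) ⟨x, hx.1, hx.2, rfl⟩ (hmem x hx.1) (hmem w hw)
    (fun k => hxw ((hcom x hx.1 w hw).mp k))
  exact ⟨z, ⟨hz, hzf⟩, fun k => hne (by subst k; rfl), (hcom z hz x hx.1).mp c1,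
    (hcom z hz w hw).mp c2⟩

/-- Common perpendiculars have diameter two. -/
theorem diam {p q x y : G} (hp : p ∈ D) (hq : q ∈ D) (hpq : p ≠ q) (hx : x ∈ common D p q)
    (hy : y ∈ common D p q) (hxy : ¬ Commute x y) :
    ∃ z ∈ common D p q, Commute z x ∧ Commute z y := by
  by_cases hc : Commute p q
  · obtain ⟨F, _, _, h4, Φ, hsurj, hmem, hlift, hinj, hcom, hker⟩ := C.mdl p hp
    have hq' : q ∈ perp D p := ⟨hq, Ne.symm hpq, hc⟩
    obtain ⟨r, hr, hne, c1, c2, c3⟩ := U6.common_three h4 (hmem x hx.1) (hmem y hy.1) (hmem q hq')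
      (fun k => hxy ((hcom x hx.1 y hy.1).mp k)) ((hcom q hq' x hx.1).mpr hx.2.2.2)
      ((hcom q hq' y hy.1).mpr hy.2.2.2)
    obtain ⟨z, hz, rfl⟩ := hlift r hr
    exact ⟨z, ⟨hz, hz.1, fun k => hne (by subst k; rfl), ((hcom z hz q hq').mp c3).symm⟩,
      (hcom z hz x hx.1).mp c1, (hcom z hz y hy.1).mp c2⟩
  · obtain ⟨z, hz, -, c1, c2⟩ := z_lemma C hp hq hc hx hy.1 hxy
    exact ⟨z, hz, c1, c2⟩

/-- A transporter between two members through a third. -/
def Tr (D : Set G) (p q k : G) : Prop :=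
  ∃ x ∈ common D p q, k ∈ PerpGroup D x ∧ k * p * k⁻¹ = q

/-- The coset of transporters. -/
def R (D : Set G) (p q k : G) : Prop := ∃ k₀, Tr D p q k₀ ∧ k₀⁻¹ * k ∈ PerpGroup D p

theorem exists_tr {p q : G} (hp : p ∈ D) (hq : q ∈ D) : ∃ k, Tr D p q k := by
  have hne : (common D p q).Nonempty := by
    by_cases e : p = q
    · subst e
      obtain ⟨x, hx⟩ := C.set.perp_ne p hp
      exact ⟨x, hx, hx⟩
    by_cases hc : Commute p q
    · obtain ⟨F, _, _, h4, Φ, hsurj, hmem, hlift, hinj, hcom, hker⟩ := C.mdl p hp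
      have hq' : q ∈ perp D p := ⟨hq, Ne.symm e, hc⟩
      obtain ⟨r, hr⟩ := perp_nonempty (U6.roots_hyp h4) (hmem q hq')
      obtain ⟨z, hz, rfl⟩ := hlift r hr.1
      exact ⟨z, hz, hz.1, fun k => hr.2.1 (by subst k; rfl), (hcom q hq' z hz).mp hr.2.2⟩
    · exact C.meets p hp q hq hc
  obtain ⟨x, hx⟩ := hne
  obtain ⟨k, hk, e⟩ := lift_conj C hx.1.1 (perp_symm hp hx.1) (perp_symm hq hx.2)
  exact ⟨k, x, hx, hk, e⟩

theorem tr_unique {p q k l : G} (hp : p ∈ D) (hq : q ∈ D) (hk : Tr D p q k) (hl : Tr D p q l) :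
    k⁻¹ * l ∈ PerpGroup D p := by
  by_cases e : p = q
  · subst e
    obtain ⟨x, hx, hxk, ek⟩ := hk
    obtain ⟨y, hy, hyl, el'⟩ := hl
    exact mul_mem (inv_mem (point C hp hx.1 hxk (mul_inv_eq_iff_eq_mul.mp ek)))
      (point C hp hy.1 hyl (mul_inv_eq_iff_eq_mul.mp el'))
  have same : ∀ {x k l : G}, x ∈ common D p q → k ∈ PerpGroup D x → k * p * k⁻¹ = q →
      l ∈ PerpGroup D x → l * p * l⁻¹ = q → k⁻¹ * l ∈ PerpGroup D p := by
    intro x k l hx hk ek hl el'
    refine point C hp hx.1 (mul_mem (inv_mem hk) hl) (mul_inv_eq_iff_eq_mul.mp ?_)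
    calc k⁻¹ * l * p * (k⁻¹ * l)⁻¹ = k⁻¹ * (l * p * l⁻¹) * k := by simp [mul_assoc]
      _ = k⁻¹ * (k * p * k⁻¹) * k := by rw [el', ek]
      _ = p := by simp [mul_assoc]
  have step : ∀ {x y k l : G}, x ∈ common D p q → y ∈ common D p q → Commute x y →
      k ∈ PerpGroup D x → k * p * k⁻¹ = q → l ∈ PerpGroup D y → l * p * l⁻¹ = q →
      k⁻¹ * l ∈ PerpGroup D p := by
    intro x y k l hx hy hxy hk ek hl el'
    by_cases e' : y = x
    · subst e'
      exact same hx hk ek hl el'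
    obtain ⟨m, hmx, hmy, em⟩ := lift_conj_fix C hx.1.1 ⟨hy.1.1, e', hxy⟩ (perp_symm hp hx.1)
      (perp_symm hq hx.2) (perp_symm hp hy.1) (perp_symm hq hy.2)
    have := mul_mem (same hx hk ek hmx em) (same hy hmy em hl el')
    simpa [mul_assoc] using this
  obtain ⟨x, hx, hxk, ek⟩ := hk
  obtain ⟨y, hy, hyl, el'⟩ := hl
  by_cases hxy : Commute x y
  · exact step hx hy hxy hxk ek hyl el'
  obtain ⟨z, hz, hzx, hzy⟩ := diam C hp hq e hx hy hxy
  obtain ⟨m, hm, em⟩ := lift_conj C hz.1.1 (perp_symm hp hz.1) (perp_symm hq hz.2)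
  have := mul_mem (step hx hz hzx.symm hxk ek hm em) (step hz hy hzy hm em hyl el')
  simpa [mul_assoc] using this

theorem R_conj {p q k : G} (hk : R D p q k) : k * p * k⁻¹ = q := by
  obtain ⟨k₀, ⟨x, -, -, e⟩, ha⟩ := hk
  have hc := commute_self ha
  have h1 := conj_self_eq hc
  calc k * p * k⁻¹ = k₀ * (k₀⁻¹ * k * p * (k₀⁻¹ * k)⁻¹) * k₀⁻¹ := by simp [mul_assoc]
    _ = q := by rw [h1, e]

theorem R_unique {p q k l : G} (hp : p ∈ D) (hq : q ∈ D) (hk : R D p q k) (hl : R D p q l) :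
    k⁻¹ * l ∈ PerpGroup D p := by
  obtain ⟨k₀, hk₀, ha⟩ := hk
  obtain ⟨l₀, hl₀, hb⟩ := hl
  have := mul_mem (mul_mem (inv_mem ha) (tr_unique C hp hq hk₀ hl₀)) hb
  simpa [mul_assoc] using this

omit C in
theorem R_of_tr {p q k : G} (hk : Tr D p q k) : R D p q k :=
  ⟨k, hk, by rw [inv_mul_cancel]; exact one_mem _⟩

omit C in
theorem R_mul {p q k a : G} (hk : R D p q k) (ha : a ∈ PerpGroup D p) : R D p q (k * a) := by
  obtain ⟨k₀, hk₀, hb⟩ := hk
  exact ⟨k₀, hk₀, by rw [← mul_assoc]; exact mul_mem hb ha⟩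

theorem R_self {p k : G} (hp : p ∈ D) : R D p p k ↔ k ∈ PerpGroup D p := by
  constructor
  · rintro ⟨k₀, ⟨x, hx, hxk, e⟩, ha⟩
    have := mul_mem (point C hp hx.1 hxk (mul_inv_eq_iff_eq_mul.mp e)) ha
    rwa [mul_inv_cancel_left] at this
  · intro hk
    obtain ⟨k₀, hk₀⟩ := exists_tr C hp hp
    obtain ⟨x, hx, hxk, e⟩ := id hk₀
    exact ⟨k₀, hk₀, mul_mem (inv_mem (point C hp hx.1 hxk (mul_inv_eq_iff_eq_mul.mp e))) hk⟩

theorem R_mul_left {p q k b : G} (hk : R D p q k) (hb : b ∈ PerpGroup D q) : R D p q (b * k) := by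
  have e := R_conj C hk
  have h1 := group_conj C.set.cls k⁻¹ hb
  rw [show k⁻¹ * q * k⁻¹⁻¹ = p by rw [← e]; simp [mul_assoc]] at h1
  have := R_mul hk h1
  simpa [mul_assoc] using this

theorem R_inv {p q k : G} (hk : R D p q k) : R D q p k⁻¹ := by
  have e := R_conj C hk
  obtain ⟨k₀, ⟨x, hx, hxk, e₀⟩, ha⟩ := hk
  refine ⟨k₀⁻¹, ⟨x, ⟨hx.2, hx.1⟩, inv_mem hxk, by rw [← e₀]; simp [mul_assoc]⟩, ?_⟩
  have h3 := inv_mem (group_conj C.set.cls k₀ ha)
  rw [e₀] at h3
  simpa [mul_assoc] using h3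

theorem R_conj_all (g : G) {p q k : G} (hk : R D p q k) :
    R D (g * p * g⁻¹) (g * q * g⁻¹) (g * k * g⁻¹) := by
  have h := C.set.cls
  obtain ⟨k₀, ⟨x, hx, hxk, e₀⟩, ha⟩ := hk
  refine ⟨g * k₀ * g⁻¹, ⟨g * x * g⁻¹, ⟨(conj_mem_perp h g p).mpr hx.1, (conj_mem_perp h g q).mpr hx.2⟩,
    group_conj h g hxk, by rw [← e₀]; simp [mul_assoc]⟩, ?_⟩
  have := group_conj h g ha
  simpa [mul_assoc] using this

/-- Transporters compose. -/
def Coc (D : Set G) (p q r : G) : Prop := ∀ k l, R D p q k → R D q r l → R D p r (l * k)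

theorem coc_rev {p q r : G} (h : Coc D p q r) : Coc D r q p := fun k l hk hl => by
  have := R_inv C (h _ _ (R_inv C hl) (R_inv C hk))
  simpa using this

theorem coc_swap {p q r : G} (hp : p ∈ D) (hq : q ∈ D) (hr : r ∈ D) (h : Coc D p q r) :
    Coc D q p r := fun k l hk hl => by
  obtain ⟨m, hm⟩ := exists_tr C hq hr
  have hm' := R_of_tr hm
  have ha := R_unique C hp hr (h _ _ (R_inv C hk) hm') hl
  have hb := group_conj C.set.cls k⁻¹ ha
  rw [R_conj C (R_inv C hk)] at hb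
  have := R_mul hm' hb
  simpa [mul_assoc] using this

theorem coc_split {p q r x : G} (hq : q ∈ D) (hr : r ∈ D) (hx : x ∈ D) (h1 : Coc D q x r)
    (h2 : Coc D p q x) (h3 : Coc D p x r) : Coc D p q r := fun k l hk hl => by
  obtain ⟨a, ha⟩ := exists_tr C hq hx
  obtain ⟨b, hb⟩ := exists_tr C hx hr
  have hc := R_unique C hq hr (h1 _ _ (R_of_tr ha) (R_of_tr hb)) hl
  have := h3 _ _ (h2 _ _ (R_mul_left C hk hc) (R_of_tr ha)) (R_of_tr hb)
  simpa [mul_assoc] using this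

theorem coc_common {p q r x : G} (hp : p ∈ D) (hq : q ∈ D) (hr : r ∈ D) (hx : x ∈ perp D p)
    (hx' : x ∈ perp D q) (hx'' : x ∈ perp D r) : Coc D p q r := fun k l hk hl => by
  obtain ⟨a, ha, ea⟩ := lift_conj C hx.1 (perp_symm hp hx) (perp_symm hq hx')
  obtain ⟨b, hb, eb⟩ := lift_conj C hx.1 (perp_symm hq hx') (perp_symm hr hx'')
  have hc := R_unique C hp hq (R_of_tr ⟨x, ⟨hx, hx'⟩, ha, ea⟩) hk
  have he := R_unique C hq hr (R_of_tr ⟨x, ⟨hx', hx''⟩, hb, eb⟩) hl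
  have hba : R D p r (b * a) := R_of_tr ⟨x, ⟨hx, hx''⟩, mul_mem hb ha, by
    rw [← eb, ← ea]; simp [mul_assoc]⟩
  have he' := group_conj C.set.cls a⁻¹ he
  rw [show a⁻¹ * q * a⁻¹⁻¹ = p by rw [← ea]; simp [mul_assoc]] at he'
  have := R_mul hba (mul_mem he' hc)
  simpa [mul_assoc] using this

theorem coc_refl {p q : G} (hp : p ∈ D) : Coc D p q p := fun k l hk hl => by
  have h1 := R_conj C hk
  rw [R_self C hp]
  obtain ⟨l₀, hl₀, ha⟩ := hl
  obtain ⟨x, hx, hxl, el'⟩ := id hl₀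
  have hq : q ∈ D := by
    rw [← h1]
    exact conj_mem C.set.cls k hp
  have hc := R_unique C hp hq (R_inv C (R_of_tr hl₀)) hk
  rw [inv_inv] at hc
  have hd := group_conj C.set.cls k⁻¹ ha
  rw [show k⁻¹ * q * k⁻¹⁻¹ = p by rw [← h1]; simp [mul_assoc]] at hd
  have := mul_mem hc hd
  simpa [mul_assoc] using this

/-- Paths of length two. -/
theorem coc_path {p x r : G} (hp : p ∈ D) (hr : r ∈ D) (hx : x ∈ common D p r) : Coc D p x r := by
  by_cases e : p = r
  · subst e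
    exact coc_refl C hp
  by_cases hc : Commute p r
  · have hrc : r ∈ common D p x := ⟨⟨hr, Ne.symm e, hc⟩, perp_symm hr hx.2⟩
    obtain ⟨l, hn, hlen, hl, hlc, -⟩ := hexad C.set C.cen C.hex hp hx.1 hrc
    have hrl : r ∈ l := (hl r).mpr ⟨hrc, fun _ _ => Iff.rfl⟩
    obtain ⟨y, hy, hne⟩ : ∃ y ∈ l, y ≠ r := by
      by_contra hno
      push Not at hno
      have := List.eq_replicate_iff.mpr ⟨hlen, hno⟩
      rw [this] at hn
      simp [List.replicate] at hn
    have hy' := ((hl y).mp hy).1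
    exact coc_common C hp hx.1.1 hr hy'.1 hy'.2 ⟨hy'.1.1, hne, (hlc r hrl y hy)⟩
  · obtain ⟨F, _, _, h4, Φ, hsurj, hmem, hlift, hinj, hcom, hker⟩ := C.mdl p hp
    obtain ⟨c, hc'⟩ := perp_nonempty (U6.roots_hyp h4) (hmem x hx.1)
    obtain ⟨w, hw, hxw⟩ : ∃ w, ∃ hw : w ∈ perp D p, ¬ Commute x w := by
      obtain ⟨c, hc1, hc2⟩ := apart_nonempty (U6.roots_hyp h4) (hmem x hx.1)
      obtain ⟨w, hw, rfl⟩ := hlift c hc1
      exact ⟨w, hw, fun k => hc2 ((hcom w hw x hx.1).mpr k.symm)⟩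
    obtain ⟨y, hy, hne, hyx, -⟩ := z_lemma C hp hr hc hx hw hxw
    exact coc_common C hp hx.1.1 hr hy.1 ⟨hy.1.1, hne, hyx.symm⟩ hy.2

/-- Triples with a commuting pair. -/
theorem coc_edge {p q r : G} (hp : p ∈ D) (hq : q ∈ D) (hr : r ∈ D) (hpq : Commute p q) :
    Coc D p q r := by
  by_cases e : p = q
  · subst e
    intro k l hk hl
    exact R_mul hl ((R_self C hp).mp hk)
  by_cases e' : q = r
  · subst e'
    intro k l hk hl
    exact R_mul_left C hk ((R_self C hq).mp hl)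
  by_cases e'' : p = r
  · subst e''
    exact coc_refl C hp
  have hqp : q ∈ perp D p := ⟨hq, Ne.symm e, hpq⟩
  by_cases hqr : Commute q r
  · exact coc_path C hp hr ⟨hqp, hq, e', hqr.symm⟩
  by_cases hpr : Commute p r
  · refine coc_swap C hq hp hr ?_
    exact coc_path C hq hr ⟨perp_symm hp hqp, hp, e'', hpr.symm⟩
  obtain ⟨x, hx⟩ := C.meets q hq r hr hqr
  obtain ⟨z, hz, hzp⟩ : ∃ z ∈ common D q r, Commute z p := by
    by_cases hxp : Commute x p
    · exact ⟨x, hx, hxp⟩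
    obtain ⟨z, hz, -, -, c⟩ := z_lemma C hq hr hqr hx (perp_symm hp hqp) hxp
    exact ⟨z, hz, c⟩
  have hpz : p ≠ z := fun k => hpr (k ▸ hz.2.2.2.symm)
  have hzp' : z ∈ perp D p := ⟨hz.1.1, Ne.symm hpz, hzp.symm⟩
  refine coc_split C hq hr hz.1.1 (coc_path C hq hr hz) (coc_path C hp hz.1.1 ⟨hqp, ?_⟩)
    (coc_path C hp hr ⟨hzp', hz.2⟩)
  exact ⟨hq, Ne.symm hz.1.2.1, hz.1.2.2.symm⟩

theorem coc {p q r : G} (hp : p ∈ D) (hq : q ∈ D) (hr : r ∈ D) : Coc D p q r := by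
  by_cases hpq : Commute p q
  · exact coc_edge C hp hq hr hpq
  by_cases hqr : Commute q r
  · exact coc_rev C (coc_edge C hr hq hp hqr.symm)
  by_cases e : p = r
  · subst e
    exact coc_refl C hp
  obtain ⟨x, hx⟩ := C.meets q hq r hr hqr
  exact coc_split C hq hr hx.1.1 (coc_path C hq hr hx)
    (coc_rev C (coc_edge C hx.1.1 hq hp hx.1.2.2.symm))
    (coc_rev C (coc_edge C hr hx.1.1 hp hx.2.2.2))

/-- The centraliser of a member is the group generated by its perpendicular. -/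
theorem centralizer_eq {d : G} (hd : d ∈ D) : Subgroup.centralizer ({d} : Set G) = PerpGroup D d := by
  have h := C.set.cls
  refine le_antisymm (fun g hg => ?_) fun g hg =>
    Subgroup.mem_centralizer_singleton_iff.mpr (commute_self hg).eq
  have hall : ∀ g : G, R D d (g * d * g⁻¹) g := by
    intro g
    have hgD : g ∈ Subgroup.closure D := h.2.2 ▸ Subgroup.mem_top g
    induction hgD using Subgroup.closure_induction_left with
    | one =>
      simp only [one_mul, inv_one, mul_one]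
      exact (R_self C hd).mpr (one_mem _)
    | mul_left t ht y _ ih =>
      have htd : R D d (t * d * t⁻¹) t := by
        by_cases hc : Commute t d
        · rw [conj_self_eq hc]
          exact (R_self C hd).mpr (mem_perpGroup C hd ht hc.symm)
        · obtain ⟨x, hx1, hx2⟩ := C.meets t ht d hd hc
          have hxt : Commute t x := hx1.2.2
          refine R_of_tr ⟨x, ⟨hx2, ?_⟩, mem_perpGroup C hx1.1 ht hxt.symm, rfl⟩
          have := (conj_mem_perp h t d).mpr hx2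
          rwa [conj_self_eq hxt] at this
      have h1 := coc C hd (conj_mem h t hd) (conj_mem h t (conj_mem h y hd)) _ _ htd (R_conj_all C t ih)
      convert h1 using 1 <;> simp [mul_assoc]
    | inv_mul_cancel t ht y hy ih =>
      rw [inv_eq h.1 ht]
      have htd : R D d (t * d * t⁻¹) t := by
        by_cases hc : Commute t d
        · rw [conj_self_eq hc]
          exact (R_self C hd).mpr (mem_perpGroup C hd ht hc.symm)
        · obtain ⟨x, hx1, hx2⟩ := C.meets t ht d hd hc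
          have hxt : Commute t x := hx1.2.2
          refine R_of_tr ⟨x, ⟨hx2, ?_⟩, mem_perpGroup C hx1.1 ht hxt.symm, rfl⟩
          have := (conj_mem_perp h t d).mpr hx2
          rwa [conj_self_eq hxt] at this
      have h1 := coc C hd (conj_mem h t hd) (conj_mem h t (conj_mem h y hd)) _ _ htd (R_conj_all C t ih)
      convert h1 using 1 <;> simp [mul_assoc]
  have := hall g
  rw [conj_self_eq (Subgroup.mem_centralizer_singleton_iff.mp hg)] at this
  exact (R_self C hd).mp this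

end Cfsg.Agent.Block.FischerTypes.M22
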