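import Cfsg.Agent.Lib.Block.FischerTypes.M22Mu

/-! Transitivity inside the common perpendicular of an apart pair; the number of transpositions. -/

set_option autoImplicit false
set_option linter.style.haveILetI false

namespace Cfsg.Agent.Block.FischerTypes

open Cfsg Cfsg.Agent.Spor.ThreeTrans

variable {G : Type*} [Group G] [Finite G] {D : Set G}

/-- The group on the common perpendicular, modulo its centre. -/
abbrev CommonQuot (D : Set G) (a c : G) : Type _ :=
  ↥(Subgroup.closure (common D a c)) ⧸ Subgroup.center ↥(Subgroup.closure (common D a c))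

/-- The image of a member. -/
abbrev cq (D : Set G) (a c u : G) (hu : u ∈ common D a c) : CommonQuot D a c :=
  QuotientGroup.mk ⟨u, Subgroup.subset_closure hu⟩

/-- The image of the common perpendicular. -/
def cqSet (D : Set G) (a c : G) : Set (CommonQuot D a c) := {q | ∃ u, ∃ hu : u ∈ common D a c, cq D a c u hu = q}

omit [Finite G] in
theorem center_commute {a c : G} {z : ↥(Subgroup.closure (common D a c))}
    (hz : z ∈ Subgroup.center _) {u : G} (hu : u ∈ common D a c) : Commute (z : G) u :=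
  (congrArg Subtype.val (Subgroup.mem_center_iff.1 hz ⟨u, Subgroup.subset_closure hu⟩)).symm

omit [Finite G] in
theorem commute_gen {T : Set G} {u : G} (hu : ∀ x ∈ T, Commute x u) {g : G}
    (hg : g ∈ Subgroup.closure T) : Commute g u := by
  induction hg using Subgroup.closure_induction with
  | mem x hx => exact hu x hx
  | one => exact Commute.one_left u
  | mul x y _ _ ihx ihy => exact ihx.mul_left ihy
  | inv x _ ih => exact ih.inv_left

variable (S : Setting D) (hN : Numbered D) {a c : G} (ha : a ∈ D) (hc : c ∈ D) (hac : ¬ Commute a c)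

omit [Finite G] in
theorem closure_common_commute {g : G} (hg : g ∈ Subgroup.closure (common D a c)) :
    Commute g a ∧ Commute g c :=
  ⟨commute_gen (fun u hu => hu.1.2.2.symm) hg, commute_gen (fun u hu => hu.2.2.2.symm) hg⟩

include S hN ha hc hac in
theorem apart_exists {s y : G} (hs : s ∈ common D a c) (hy : y ∈ common D a c) (hne : y ≠ s) (hsy : Commute s y) :
    ∃ x ∈ common D a c, ¬ Commute s x ∧ ¬ Commute y x := by
  by_contra hcon
  push Not at hcon
  have hsub : common D a c ⊆ {u | u ∈ common D a c ∧ Commute s u} ∪ {u | u ∈ common D a c ∧ Commute y u} :=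
    fun u hu => (em (Commute s u)).imp (fun k => ⟨hu, k⟩) fun k => ⟨hu, hcon u hu k⟩
  have h1 := (Set.ncard_le_ncard hsub).trans (Set.ncard_union_le _ _)
  rw [nbr_common S hN ha hc hac hs, nbr_common S hN ha hc hac hy] at h1
  have h2 := linked_card S hN ha hc hac hs
  have h3 : {u | u ∈ common D a c ∧ Linked D a c s u}.ncard ≤ (common D a c).ncard :=
    Set.ncard_le_ncard fun u k => k.1
  omega

include S hN ha hc hac in
theorem common_conj_trans {s x : G} (hs : s ∈ common D a c) (hx : x ∈ common D a c) :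
    ∃ g ∈ Subgroup.closure (common D a c), g * s * g⁻¹ = x := by
  have h := S.cls
  have key : ∀ {s x}, s ∈ common D a c → x ∈ common D a c → ¬ Commute s x →
      ∃ g ∈ Subgroup.closure (common D a c), g * s * g⁻¹ = x := fun {s x} hs hx hsx =>
    ⟨s * x, mul_mem (Subgroup.subset_closure hs) (Subgroup.subset_closure hx), by
      rw [mul_inv_rev, inv_eq h.1 hs.1.1, inv_eq h.1 hx.1.1,
        show s * x * s * (x * s) = (s * x * s) * (x * s) from rfl, braid h.1 hs.1.1 hx.1.1 hsx]
      simp [mul_assoc, mul_self_mul h.1 hs.1.1, mul_self_mul h.1 hx.1.1, mul_self h.1 hs.1.1,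
        mul_self h.1 hx.1.1]⟩
  by_cases hsx : Commute s x
  · by_cases e : x = s
    · exact ⟨1, one_mem _, by simp [e]⟩
    obtain ⟨y, hy, h1, h2⟩ := apart_exists S hN ha hc hac hs hx e hsx
    obtain ⟨g, hg, rfl⟩ := key hs hy h1
    obtain ⟨k, hk, rfl⟩ := key hy hx fun e => h2 e.symm
    exact ⟨k * g, mul_mem hk hg, by simp [mul_assoc]⟩
  · exact key hs hx hsx

include S hN ha hc hac in
theorem cq_injective {s x : G} (hs : s ∈ common D a c) (hx : x ∈ common D a c)
    (e : cq D a c s hs = cq D a c x hx) : s = x := by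
  have hz := QuotientGroup.eq.1 e
  have hcm : ∀ u ∈ common D a c, Commute (s * x) u := fun u hu => by
    have := center_commute hz hu
    simpa [inv_eq S.cls.1 hs.1.1] using this
  have hsx : Commute s x := by
    have := hcm s hs
    have e2 := this.eq
    rw [mul_assoc] at e2
    exact (mul_left_cancel e2).symm
  by_contra hne
  have hsub : {u | u ∈ common D a c ∧ Commute s u} ⊆ {u | u ∈ common D a c ∧ Commute s u ∧ Commute x u} :=
    fun u hu => ⟨hu.1, hu.2, by
      have := hu.2.mul_left (hcm u hu.1)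
      rwa [mul_self_mul S.cls.1 hs.1.1] at this⟩
  have h1 := Set.ncard_le_ncard hsub
  rw [nbr_common S hN ha hc hac hs, nbr_both S hN ha hc hac hs hx (Ne.symm hne) hsx] at h1
  omega

include S hN ha hc hac in
theorem commute_of_cq {s x : G} (hs : s ∈ common D a c) (hx : x ∈ common D a c)
    (e : Commute (cq D a c s hs) (cq D a c x hx)) : Commute s x := by
  have hg : s * x * s⁻¹ ∈ common D a c :=
    conj_common S ha hc hac hs.1.2.2.symm hs.2.2.2.symm hx
  have e2 : cq D a c (s * x * s⁻¹) hg = cq D a c x hx := by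
    show cq D a c s hs * cq D a c x hx * (cq D a c s hs)⁻¹ = cq D a c x hx
    rw [e.eq, mul_inv_cancel_right]
  exact mul_inv_eq_iff_eq_mul.1 (cq_injective S hN ha hc hac hg hx e2)

omit [Finite G] in
theorem cq_commute {s x : G} (hs : s ∈ common D a c) (hx : x ∈ common D a c) (e : Commute s x) :
    Commute (cq D a c s hs) (cq D a c x hx) :=
  Commute.map (Subtype.ext e.eq : Commute (⟨s, Subgroup.subset_closure hs⟩ : ↥(Subgroup.closure (common D a c)))
    ⟨x, Subgroup.subset_closure hx⟩) (QuotientGroup.mk' _)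

include S hN ha hc hac in
theorem apart_in_common {s : G} (hs : s ∈ common D a c) : ∃ x ∈ common D a c, ¬ Commute s x := by
  have h := far_count S hN ha hc hac hs
  obtain ⟨x, hx, h1, -⟩ := Set.nonempty_of_ncard_ne_zero (s := {x | x ∈ common D a c ∧ ¬ Commute s x ∧
    (tauSet D a c s x).Nonempty}) (by omega)
  exact ⟨x, hx, h1⟩

include S hN ha hc hac in
theorem cqSet_set : IsThreeTranspositionSet (cqSet D a c) := by
  constructor
  · rintro _ ⟨u, hu, rfl⟩
    refine orderOf_eq_prime ?_ ?_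
    · rw [← QuotientGroup.mk_pow, show (⟨u, Subgroup.subset_closure hu⟩ : ↥(Subgroup.closure (common D a c))) ^ 2 = 1
        from Subtype.ext (by rw [pow_two]; exact mul_self S.cls.1 hu.1.1), QuotientGroup.mk_one]
    · intro e
      obtain ⟨x, hx, hux⟩ := apart_in_common S hN ha hc hac hu
      exact hux (center_commute ((QuotientGroup.eq_one_iff _).1 e) hx)
  · rintro _ ⟨u, hu, rfl⟩ _ ⟨v, hv, rfl⟩
    rw [← QuotientGroup.mk_mul, ← QuotientGroup.mk_pow, ← QuotientGroup.mk_pow]
    rcases S.cls.1.2 u hu.1.1 v hv.1.1 with e | e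
    · left
      rw [show (⟨u, Subgroup.subset_closure hu⟩ * ⟨v, Subgroup.subset_closure hv⟩ :
        ↥(Subgroup.closure (common D a c))) ^ 2 = 1 from Subtype.ext e, QuotientGroup.mk_one]
    · right
      rw [show (⟨u, Subgroup.subset_closure hu⟩ * ⟨v, Subgroup.subset_closure hv⟩ :
        ↥(Subgroup.closure (common D a c))) ^ 3 = 1 from Subtype.ext e, QuotientGroup.mk_one]

include S ha hc hac in
theorem cqSet_conj (q : CommonQuot D a c) {p : CommonQuot D a c} (hp : p ∈ cqSet D a c) :
    q * p * q⁻¹ ∈ cqSet D a c := by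
  obtain ⟨u, hu, rfl⟩ := hp
  induction q using QuotientGroup.induction_on with
  | H g =>
    obtain ⟨h1, h2⟩ := closure_common_commute g.2
    exact ⟨(g : G) * u * (g : G)⁻¹, conj_common S ha hc hac h1 h2 hu, rfl⟩

include S hN ha hc hac in
theorem cqSet_class (hne : (common D a c).Nonempty) : IsThreeTranspositionClass (cqSet D a c) := by
  obtain ⟨y, hy⟩ := hne
  refine ⟨cqSet_set S hN ha hc hac, ⟨cq D a c y hy, ⟨y, hy, rfl⟩, Set.ext fun p => ⟨?_, ?_⟩⟩, ?_⟩
  · rintro ⟨u, hu, rfl⟩
    obtain ⟨g, hg, rfl⟩ := common_conj_trans S hN ha hc hac hy hu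
    exact isConj_iff.2 ⟨QuotientGroup.mk ⟨g, hg⟩, rfl⟩
  · intro hp
    obtain ⟨q, rfl⟩ := isConj_iff.1 hp
    exact cqSet_conj S ha hc hac q ⟨y, hy, rfl⟩
  · rw [eq_top_iff]
    intro q _
    induction q using QuotientGroup.induction_on with
    | H g =>
      suffices ∀ u (hu : u ∈ Subgroup.closure (common D a c)),
          (QuotientGroup.mk (⟨u, hu⟩ : ↥(Subgroup.closure (common D a c))) : CommonQuot D a c) ∈
            Subgroup.closure (cqSet D a c) from this g g.2
      intro u hu
      induction hu using Subgroup.closure_induction with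
      | mem u hu => exact Subgroup.subset_closure ⟨u, hu, rfl⟩
      | one => exact one_mem _
      | mul u v hu hv ihu ihv => exact mul_mem ihu ihv
      | inv u hu ih => exact inv_mem ih

include S hN ha hc hac in
theorem cqSet_hyp (hne : (common D a c).Nonempty) : Hyp (cqSet D a c) := by
  have hE := cqSet_class S hN ha hc hac hne
  have hcen : Subgroup.center (CommonQuot D a c) = ⊥ := by
    refine eq_bot_iff.2 fun q hq => ?_
    induction q using QuotientGroup.induction_on with
    | H g =>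
      rw [Subgroup.mem_bot]
      refine (QuotientGroup.eq_one_iff _).2 (Subgroup.mem_center_iff.2 fun k => Subtype.ext ?_)
      obtain ⟨h1, h2⟩ := closure_common_commute g.2
      have : ∀ u ∈ common D a c, Commute u (g : G) := fun u hu => by
        have hg := conj_common S ha hc hac h1 h2 hu
        have e : cq D a c ((g : G) * u * (g : G)⁻¹) hg = cq D a c u hu := by
          show (QuotientGroup.mk g : CommonQuot D a c) * cq D a c u hu * (QuotientGroup.mk g)⁻¹ = _
          rw [← Subgroup.mem_center_iff.1 hq (cq D a c u hu), mul_inv_cancel_right]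
        exact (mul_inv_eq_iff_eq_mul.1 (cq_injective S hN ha hc hac hg hu e)).symm
      exact (commute_gen this k.2).eq
  obtain ⟨y, hy⟩ := hne
  obtain ⟨x, hx, hyx⟩ := apart_in_common S hN ha hc hac hy
  haveI : Fact (Nat.Prime 2) := ⟨Nat.prime_two⟩
  haveI : Fact (Nat.Prime 3) := ⟨Nat.prime_three⟩
  haveI := Transfer.pCore_normal' 2 (CommonQuot D a c)
  haveI := Transfer.pCore_normal' 3 (CommonQuot D a c)
  refine hyp_of hE hcen (eq_bot_of_separated hE hcen _ ?_) (eq_bot_of_separated hE hcen _ ?_)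
    ⟨_, ⟨y, hy, rfl⟩, _, ⟨x, hx, rfl⟩, fun k => hyx (commute_of_cq S hN ha hc hac hy hx k)⟩ ?_
  · rintro _ ⟨u, hu, rfl⟩ _ ⟨v, hv, rfl⟩ hm
    have h2 := perpTwo_of_core hE ⟨u, hu, rfl⟩ ⟨v, hv, rfl⟩ hm
    by_contra hne
    have huv : u ≠ v := fun e => hne (by subst e; rfl)
    have hc' : Commute u v := commute_of_cq S hN ha hc hac hu hv (perpTwo_commute h2)
    have hsub : {w | w ∈ common D a c ∧ Commute u w} ⊆ {w | w ∈ common D a c ∧ Commute u w ∧ Commute v w} :=
      fun w hw => ⟨hw.1, hw.2, commute_of_cq S hN ha hc hac hv hw.1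
        ((h2.2.2 _ ⟨w, hw.1, rfl⟩).1 (cq_commute hu hw.1 hw.2))⟩
    have h1 := Set.ncard_le_ncard hsub
    rw [nbr_common S hN ha hc hac hu, nbr_both S hN ha hc hac hu hv (Ne.symm huv) hc'] at h1
    omega
  · rintro _ ⟨u, hu, rfl⟩ _ ⟨v, hv, rfl⟩ hm
    have h2 := perpThree_of_core hE ⟨u, hu, rfl⟩ ⟨v, hv, rfl⟩ hm
    by_contra hne
    have hc' : ¬ Commute u v := fun k => perpThree_not_commute h2 hne (cq_commute hu hv k)
    have hsub : {w | w ∈ common D a c ∧ Commute u w} \ {u} ⊆ tauSet D a c u v := fun w hw => by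
      refine ⟨hw.1.1, hw.1.2, ?_⟩
      have : cq D a c w hw.1.1 ∈ {y | y ∈ cqSet D a c ∧ y ≠ cq D a c u hu ∧ Commute (cq D a c u hu) y} :=
        ⟨⟨w, _, rfl⟩, fun e => hw.2 (cq_injective S hN ha hc hac hw.1.1 hu e), cq_commute hu hw.1.1 hw.1.2⟩
      rw [h2.2.2] at this
      exact commute_of_cq S hN ha hc hac hv hw.1.1 this.2.2
    have h1 := (Set.pred_ncard_le_ncard_diff_singleton _ u).trans (Set.ncard_le_ncard hsub)
    rw [nbr_common S hN ha hc hac hu] at h1
    have := tau_le S hN ha hc hac hu hv hc'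
    omega
  · rintro _ ⟨u, hu, rfl⟩ _ ⟨v, hv, rfl⟩
    have hl := linked_all S hN ha hc hac hu hv
    induction hl with
    | refl => rw [mul_self hE.1 ⟨u, hu, rfl⟩]; exact one_mem _
    | tail _ hs ih =>
      exact mul_trans_mem hE ⟨_, hs.1, rfl⟩ (ih hs.1)
        (mul_mem_second hE ⟨_, hs.1, rfl⟩ ⟨_, hs.2.1, rfl⟩ (cq_commute hs.1 hs.2.1 hs.2.2))

include S hN ha hc hac in
theorem tau_const {s x x' : G} (hs : s ∈ common D a c) (hx : x ∈ common D a c) (hx' : x' ∈ common D a c)
    (hsx : ¬ Commute s x) (hsx' : ¬ Commute s x') :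
    (tauSet D a c s x).ncard = (tauSet D a c s x').ncard := by
  obtain ⟨q, hq, e⟩ := transitive_apart (cqSet_hyp S hN ha hc hac ⟨s, hs⟩) (x := cq D a c s hs) ⟨s, hs, rfl⟩
    (a₀ := cq D a c x hx) ⟨⟨x, hx, rfl⟩, fun k => hsx (commute_of_cq S hN ha hc hac hx hs k).symm⟩
    (b₀ := cq D a c x' hx') ⟨⟨x', hx', rfl⟩, fun k => hsx' (commute_of_cq S hN ha hc hac hx' hs k).symm⟩
  have hqs := localGroup_commute hq
  obtain ⟨⟨g, hg⟩, rfl⟩ := QuotientGroup.mk_surjective q
  obtain ⟨h1, h2⟩ := closure_common_commute hg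
  have es : g * s * g⁻¹ = s := cq_injective S hN ha hc hac (conj_common S ha hc hac h1 h2 hs) hs
    (show QuotientGroup.mk ⟨g, hg⟩ * cq D a c s hs * (QuotientGroup.mk ⟨g, hg⟩)⁻¹ = cq D a c s hs from
      conj_self_eq hqs)
  have ex : g * x * g⁻¹ = x' := cq_injective S hN ha hc hac (conj_common S ha hc hac h1 h2 hx) hx' e
  have key : tauSet D a c (g * s * g⁻¹) (g * x * g⁻¹) = (fun u => g * u * g⁻¹) '' tauSet D a c s x := by
    ext u
    constructor
    · rintro ⟨hu, k1, k2⟩
      refine ⟨g⁻¹ * u * g, ⟨?_, ?_, ?_⟩, by simp [mul_assoc]⟩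
      · have := conj_common S ha hc hac h1.inv_left h2.inv_left hu
        rwa [inv_inv] at this
      · rw [← commute_conj_iff g]; simpa [mul_assoc] using k1
      · rw [← commute_conj_iff g]; simpa [mul_assoc] using k2
    · rintro ⟨w, ⟨hw, k1, k2⟩, rfl⟩
      exact ⟨conj_common S ha hc hac h1 h2 hw, (commute_conj_iff g _ _).2 k1, (commute_conj_iff g _ _).2 k2⟩
  rw [es, ex] at key
  rw [key, Set.ncard_image_of_injective _ fun u v k => mul_left_cancel (mul_right_cancel k)]

include S hN in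
/-- Each pair of apart members has 126 members commuting with both, and there are 2816 apart from each. -/
theorem card_apart_common (hne : ∀ a ∈ D, ∀ c ∈ D, ¬ Commute a c → (common D a c).Nonempty) :
    (∀ a ∈ D, ∀ c ∈ D, ¬ Commute a c → (common D a c).ncard = 126) ∧
      ∀ a ∈ D, (apart D a).ncard = 2816 := by
  suffices key : ∀ a ∈ D, ∀ c ∈ D, ¬ Commute a c → (common D a c).ncard = 126 ∧ (apart D a).ncard = 2816 from
    ⟨fun a ha c hc hac => (key a ha c hc hac).1, fun a ha => by
      obtain ⟨c, hc, hac⟩ := apart_nonempty S.hyp ha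
      exact (key a ha c hc fun k => hac k.symm).2⟩
  intro a ha c hc hac
  have h := S.cls
  have hconst : ∀ c' ∈ apart D a, (common D a c').ncard = (common D a c).ncard := by
    intro c' hc'
    obtain ⟨g, hga, hgc⟩ := apart_pair_conj S ha hc hac ha hc'.1 fun k => hc'.2 k.symm
    rw [show common D a c' = (fun u => g * u * g⁻¹) '' common D a c from ?_,
      Set.ncard_image_of_injective _ fun u v k => mul_left_cancel (mul_right_cancel k)]
    show perp D a ∩ perp D c' = _
    conv_lhs => rw [← hga, ← hgc, perp_conj h, perp_conj h]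
    rw [Set.image_inter fun u v k => mul_left_cancel (mul_right_cancel k)]
  obtain ⟨M⟩ := hN a ha
  have hcount := double_count_rel (perp D a) (apart D a) fun b e => e ∈ perp D b
  have e1 : ∀ b ∈ (perp D a).toFinite.toFinset, {e | e ∈ apart D a ∧ e ∈ perp D b}.ncard = 512 := by
    intro b hb
    rw [Set.Finite.mem_toFinset] at hb
    obtain ⟨Mb⟩ := hN b hb.1
    have ha' : a ∈ perp D b := ⟨ha, Ne.symm hb.2.1, hb.2.2.symm⟩
    have h1 := split_ncard (perp D b) (Commute a)
    rw [Mb.card_commute S.cls ha', Mb.card_perp,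
      show {u | u ∈ perp D b ∧ ¬ Commute a u} = {e | e ∈ apart D a ∧ e ∈ perp D b} from
        Set.ext fun u => ⟨fun k => ⟨⟨k.1.1, fun e => k.2 e.symm⟩, k.1⟩, fun k => ⟨k.2, fun e => k.1.2 e.symm⟩⟩] at h1
    omega
  have e2 : ∀ e ∈ (apart D a).toFinite.toFinset,
      {b | b ∈ perp D a ∧ e ∈ perp D b}.ncard = (common D a c).ncard := by
    intro e he
    rw [Set.Finite.mem_toFinset] at he
    rw [← hconst e he]
    congr 1
    ext b
    exact ⟨fun k => ⟨k.1, k.1.1, Ne.symm k.2.2.1, k.2.2.2.symm⟩,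
      fun k => ⟨k.1, he.1, Ne.symm k.2.2.1, k.2.2.2.symm⟩⟩
  rw [Finset.sum_congr rfl e1, Finset.sum_congr rfl e2, Finset.sum_const, Finset.sum_const,
    ← Set.ncard_eq_toFinset_card, ← Set.ncard_eq_toFinset_card, smul_eq_mul, smul_eq_mul, M.card_perp] at hcount
  obtain ⟨s, hs⟩ := hne a ha c hc hac
  obtain ⟨x₀, hx₀, hsx₀⟩ := apart_in_common S hN ha hc hac hs
  have hsum := sum_tau S hN ha hc hac hs
  rw [Finset.sum_congr rfl fun x hx => by
    simp only [Set.Finite.mem_toFinset, Set.mem_setOf_eq] at hx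
    exact tau_const S hN ha hc hac hs hx.1 hx₀ hx.2 hsx₀,
    Finset.sum_const, ← Set.ncard_eq_toFinset_card, smul_eq_mul] at hsum
  have hle := tau_le S hN ha hc hac hs hx₀ hsx₀
  have hsplit := split_ncard (common D a c) (Commute s)
  rw [nbr_common S hN ha hc hac hs] at hsplit
  obtain ⟨τ, hτ⟩ : ∃ τ, τ = (tauSet D a c s x₀).ncard := ⟨_, rfl⟩
  obtain ⟨t, ht⟩ : ∃ t, t = {x | x ∈ common D a c ∧ ¬ Commute s x}.ncard := ⟨_, rfl⟩
  rw [← hτ] at hle
  rw [← hτ, ← ht] at hsum
  rw [← ht] at hsplit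
  rw [← hsplit] at hcount ⊢
  obtain ⟨A, hA⟩ : ∃ A, A = (apart D a).ncard := ⟨_, rfl⟩
  rw [← hA] at hcount ⊢
  have hτ0 : τ ≠ 0 := by rintro rfl; simp at hsum
  interval_cases τ <;> first
    | exact absurd rfl hτ0
    | omega
    | (obtain rfl : t = _ := (Nat.eq_div_of_mul_eq_left (by norm_num) hsum); norm_num at hcount ⊢; omega)

end Cfsg.Agent.Block.FischerTypes
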