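import Cfsg.Agent.Lib.Block.FischerTypes.M23Structure
import Mathlib.Combinatorics.Enumerative.DoubleCounting

/-! The number of transpositions in type M(23), from the numbers one level lower. -/

set_option autoImplicit false
set_option linter.style.haveILetI false
set_option linter.unusedSectionVars false

namespace Cfsg.Agent.Block.FischerTypes

open Cfsg.Agent.Spor.ThreeTrans

/-- The numbers of a group of type M(22). -/
structure M22.Counts {K : Type*} [Group K] (E : Set K) : Prop where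
  all : E.ncard = 3510
  perp693 : ∀ x ∈ E, (perp E x).ncard = 693
  common180 : ∀ x ∈ E, ∀ y ∈ perp E x, (common E x y).ncard = 180
  apart126 : ∀ x ∈ E, ∀ y ∈ E, ¬ Commute x y → (common E x y).ncard = 126

/-- Double counting of commuting pairs. -/
theorem double_count {X : Type*} [Group X] [Finite X] (A B : Set X) :
    ∑ a ∈ A.toFinite.toFinset, {b ∈ B | Commute a b}.ncard =
      ∑ b ∈ B.toFinite.toFinset, {a ∈ A | Commute a b}.ncard := by
  classical
  have := Finset.sum_card_bipartiteAbove_eq_sum_card_bipartiteBelow (s := A.toFinite.toFinset)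
    (t := B.toFinite.toFinset) (r := fun a b : X => Commute a b)
  convert this using 2 with a ha b hb
  · rw [← Set.ncard_coe_finset]
    congr 1
    ext b
    simp [Finset.bipartiteAbove]
  · rw [← Set.ncard_coe_finset]
    congr 1
    ext a
    simp [Finset.bipartiteBelow]

/-- Lines of twins cover the common perpendicular four to one. -/
theorem M22.forty_five {G : Type*} [Group G] [Finite G] {D : Set G} (C : M22.Ctx D) {v d f : G}
    (hv : v ∈ D) (hd : d ∈ perp D v) (hf : f ∈ perp D v) (hdf : ¬ Commute d f)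
    (h180 : (common D d v).ncard = 180) : (common D d v ∩ perp D f).ncard = 45 := by
  classical
  set A := common D d v with hA
  have hd' : d ∈ D := hd.1
  have hvd : v ∈ perp D d := M22.perp_symm hv hd
  let Twin : G → G → Prop := fun c e => ∀ y ∈ A, Commute y c ↔ Commute y e
  have hex : ∀ c ∈ A, ∃ e ∈ A ∩ perp D f, Twin c e := fun c hc => by
    obtain ⟨e, he, hed, hef, htw⟩ := M22.line_meet C hv hd hf hdf hc.2 hc.1.2.2.symm hc.1.2.1
    exact ⟨e, ⟨⟨⟨he.1, fun k => hdf (k ▸ hef), hed.symm⟩, he⟩,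
      ⟨he.1, fun k => hdf (k ▸ hed).symm, hef.symm⟩⟩, fun y hy => htw y hy.2 hy.1.2.2.symm⟩
  choose φ hφ hφt using hex
  let φ' : G → G := fun c => if hc : c ∈ A then φ c hc else 1
  have hφ' : ∀ c ∈ A, φ' c ∈ A ∩ perp D f ∧ Twin c (φ' c) := fun c hc => by
    simp only [φ', dif_pos hc]
    exact ⟨hφ c hc, hφt c hc⟩
  have huniq : ∀ c ∈ A, ∀ e ∈ A ∩ perp D f, Twin c e → φ' c = e := fun c hc e he htw => by
    obtain ⟨h1, h2⟩ := hφ' c hc
    refine M22.line_unique C hv hd hf hdf h1.1.2 he.1.2 h1.1.1.2.2.symm h1.2.2.2.symm he.1.1.2.2.symm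
      he.2.2.2.symm fun y hy hyd hyc => ?_
    have hyA : y ∈ A := ⟨⟨hy.1, hyd, hyc.symm⟩, hy⟩
    exact (h2 y hyA).symm.trans (htw y hyA)
  have hfib : ∀ e ∈ A ∩ perp D f, {c ∈ A | φ' c = e}.ncard = 4 := by
    intro e he
    obtain ⟨l, hn, hlen, hl, -, -⟩ := C.hex d hd' v hvd e he.1
    have : {c ∈ A | φ' c = e} = (l.toFinset : Set G) := by
      ext c
      simp only [Set.mem_ofPred_eq, List.coe_toFinset]
      rw [hl c]
      refine ⟨fun ⟨hc, k⟩ => ⟨hc, fun y hy => ?_⟩,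
        fun ⟨hc, k⟩ => ⟨hc, huniq c hc e he fun y hy => (k y hy).symm⟩⟩
      exact k ▸ ((hφ' c hc).2 y hy).symm
    rw [this, Set.ncard_coe_finset, List.toFinset_card_of_nodup hn, hlen]
  have key := Finset.card_eq_sum_card_fiberwise (s := A.toFinite.toFinset)
    (t := (A ∩ perp D f).toFinite.toFinset) (f := φ') fun c hc => by
      simpa using (hφ' c (by simpa using hc)).1
  have h4 : ∀ e ∈ (A ∩ perp D f).toFinite.toFinset,
      (A.toFinite.toFinset.filter fun c => φ' c = e).card = 4 := fun e he => by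
    have := hfib e (by simpa using he)
    rw [← Set.ncard_coe_finset]
    rw [← this]
    congr 1
    ext c
    simp
  rw [Finset.sum_congr rfl h4, Finset.sum_const, smul_eq_mul,
    ← Set.ncard_eq_toFinset_card A A.toFinite,
    ← Set.ncard_eq_toFinset_card (A ∩ perp D f) (A ∩ perp D f).toFinite, h180] at key
  omega

namespace M23

open Cfsg.Agent.Block.FischerTypes.M22 (perp_symm commute_self el)

variable {G : Type*} [Group G] [Finite G] {D : Set G} (B : Base D)
include B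

/-- Counting inside a perpendicular through the quotient. -/
theorem card_pr {a : G} (ha : a ∈ D) {P : Set G} (hP : P ⊆ perp D a) {Q : Set (PerpQuot D a)}
    (hQ : Q ⊆ perpSet D a) (hiff : ∀ u (hu : u ∈ perp D a), pr D a u hu ∈ Q ↔ u ∈ P) :
    P.ncard = Q.ncard := by
  refine Set.ncard_congr (fun u hu => pr D a u (hP hu)) (fun u hu => (hiff u _).mpr hu)
    (fun u v hu hv e => pr_injective B.set.cls B.set.tf ha (hP hu) (hP hv) e) fun q hq => ?_
  obtain ⟨u, hu, rfl⟩ := exists_of_mem (hQ hq)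
  exact ⟨u, (hiff u hu).mp hq, rfl⟩

theorem card_perp {a : G} (ha : a ∈ D) (hK : M22.Counts (perpSet D a)) : (perp D a).ncard = 3510 :=
  (card_pr B ha le_rfl le_rfl fun u hu => iff_of_true (pr_mem hu) hu).trans hK.all

theorem card_common {a b : G} (ha : a ∈ D) (hb : b ∈ perp D a) (hK : M22.Counts (perpSet D a)) :
    (common D a b).ncard = 693 :=
  (card_pr B ha Set.inter_subset_left (fun q hq => hq.1) fun u hu =>
    (toK B ha hb hu).trans ⟨fun k => ⟨hu, k⟩, fun k => k.2⟩).trans (hK.perp693 _ (pr_mem hb))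

theorem card_common_three {a b c : G} (ha : a ∈ D) (hb : b ∈ perp D a) (hc : c ∈ perp D a) :
    (common D a b ∩ perp D c).ncard = (common (perpSet D a) (pr D a b hb) (pr D a c hc)).ncard :=
  card_pr B ha (fun u hu => hu.1.1) (fun q hq => hq.1.1) fun u hu =>
    (and_congr (toK B ha hb hu) (toK B ha hc hu)).trans
      ⟨fun k => ⟨⟨hu, k.1⟩, k.2⟩, fun k => ⟨k.1.2, k.2⟩⟩

/-- For apart `d`, `f`: the members of their common perpendicular next to one of them. -/
theorem card_T (hK : ∀ a ∈ D, M22.Counts (perpSet D a)) {d f x : G} (hd : d ∈ D) (hf : f ∈ D)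
    (hdf : ¬ Commute d f) (hx : x ∈ common D d f) : (common D d f ∩ perp D x).ncard = 126 := by
  have h := B.set.cls
  have hd' := perp_symm hd hx.1
  have hf' := perp_symm hf hx.2
  rw [show common D d f ∩ perp D x = common D x d ∩ perp D f by
      ext u; simp only [Set.mem_inter_iff]; tauto, card_common_three B hx.1.1 hd' hf']
  exact (hK x hx.1.1).apart126 _ (pr_mem hd') _ (pr_mem hf')
    fun k => hdf (commute_of_pr h B.set.tf hx.1.1 hd' hf' k)

theorem card_TT (hK : ∀ a ∈ D, M22.Counts (perpSet D a)) {d f x z : G} (hd : d ∈ D) (hf : f ∈ D)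
    (hdf : ¬ Commute d f) (hx : x ∈ common D d f) (hz : z ∈ common D d f) (hzx : z ∈ perp D x) :
    (common D d f ∩ perp D x ∩ perp D z).ncard = 45 := by
  have h := B.set.cls
  have hd' := perp_symm hd hx.1
  have hf' := perp_symm hf hx.2
  have dz := perp_symm hd hz.1
  have fz := perp_symm hf hz.2
  have hq := (toK B hx.1.1 hd' hzx).mpr hz.1
  have e : (common D d f ∩ perp D x ∩ perp D z).ncard =
      (common (perpSet D x) (pr D x d hd') (pr D x z hzx) ∩ perp (perpSet D x) (pr D x f hf')).ncard := by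
    refine card_pr B hx.1.1 (fun u hu => hu.1.2) (fun q hq => hq.1.1.1) fun u hu => ?_
    refine (and_congr (and_congr (toK B hx.1.1 hd' hu) (toK B hx.1.1 hzx hu)) (toK B hx.1.1 hf' hu)).trans ?_
    exact ⟨fun k => ⟨⟨⟨k.1.1, k.2⟩, hu⟩, k.1.2⟩, fun k => ⟨⟨k.1.1.1, k.2⟩, k.1.1.2⟩⟩
  rw [e]
  exact M22.forty_five (B.ctx x hx.1.1) (pr_mem hzx) ((toK B hx.1.1 hzx hd').mpr dz)
    ((toK B hx.1.1 hzx hf').mpr fz) (fun k => hdf (commute_of_pr h B.set.tf hx.1.1 hd' hf' k))
    ((hK x hx.1.1).common180 _ (pr_mem hd') _ hq)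

theorem card_Z (hK : ∀ a ∈ D, M22.Counts (perpSet D a)) {d f x z : G} (hd : d ∈ D) (hf : f ∈ D)
    (hdf : ¬ Commute d f) (hx : x ∈ common D d f) (hz : z ∈ common D d f) (hzx : z ∈ perp D x) :
    {y ∈ {y ∈ common D d f | ¬ Commute x y} | Commute z y}.ncard = 80 := by
  have h1 := card_T B hK hd hf hdf hz
  have h2 := card_TT B hK hd hf hdf hx hz hzx
  have hxz : x ∈ common D d f ∩ perp D z := ⟨hx, perp_symm hx.1.1 hzx⟩
  have hsplit : common D d f ∩ perp D z = {y ∈ {y ∈ common D d f | ¬ Commute x y} | Commute z y} ∪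
      insert x (common D d f ∩ perp D x ∩ perp D z) := by
    ext y
    simp only [Set.mem_union, Set.mem_ofPred_eq, Set.mem_insert_iff]
    constructor
    · intro hy
      by_cases k : Commute x y
      · by_cases e : y = x
        · exact Or.inr (Or.inl e)
        · exact Or.inr (Or.inr ⟨⟨hy.1, hy.1.1.1, e, k⟩, hy.2⟩)
      · exact Or.inl ⟨⟨hy.1, k⟩, hy.2.2.2⟩
    · rintro (⟨⟨hy, k⟩, kz⟩ | e | hy)
      · exact ⟨hy, hy.1.1, fun e => k (e ▸ hzx.2.2), kz⟩
      · exact e ▸ hxz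
      · exact ⟨hy.1.1, hy.2⟩
  rw [hsplit, Set.ncard_union_eq (Set.disjoint_left.mpr ?_) (Set.toFinite _) (Set.toFinite _),
    Set.ncard_insert_of_notMem (fun k => k.1.2.2.1 rfl) (Set.toFinite _), h2] at h1
  · omega
  · rintro y ⟨⟨-, k⟩, -⟩ (e | hy)
    exacts [k (e ▸ Commute.refl x), k hy.1.2.2.2]

/-- Noncommuting members of a common perpendicular have different neighbours in it. -/
theorem sep_apart (hK : ∀ a ∈ D, M22.Counts (perpSet D a)) {d f x w : G} (hd : d ∈ D) (hf : f ∈ D)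
    (hdf : ¬ Commute d f) (hx : x ∈ common D d f) (hw : w ∈ common D d f) (hxw : ¬ Commute x w) :
    ∃ z ∈ common D d f ∩ perp D x, ¬ Commute z w := by
  have h := B.set.cls
  have htf := B.set.tf
  by_contra hno
  push Not at hno
  obtain ⟨z, hz, hzx, hzw⟩ := z_lemma B hd hf hdf hx hw.1 hxw
  have hzx' : z ∈ perp D x := ⟨hz.1.1, fun k => hxw (k ▸ hzw), hzx.symm⟩
  have hzw' : z ∈ perp D w := ⟨hz.1.1, fun k => hxw (k ▸ hzx).symm, hzw.symm⟩
  have xz := perp_symm hx.1.1 hzx'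
  have wz := perp_symm hw.1.1 hzw'
  have dz := perp_symm hd hz.1
  have fz := perp_symm hf hz.2
  have xd := perp_symm hd hx.1
  have wd := perp_symm hd hw.1
  have zd := hz.1
  -- work in the quotient at `d`, then at `z`
  have CK := B.ctx d hd
  have hclaim : ∀ c (hc : c ∈ perp D d), c ∈ perp D z → c ∈ perp D x → c ∈ perp D w → c ∈ perp D f := by
    intro c hc hcz hcx hcw
    have Cz := B.ctx z hz.1.1
    have qx := (toK B hz.1.1 dz xz).mpr hx.1
    have qw := (toK B hz.1.1 dz wz).mpr hw.1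
    -- the twin of `c` commuting with `f`
    obtain ⟨e, he, hed, hef, htw⟩ := M22.line_meet Cz (v := pr D z x xz) (pr_mem xz)
      ((toK B hz.1.1 xz dz).mpr (perp_symm hd hx.1)) ((toK B hz.1.1 xz fz).mpr (perp_symm hf hx.2))
      (fun k => hdf (commute_of_pr h htf hz.1.1 dz fz k)) ((toK B hz.1.1 xz hcz).mpr hcx)
      (commute_pr hcz dz hc.2.2.symm) (fun k => hc.2.1 (pr_injective h htf hz.1.1 hcz dz k))
    obtain ⟨e, hez, rfl⟩ := exists_of_mem he.1
    have kex := (toK B hz.1.1 xz hez).mp he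
    have ked := commute_of_pr h htf hz.1.1 hez dz hed
    have kef := commute_of_pr h htf hz.1.1 hez fz hef
    have heS : e ∈ common D d f := ⟨⟨hez.1, fun k => hdf (k ▸ kef), ked.symm⟩,
      ⟨hez.1, fun k => hdf (k ▸ ked).symm, kef.symm⟩⟩
    have kew := hno e ⟨heS, kex⟩
    have := M22.line_unique Cz (v := pr D z d dz) (d := pr D z x xz) (f := pr D z w wz)
      (e := pr D z c hcz) (e' := pr D z e hez) (pr_mem dz)
      qx qw (fun k => hxw (commute_of_pr h htf hz.1.1 xz wz k))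
      ((toK B hz.1.1 dz hcz).mpr hc)
      ((toK B hz.1.1 dz hez).mpr heS.1) (commute_pr hcz xz hcx.2.2.symm)
      (commute_pr hcz wz hcw.2.2.symm) (commute_pr hez xz kex.2.2.symm) (commute_pr hez wz kew)
      (fun y hy hyne hyx => by
        obtain ⟨y, hyz, rfl⟩ := exists_of_mem hy.1
        refine htw _ ⟨pr_mem hyz, hyne, hyx.symm⟩ hy.2.2.symm)
    have e' := pr_injective h htf hz.1.1 hcz hez this
    subst e'
    exact heS.2
  -- a line inside
  obtain ⟨c, hc⟩ : (common (perpSet D z) (pr D z x xz) (pr D z w wz) ∩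
      perp (perpSet D z) (pr D z d dz)).Nonempty := by
    obtain ⟨r, hr, c1, c2⟩ := M22.pair_common (B.ctx z hz.1.1) (pr_mem dz)
      ((toK B hz.1.1 dz xz).mpr hx.1) ((toK B hz.1.1 dz wz).mpr hw.1)
      (fun k => hxw (commute_of_pr h htf hz.1.1 xz wz k))
    refine ⟨r, ⟨⟨hr.1, fun k => hxw ?_, c1.symm⟩, ⟨hr.1, fun k => hxw ?_, c2.symm⟩⟩, hr⟩
    · rw [k] at c2; exact commute_of_pr h htf hz.1.1 xz wz c2
    · rw [k] at c1; exact (commute_of_pr h htf hz.1.1 wz xz c1).symm
  obtain ⟨c, hcz, rfl⟩ := exists_of_mem hc.1.1.1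
  have hcx := (toK B hz.1.1 xz hcz).mp hc.1.1
  have hcw := (toK B hz.1.1 wz hcz).mp hc.1.2
  have hcd := (toK B hz.1.1 dz hcz).mp hc.2
  have hcf := hclaim c hcd hcz hcx hcw
  have qz := pr_mem zd
  have qc := (toK B hd zd hcd).mpr hcz
  obtain ⟨p, hp, hp'⟩ : ∃ p ∈ common (perpSet D d) (pr D d z zd) (pr D d c hcd),
      Commute p (pr D d x hx.1) ∧ Commute p (pr D d w hw.1) := by
    obtain ⟨F, _, _, h4, Φ, hsurj, hmem, hlift, hinj, hcom, -⟩ := CK.mdl _ qz
    have qx := (toK B hd zd hx.1).mpr xz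
    have qw := (toK B hd zd hw.1).mpr wz
    obtain ⟨r, hr, hne, c1, c2, c3⟩ := U6.common_three h4 (hmem _ qx) (hmem _ qw) (hmem _ qc)
      (fun k => hxw (commute_of_pr h htf hd hx.1 hw.1 ((hcom _ qx _ qw).mp k)))
      ((hcom _ qc _ qx).mpr (commute_pr hcd hx.1 hcx.2.2.symm))
      ((hcom _ qc _ qw).mpr (commute_pr hcd hw.1 hcw.2.2.symm))
    obtain ⟨p, hp, rfl⟩ := hlift r hr
    exact ⟨p, ⟨hp, hp.1, fun k => hne (by subst k; rfl), ((hcom _ hp _ qc).mp c3).symm⟩,
      (hcom _ hp _ qx).mp c1, (hcom _ hp _ qw).mp c2⟩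
  obtain ⟨l, hn, hlen, hl, -, -⟩ := CK.hex _ qz _ qc p hp
  obtain ⟨a, b, hab, ha, hb⟩ : ∃ a b, a ≠ b ∧ a ∈ l ∧ b ∈ l := by
    match l, hlen with
    | [a, b, _, _], _ =>
      exact ⟨a, b, fun k => (List.nodup_cons.mp hn).1 (by simp [k]), by simp, by simp⟩
  have hmemS : ∀ u, u ∈ l → ∃ (v : G) (hv : v ∈ perp D d), pr D d v hv = u ∧ v ∈ perp D z ∧
      v ∈ perp D c ∧ v ∈ perp D f := by
    intro u hu
    obtain ⟨⟨hu1, hu2⟩, htw⟩ := (hl u).mp hu
    obtain ⟨v, hv, rfl⟩ := exists_of_mem hu1.1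
    have kvz := (toK B hd zd hv).mp hu1
    have kvc := (toK B hd hcd hv).mp hu2
    have qx : pr D d x hx.1 ∈ common (perpSet D d) (pr D d z zd) (pr D d c hcd) :=
      ⟨(toK B hd zd hx.1).mpr xz, (toK B hd hcd hx.1).mpr (perp_symm hx.1.1 hcx)⟩
    have qw : pr D d w hw.1 ∈ common (perpSet D d) (pr D d z zd) (pr D d c hcd) :=
      ⟨(toK B hd zd hw.1).mpr wz, (toK B hd hcd hw.1).mpr (perp_symm hw.1.1 hcw)⟩
    have k1 := commute_of_pr h htf hd hx.1 hv ((htw _ qx).mp hp'.1.symm)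
    have k2 := commute_of_pr h htf hd hw.1 hv ((htw _ qw).mp hp'.2.symm)
    exact ⟨v, hv, rfl, kvz, kvc, hclaim v hv kvz ⟨hv.1, fun e => hxw (e ▸ k2).symm, k1⟩
      ⟨hv.1, fun e => hxw (e ▸ k1), k2⟩⟩
  obtain ⟨u, hu, rfl, huz, huc, huf⟩ := hmemS a ha
  obtain ⟨v, hv, rfl, hvz, hvc, hvf⟩ := hmemS b hb
  have cz := hcz
  have := M22.line_unique (B.ctx z hz.1.1) (v := pr D z c cz) (pr_mem cz)
    ((toK B hz.1.1 cz dz).mpr (perp_symm hd hcd)) ((toK B hz.1.1 cz fz).mpr (perp_symm hf hcf))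
    (fun k => hdf (commute_of_pr h htf hz.1.1 dz fz k))
    ((toK B hz.1.1 cz huz).mpr huc) ((toK B hz.1.1 cz hvz).mpr hvc)
    (commute_pr huz dz hu.2.2.symm) (commute_pr huz fz huf.2.2.symm)
    (commute_pr hvz dz hv.2.2.symm) (commute_pr hvz fz hvf.2.2.symm)
    (fun y hy hyne hyd => by
      obtain ⟨y, hyz, rfl⟩ := exists_of_mem hy.1
      have kyd : y ∈ perp D d := ⟨hyz.1, fun q => hyne (by subst q; rfl),
        (commute_of_pr h htf hz.1.1 hyz dz hyd).symm⟩
      have q : pr D d y kyd ∈ common (perpSet D d) (pr D d z zd) (pr D d c hcd) :=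
        ⟨(toK B hd zd kyd).mpr hyz, (toK B hd hcd kyd).mpr ((toK B hz.1.1 cz hyz).mp hy)⟩
      have t1 := ((hl _).mp ha).2 _ q
      have t2 := ((hl _).mp hb).2 _ q
      exact ⟨fun k => commute_pr hyz hvz (commute_of_pr h htf hd kyd hv
          (t2.mp (t1.mpr (commute_pr kyd hu (commute_of_pr h htf hz.1.1 hyz huz k))))),
        fun k => commute_pr hyz huz (commute_of_pr h htf hd kyd hu
          (t1.mp (t2.mpr (commute_pr kyd hv (commute_of_pr h htf hz.1.1 hyz hvz k)))))⟩)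
  have e' := pr_injective h htf hz.1.1 huz hvz this
  subst e'
  exact hab rfl

/-- Members of a common perpendicular are separated by their neighbours in it. -/
theorem sep_common (hK : ∀ a ∈ D, M22.Counts (perpSet D a)) {d f x w : G} (hd : d ∈ D) (hf : f ∈ D)
    (hdf : ¬ Commute d f) (hx : x ∈ common D d f) (hw : w ∈ common D d f)
    (hsame : ∀ y ∈ common D d f, Commute x y ↔ Commute w y) : x = w := by
  by_contra hne
  have hc : Commute x w := ((hsame x hx).mp (Commute.refl x)).symm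
  have hwx : w ∈ perp D x := ⟨hw.1.1, Ne.symm hne, hc⟩
  have h80 := card_Z B hK hd hf hdf hx hw hwx
  obtain ⟨y, ⟨⟨hy, k⟩, k'⟩⟩ : {y ∈ {y ∈ common D d f | ¬ Commute x y} | Commute w y}.Nonempty :=
    Set.nonempty_of_ncard_ne_zero (by omega)
  exact k ((hsame y hy).mpr k')

/-- The common perpendicular is one class in the group it generates. -/
theorem common_trans (hK : ∀ a ∈ D, M22.Counts (perpSet D a)) {d f x y : G} (hd : d ∈ D) (hf : f ∈ D)
    (hdf : ¬ Commute d f) (hx : x ∈ common D d f) (hy : y ∈ common D d f) :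
    ∃ l ∈ Subgroup.closure (common D d f), l * x * l⁻¹ = y := by
  have h := B.set.cls
  let R : G → G → Prop := fun a b => ∃ l ∈ Subgroup.closure (common D d f), l * a * l⁻¹ = b
  have rtrans : ∀ {a b c}, R a b → R b c → R a c := by
    rintro a b c ⟨g, hg, rfl⟩ ⟨g', hg', rfl⟩
    exact ⟨g' * g, mul_mem hg' hg, by simp [mul_assoc]⟩
  have rsymm : ∀ {a b}, R a b → R b a := by
    rintro a b ⟨g, hg, rfl⟩
    exact ⟨g⁻¹, inv_mem hg, by simp [mul_assoc]⟩
  have rne : ∀ {a b}, a ∈ common D d f → b ∈ common D d f → ¬ Commute a b → R a b := by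
    intro a b ha hb hab
    refine ⟨a * b, mul_mem (Subgroup.subset_closure ha) (Subgroup.subset_closure hb), ?_⟩
    rw [mul_inv_rev, inv_eq h.1 ha.1.1, inv_eq h.1 hb.1.1, braid h.1 ha.1.1 hb.1.1 hab]
    simp [mul_assoc, mul_self h.1 ha.1.1, mul_self_mul h.1 hb.1.1]
  by_contra hno
  have hcl : ∀ b ∈ common D d f, R y b → ∀ a ∈ common D d f, ¬ R y a → Commute b a := fun b hb kb a ha ka =>
    by_contra fun k => ka (rtrans kb (rne hb ha k))
  have hxy : ¬ R y x := fun k => hno (rsymm k)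
  have hyy : R y y := ⟨1, one_mem _, by simp⟩
  have hBT : ∀ b ∈ common D d f, R y b → b ∈ common D d f ∩ perp D x := fun b hb kb =>
    ⟨hb, hb.1.1, fun e => hxy (e ▸ kb), (hcl b hb kb x hx hxy).symm⟩
  have hyx : y ∈ perp D x := (hBT y hy hyy).2
  have h80 := card_Z B hK hd hf hdf hx hy hyx
  obtain ⟨w, ⟨⟨hw, kxw⟩, -⟩⟩ : {w ∈ {w ∈ common D d f | ¬ Commute x w} | Commute y w}.Nonempty :=
    Set.nonempty_of_ncard_ne_zero (by omega)
  have hwno : ¬ R y w := fun k => kxw (hBT w hw k).2.2.2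
  have hTB : ∀ z ∈ common D d f ∩ perp D x, R y z := by
    intro z hz
    by_contra kz
    have h126 := card_T B hK hd hf hdf hx
    have hsub : {b ∈ common D d f | R y b} ⊆ common D d f ∩ perp D x ∩ perp D z := fun b hb =>
      ⟨hBT b hb.1 hb.2, hb.1.1.1, fun e => kz (e ▸ hb.2), (hcl b hb.1 hb.2 z hz.1 kz).symm⟩
    have h45 := card_TT B hK hd hf hdf hx hz.1 hz.2
    have hle := Set.ncard_le_ncard hsub (Set.toFinite _)
    have h81 : 81 ≤ {b ∈ common D d f | R y b}.ncard := by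
      have hxp : x ∈ perp D y := perp_symm hx.1.1 hyx
      have h80' := card_Z B hK hd hf hdf hy hx hxp
      have hins : insert y {b ∈ {b ∈ common D d f | ¬ Commute y b} | Commute x b} ⊆
          {b ∈ common D d f | R y b} := by
        rintro b (rfl | ⟨⟨hb, k⟩, -⟩)
        exacts [⟨hy, hyy⟩, ⟨hb, rne hy hb k⟩]
      have := Set.ncard_le_ncard hins (Set.toFinite _)
      rw [Set.ncard_insert_of_notMem (fun k => k.1.2 (Commute.refl y)) (Set.toFinite _), h80'] at this
      omega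
    omega
  obtain ⟨z, hz, kzw⟩ := sep_apart B hK hd hf hdf hx hw kxw
  exact kzw (hcl z hz.1 (hTB z hz) w hw hwno)

end M23

end Cfsg.Agent.Block.FischerTypes
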