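import Cfsg.Agent.Lib.Block.FischerTypes.M22Order
import Cfsg.Agent.Lib.Block.FischerTypes.M23Count

/-! The numbers of a group of type M(22) in the form used one level higher. -/

set_option autoImplicit false
set_option linter.style.haveILetI false

namespace Cfsg.Agent.Block.FischerTypes.M22

open Cfsg Cfsg.Agent.Spor.ThreeTrans

variable {G : Type*} [Group G] [Finite G] {D : Set G}

theorem numbered_ctx (C : Ctx D) : Numbered D := fun a ha => by
  obtain ⟨F, i, j, h4, Φ, hsurj, -, -, -, -, hker⟩ := C.mdl a ha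
  haveI := (psu_six h4).1
  obtain ⟨-, x₀, y₀, hxy⟩ := psu_six h4
  have hbot : Subgroup.center (PSU 6 F 2) = ⊥ :=
    (Subgroup.Normal.eq_bot_or_eq_top inferInstance).resolve_right fun ht =>
      hxy (Subgroup.mem_center_iff.mp (ht ▸ Subgroup.mem_top x₀) y₀).symm
  have hk : Φ.ker = Subgroup.center ↥(PerpGroup D a) := by
    refine le_antisymm (fun g hg => hker g hg) fun g hg => ?_
    rw [MonoidHom.mem_ker, ← Subgroup.mem_bot, ← hbot, Subgroup.mem_center_iff]
    intro x
    obtain ⟨x, rfl⟩ := hsurj x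
    rw [← map_mul, ← map_mul, Subgroup.mem_center_iff.mp hg x]
  exact U6Code.exists_numbering C.set.cls C.set.tf ha ⟨F, i, j, h4,
    ⟨(QuotientGroup.quotientMulEquivOfEq hk.symm).trans (QuotientGroup.quotientKerEquivOfSurjective Φ hsurj)⟩⟩

/-- The numbers one level down. -/
theorem counts (C : Ctx D) : Counts D := by
  have hN := numbered_ctx C
  refine ⟨ncard_eq C hN, fun x hx => ?_, fun x hx y hy => ?_,
    (card_apart_common C.set hN C.meets).1⟩
  · obtain ⟨M⟩ := hN x hx
    exact M.card_perp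
  · obtain ⟨M⟩ := hN x hx
    have e : common D x y = {u | u ∈ perp D x ∧ Commute y u} \ {y} := Set.ext fun u =>
      ⟨fun k => ⟨⟨k.1, k.2.2.2⟩, k.2.2.1⟩, fun k => ⟨k.1.1, k.1.1.1, k.2, k.1.2⟩⟩
    rw [e, Set.ncard_sdiff_singleton_of_mem (show y ∈ {u | u ∈ perp D x ∧ Commute y u} from ⟨hy, Commute.refl y⟩),
      M.card_commute C.set.cls hy]

end Cfsg.Agent.Block.FischerTypes.M22
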