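import Cfsg.Agent.Lib.Block.FischerTypes.U6Stab

/-! Small configurations of roots of `PSU_6(2)`. -/

set_option autoImplicit false
set_option linter.style.haveILetI false
set_option linter.unusedSectionVars false

namespace Cfsg.Agent.Block.FischerTypes.U6

open Matrix Cfsg Cfsg.Agent.Classical Cfsg.Agent.Classical.PSUAut Cfsg.Agent.Spor.UnitTwo
open Cfsg.Agent.Spor

variable {F : Type} [Field F] [Fintype F] (h4 : Fintype.card F = 4)

local notation "hh" => hermForm 6 F 2
local notation "hF" => card_sq h4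

include h4

/-- Noncommuting roots commute with a common root. -/
theorem pair_common {p q : PSU 6 F 2} (hp : p ∈ roots h4 6) (hq : q ∈ roots h4 6) (hpq : ¬ Commute p q) :
    ∃ z ∈ roots h4 6, z ≠ p ∧ z ≠ q ∧ Commute z p ∧ Commute z q := by
  obtain ⟨w, hw0, hw1, hww, hwc, -⟩ := exists_omega h4
  have h := roots_class h4
  have hn : (1 : ℕ) ≤ 6 := by norm_num
  obtain ⟨g, hgp, hgq⟩ := pair_conj h4 hw0 hwc hp hq hpq
  have hQne : Q0 w ≠ 0 := fun k => hw0 (by rw [← hPQ0 h4 hwc, k, h_zero_right hF])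
  have hU : hh (cat 0 ![1, 1, 0, 0]) (cat 0 ![1, 1, 0, 0]) = 0 := by
    rw [h_cat]; simp [hermForm, Fin.sum_univ_four]; exact add_self h4 1
  have hU0 : cat (0 : Fin 2 → F) ![1, 1, 0, 0] ≠ 0 := fun e => by
    rw [← cat_zero] at e
    simpa using congrFun (cat_inj e).2 0
  have c1 : Commute (root h4 hU) (p0 h4) := (root_commute h4 hn hU (hP0 h4) hU0 (P0_ne h4)).mpr
    (by rw [P0, h_cat]; simp [hermForm])
  have c2 : Commute (root h4 hU) (root h4 (hQ0 h4 hw0)) :=
    (root_commute h4 hn hU (hQ0 h4 hw0) hU0 hQne).mpr (by rw [Q0, h_cat]; simp [hermForm])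
  obtain ⟨z, hz⟩ : ∃ z, g * z * g⁻¹ = root h4 hU := ⟨g⁻¹ * root h4 hU * g, by simp [mul_assoc]⟩
  rw [← hz, ← hgp, ThreeTrans.commute_conj_iff] at c1
  rw [← hz, ← hgq, ThreeTrans.commute_conj_iff] at c2
  refine ⟨z, ?_, fun k => hpq (k ▸ c2), fun k => hpq (k ▸ c1).symm, c1, c2⟩
  have := ThreeTrans.conj_mem h g⁻¹ (show root h4 hU ∈ roots h4 6 from ⟨_, hU0, hU, rfl⟩)
  rw [← hz] at this
  simpa [mul_assoc] using this

/-- Four commuting roots have product different from one. -/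
theorem no_four {p q r s : PSU 6 F 2} (hn : [p, q, r, s].Nodup)
    (hr : ∀ x ∈ [p, q, r, s], x ∈ roots h4 6)
    (hc : ∀ x ∈ [p, q, r, s], ∀ y ∈ [p, q, r, s], Commute x y) : [p, q, r, s].prod ≠ 1 := by
  classical
  intro he
  have h := roots_class h4
  obtain ⟨hp, hq, hr', hs⟩ : p ∈ roots h4 6 ∧ q ∈ roots h4 6 ∧ r ∈ roots h4 6 ∧ s ∈ roots h4 6 :=
    ⟨hr p (by simp), hr q (by simp), hr r (by simp), hr s (by simp)⟩
  simp only [List.nodup_cons, List.mem_cons, List.not_mem_nil, or_false, not_or, List.nodup_nil,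
    not_false_eq_true, and_true] at hn
  obtain ⟨⟨hpq, hpr, hps⟩, ⟨hqr, hqs⟩, hrs⟩ := hn
  have cpq := hc p (by simp) q (by simp)
  have cpr := hc p (by simp) r (by simp)
  have cps := hc p (by simp) s (by simp)
  have cqr := hc q (by simp) r (by simp)
  have cqs := hc q (by simp) s (by simp)
  have crs := hc r (by simp) s (by simp)
  have e4 : p * (q * (r * s)) = 1 := by simpa using he
  have e1 : q * (r * s) = p := by
    rw [eq_inv_of_mul_eq_one_right e4, ThreeTrans.inv_eq h.1 hp]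
  have twin : ∀ {a b : PSU 6 F 2}, a ∈ roots h4 6 → b ∈ roots h4 6 → q ≠ b → Commute q b → a ≠ q →
      a ≠ b → Commute a q → Commute a b → p = q * (a * b) →
      ∀ y ∈ ThreeTrans.perp (roots h4 6) p, Commute y q ↔ Commute y a := by
    intro a b ha hb hqb kqb haq hab kaq kab e y hy
    have hy' : Commute y (q * (a * b)) := e ▸ hy.2.2.symm
    constructor
    · intro k
      have := k.mul_right hy'
      rw [ThreeTrans.mul_self_mul h.1 hq] at this
      exact ((ThreeTrans.commute_mul_iff h.1 ha hb hy.1 hab kab).mp this).1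
    · intro k
      rw [← mul_assoc, kaq.symm.eq, mul_assoc] at hy'
      have := k.mul_right hy'
      rw [ThreeTrans.mul_self_mul h.1 ha] at this
      exact ((ThreeTrans.commute_mul_iff h.1 hq hb hy.1 hqb kqb).mp this).1
  obtain ⟨l, hln, hlen, hl, hlc, hlp⟩ := line h4 (n := 6) (by norm_num) hp (c := q) ⟨hq, Ne.symm hpq, cpq⟩
  have mq : q ∈ l := (hl q).mpr ⟨⟨hq, Ne.symm hpq, cpq⟩, fun _ _ => Iff.rfl⟩
  have mr : r ∈ l := (hl r).mpr ⟨⟨hr', Ne.symm hpr, cpr⟩,
    twin hr' hs hqs cqs (Ne.symm hqr) hrs cqr.symm crs e1.symm⟩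
  have ms : s ∈ l := (hl s).mpr ⟨⟨hs, Ne.symm hps, cps⟩,
    twin hs hr' hqr cqr (Ne.symm hqs) (Ne.symm hrs) cqs.symm crs.symm (by rw [crs.symm.eq]; exact e1.symm)⟩
  obtain ⟨t, ht, htq, htr, hts⟩ : ∃ t ∈ l, t ≠ q ∧ t ≠ r ∧ t ≠ s := by
    by_contra hno
    push Not at hno
    have hsub : l ⊆ [q, r, s] := fun x hx => by
      simp only [List.mem_cons, List.not_mem_nil, or_false]
      by_contra k
      push Not at k
      exact k.2.2 (hno x hx k.1 k.2.1)
    have := (hln.subperm hsub).length_le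
    simp [hlen] at this
  have hperm : [q, r, s, t].Perm l := by
    refine List.Subperm.perm_of_length_le (List.Nodup.subperm ?_ ?_) (by simp [hlen])
    · simp [hqr, hqs, hrs, Ne.symm htq, Ne.symm htr, Ne.symm hts]
    · intro x hx
      simp only [List.mem_cons, List.not_mem_nil, or_false] at hx
      rcases hx with rfl | rfl | rfl | rfl <;> assumption
  rw [← hperm.prod_eq' (List.pairwise_of_forall_mem_list fun x hx y hy =>
    hlc x (hperm.subset hx) y (hperm.subset hy))] at hlp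
  have e2 : p * (q * (r * s)) * t = 1 := by simpa [mul_assoc] using hlp
  rw [e4, one_mul] at e2
  exact ThreeTrans.ne_one h.1 ((hl t).mp ht).1.1 e2

end Cfsg.Agent.Block.FischerTypes.U6
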