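import Cfsg.Agent.Lib.Block.FischerTypes.Levels

/-! Twin-freeness inside the perpendicular of a commuting pair, and its transfer. -/

set_option autoImplicit false
set_option linter.style.haveILetI false

namespace Cfsg.Agent.Block.FischerTypes

open Cfsg.Agent.Spor.ThreeTrans

variable {G : Type*} [Group G] {D : Set G}

/-- Members commuting with both of `a`, `b`. -/
abbrev common (D : Set G) (a b : G) : Set G := perp D a ∩ perp D b

/-- No twins among the members commuting with both. -/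
def TwinFree₂ (D : Set G) (a b : G) : Prop :=
  ∀ c ∈ common D a b, ∀ e ∈ common D a b,
    (∀ x ∈ common D a b, Commute x c ↔ Commute x e) → c = e

/-- The joint centraliser is transitive on the members commuting with both. -/
def Trans₂ (D : Set G) (a b : G) : Prop :=
  ∀ y ∈ common D a b, ∀ y' ∈ common D a b, ∃ g : G, Commute g a ∧ Commute g b ∧ g * y * g⁻¹ = y'

variable [Finite G]

/-- The standing facts. -/
structure Setting (D : Set G) : Prop where
  cls : IsThreeTranspositionClass D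
  hyp : Hyp D
  tf : TwinFree D
  perp_ne : ∀ a ∈ D, (perp D a).Nonempty
  core2 : ∀ a ∈ D, pCore 2 (PerpQuot D a) = ⊥
  core3 : ∀ a ∈ D, pCore 3 (PerpQuot D a) = ⊥

theorem Setting.qcls (S : Setting D) {a : G} (ha : a ∈ D) :
    IsThreeTranspositionClass (perpSet D a) :=
  perpSet_class S.cls S.tf ha (S.perp_ne a ha) fun y hy y' hy' =>
    transitive_perp S.hyp ha hy hy'

theorem Setting.qtf (S : Setting D) {a : G} (ha : a ∈ D) : TwinFree (perpSet D a) :=
  twinFree_of_core (S.qcls ha) (S.core2 a ha)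

theorem cores_conj (h : IsThreeTranspositionClass D) (p : ℕ) (a g : G)
    (hp : pCore p ↥(PerpGroup D a) ≤ Subgroup.center ↥(PerpGroup D a)) :
    pCore p ↥(PerpGroup D (g * a * g⁻¹)) ≤ Subgroup.center ↥(PerpGroup D (g * a * g⁻¹)) := by
  have e : (PerpGroup D a).map (MulAut.conj g).toMonoidHom = PerpGroup D (g * a * g⁻¹) := by
    show (Subgroup.closure (perp D a)).map _ = Subgroup.closure (perp D (g * a * g⁻¹))
    rw [MonoidHom.map_closure, perp_conj h]
    rfl
  exact pCore_le_center_congr p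
    (((PerpGroup D a).equivMapOfInjective _ (MulAut.conj g).injective).trans
      (MulEquiv.subgroupCongr e)) hp

/-- The setting from the standing hypotheses of the statements. -/
theorem setting_of (hD : IsThreeTranspositionGroup D) (hprim : IsPrimitiveUnderConj D) {d₀ : G}
    (hd₀ : d₀ ∈ D)
    (h3 : pCore 3 ↥(PerpGroup D d₀) ≤ Subgroup.center ↥(PerpGroup D d₀))
    (h2 : pCore 2 ↥(PerpGroup D d₀) ≤ Subgroup.center ↥(PerpGroup D d₀))
    (hc : Subgroup.center G = ⊥) (hnc : ∃ a ∈ D, ∃ b ∈ D, ¬ Commute a b)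
    (hperp : ∃ a ∈ D, (perp D a).Nonempty) : Setting D := by
  have h := class_of_prim hD hprim
  obtain ⟨H, htf⟩ := hyp_of_prim h hprim hc hnc hperp
  haveI : Fact (Nat.Prime 2) := ⟨Nat.prime_two⟩
  haveI : Fact (Nat.Prime 3) := ⟨Nat.prime_three⟩
  refine ⟨h, H, htf, fun a ha => perp_nonempty H ha, fun a ha => ?_, fun a ha => ?_⟩ <;>
    obtain ⟨g, rfl⟩ := transitive h hd₀ ha
  · exact pCore_quot_center 2 (cores_conj h 2 d₀ g h2)
  · exact pCore_quot_center 3 (cores_conj h 3 d₀ g h3)

theorem pr_mem_perp (h : IsThreeTranspositionClass D) (htf : TwinFree D) {a b x : G} (ha : a ∈ D)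
    (hb : b ∈ perp D a) (hx : x ∈ common D a b) :
    pr D a x hx.1 ∈ perp (perpSet D a) (pr D a b hb) :=
  ⟨pr_mem hx.1, fun e => hx.2.2.1 (pr_injective h htf ha hx.1 hb e), commute_pr hb hx.1 hx.2.2.2⟩

/-- From the second quotient to the members commuting with a pair. -/
theorem inner (h : IsThreeTranspositionClass D) (htf : TwinFree D) {a b : G} (ha : a ∈ D)
    (hb : b ∈ perp D a) (hE : IsThreeTranspositionClass (perpSet D a))
    (hEtf : TwinFree (perpSet D a))
    (hK : IsThreeTranspositionClass (perpSet (perpSet D a) (pr D a b hb)))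
    (hKtf : TwinFree (perpSet (perpSet D a) (pr D a b hb))) :
    TwinFree₂ D a b ∧ Trans₂ D a b := by
  have hbE := pr_mem hb
  constructor
  · intro c hc e he hsame
    have hc' := pr_mem_perp h htf ha hb hc
    have he' := pr_mem_perp h htf ha hb he
    refine pr_injective h htf ha hc.1 he.1 (pr_injective hE hEtf hbE hc' he' (hKtf _ _
      ⟨pr_mem hc', pr_mem he', fun z hz => ?_⟩))
    obtain ⟨y, hy, rfl⟩ := exists_of_mem hz
    obtain ⟨x, hx, rfl⟩ := exists_of_mem hy.1
    have hxb : x ∈ perp D b :=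
      ⟨hx.1, fun e' => hy.2.1 (by subst e'; rfl), commute_of_pr h htf ha hb hx hy.2.2⟩
    have hs := hsame x ⟨hx, hxb⟩
    constructor
    · intro hcom
      have h1 := commute_of_pr h htf ha hc.1 hx (commute_of_pr hE hEtf hbE hc' hy hcom)
      exact commute_pr he' hy (commute_pr he.1 hx (hs.mp h1.symm).symm)
    · intro hcom
      have h1 := commute_of_pr h htf ha he.1 hx (commute_of_pr hE hEtf hbE he' hy hcom)
      exact commute_pr hc' hy (commute_pr hc.1 hx (hs.mpr h1.symm).symm)
  · intro y hy y' hy'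
    have h1 := pr_mem_perp h htf ha hb hy
    have h1' := pr_mem_perp h htf ha hb hy'
    obtain ⟨q, hq⟩ := transitive hK (pr_mem h1) (pr_mem h1')
    obtain ⟨⟨g', hg'⟩, rfl⟩ := QuotientGroup.mk_surjective q
    have hg'b : Commute g' (pr D a b hb) := commute_all (fun x hx => hx.2.2.symm) hg'
    have h2 := perp_conj' hE hg'b h1
    have e2 : g' * pr D a y hy.1 * g'⁻¹ = pr D a y' hy'.1 := by
      refine pr_injective hE hEtf hbE h2 h1' ?_
      rw [← hq, ← QuotientGroup.mk_inv, ← QuotientGroup.mk_mul, ← QuotientGroup.mk_mul]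
      rfl
    obtain ⟨⟨g, hg⟩, rfl⟩ := QuotientGroup.mk_surjective g'
    have hga : Commute g a := commute_all (fun x hx => hx.2.2.symm) hg
    have key : ∀ u (hu : u ∈ perp D a), pr D a (g * u * g⁻¹) (perp_conj' h hga hu) =
        QuotientGroup.mk (⟨g, hg⟩ : ↥(PerpGroup D a)) * pr D a u hu *
          (QuotientGroup.mk (⟨g, hg⟩ : ↥(PerpGroup D a)))⁻¹ := fun u hu => by
      rw [← QuotientGroup.mk_inv, ← QuotientGroup.mk_mul, ← QuotientGroup.mk_mul]
      rfl
    refine ⟨g, hga, ?_, pr_injective h htf ha (perp_conj' h hga hy.1) hy'.1 ((key y hy.1).trans e2)⟩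
    have e3 := pr_injective h htf ha (perp_conj' h hga hb) hb ((key b hb).trans
      (by rw [hg'b.eq, mul_inv_cancel_right]))
    exact mul_inv_eq_iff_eq_mul.mp e3

theorem conj_mem_perp (h : IsThreeTranspositionClass D) (g a : G) {e : G} :
    g * e * g⁻¹ ∈ perp D (g * a * g⁻¹) ↔ e ∈ perp D a := by
  rw [perp_conj h]
  exact Function.Injective.mem_set_image (f := fun e => g * e * g⁻¹)
    (fun u v e => by simpa using e)

theorem pair_conj (S : Setting D) {a b a' b' : G} (ha : a ∈ D) (hb : b ∈ perp D a) (ha' : a' ∈ D)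
    (hb' : b' ∈ perp D a') : ∃ g : G, g * a * g⁻¹ = a' ∧ g * b * g⁻¹ = b' := by
  obtain ⟨g, rfl⟩ := transitive S.cls ha ha'
  obtain ⟨k, hk, e⟩ := transitive_perp S.hyp ha' ((conj_mem_perp S.cls g a).mpr hb) hb'
  have hka : Commute k (g * a * g⁻¹) := commute_all (fun x hx => hx.2.2.symm) hk
  refine ⟨k * g, ?_, ?_⟩
  · rw [show k * g * a * (k * g)⁻¹ = k * (g * a * g⁻¹) * k⁻¹ by simp [mul_assoc],
      conj_self_eq hka]
  · rw [show k * g * b * (k * g)⁻¹ = k * (g * b * g⁻¹) * k⁻¹ by simp [mul_assoc], e]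

theorem pull (h : IsThreeTranspositionClass D) (g : G) {a b y : G}
    (hy : y ∈ common D (g * a * g⁻¹) (g * b * g⁻¹)) : g⁻¹ * y * g ∈ common D a b := by
  have e : g * (g⁻¹ * y * g) * g⁻¹ = y := by simp [mul_assoc]
  constructor
  · rw [← conj_mem_perp h g, e]; exact hy.1
  · rw [← conj_mem_perp h g, e]; exact hy.2

theorem twinFree₂_conj (h : IsThreeTranspositionClass D) (g : G) {a b : G}
    (ht : TwinFree₂ D a b) : TwinFree₂ D (g * a * g⁻¹) (g * b * g⁻¹) := by
  intro c hc e he hsame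
  have := ht _ (pull h g hc) _ (pull h g he) fun x hx => by
    have h1 := hsame (g * x * g⁻¹)
      ⟨(conj_mem_perp h g a).mpr hx.1, (conj_mem_perp h g b).mpr hx.2⟩
    rw [← commute_conj_iff g x (g⁻¹ * c * g), ← commute_conj_iff g x (g⁻¹ * e * g)]
    simpa [mul_assoc] using h1
  simpa using this

theorem trans₂_conj (h : IsThreeTranspositionClass D) (g : G) {a b : G}
    (ht : Trans₂ D a b) : Trans₂ D (g * a * g⁻¹) (g * b * g⁻¹) := by
  intro y hy y' hy'
  obtain ⟨k, hka, hkb, e⟩ := ht _ (pull h g hy) _ (pull h g hy')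
  refine ⟨g * k * g⁻¹, (commute_conj_iff g k a).mpr hka, (commute_conj_iff g k b).mpr hkb, ?_⟩
  have := congrArg (fun z => g * z * g⁻¹) e
  simpa [mul_assoc] using this

/-- One good pair makes all pairs good. -/
theorem good_all (S : Setting D) {a b : G} (ha : a ∈ D) (hb : b ∈ perp D a)
    (hgood : TwinFree₂ D a b ∧ Trans₂ D a b) :
    ∀ a' ∈ D, ∀ b' ∈ perp D a', TwinFree₂ D a' b' ∧ Trans₂ D a' b' := by
  intro a' ha' b' hb'
  obtain ⟨g, rfl, rfl⟩ := pair_conj S ha hb ha' hb'
  exact ⟨twinFree₂_conj S.cls g hgood.1, trans₂_conj S.cls g hgood.2⟩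

end Cfsg.Agent.Block.FischerTypes
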