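import Cfsg.Agent.Lib.Block.FischerTypes.U6Stab
import Cfsg.Agent.Lib.Block.FischerTypes.Setting

/-! Four roots of `PSU_6(2)` in star position, inside a set with two points on every line. -/

set_option autoImplicit false
set_option linter.style.haveILetI false
set_option linter.unusedSectionVars false

namespace Cfsg.Agent.Block.FischerTypes.U6

open Matrix Cfsg Cfsg.Agent.Classical Cfsg.Agent.Classical.PSUAut Cfsg.Agent.Spor.UnitTwo
open Cfsg.Agent.Spor

variable {F : Type} [Field F] [Fintype F] (h4 : Fintype.card F = 4)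

local notation "hh" => hermForm 6 F 2
local notation "hF" => card_sq h4
local notation "π" => suToPSU 6 F 2

include h4

theorem braid_iso {u v : Fin 6 → F} (hu : hh u u = 0) (hv : hh v v = 0) :
    hh (v + hh v u • u) (v + hh v u • u) = 0 := by
  rw [h_add_left, h_add_right hF, h_add_right hF, h_smul_left, h_smul_left, h_smul_right hF,
    h_smul_right hF, hu, hv, cj_h hF v u]
  linear_combination hh v u * hh u v * add_self h4 (1 : F)

/-- Braiding roots. -/
theorem root_braid {u v : Fin 6 → F} (hu : hh u u = 0) (hv : hh v v = 0) :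
    root h4 hu * root h4 hv * root h4 hu = root h4 (braid_iso h4 hu hv) := by
  have hinv : (tv h4 hu)⁻¹ = tv h4 hu := inv_eq_of_mul_eq_one_right (tv_mul_self h4 hu)
  simp only [root]
  conv_lhs => rw [← map_mul, ← map_mul]; arg 2; arg 2; rw [← hinv]
  rw [suVal_conj h4 _ hv]
  congr 1
  refine suVal_ext ?_
  rw [suVal_tv h4, suVal_tv h4, suVal_tv h4, T_apply h4]

/-- Rescaling a root. -/
theorem exists_scaled {u v : Fin 6 → F} (hu : hh u u = 0) (hu0 : u ≠ 0) (k : hh u v ≠ 0) :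
    ∃ (u' : Fin 6 → F) (hu' : hh u' u' = 0), u' ≠ 0 ∧ hh u' v = 1 ∧ root h4 hu' = root h4 hu :=
  ⟨(hh u v)⁻¹ • u, by rw [h_smul_left, h_smul_right hF, hu, mul_zero, mul_zero],
    smul_ne_zero (inv_ne_zero k) hu0, by rw [h_smul_left, inv_mul_cancel₀ k],
    root_smul h4 hu (inv_ne_zero k) _⟩

/-- The position of the star. -/
def IsStar {K : Type*} [Group K] (p e c₂ c₃ : K) : Prop :=
  Commute p c₂ ∧ Commute p c₃ ∧ ¬ Commute p e ∧ ¬ Commute e c₂ ∧ ¬ Commute e c₃ ∧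
    ¬ Commute c₂ c₃ ∧ Commute e (c₂ * c₃ * c₂)

/-- The braid closure of a star meets every perpendicular. -/
theorem star_meets {U : Set (PSU 6 F 2)} {p e c₂ c₃ w : PSU 6 F 2}
    (hclosed : ∀ s ∈ U, ∀ s' ∈ U, ¬ Commute s s' → s * s' * s ∈ U)
    (hp : p ∈ roots h4 6) (he : e ∈ roots h4 6) (h2 : c₂ ∈ roots h4 6) (h3 : c₃ ∈ roots h4 6)
    (hw : w ∈ roots h4 6) (hst : IsStar p e c₂ c₃) (hpU : p ∈ U) (heU : e ∈ U) (h2U : c₂ ∈ U)
    (h3U : c₃ ∈ U) : ∃ z ∈ U, Commute z w := by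
  classical
  obtain ⟨hp2, hp3, hpe, he2, he3, h23, he1⟩ := hst
  have hn : (1 : ℕ) ≤ 6 := by norm_num
  obtain ⟨P, hP, hPP, rfl⟩ := hp
  obtain ⟨W, hW, hWW, rfl⟩ := hw
  obtain ⟨E₀, hE₀, hEE₀, rfl⟩ := he
  obtain ⟨A₀, hA₀, hAA₀, rfl⟩ := h2
  obtain ⟨B₀, hB₀, hBB₀, rfl⟩ := h3
  obtain ⟨E, hEE, hE, hEP, eE⟩ := exists_scaled h4 hEE₀ hE₀ (v := P) fun k =>
    hpe ((root_commute h4 hn hEE₀ hPP hE₀ hP).mpr k).symm
  rw [← eE] at hpe he2 he3 he1 heU
  obtain ⟨A, hAA, hA, hAE, eA⟩ := exists_scaled h4 hAA₀ hA₀ (v := E) fun k =>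
    he2 ((root_commute h4 hn hAA₀ hEE hA₀ hE).mpr k).symm
  rw [← eA] at hp2 he2 he1 h23 h2U
  obtain ⟨B, hBB, hB, hBE, eB⟩ := exists_scaled h4 hBB₀ hB₀ (v := E) fun k =>
    he3 ((root_commute h4 hn hBB₀ hEE hB₀ hE).mpr k).symm
  rw [← eB] at hp3 he3 he1 h23 h3U
  have conj1 : ∀ {x y : Fin 6 → F}, hh x y = 1 → hh y x = 1 := fun {x y} k => by
    rw [← cj_h hF x y, k, map_one]
  have hPA : hh P A = 0 := (root_commute h4 hn hPP hAA hP hA).mp hp2
  have hPB : hh P B = 0 := (root_commute h4 hn hPP hBB hP hB).mp hp3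
  have hBA : hh B A = 1 := by
    rw [root_braid h4 hAA hBB] at he1
    by_cases h0 : B + hh B A • A = 0
    · exfalso
      refine h23 ((root_commute h4 hn hAA hBB hA hB).mpr ?_)
      rw [eq_neg_of_add_eq_zero_left h0, ← neg_smul, h_smul_right hF, hAA, mul_zero]
    have := (root_commute h4 hn hEE (braid_iso h4 hAA hBB) hE h0).mp he1
    rw [h_add_right hF, h_smul_right hF, conj1 hBE, conj1 hAE, mul_one] at this
    have h1 : qFrob hF (hh B A) = 1 := by linear_combination this - add_self h4 (1 : F)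
    have := congrArg (qFrob hF) h1
    rwa [cj_h hF B A, cj_h hF A B, map_one] at this
  let v : Fin 4 → Fin 6 → F := ![P, E, E + A, E + B]
  have hgram : ∀ i j, i ≠ j → hh (v i) (v j) = 1 := by
    intro i j hij
    fin_cases i <;> fin_cases j <;>
      first
      | exact absurd rfl hij
      | (simp [v, h_add_left, h_add_right hF, hEP, conj1 hEP, hAE, conj1 hAE, hBE, conj1 hBE,
          hPA, hPB, h_comm_zero hF hPA, h_comm_zero hF hPB, hBA, conj1 hBA, hEE, hPP, hAA, hBB]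
         all_goals linear_combination add_self h4 (1 : F))
  have hiso : ∀ i, hh (v i) (v i) = 0 := by
    intro i
    fin_cases i <;>
      simp [v, h_add_left, h_add_right hF, hAE, conj1 hAE, hBE, conj1 hBE, hEE, hPP, hAA, hBB,
        add_self h4]
  have hne : ∀ i, v i ≠ 0 := fun i e => one_ne_zero (α := F) (by
    have h1 := hgram i (i + 1) (by fin_cases i <;> decide)
    rw [e, h_zero_left] at h1
    exact h1.symm)
  have addbraid : ∀ {x y : Fin 6 → F} (hx : hh x x = 0) (hy : hh y y = 0) (hxy : hh (x + y) (x + y) = 0),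
      hh y x = 1 → root h4 hxy = root h4 hx * root h4 hy * root h4 hx := fun hx hy hxy k => by
    rw [root_braid h4 hx hy]
    exact root_congr h4 _ _ (by rw [k, one_smul, add_comm])
  have hmemU : ∀ i, root h4 (hiso i) ∈ U := by
    intro i
    fin_cases i
    · exact hpU
    · exact heU
    · show root h4 (hiso 2) ∈ U
      have := hclosed _ heU _ h2U he2
      rw [← addbraid hEE hAA (hiso 2) hAE] at this
      exact this
    · show root h4 (hiso 3) ∈ U
      have := hclosed _ heU _ h3U he3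
      rw [← addbraid hEE hBB (hiso 3) hBE] at this
      exact this
  have fin : ∀ i, hh (v i) W = 0 → ∃ z ∈ U, Commute z (root h4 hWW) := fun i k =>
    ⟨_, hmemU i, (root_commute h4 hn (hiso i) hWW (hne i) hW).mpr k⟩
  by_cases hzero : ∃ i, hh (v i) W = 0
  · obtain ⟨i, hi⟩ := hzero
    exact fin i hi
  push Not at hzero
  obtain ⟨i, j, hij, hval⟩ := Fintype.exists_ne_map_eq_of_card_lt
    (fun i : Fin 4 => (⟨hh (v i) W, hzero i⟩ : {a : F // a ≠ 0}))
    (by simp [Fintype.card_subtype_compl, h4])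
  have hval' : hh (v i) W = hh (v j) W := congrArg Subtype.val hval
  have hsum : hh (v i + v j) (v i + v j) = 0 := by
    rw [h_add_left, h_add_right hF, h_add_right hF, hiso, hiso, hgram i j hij, hgram j i hij.symm]
    linear_combination add_self h4 (1 : F)
  have hsum0 : v i + v j ≠ 0 := fun e => one_ne_zero (α := F) (by
    have := congrArg (hh · (v i)) e
    simp only [h_add_left, h_zero_left, hiso, hgram j i hij.symm, zero_add] at this
    exact this)
  refine ⟨root h4 hsum, ?_, (root_commute h4 hn hsum hWW hsum0 hW).mpr ?_⟩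
  · rw [addbraid (hiso i) (hiso j) hsum (hgram j i hij.symm)]
    refine hclosed _ (hmemU i) _ (hmemU j) fun k => one_ne_zero (α := F) ?_
    rw [← hgram i j hij]
    exact (root_commute h4 hn (hiso i) (hiso j) (hne i) (hne j)).mp k
  · rw [h_add_left, ← hval', add_self h4]

/-- A star perpendicular to a root outside. -/
theorem exists_star {T : Set (PSU 6 F 2)} (hT : T ⊆ roots h4 6) (hTne : T.Nonempty)
    (hline : ∀ x ∈ T, ∀ c ∈ ThreeTrans.perp (roots h4 6) x, ∃ e ∈ T,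
      e ∈ ThreeTrans.perp (roots h4 6) x ∧
        ∀ z ∈ ThreeTrans.perp (roots h4 6) x, Commute z c ↔ Commute z e)
    (huniq : ∀ x ∈ T, ∀ e ∈ T, ∀ e' ∈ T, e ∈ ThreeTrans.perp (roots h4 6) x →
      e' ∈ ThreeTrans.perp (roots h4 6) x →
        (∀ z ∈ ThreeTrans.perp (roots h4 6) x, Commute z e ↔ Commute z e') → e = e')
    (hclosed : ∀ s ∈ T, ∀ s' ∈ T, ¬ Commute s s' → s * s' * s ∈ T) {y : PSU 6 F 2}
    (hy : y ∈ roots h4 6) (hyT : y ∉ T) :
    ∃ p ∈ T, ∃ e ∈ T, ∃ c₂ ∈ T, ∃ c₃ ∈ T,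
      (Commute p y ∧ Commute e y ∧ Commute c₂ y ∧ Commute c₃ y) ∧ IsStar p e c₂ c₃ := by
  classical
  obtain ⟨w, hw0, hw1, hww, hwc, -⟩ := exists_omega h4
  have h := roots_class h4
  have hn : (1 : ℕ) ≤ 6 := by norm_num
  have two : (2 : F) = 0 := by rw [← one_add_one_eq_two, add_self h4]
  have hw2 : w ^ 2 = w + 1 := by rw [pow_two, hww]
  obtain ⟨p, hpT, hpy⟩ : ∃ p ∈ T, Commute p y := by
    obtain ⟨x₀, hx₀⟩ := hTne
    by_cases k : Commute x₀ y
    · exact ⟨x₀, hx₀, k⟩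
    obtain ⟨z, hz, -, -, k'⟩ := meet h4 hline hclosed hx₀ (hT hx₀) hy k
    exact ⟨z, hz, k'⟩
  have hyp : y ∈ ThreeTrans.perp (roots h4 6) p := ⟨hy, fun k => hyT (k ▸ hpT), hpy⟩
  let Y0 : Fin 6 → F := cat 0 ![1, 1, 0, 0]
  let C2 : Fin 6 → F := cat 0 ![0, 0, 1, 1]
  let C3 : Fin 6 → F := cat 0 ![0, 0, w, 1]
  have hY : hh Y0 Y0 = 0 := by
    rw [h_cat]; simp [hermForm, Fin.sum_univ_four]; exact add_self h4 1
  have hY0 : Y0 ≠ 0 := fun e => by
    rw [show Y0 = cat 0 ![1, 1, 0, 0] from rfl, ← cat_zero] at e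
    simpa using congrFun (cat_inj e).2 0
  have hPY : hh P0 Y0 = 0 := by rw [P0, h_cat]; simp [hermForm]
  have hYp : root h4 hY ∈ ThreeTrans.perp (roots h4 6) (p0 h4) := by
    refine ⟨⟨_, hY0, _, rfl⟩, fun k => ?_, (root_commute h4 hn (hP0 h4) hY (P0_ne h4) hY0).mpr hPY⟩
    obtain ⟨a, ha, e'⟩ := root_eq h4 hn hY (hP0 h4) hY0 k
    rw [P0, ← cat_smul] at e'
    exact ha (by simpa using (congrFun (cat_inj e').1 0).symm)
  obtain ⟨g₁, hg₁⟩ := ThreeTrans.transitive h (hT hpT) (p0_mem h4)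
  obtain ⟨g₂, hg₂, hg₂'⟩ := ThreeTrans.transitive_perp (roots_hyp h4) (p0_mem h4)
    (y := g₁ * y * g₁⁻¹) (by rw [← hg₁]; exact (conj_mem_perp h g₁ p).mpr hyp) hYp
  obtain ⟨g, rfl⟩ : ∃ g, g = g₂ * g₁ := ⟨_, rfl⟩
  have hgp : g₂ * g₁ * p * (g₂ * g₁)⁻¹ = p0 h4 := by
    rw [show g₂ * g₁ * p * (g₂ * g₁)⁻¹ = g₂ * (g₁ * p * g₁⁻¹) * g₂⁻¹ by simp [mul_assoc], hg₁]
    exact ThreeTrans.conj_self_eq (ThreeTrans.localGroup_commute
      (Subgroup.closure_mono (Set.subset_insert _ _) hg₂))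
  have hgy : g₂ * g₁ * y * (g₂ * g₁)⁻¹ = root h4 hY := by
    rw [← hg₂']; simp [mul_assoc]
  generalize g₂ * g₁ = g at hgp hgy
  let σ := MulAut.conj g
  have σc : ∀ {a b}, Commute (σ a) (σ b) ↔ Commute a b := fun {a b} => ThreeTrans.commute_conj_iff g a b
  have σperp : ∀ {a b}, σ a ∈ ThreeTrans.perp (roots h4 6) (σ b) ↔ a ∈ ThreeTrans.perp (roots h4 6) b :=
    fun {a b} => conj_mem_perp h g b
  have σs : ∀ a, ∃ b, σ b = a := σ.surjective
  have hp' : σ p = p0 h4 := hgp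
  have hy' : σ y = root h4 hY := hgy
  -- transported hypotheses
  have line' : ∀ x ∈ T, ∀ c, c ∈ ThreeTrans.perp (roots h4 6) (σ x) → ∃ e ∈ T,
      σ e ∈ ThreeTrans.perp (roots h4 6) (σ x) ∧
        ∀ z ∈ ThreeTrans.perp (roots h4 6) (σ x), Commute z c ↔ Commute z (σ e) := by
    intro x hx c hc
    obtain ⟨c, rfl⟩ := σs c
    obtain ⟨e, he, hep, htw⟩ := hline x hx c (σperp.mp hc)
    refine ⟨e, he, σperp.mpr hep, fun z hz => ?_⟩
    obtain ⟨z, rfl⟩ := σs z
    rw [σc, σc]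
    exact htw z (σperp.mp hz)
  have lift : ∀ C : Fin 6 → F, C ≠ 0 → ∀ hC : hh C C = 0, hh P0 C = 0 → root h4 hC ≠ p0 h4 →
      ∃ (α : F) (hα : hh (C + α • P0) (C + α • P0) = 0), C + α • P0 ≠ 0 ∧
        ∃ e ∈ T, σ e = root h4 hα := by
    intro C hC0 hC hPC hne
    obtain ⟨e, he, hep, htw⟩ := line' p hpT (root h4 hC) (by
      rw [hp']
      exact ⟨⟨_, hC0, _, rfl⟩, hne, (root_commute h4 hn (hP0 h4) hC (P0_ne h4) hC0).mpr hPC⟩)
    rw [hp'] at hep htw
    obtain ⟨α, hα, hα0, e'⟩ := twin_vec h4 (P0_ne h4) (hP0 h4) hC0 hC hne hPC hep htw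
    exact ⟨α, hα, hα0, e, he, e'.symm⟩
  have notP : ∀ {b : Fin 4 → F} (hb : hh (cat 0 b) (cat 0 b) = 0), cat (0 : Fin 2 → F) b ≠ 0 →
      root h4 hb ≠ p0 h4 := fun {b} hb hb0 k => by
    obtain ⟨a, ha, e'⟩ := root_eq h4 hn hb (hP0 h4) hb0 k
    rw [P0, ← cat_smul] at e'
    exact ha (by simpa using (congrFun (cat_inj e').1 0).symm)
  have h22 : hh C2 C2 = 0 := by rw [h_cat]; simp [hermForm, Fin.sum_univ_four]; exact add_self h4 1
  have h33 : hh C3 C3 = 0 := by
    rw [h_cat]; simp [hermForm, Fin.sum_univ_four]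
    linear_combination (w + 1) * hw2 + (w + 1) * two
  have hC20 : C2 ≠ 0 := fun e => by
    rw [show C2 = cat 0 ![0, 0, 1, 1] from rfl, ← cat_zero] at e
    simpa using congrFun (cat_inj e).2 3
  have hC30 : C3 ≠ 0 := fun e => by
    rw [show C3 = cat 0 ![0, 0, w, 1] from rfl, ← cat_zero] at e
    simpa using congrFun (cat_inj e).2 3
  have hP2 : hh P0 C2 = 0 := by rw [P0, h_cat]; simp [hermForm]
  have hP3 : hh P0 C3 = 0 := by rw [P0, h_cat]; simp [hermForm]
  obtain ⟨α₂, hα₂, ne₂, c₂, hc₂, e₂⟩ := lift C2 hC20 h22 hP2 (notP h22 hC20)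
  obtain ⟨α₃, hα₃, ne₃, c₃, hc₃, e₃⟩ := lift C3 hC30 h33 hP3 (notP h33 hC30)
  have hw1' : w + 1 ≠ 0 := fun e => hw1 (by rw [eq_neg_of_add_eq_zero_left e, neg_eq h4])
  have h32 : hh C3 C2 = w + 1 := by
    rw [h_cat]; simp [hermForm, Fin.sum_univ_four]
  have hw1c : qFrob hF (w + 1) = w := by
    rw [map_add, map_one, hwc]
    linear_combination add_self h4 (1 : F)
  have h23' : hh C2 C3 = w := by rw [← cj_h hF C3 C2, h32, hw1c]
  have h2P := h_comm_zero hF hP2
  have h3P := h_comm_zero hF hP3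
  have hYC2 : hh Y0 C2 = 0 := by rw [h_cat]; simp [hermForm, Fin.sum_univ_four]
  have hYC3 : hh Y0 C3 = 0 := by rw [h_cat]; simp [hermForm, Fin.sum_univ_four]
  have hYP := h_comm_zero hF hPY
  have e32 : hh (C3 + α₃ • P0) (C2 + α₂ • P0) = w + 1 := by
    rw [h_add_left, h_add_right hF, h_add_right hF, h_smul_left, h_smul_left, h_smul_right hF,
      h_smul_right hF, h32, h3P, hP2, hP0 h4]
    ring
  have n23 : ¬ Commute c₂ c₃ := fun k => hw1' (by
    have := (σc.mpr k).symm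
    rw [e₂, e₃, root_commute h4 hn hα₃ hα₂ ne₃ ne₂, e32] at this
    exact this)
  have hc₁ := hclosed _ hc₂ _ hc₃ n23
  let V := (C3 + α₃ • P0) + hh (C3 + α₃ • P0) (C2 + α₂ • P0) • (C2 + α₂ • P0)
  have hV : hh V V = 0 := braid_iso h4 hα₂ hα₃
  have e₁ : σ (c₂ * c₃ * c₂) = root h4 hV := by rw [map_mul, map_mul, e₂, e₃, root_braid h4 hα₂ hα₃]
  have hPV : hh P0 V = 0 := by
    simp only [V, h_add_right hF, h_smul_right hF, hP2, hP3, hP0 h4, mul_zero, add_zero]
  have hYV : hh Y0 V = 0 := by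
    simp only [V, h_add_right hF, h_smul_right hF, hYC2, hYC3, hYP, mul_zero, add_zero]
  have hC2V : hh C2 V = w := by
    simp only [V, h_add_right hF, h_smul_right hF, h22, h23', h2P, mul_zero, add_zero]
  have hV0 : V ≠ 0 := fun e => by
    have : hh C2 V = 0 := by rw [e, h_zero_right hF]
    rw [hC2V] at this
    exact hw0 this
  obtain ⟨δ, hδ⟩ : ∃ δ : F, δ = -(hh (Q0 w) V) / w := ⟨_, rfl⟩
  have hQC2 : hh (Q0 w) C2 = 0 := by rw [Q0, h_cat]; simp [hermForm]
  have hQY : hh (Q0 w) Y0 = 0 := by rw [Q0, h_cat]; simp [hermForm]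
  have hPQ := hPQ0 h4 hwc
  obtain ⟨D', hD'⟩ : ∃ D', D' = Q0 w + δ • C2 := ⟨_, rfl⟩
  have hDD : hh D' D' = 0 := by
    simp only [hD', h_add_left, h_add_right hF, h_smul_left, h_smul_right hF, hQ0 h4 hw0, hQC2,
      h_comm_zero hF hQC2, h22, mul_zero, add_zero]
  have hDV : hh D' V = 0 := by
    rw [hD', h_add_left, h_smul_left, hC2V, hδ, div_mul_cancel₀ _ hw0, add_neg_cancel]
  have hDY : hh D' Y0 = 0 := by
    rw [hD', h_add_left, h_smul_left, hQY, h_comm_zero hF hYC2, mul_zero, add_zero]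
  have hDP : hh D' P0 = w + 1 := by
    rw [hD', h_add_left, h_smul_left, h2P, mul_zero, add_zero, ← cj_h hF P0 (Q0 w), hPQ, hwc]
  have hbase : ∀ β : F, ∃ (α : F) (hE : hh (D' + β • Y0 + α • V) (D' + β • Y0 + α • V) = 0),
      D' + β • Y0 + α • V ≠ 0 ∧ hh (D' + β • Y0 + α • V) P0 = w + 1 ∧ ∃ e ∈ T, σ e = root h4 hE := by
    intro β
    have hZ : hh (D' + β • Y0) (D' + β • Y0) = 0 := by
      simp only [h_add_left, h_add_right hF, h_smul_left, h_smul_right hF, hDD, hDY,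
        h_comm_zero hF hDY, hY, mul_zero, add_zero]
    have hZP : hh (D' + β • Y0) P0 = w + 1 := by
      rw [h_add_left, h_smul_left, hDP, hYP, mul_zero, add_zero]
    have hZ0 : D' + β • Y0 ≠ 0 := fun e => hw1' (by rw [← hZP, e, h_zero_left])
    have hVP := h_comm_zero hF hPV
    have hVZ : hh V (D' + β • Y0) = 0 := by
      rw [h_add_right hF, h_smul_right hF, h_comm_zero hF hDV, h_comm_zero hF hYV, mul_zero, add_zero]
    have hne : root h4 hZ ≠ root h4 hV := fun k => hw1' (by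
      obtain ⟨a, -, e'⟩ := root_eq h4 hn hZ hV hZ0 k
      rw [← hZP, e', h_smul_left, hVP, mul_zero])
    obtain ⟨e, he, hep, htw⟩ := line' _ hc₁ (root h4 hZ) (by
      rw [e₁]
      exact ⟨⟨_, hZ0, _, rfl⟩, hne, (root_commute h4 hn hV hZ hV0 hZ0).mpr hVZ⟩)
    rw [e₁] at hep htw
    obtain ⟨α, hα, hα0, e'⟩ := twin_vec h4 hV0 hV hZ0 hZ hne hVZ hep htw
    refine ⟨α, hα, hα0, ?_, e, he, e'.symm⟩
    rw [h_add_left, h_smul_left, hZP, hVP, mul_zero, add_zero]
  choose α hE hE0 hEP e heT eσ using hbase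
  have hgood : ∃ β, hh (D' + β • Y0 + α β • V) (C2 + α₂ • P0) ≠ 0 := by
    by_contra hall
    push Not at hall
    have hVA : hh V (C2 + α₂ • P0) ≠ 0 := by
      rw [h_add_right hF, h_smul_right hF, ← cj_h hF C2 V, hC2V, h_comm_zero hF hPV, mul_zero,
        add_zero, hwc]
      exact hw1'
    have hYA : hh Y0 (C2 + α₂ • P0) = 0 := by
      rw [h_add_right hF, h_smul_right hF, hYC2, hYP, mul_zero, add_zero]
    have hα' : ∀ β, α β = α 0 := fun β => mul_right_cancel₀ hVA (by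
      have h1 := hall β
      have h2 := hall 0
      simp only [h_add_left, h_smul_left, hYA, mul_zero, add_zero] at h1 h2 ⊢
      linear_combination h1 - h2)
    have hB : ∀ β, D' + β • Y0 + α β • V = (D' + (0 : F) • Y0 + α 0 • V) + β • Y0 := fun β => by
      rw [hα', zero_smul, add_zero]; abel
    have step : ∀ β : F, β ≠ 0 → e β ∈ ThreeTrans.perp (roots h4 6) (e 0) ∧
        ∀ z ∈ ThreeTrans.perp (roots h4 6) (e 0), Commute z (e β) ↔ Commute z y := by
      intro β hβ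
      have hE0Y : hh (D' + (0 : F) • Y0 + α 0 • V) Y0 = 0 := by
        rw [zero_smul, add_zero, h_add_left, h_smul_left, hDY, h_comm_zero hF hYV, mul_zero, add_zero]
      have hperp : σ (e β) ∈ ThreeTrans.perp (roots h4 6) (σ (e 0)) := by
        rw [eσ, eσ]
        refine ⟨⟨_, hE0 β, _, rfl⟩, fun k => ?_, (root_commute h4 hn (hE 0) (hE β) (hE0 0) (hE0 β)).mpr
          (by rw [hB β, h_add_right hF, h_smul_right hF, hE 0, hE0Y, mul_zero, add_zero])⟩
        obtain ⟨a, ha, k'⟩ := root_eq h4 hn (hE β) (hE 0) (hE0 β) k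
        have h1 := congrArg (hh · P0) k'
        simp only [h_smul_left, hEP] at h1
        have ha1 : a = 1 := by
          have : (a - 1) * (w + 1) = 0 := by linear_combination -h1
          exact sub_eq_zero.mp ((mul_eq_zero.mp this).resolve_right hw1')
        rw [ha1, one_smul F (D' + (0 : F) • Y0 + α 0 • V), hB β, add_eq_left] at k'
        exact (smul_ne_zero hβ hY0) k'
      refine ⟨σperp.mp hperp, fun z hz => ?_⟩
      rw [← σc, ← σc (a := z) (b := y), hy', eσ]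
      have hz' := σperp.mpr hz
      rw [eσ] at hz'
      obtain ⟨⟨Z, hZ0, hZZ, eZ⟩, -, hzc⟩ := hz'
      rw [← eZ] at hzc ⊢
      have hZE : hh Z (D' + (0 : F) • Y0 + α 0 • V) = 0 :=
        (root_commute h4 hn hZZ (hE 0) hZ0 (hE0 0)).mp hzc.symm
      rw [root_commute h4 hn hZZ (hE β) hZ0 (hE0 β), root_commute h4 hn hZZ hY hZ0 hY0, hB,
        h_add_right hF, h_smul_right hF, hZE, zero_add, mul_eq_zero]
      exact or_iff_right (by simpa using hβ)
    obtain ⟨h1p, h1t⟩ := step 1 one_ne_zero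
    obtain ⟨h2p, h2t⟩ := step w hw0
    have := huniq _ (heT 0) _ (heT 1) _ (heT w) h1p h2p fun z hz => (h1t z hz).trans (h2t z hz).symm
    have k := congrArg σ this
    rw [eσ, eσ] at k
    obtain ⟨a, ha, k'⟩ := root_eq h4 hn (hE 1) (hE w) (hE0 1) k
    have h1 := congrArg (hh · P0) k'
    simp only [h_smul_left, hEP] at h1
    have ha1 : a = 1 := by
      have : (a - 1) * (w + 1) = 0 := by linear_combination -h1
      exact sub_eq_zero.mp ((mul_eq_zero.mp this).resolve_right hw1')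
    rw [ha1, one_smul F (D' + w • Y0 + α w • V), hB 1, hB w, add_right_inj] at k'
    exact hw1 (smul_left_injective F hY0 k').symm
  obtain ⟨β, hβ⟩ := hgood
  refine ⟨p, hpT, e β, heT β, c₂, hc₂, c₃, hc₃, ⟨hpy, σc.mp ?_, σc.mp ?_, σc.mp ?_⟩,
    σc.mp ?_, σc.mp ?_, fun k => ?_, fun k => ?_, fun k => ?_, n23, σc.mp ?_⟩
  · rw [eσ, hy']
    refine (root_commute h4 hn (hE β) hY (hE0 β) hY0).mpr ?_
    rw [h_add_left, h_add_left, h_smul_left, h_smul_left, hDY, hY, h_comm_zero hF hYV]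
    ring
  · rw [e₂, hy']
    refine (root_commute h4 hn hα₂ hY ne₂ hY0).mpr ?_
    rw [h_add_left, h_smul_left, h_comm_zero hF hYC2, hPY]
    ring
  · rw [e₃, hy']
    refine (root_commute h4 hn hα₃ hY ne₃ hY0).mpr ?_
    rw [h_add_left, h_smul_left, h_comm_zero hF hYC3, hPY]
    ring
  · rw [hp', e₂]
    refine (root_commute h4 hn (hP0 h4) hα₂ (P0_ne h4) ne₂).mpr ?_
    rw [h_add_right hF, h_smul_right hF, hP2, hP0 h4]
    ring
  · rw [hp', e₃]
    refine (root_commute h4 hn (hP0 h4) hα₃ (P0_ne h4) ne₃).mpr ?_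
    rw [h_add_right hF, h_smul_right hF, hP3, hP0 h4]
    ring
  · have := (σc.mpr k).symm
    rw [hp', eσ] at this
    rw [p0, root_commute h4 hn (hE β) (hP0 h4) (hE0 β) (P0_ne h4), hEP] at this
    exact hw1' this
  · have := σc.mpr k
    rw [e₂, eσ, root_commute h4 hn (hE β) hα₂ (hE0 β) ne₂] at this
    exact hβ this
  · have := σc.mpr k
    rw [e₃, eσ, root_commute h4 hn (hE β) hα₃ (hE0 β) ne₃] at this
    refine hβ ((mul_eq_zero.mp ?_).resolve_left hw0)
    have h1 : hh (D' + β • Y0 + α β • V) V = 0 := by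
      rw [h_add_left, h_add_left, h_smul_left, h_smul_left, hDV, hYV, hV]
      ring
    have hVexp : ∀ X, hh X V = hh X (C3 + α₃ • P0) + w * hh X (C2 + α₂ • P0) := fun X => by
      simp only [V, e32]
      rw [h_add_right hF, h_smul_right hF, hw1c]
    rw [hVexp, this, zero_add] at h1
    exact h1
  · rw [eσ, e₁]
    refine (root_commute h4 hn (hE β) hV (hE0 β) hV0).mpr ?_
    rw [h_add_left, h_add_left, h_smul_left, h_smul_left, hDV, hYV, hV]
    ring

end Cfsg.Agent.Block.FischerTypes.U6
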