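import Cfsg.Agent.Lib.Block.FischerTypes.M22Centralizer
import Cfsg.Agent.Lib.Block.FischerTypes.U6Star
import Cfsg.Agent.Lib.Block.FischerTypes.U6Pair

/-! Facts about groups of type M(22) used one level higher. -/

set_option autoImplicit false
set_option linter.style.haveILetI false
set_option linter.unusedSectionVars false

namespace Cfsg.Agent.Block.FischerTypes.M22

open Cfsg.Agent.Spor.ThreeTrans
open Cfsg.Agent.Spor.UnitTwo (card_sq)

variable {G : Type*} [Group G] [Finite G] {D : Set G} (C : Ctx D)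
include C

/-- Commuting members have a common perpendicular. -/
theorem common_nonempty {p q : G} (hp : p ∈ D) (hq : q ∈ perp D p) : (common D p q).Nonempty := by
  obtain ⟨F, _, _, h4, Φ, hsurj, hmem, hlift, hinj, hcom, hker⟩ := C.mdl p hp
  obtain ⟨r, hr⟩ := perp_nonempty (U6.roots_hyp h4) (hmem q hq)
  obtain ⟨z, hz, rfl⟩ := hlift r hr.1
  exact ⟨z, hz, hz.1, fun k => hr.2.1 (by subst k; rfl), (hcom q hq z hz).mp hr.2.2⟩

/-- A noncommuting pair in a perpendicular meets inside it. -/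
theorem pair_common {q x y : G} (hq : q ∈ D) (hx : x ∈ perp D q) (hy : y ∈ perp D q)
    (hxy : ¬ Commute x y) : ∃ z ∈ perp D q, Commute z x ∧ Commute z y := by
  obtain ⟨F, _, _, h4, Φ, hsurj, hmem, hlift, hinj, hcom, hker⟩ := C.mdl q hq
  obtain ⟨r, hr, -, -, c1, c2⟩ := U6.pair_common h4 (hmem x hx) (hmem y hy)
    (fun k => hxy ((hcom x hx y hy).mp k))
  obtain ⟨z, hz, rfl⟩ := hlift r hr
  exact ⟨z, hz, (hcom z hz x hx).mp c1, (hcom z hz y hy).mp c2⟩

/-- A line through a member meets the common perpendicular of a noncommuting pair. -/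
theorem line_meet {v d f c : G} (hv : v ∈ D) (hd : d ∈ perp D v) (hf : f ∈ perp D v)
    (hdf : ¬ Commute d f) (hc : c ∈ perp D v) (hcd : Commute c d) (hne : c ≠ d) :
    ∃ e ∈ perp D v, Commute e d ∧ Commute e f ∧
      ∀ y ∈ perp D v, Commute y d → (Commute y c ↔ Commute y e) := by
  obtain ⟨K, _, _, k4, Ψ, ksurj, kmem, klift, kinj, kcom, -⟩ := C.mdl v hv
  obtain ⟨P, hP, hPP, eP⟩ := kmem d hd
  obtain ⟨Q, hQ, hQQ, eQ⟩ := kmem f hf
  obtain ⟨V, hV, hVV, eV⟩ := kmem c hc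
  have hn : (1 : ℕ) ≤ 6 := by norm_num
  have hPQ : hermForm 6 K 2 P Q ≠ 0 := fun k => hdf ((kcom d hd f hf).mp (by
    rw [← eP, ← eQ]; exact (U6.root_commute k4 hn hPP hQQ hP hQ).mpr k))
  have hPV : hermForm 6 K 2 P V = 0 := (U6.root_commute k4 hn hPP hVV hP hV).mp (by
    rw [eP, eV]; exact (kcom d hd c hc).mpr hcd.symm)
  have hVP := Cfsg.Agent.Classical.PSUAut.h_comm_zero (card_sq k4) hPV
  obtain ⟨α, hα⟩ : ∃ α : K, α = -(hermForm 6 K 2 V Q) / hermForm 6 K 2 P Q := ⟨_, rfl⟩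
  open Cfsg.Agent.Classical.PSUAut in
  have hEE : hermForm 6 K 2 (V + α • P) (V + α • P) = 0 := by
    rw [h_add_left, h_add_right (card_sq k4), h_add_right (card_sq k4), h_smul_left, h_smul_left,
      h_smul_right (card_sq k4), h_smul_right (card_sq k4), hVV, hVP, hPV, hPP]
    ring
  have hind : ∀ a : K, V + α • P ≠ a • P := fun a k => by
    have e' : V = (a - α) • P := by rw [sub_smul, ← k, add_sub_cancel_right]
    refine hne (kinj c hc d hd ?_)
    rw [← eV, ← eP, U6.root_congr k4 hVV (e' ▸ hVV) e']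
    exact U6.root_smul k4 hPP (fun h0 => hV (by rw [e', h0, zero_smul])) _
  have hE0 : V + α • P ≠ 0 := fun k => hind 0 (by rw [k, zero_smul])
  obtain ⟨e, he, eE⟩ := klift _ ⟨V + α • P, hE0, hEE, rfl⟩
  open Cfsg.Agent.Classical.PSUAut in
  refine ⟨e, he, (kcom e he d hd).mp (by
      rw [eE, ← eP, U6.root_commute k4 hn hEE hPP hE0 hP, h_add_left, h_smul_left, hVP, hPP,
        mul_zero, add_zero]),
    (kcom e he f hf).mp (by
      rw [eE, ← eQ, U6.root_commute k4 hn hEE hQQ hE0 hQ, h_add_left, h_smul_left, hα,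
        div_mul_cancel₀ _ hPQ, add_neg_cancel]), fun y hy hyd => ?_⟩
  rw [← kcom y hy c hc, ← kcom y hy e he, eE, ← eV]
  obtain ⟨Y, hY, hYY, eY⟩ := kmem y hy
  have hYP : hermForm 6 K 2 Y P = 0 := (U6.root_commute k4 hn hYY hPP hY hP).mp (by
    rw [eP, eY]; exact (kcom y hy d hd).mpr hyd)
  open Cfsg.Agent.Classical.PSUAut in
  rw [← eY, U6.root_commute k4 hn hYY hVV hY hV, U6.root_commute k4 hn hYY hEE hY hE0,
    h_add_right (card_sq k4), h_smul_right (card_sq k4), hYP, mul_zero, add_zero]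

/-- Only one member of a line commutes with a partner apart. -/
theorem line_unique {v d f e e' : G} (hv : v ∈ D) (hd : d ∈ perp D v) (hf : f ∈ perp D v)
    (hdf : ¬ Commute d f) (he : e ∈ perp D v) (he' : e' ∈ perp D v) (hed : Commute e d)
    (hef : Commute e f) (hed' : Commute e' d) (hef' : Commute e' f)
    (htw : ∀ y ∈ perp D v, y ≠ d → Commute y d → (Commute y e ↔ Commute y e')) : e = e' := by
  obtain ⟨K, _, _, k4, Ψ, ksurj, kmem, klift, kinj, kcom, -⟩ := C.mdl v hv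
  obtain ⟨P, hP, hPP, eP⟩ := kmem d hd
  obtain ⟨Q, hQ, hQQ, eQ⟩ := kmem f hf
  obtain ⟨E, hE, hEE, eE⟩ := kmem e he
  have hn : (1 : ℕ) ≤ 6 := by norm_num
  have hPQ : hermForm 6 K 2 P Q ≠ 0 := fun k => hdf ((kcom d hd f hf).mp (by
    rw [← eP, ← eQ]; exact (U6.root_commute k4 hn hPP hQQ hP hQ).mpr k))
  have hPE : hermForm 6 K 2 P E = 0 := (U6.root_commute k4 hn hPP hEE hP hE).mp (by
    rw [eP, eE]; exact (kcom d hd e he).mpr hed.symm)
  have hne : U6.root k4 hEE ≠ U6.root k4 hPP := fun k => by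
    rw [eE, eP] at k
    have := kinj e he d hd k
    exact hdf (this ▸ hef)
  obtain ⟨α, hα, hα0, eα⟩ := U6.twin_vec k4 hP hPP hE hEE hne hPE (e := Ψ (el he')) (by
      rw [eP]
      exact ⟨kmem e' he', fun k => hdf (kinj e' he' d hd k ▸ hef'), (kcom d hd e' he').mpr hed'.symm⟩)
    (fun z hz => by
      rw [eP] at hz
      obtain ⟨y, hy, rfl⟩ := klift z hz.1
      rw [eE, kcom y hy e he, kcom y hy e' he']
      exact htw y hy (fun k => hz.2.1 (by subst k; rfl)) ((kcom d hd y hy).mp hz.2.2).symm)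
  open Cfsg.Agent.Classical.PSUAut in
  have h0 : α = 0 := by
    have h1 := (U6.root_commute k4 hn hα hQQ hα0 hQ).mp (by
      rw [eα, eQ]; exact (kcom e' he' f hf).mpr hef')
    have h2 := (U6.root_commute k4 hn hEE hQQ hE hQ).mp (by
      rw [eE, eQ]; exact (kcom e he f hf).mpr hef)
    rw [h_add_left, h_smul_left, h2, zero_add] at h1
    exact (mul_eq_zero.mp h1).resolve_right hPQ
  refine kinj e he e' he' ?_
  rw [← eE, ← eα]
  exact U6.root_congr k4 _ _ (by rw [h0, zero_smul, add_zero])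

/-- A set with exactly one further point on every line meets each perpendicular next to a member. -/
theorem meet {S : Set G} (hS : S ⊆ D)
    (hclosed : ∀ s ∈ S, ∀ s' ∈ S, ¬ Commute s s' → s * s' * s ∈ S)
    (hne : ∀ s ∈ S, ∃ t ∈ S, t ∈ perp D s)
    (hline : ∀ s ∈ S, ∀ t ∈ S, t ∈ perp D s → ∀ c ∈ common D s t, ∃ e ∈ S, e ∈ common D s t ∧
      ∀ y ∈ common D s t, Commute y c ↔ Commute y e)
    (huniq : ∀ s ∈ S, ∀ t ∈ S, t ∈ perp D s → ∀ e ∈ S, ∀ e' ∈ S, e ∈ common D s t → e' ∈ common D s t →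
      (∀ y ∈ common D s t, Commute y e ↔ Commute y e') → e = e')
    {x w : G} (hx : x ∈ S) (hw : w ∈ D) (hxw : ¬ Commute x w) :
    ∃ z ∈ S, z ∈ perp D x ∧ Commute z w := by
  classical
  have h := C.set.cls
  obtain ⟨y, hyx, hyw⟩ := C.meets x (hS hx) w hw hxw
  by_cases hyS : y ∈ S
  · exact ⟨y, hyS, hyx, hyw.2.2.symm⟩
  obtain ⟨F, _, _, h4, Φ, hsurj, hmem, hlift, hinj, hcom, hker⟩ := C.mdl x (hS hx)
  let T : Set (PSU 6 F 2) := {r | ∃ (u : G) (hu : u ∈ perp D x), u ∈ S ∧ Φ (el hu) = r}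
  have hcl : ∀ {u v : G}, u ∈ perp D x → v ∈ perp D x → u * v * u ∈ perp D x := fun {u v} hu hv => by
    have h1 : u * v * u⁻¹ ∈ perp D x := perp_conj' h hu.2.2.symm hv
    rwa [inv_eq h.1 hu.1] at h1
  have hTcl : ∀ s ∈ T, ∀ s' ∈ T, ¬ Commute s s' → s * s' * s ∈ T := by
    rintro _ ⟨u, hu, huS, rfl⟩ _ ⟨v, hv, hvS, rfl⟩ k
    exact ⟨_, hcl hu hv, hclosed u huS v hvS fun k' => k ((hcom u hu v hv).mpr k'),
      by rw [← map_mul, ← map_mul]; rfl⟩
  have toU : ∀ {u : G} (hu : u ∈ perp D x) (c : G) (hc : c ∈ perp D x),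
      Φ (el hc) ∈ perp (U6.roots h4 6) (Φ (el hu)) ↔ c ∈ perp D u := fun {u} hu c hc =>
    ⟨fun k => ⟨hc.1, fun e => k.2.1 (by subst e; rfl), (hcom u hu c hc).mp k.2.2⟩,
      fun k => ⟨hmem c hc, fun e => k.2.1 (hinj c hc u hu e), (hcom u hu c hc).mpr k.2.2⟩⟩
  obtain ⟨_, ⟨p, hp, hpS, rfl⟩, _, ⟨e, he, heS, rfl⟩, _, ⟨c₂, h2, h2S, rfl⟩, _, ⟨c₃, h3, h3S, rfl⟩,
      ⟨kp, ke, k2, k3⟩, hst⟩ := U6.exists_star h4 (T := T)
    (fun r ⟨u, hu, _, e⟩ => e ▸ hmem u hu)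
    (by obtain ⟨t, ht, ht'⟩ := hne x hx; exact ⟨_, t, ht', ht, rfl⟩)
    (by
      rintro _ ⟨u, hu, huS, rfl⟩ c hc
      obtain ⟨c, hcx, rfl⟩ := hlift c hc.1
      obtain ⟨e, he, hec, htw⟩ := hline x hx u huS hu c ⟨hcx, (toU hu c hcx).mp hc⟩
      refine ⟨_, ⟨e, hec.1, he, rfl⟩, (toU hu e hec.1).mpr hec.2, fun z hz => ?_⟩
      obtain ⟨z, hzx, rfl⟩ := hlift z hz.1
      rw [hcom z hzx c hcx, hcom z hzx e hec.1]
      exact htw z ⟨hzx, (toU hu z hzx).mp hz⟩)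
    (by
      rintro _ ⟨u, hu, huS, rfl⟩ _ ⟨e, he, heS, rfl⟩ _ ⟨e', he', heS', rfl⟩ k k' htw
      have := huniq x hx u huS hu e heS e' heS' ⟨he, (toU hu e he).mp k⟩ ⟨he', (toU hu e' he').mp k'⟩
        fun z hz => by
          rw [← hcom z hz.1 e he, ← hcom z hz.1 e' he']
          exact htw _ ((toU hu z hz.1).mpr hz.2)
      subst this
      rfl)
    hTcl (hmem y hyx) (by
      rintro ⟨u, hu, huS, e⟩
      exact hyS (hinj u hu y hyx e ▸ huS))
  obtain ⟨F', _, _, g4, Ψ, -, gmem, glift, ginj, gcom, -⟩ := C.mdl y hyx.1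
  have mem_y : ∀ {u : G} (hu : u ∈ perp D x), u ∈ S → Commute (Φ (el hu)) (Φ (el hyx)) → u ∈ perp D y :=
    fun {u} hu huS k => ⟨hu.1, fun e => hyS (e ▸ huS), ((hcom u hu y hyx).mp k).symm⟩
  have hwy : w ∈ perp D y := perp_symm hw hyw
  have py := mem_y hp hpS kp
  have ey := mem_y he heS ke
  have y2 := mem_y h2 h2S k2
  have y3 := mem_y h3 h3S k3
  obtain ⟨s1, s2, s3, s4, s5, s6, s7⟩ := hst
  rw [hcom p hp c₂ h2] at s1
  rw [hcom p hp c₃ h3] at s2
  rw [hcom p hp e he] at s3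
  rw [hcom e he c₂ h2] at s4
  rw [hcom e he c₃ h3] at s5
  rw [hcom c₂ h2 c₃ h3] at s6
  have y1 : c₂ * c₃ * c₂ ∈ perp D y := by
    have h1 : c₂ * c₃ * c₂⁻¹ ∈ perp D y := perp_conj' h y2.2.2.symm y3
    rwa [inv_eq h.1 y2.1] at h1
  have s7' : Commute e (c₂ * c₃ * c₂) := (hcom e he _ (hcl h2 h3)).mp (by
    rw [show el (hcl h2 h3) = el h2 * el h3 * el h2 from rfl, map_mul, map_mul]; exact s7)
  let U : Set (PSU 6 F' 2) := {r | ∃ (u : G) (hu : u ∈ perp D y), u ∈ perp D x ∧ u ∈ S ∧ Ψ (el hu) = r}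
  obtain ⟨_, ⟨z, hz, hzx, hzS, rfl⟩, hzw⟩ := U6.star_meets g4 (U := U) (w := Ψ (el hwy))
    (by
      rintro _ ⟨u, hu, hux, huS, rfl⟩ _ ⟨v, hv, hvx, hvS, rfl⟩ k
      have h1 : u * v * u⁻¹ ∈ perp D y := perp_conj' h hu.2.2.symm hv
      rw [inv_eq h.1 hu.1] at h1
      exact ⟨_, h1, hcl hux hvx, hclosed u huS v hvS fun k' => k ((gcom u hu v hv).mpr k'),
        by rw [← map_mul, ← map_mul]; rfl⟩)
    (gmem p py) (gmem e ey) (gmem c₂ y2) (gmem c₃ y3) (gmem w hwy)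
    ⟨(gcom p py c₂ y2).mpr s1, (gcom p py c₃ y3).mpr s2, fun k => s3 ((gcom p py e ey).mp k),
      fun k => s4 ((gcom e ey c₂ y2).mp k), fun k => s5 ((gcom e ey c₃ y3).mp k),
      fun k => s6 ((gcom c₂ y2 c₃ y3).mp k), by
        rw [← map_mul, ← map_mul]
        exact (gcom e ey _ y1).mpr s7'⟩
    ⟨p, py, hp, hpS, rfl⟩ ⟨e, ey, he, heS, rfl⟩ ⟨c₂, y2, h2, h2S, rfl⟩ ⟨c₃, y3, h3, h3S, rfl⟩
  exact ⟨z, hzS, hzx, (gcom z hz w hwy).mp hzw⟩

/-- Five commuting members have product different from one. -/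
theorem no_five {l : List G} (hn : l.Nodup) (hlen : l.length = 5) (hl : ∀ x ∈ l, x ∈ D)
    (hc : ∀ x ∈ l, ∀ y ∈ l, Commute x y) : l.prod ≠ 1 := by
  intro he
  match l, hlen with
  | [a, b, c, e, f], _ =>
    simp only [List.nodup_cons, List.mem_cons, List.not_mem_nil, or_false, not_or, List.nodup_nil,
      not_false_eq_true, and_true] at hn
    obtain ⟨⟨hab, hac, hae, haf⟩, ⟨hbc, hbe, hbf⟩, ⟨hce, hcf⟩, hef⟩ := hn
    have ha := hl a (by simp)
    have hb : b ∈ perp D a := ⟨hl b (by simp), Ne.symm hab, hc a (by simp) b (by simp)⟩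
    have hc' : c ∈ perp D a := ⟨hl c (by simp), Ne.symm hac, hc a (by simp) c (by simp)⟩
    have he' : e ∈ perp D a := ⟨hl e (by simp), Ne.symm hae, hc a (by simp) e (by simp)⟩
    have hf : f ∈ perp D a := ⟨hl f (by simp), Ne.symm haf, hc a (by simp) f (by simp)⟩
    obtain ⟨F, _, _, h4, Φ, hsurj, hmem, hlift, hinj, hcom, hker⟩ := C.mdl a ha
    haveI := (psu_six h4).1
    have hA : Φ ⟨a, C.self a ha⟩ = 1 := by
      obtain ⟨-, x₀, y₀, hxy⟩ := psu_six h4
      have hz : Φ ⟨a, C.self a ha⟩ ∈ Subgroup.center (PSU 6 F 2) := Subgroup.mem_center_iff.mpr fun g => by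
        obtain ⟨g, rfl⟩ := hsurj g
        rw [← map_mul, ← map_mul]
        exact congrArg Φ (Subtype.ext (commute_self g.2).eq)
      have hbot : Subgroup.center (PSU 6 F 2) = ⊥ :=
        (Subgroup.Normal.eq_bot_or_eq_top inferInstance).resolve_right fun ht =>
          hxy (Subgroup.mem_center_iff.mp (ht ▸ Subgroup.mem_top x₀) y₀).symm
      rwa [hbot, Subgroup.mem_bot] at hz
    have e4 : el hb * el hc' * el he' * el hf = ⟨a, C.self a ha⟩ := Subtype.ext (by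
      show b * c * e * f = a
      have h5 : a * (b * c * e * f) = 1 := by simpa [mul_assoc] using he
      rw [eq_inv_of_mul_eq_one_right h5, inv_eq C.set.cls.1 ha])
    refine U6.no_four h4 (p := Φ (el hb)) (q := Φ (el hc')) (r := Φ (el he')) (s := Φ (el hf)) ?_ ?_ ?_ ?_
    · simp only [List.nodup_cons, List.mem_cons, List.not_mem_nil, or_false, not_or, List.nodup_nil,
        not_false_eq_true, and_true]
      exact ⟨⟨fun k => hbc (hinj _ _ _ _ k), fun k => hbe (hinj _ _ _ _ k), fun k => hbf (hinj _ _ _ _ k)⟩,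
        ⟨fun k => hce (hinj _ _ _ _ k), fun k => hcf (hinj _ _ _ _ k)⟩, fun k => hef (hinj _ _ _ _ k)⟩
    · simp [hmem]
    · simp only [List.mem_cons, List.not_mem_nil, or_false]
      rintro _ (rfl | rfl | rfl | rfl) _ (rfl | rfl | rfl | rfl) <;>
        exact (hcom _ _ _ _).mpr (hc _ (by simp) _ (by simp))
    · have := congrArg Φ e4
      simp only [map_mul, hA] at this
      simpa [mul_assoc] using this

end Cfsg.Agent.Block.FischerTypes.M22
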