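import Cfsg.Agent.Lib.Block.FischerTypes.Transfer
import Cfsg.Agent.Lib.Block.FischerTypes.M22Meet
import Cfsg.Agent.Lib.Spor.ReflectionStructThree

/-! The perpendicular quotients of a group of type M(23). -/

set_option autoImplicit false
set_option linter.style.haveILetI false
set_option linter.unusedSectionVars false

namespace Cfsg.Agent.Block.FischerTypes

open Cfsg.Agent.Spor.ThreeTrans

variable {G : Type*} [Group G] [Finite G] {D : Set G}

/-- Facts of type M(22) from local ones. -/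
theorem M22.ctx_of_parts (S : Setting D) (hcen : Subgroup.center G = ⊥)
    (hmod : ∀ a ∈ D, HasModel D a) (hne : ∃ d ∈ D, (perp D d).Nonempty) : M22.Ctx D := by
  have h := S.cls
  have hat : ∀ a ∈ D, HexadAt D a := fun a ha => by
    obtain ⟨F, _, _, h4, ⟨e⟩⟩ := hmod a ha
    exact fun b hb c hc => local_hexad h S.tf ha h4 e hb hc
  have hmeets : ∀ a ∈ D, ∀ c ∈ D, ¬ Commute a c → (common D a c).Nonempty := by
    intro a ha c hc hac
    obtain ⟨b, hb⟩ := S.perp_ne a ha
    obtain ⟨b₁, hb₁, b₂, hb₂, hbb⟩ := exists_perp_noncommute (simple_of_hasModel (hmod b hb.1)).2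
    obtain ⟨g, hg1, hg2⟩ := apart_pair_conj S hb₁.1 hb₂.1 hbb ha hc hac
    refine ⟨g * b * g⁻¹, ?_, ?_⟩
    · rw [← hg1]
      exact (conj_mem_perp h g b₁).mpr ⟨hb.1, Ne.symm hb₁.2.1, hb₁.2.2.symm⟩
    · rw [← hg2]
      exact (conj_mem_perp h g b₂).mpr ⟨hb.1, Ne.symm hb₂.2.1, hb₂.2.2.symm⟩
  obtain ⟨d, hd, u, hu⟩ := hne
  have hfive : ∀ a ∈ D, ∃ m : List G, (∀ x ∈ m, x ∈ perp D a) ∧ m.prod = a := fun a ha => by
    obtain ⟨c, hc, hac⟩ := exists_not_commute h ⟨d, hd, u, hu.1, hu.2.1.symm⟩ ha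
    obtain ⟨⟨m, -, hm, hm'⟩, -⟩ := five_six S hcen hat hmod ha hc hac (hmeets a ha c hc hac)
    exact ⟨m, hm, hm'⟩
  have hself : ∀ a ∈ D, a ∈ PerpGroup D a := fun a ha => by
    obtain ⟨m, hm, hm'⟩ := hfive a ha
    have : m.prod ∈ PerpGroup D a := list_prod_mem fun x hx => Subgroup.subset_closure (hm x hx)
    rwa [hm'] at this
  refine ⟨S, hcen, hat, fun a ha => ?_, hself, fun a ha => ?_, hmeets⟩
  · obtain ⟨F, _, _, h4, ⟨e⟩⟩ := hmod a ha
    obtain ⟨Φ, hΦ⟩ := M22.exists_isModel h S.tf ha h4 e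
    exact ⟨F, _, _, h4, Φ, hΦ⟩
  · ext z
    rw [Subgroup.mem_subgroupOf]
    constructor
    · intro hz
      obtain ⟨c, hc, hac⟩ := exists_not_commute h ⟨d, hd, u, hu.1, hu.2.1.symm⟩ ha
      rcases centre_perp S hcen ha hc hac (hmeets a ha c hc hac) hmod (commute_of_center hz (hself a ha))
          (fun y hy => commute_of_center hz (Subgroup.subset_closure hy)) with k | k <;> rw [k]
      exacts [one_mem _, Subgroup.mem_zpowers a]
    · rintro ⟨n, hn⟩
      refine Subgroup.mem_center_iff.mpr fun g => Subtype.ext ?_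
      show (g : G) * z = z * g
      rw [← hn]
      exact ((commute_all (fun x hx => hx.2.2.symm) g.2).zpow_right n).eq

theorem not_solvable_reflection {X : Type*} [Group X] {n : ℕ} (hn : 5 ≤ n) {μ c : ZMod 3} (hc : c ≠ 0)
    (h : IsProjReflectionGroupModThree X n μ c) : ¬ Group.IsSolvable X := by
  intro hs
  obtain ⟨Q, hQ, -, ⟨e⟩⟩ := h
  obtain ⟨hq, -, -, -⟩ := Cfsg.Agent.Spor.ReflThree.reflection_structure hn hQ hc
  set R := reflectionSubgroup (⇑Q) c
  haveI := hs
  haveI := Group.isSolvable_of_surjective (f := e.toMonoidHom) e.surjective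
  haveI : Group.IsSolvable ↥R :=
    (Group.isSolvable_iff_subgroup_quotient (Subgroup.center ↥R)).mpr
      ⟨Group.isSolvable_of_comm fun a b => Subtype.ext (Subgroup.mem_center_iff.mp b.2 a), inferInstance⟩
  obtain ⟨hp, hsimple⟩ := hq
  haveI := hsimple
  have hlt := Group.IsSolvable.commutator_lt_top_of_nontrivial
    (G := ↥(commutator ↥R) ⧸ Subgroup.center ↥(commutator ↥R))
  haveI := hp
  refine hlt.ne ?_
  rw [eq_top_iff, ← Subgroup.map_top_of_surjective (QuotientGroup.mk' (Subgroup.center ↥(commutator ↥R)))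
    (QuotientGroup.mk'_surjective _), ← hp.commutator_eq_top, commutator_def, commutator_def,
    Subgroup.map_commutator]
  exact Subgroup.commutator_mono le_top le_top

/-- The perpendicular quotients of type M(23) are of type M(22). -/
theorem m23_levels (hD : IsThreeTranspositionGroup D) (hprim : IsPrimitiveUnderConj D)
    (h23 : IsOfTypeM23 G D) : Setting D ∧ Subgroup.center G = ⊥ ∧
      (∀ a ∈ D, M22.Ctx (perpSet D a)) ∧ ∀ a ∈ D, ∀ c ∈ D, ¬ Commute a c →
        (common D a c).Nonempty ∧ ∀ x ∈ common D a c, ∃ y ∈ common D a c, y ≠ x ∧ Commute x y := by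
  obtain ⟨hcen, d, hd, c, hc, hdc, h22, c₃, hc₃, hrefl⟩ := h23
  have h22' : IsOfTypeM22 (PerpQuot D d) (perpSet D d) := h22
  obtain ⟨hcenK, d', hd', c', hc', hdc', hF, -⟩ := id h22'
  obtain ⟨b, hb, -⟩ := exists_of_mem hd'
  have h := class_of_prim hD hprim
  obtain ⟨H, htf⟩ := hyp_of_prim h hprim hcen ⟨d, hd, c, hc, hdc⟩ ⟨d, hd, b, hb⟩
  have hcls : ∀ a ∈ D, IsThreeTranspositionClass (perpSet D a) := fun a ha =>
    perpSet_class h htf ha (perp_nonempty H ha) fun y hy y' hy' => transitive_perp H ha hy hy'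
  have hmodd : ∀ x ∈ perpSet D d, HasModel (perpSet D d) x := fun x hx => by
    obtain ⟨g, rfl⟩ := transitive (hcls d hd) hd' hx
    exact hasModel_conj (hcls d hd) g hF
  have hall : ∀ a ∈ D, Subgroup.center (PerpQuot D a) = ⊥ ∧ ∀ x ∈ perpSet D a, HasModel (perpSet D a) x := by
    intro a ha
    obtain ⟨g, rfl⟩ := transitive h hd ha
    obtain ⟨σ, hσ⟩ := quot_conj h g d
    refine ⟨center_bot_map σ hcenK, fun x hx => ?_⟩
    rw [← hσ] at hx ⊢
    obtain ⟨x, hx', rfl⟩ := hx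
    exact hasModel_map σ _ (hmodd x hx')
  have hnc : ∀ a ∈ D, ∃ u ∈ perpSet D a, ∃ v ∈ perpSet D a, ¬ Commute u v := fun a ha => by
    obtain ⟨b, hb⟩ := perp_nonempty H ha
    obtain ⟨u, hu, v, hv, huv⟩ := exists_perp_noncommute (simple_of_hasModel ((hall a ha).2 _ (pr_mem hb))).2
    exact ⟨u, hu.1, v, hv.1, huv⟩
  have hcores : ∀ a ∈ D, pCore 2 (PerpQuot D a) = ⊥ ∧ pCore 3 (PerpQuot D a) = ⊥ := fun a ha => by
    haveI : Fact (Nat.Prime 2) := ⟨Nat.prime_two⟩
    obtain ⟨b, hb⟩ := perp_nonempty H ha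
    obtain ⟨hs, hn⟩ := simple_of_hasModel ((hall a ha).2 _ (pr_mem hb))
    exact cores_bot (hcls a ha) (hall a ha).1 (twinFree_of_perpQuot (hcls a ha) (pr_mem hb)
      (pCore_eq_bot_of_simple 2 hs hn) (exists_perp_noncommute hn)) (hall a ha).2
  have S : Setting D := ⟨h, H, htf, fun a ha => perp_nonempty H ha, fun a ha => (hcores a ha).1,
    fun a ha => (hcores a ha).2⟩
  have hL : ¬ Group.IsSolvable ↥(Subgroup.closure (common D d c)) := fun hs => by
    refine not_solvable_reflection (by norm_num) hc₃ hrefl ?_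
    haveI : Group.IsSolvable ↥(Subgroup.closure
        ({y : G | y ∈ D ∧ y ≠ d ∧ Commute d y} ∩ {y : G | y ∈ D ∧ y ≠ c ∧ Commute c y})) := hs
    exact Group.isSolvable_of_surjective (QuotientGroup.mk'_surjective _)
  have hP : ∀ a ∈ D, ∀ a' ∈ D, ¬ Commute a a' → (common D a a').Nonempty ∧
      ∀ x ∈ common D a a', ∃ y ∈ common D a a', y ≠ x ∧ Commute x y := by
    intro a ha a' ha' haa
    obtain ⟨g, rfl, rfl⟩ := apart_pair_conj S hd hc hdc ha ha' haa
    constructor
    · by_contra hne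
      rw [Set.not_nonempty_iff_eq_empty] at hne
      refine hL ?_
      have : common D d c = ∅ := Set.eq_empty_iff_forall_notMem.mpr fun x hx =>
        Set.eq_empty_iff_forall_notMem.mp hne (g * x * g⁻¹)
          ⟨(conj_mem_perp h g d).mpr hx.1, (conj_mem_perp h g c).mpr hx.2⟩
      rw [this, Subgroup.closure_empty]
      exact Group.isSolvable_of_comm fun a b => Subsingleton.elim _ _
    · intro x hx
      obtain ⟨y, hy, hyx, hxy⟩ := exists_commuting_common h hL _ (pull h g hx)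
      refine ⟨g * y * g⁻¹, ⟨(conj_mem_perp h g d).mpr hy.1, (conj_mem_perp h g c).mpr hy.2⟩,
        fun e => hyx ?_, ?_⟩
      · rw [← e]; simp [mul_assoc]
      · have := (commute_conj_iff g _ _).mpr hxy
        simpa [mul_assoc] using this
  refine ⟨S, hcen, fun a ha => ?_, hP⟩
  obtain ⟨a', ha', haa⟩ := exists_not_commute h ⟨d, hd, c, hc, fun e => hdc (e ▸ Commute.refl d)⟩ ha
  have HK := hyp_perp S ha ha' haa (hP a ha a' ha' haa).2 (hall a ha).1 (hnc a ha)
  obtain ⟨b, hb⟩ := perp_nonempty H ha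
  haveI : Fact (Nat.Prime 2) := ⟨Nat.prime_two⟩
  haveI : Fact (Nat.Prime 3) := ⟨Nat.prime_three⟩
  have SK : Setting (perpSet D a) := ⟨hcls a ha, HK, S.qtf ha, fun x hx => perp_nonempty HK hx,
    fun x hx => pCore_eq_bot_of_simple 2 (simple_of_hasModel ((hall a ha).2 x hx)).1
      (simple_of_hasModel ((hall a ha).2 x hx)).2,
    fun x hx => pCore_eq_bot_of_simple 3 (simple_of_hasModel ((hall a ha).2 x hx)).1
      (simple_of_hasModel ((hall a ha).2 x hx)).2⟩
  exact M22.ctx_of_parts SK (hall a ha).1 (hall a ha).2 ⟨_, pr_mem hb, perp_nonempty HK (pr_mem hb)⟩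

end Cfsg.Agent.Block.FischerTypes
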