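import Cfsg.Agent.Lib.Block.FischerTypes.M22Involutions
import Cfsg.Agent.Lib.Block.FischerTypes.M23Setting

/-! Double covers of groups of type M(22). -/

set_option autoImplicit false
set_option linter.style.haveILetI false
set_option linter.unusedSectionVars false

namespace Cfsg.Agent.Block.FischerTypes

open Cfsg.Agent.Spor.ThreeTrans

/-- The standing facts for a perfect group of type M(22). -/
theorem M22.ctx_of_perfect {K : Type*} [Group K] [Finite K] {E : Set K}
    (h : IsThreeTranspositionClass E) (hperf : commutator K = ⊤) (h22 : IsOfTypeM22 K E) : M22.Ctx E := by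
  obtain ⟨hcen, d, hd, c, hc, hdc, hF, -⟩ := h22
  haveI : Fact (Nat.Prime 2) := ⟨Nat.prime_two⟩
  haveI : Fact (Nat.Prime 3) := ⟨Nat.prime_three⟩
  have hF' : HasModel E d := hF
  have hmod : ∀ a ∈ E, HasModel E a := fun a ha => by
    obtain ⟨g, rfl⟩ := transitive h hd ha
    exact hasModel_conj h g hF'
  obtain ⟨hs, hnc⟩ := simple_of_hasModel hF'
  have htf := twinFree_of_perpQuot h hd (pCore_eq_bot_of_simple 2 hs hnc) (exists_perp_noncommute hnc)
  obtain ⟨h2, h3⟩ := cores_bot h hcen htf hmod
  have H : Hyp E := hyp_of h hcen h2 h3 ⟨d, hd, c, hc, hdc⟩ fun a _ b _ => by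
    rw [hperf, ← commutator_def, hperf]
    exact Subgroup.mem_top _
  have S : Setting E := ⟨h, H, htf, fun a ha => perp_nonempty H ha,
    fun a ha => pCore_eq_bot_of_simple 2 (simple_of_hasModel (hmod a ha)).1 (simple_of_hasModel (hmod a ha)).2,
    fun a ha => pCore_eq_bot_of_simple 3 (simple_of_hasModel (hmod a ha)).1 (simple_of_hasModel (hmod a ha)).2⟩
  exact M22.ctx_of_parts S hcen hmod ⟨d, hd, perp_nonempty H hd⟩

namespace M22Double

variable {H K : Type*} [Group H] [Group K] [Finite K] {E : Set K}

/-- An extension by a central element of order at most two. -/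
structure Cover (π : H →* K) (z : H) : Prop where
  surj : Function.Surjective π
  kerEq : ∀ x, π x = 1 → x = 1 ∨ x = z
  proj : π z = 1
  central : ∀ x, Commute z x
  sq : z * z = 1

variable {π : H →* K} {z : H} (P : Cover π z) (C : M22.Ctx E)
include P

omit [Finite K] in
theorem fibre {x y : H} (e : π x = π y) : x = y ∨ x = z * y := by
  rcases P.kerEq (x * y⁻¹) (by rw [map_mul, e, map_inv, mul_inv_cancel]) with k | k
  · exact Or.inl (mul_inv_eq_one.mp k)
  · exact Or.inr (mul_inv_eq_iff_eq_mul.mp k)

/-- The commutator with `a`. -/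
def br (a x : H) : H := a * x * a⁻¹ * x⁻¹

omit [Finite K] in
theorem br_mem {a x : H} (k : Commute (π a) (π x)) : br a x = 1 ∨ br a x = z :=
  P.kerEq _ (by simp only [br, map_mul, map_inv]; rw [k.eq]; simp)

omit [Finite K] in
theorem br_central {a x : H} (k : Commute (π a) (π x)) (y : H) : Commute (br a x) y := by
  rcases br_mem P k with e | e <;> rw [e]
  exacts [Commute.one_left y, P.central y]

omit [Finite K] in
theorem br_mul {a x y : H} (k' : Commute (π a) (π y)) : br a (x * y) = br a x * br a y := by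
  have e : br a (x * y) = a * x * a⁻¹ * br a y * x⁻¹ := by simp [br, mul_assoc]
  rw [e, mul_assoc _ (br a y), (br_central P k' x⁻¹).eq, ← mul_assoc]
  rfl

omit [Finite K] in
theorem br_sq {a x : H} (k : Commute (π a) (π x)) : br a x * br a x = 1 := by
  rcases br_mem P k with e | e <;> rw [e]
  exacts [mul_one 1, P.sq]

omit [Finite K] in
theorem br_congr {a x y : H} (k : Commute (π a) (π y)) (e : π x = π y) : br a x = br a y := by
  rcases fibre P e with rfl | rfl
  · rfl
  · rw [br_mul P k, show br a z = 1 by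
      simp only [br]; rw [← (P.central a).eq, mul_inv_cancel_right, mul_inv_cancel], one_mul]

omit [Finite K] in
theorem lift_list (L : List K) : ∃ l : List H, l.map π = L := by
  induction L with
  | nil => exact ⟨[], rfl⟩
  | cons x L ih =>
    obtain ⟨l, rfl⟩ := ih
    obtain ⟨y, rfl⟩ := P.surj x
    exact ⟨y :: l, rfl⟩

omit [Finite K] in
theorem br_prod {a c : H} : ∀ l : List H, (∀ x ∈ l, Commute (π a) (π x) ∧ br a x = c) →
    br a l.prod = c ^ l.length
  | [], _ => by simp [br]
  | x :: l, hl => by
    have kl : Commute (π a) (π l.prod) := by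
      rw [map_list_prod]
      exact Commute.list_prod_right _ _ fun y hy => by
        obtain ⟨w, hw, rfl⟩ := List.mem_map.mp hy
        exact (hl w (List.mem_cons_of_mem _ hw)).1
    rw [List.prod_cons, br_mul P kl, br_prod l fun y hy => hl y (List.mem_cons_of_mem _ hy),
      (hl x List.mem_cons_self).2, List.length_cons, pow_succ']

include C

/-- Lifts of commuting members commute. -/
theorem lifts_commute {a b : H} (ha : π a ∈ E) (hb : π b ∈ E) (hab : Commute (π a) (π b)) :
    Commute a b := by
  have h := C.set.cls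
  by_cases e : π b = π a
  · rcases fibre P e with rfl | rfl
    exacts [Commute.refl _, (P.central a).symm.mul_right (Commute.refl a)]
  have hb' : π b ∈ perp E (π a) := ⟨hb, e, hab⟩
  have hconst : ∀ y, π y ∈ perp E (π a) → br a y = br a b := by
    intro y hy
    obtain ⟨k, hk, ek⟩ := M22.lift_conj C ha hb' hy
    obtain ⟨k, rfl⟩ := P.surj k
    have ka : Commute (π a) (π k) := (M22.commute_self hk).symm
    have kki : Commute (π a) (π k⁻¹) := by rw [map_inv]; exact ka.inv_right
    have kbk : Commute (π a) (π (k * b)) := by rw [map_mul]; exact ka.mul_right hab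
    have e1 : br a y = br a (k * b * k⁻¹) := br_congr P
      (by simpa only [map_mul] using kbk.mul_right kki) (by rw [map_mul, map_mul, map_inv, ek])
    rw [e1, br_mul P kki, br_mul P hab, (br_central P ka (br a b)).eq, mul_assoc, ← br_mul P kki,
      mul_inv_cancel]
    simp [br]
  obtain ⟨c, hc⟩ := M22.common_nonempty C ha hb'
  obtain ⟨T, -, hTlen, hT, hTc, hT1⟩ := hexad C.set C.cen C.hex ha hb' hc
  obtain ⟨t, rfl⟩ := lift_list P T
  have ht : ∀ x ∈ b :: t, Commute (π a) (π x) ∧ br a x = br a b := by
    intro x hx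
    rcases List.mem_cons.mp hx with rfl | hx
    · exact ⟨hab, rfl⟩
    · have := ((hT (π x)).mp (List.mem_map_of_mem hx)).1.1
      exact ⟨this.2.2, hconst x this⟩
  have ka : π (b :: t).prod = π a := by
    have e1 : π a * (π (b :: t).prod) = 1 := by
      rw [List.prod_cons, map_mul, map_list_prod, ← mul_assoc]; exact hT1
    rw [eq_inv_of_mul_eq_one_right e1, inv_eq h.1 ha]
  have e2 := br_prod P (b :: t) ht
  rw [br_congr P (Commute.refl _) ka, List.length_cons,
    show t.length = 4 by simpa using hTlen] at e2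
  have e3 : br a a = 1 := by simp [br]
  rw [e3, show (4 + 1 : ℕ) = 2 * 2 + 1 from rfl, pow_succ, pow_mul, pow_two (br a b), br_sq P hab,
    one_pow, one_mul] at e2
  exact mul_inv_eq_iff_eq_mul.mp (mul_inv_eq_one.mp e2.symm)

omit C in
omit [Finite K] in
theorem sq_prod {s : H} (hs : ∀ y, Commute s y) : ∀ l : List H, (∀ x ∈ l, x * x = s) →
    (∀ x ∈ l, ∀ y ∈ l, Commute x y) → l.prod * l.prod = s ^ l.length
  | [], _, _ => by simp
  | x :: l, h1, h2 => by
    have kx : Commute l.prod x :=
      (Commute.list_prod_right _ _ fun y hy => h2 x List.mem_cons_self y (List.mem_cons_of_mem _ hy)).symm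
    rw [List.prod_cons, kx.mul_mul_mul_comm, h1 x List.mem_cons_self,
      sq_prod hs l (fun y hy => h1 y (List.mem_cons_of_mem _ hy))
        fun y hy w hw => h2 y (List.mem_cons_of_mem _ hy) w (List.mem_cons_of_mem _ hw),
      List.length_cons, pow_succ']

/-- Lifts of members are involutions. -/
theorem lift_sq {a : H} (ha : π a ∈ E) : a * a = 1 := by
  have h := C.set.cls
  have hs : ∀ y, Commute (a * a) y := fun y => by
    rcases P.kerEq (a * a) (by rw [map_mul, mul_self h.1 ha]) with e | e <;> rw [e]
    exacts [Commute.one_left y, P.central y]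
  have hconst : ∀ y, π y ∈ E → y * y = a * a := by
    intro y hy
    obtain ⟨g, hg⟩ := transitive h ha hy
    obtain ⟨g, rfl⟩ := P.surj g
    have e : π y = π (g * a * g⁻¹) := by rw [map_mul, map_mul, map_inv, hg]
    have e2 : g * a * g⁻¹ * (g * a * g⁻¹) = a * a := by
      rw [show g * a * g⁻¹ * (g * a * g⁻¹) = g * (a * a) * g⁻¹ by simp [mul_assoc], (hs g).symm.eq,
        mul_inv_cancel_right]
    rcases fibre P e with rfl | rfl
    · exact e2
    · rw [((P.central _).symm).mul_mul_mul_comm, P.sq, one_mul, e2]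
  have hcomm : ∀ l : List H, (∀ x ∈ l.map π, x ∈ E) → (∀ x ∈ l.map π, ∀ y ∈ l.map π, Commute x y) →
      l.prod * l.prod = (a * a) ^ l.length := fun l h1 h2 => sq_prod P hs l
    (fun x hx => hconst x (h1 _ (List.mem_map_of_mem hx)))
    fun x hx y hy => lifts_commute P C (h1 _ (List.mem_map_of_mem hx)) (h1 _ (List.mem_map_of_mem hy))
      (h2 _ (List.mem_map_of_mem hx) _ (List.mem_map_of_mem hy))
  obtain ⟨p, q, r, hp, hq, hr, -, hqr, L, -, hLlen, hLD, hLc, hLp⟩ := M22.exists_frame C ha
  obtain ⟨l, rfl⟩ := lift_list P L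
  obtain ⟨m, hm⟩ := lift_list P [π a, p, q, r]
  have k1 := hcomm l hLD hLc
  have k2 := hcomm m (by rw [hm]; simp [ha, hp.1, hq.2.1, hr.2.1]) (by
    rw [hm]
    simp only [List.mem_cons, List.not_mem_nil, or_false]
    rintro x (rfl | rfl | rfl | rfl) y (rfl | rfl | rfl | rfl)
    exacts [.refl _, hp.2.2, hq.1.2.2, hr.1.2.2, hp.2.2.symm, .refl _, hq.2.2.2, hr.2.2.2,
      hq.1.2.2.symm, hq.2.2.2.symm, .refl _, hqr, hr.1.2.2.symm, hr.2.2.2.symm, hqr.symm, .refl _])
  have e : π l.prod = π m.prod := by
    rw [map_list_prod, map_list_prod, hm, hLp]; simp [mul_assoc]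
  have e' : l.prod * l.prod = m.prod * m.prod := by
    rcases fibre P e with k | k
    · rw [k]
    · rw [k, ((P.central _).symm).mul_mul_mul_comm, P.sq, one_mul]
  rw [k1, k2, show l.length = 3 by simpa using hLlen,
    show m.length = 4 by simpa using congrArg List.length hm, pow_succ _ 3] at e'
  exact mul_eq_left.mp e'.symm

/-- Whatever maps to an involution or to one squares to one. -/
theorem sq_eq_one {g : H} (hg : π g * π g = 1) : g * g = 1 := by
  obtain ⟨n, -, L, -, -, hLD, hLc, hLp⟩ := M22.involution_short C hg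
  obtain ⟨l, rfl⟩ := lift_list P L
  have hl : l.prod * l.prod = 1 := by
    rw [sq_prod P (s := (1 : H)) (fun y => Commute.one_left y) l
      (fun x hx => lift_sq P C (hLD _ (List.mem_map_of_mem hx)))
      fun x hx y hy => lifts_commute P C (hLD _ (List.mem_map_of_mem hx)) (hLD _ (List.mem_map_of_mem hy))
        (hLc _ (List.mem_map_of_mem hx) _ (List.mem_map_of_mem hy)), one_pow]
  rcases fibre P (show π g = π l.prod by rw [map_list_prod, hLp]) with k | k
  · rw [k, hl]
  · rw [k, ((P.central _).symm).mul_mul_mul_comm, P.sq, one_mul, hl]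

end M22Double

end Cfsg.Agent.Block.FischerTypes
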