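import Cfsg.Agent.Lib.Block.FischerTypes.M22Counts
import Cfsg.Agent.Lib.Block.FischerTypes.U6Code.Eleven

/-! The subgroups of order eleven of a group of type M(22) and their normalisers. -/

set_option autoImplicit false
set_option linter.style.haveILetI false
set_option linter.unusedSectionVars false

namespace Cfsg.Agent.Block.FischerTypes

open Cfsg Cfsg.Agent.Spor.ThreeTrans

namespace U6Code

theorem stepN_succ (n : ℕ) : ∀ x, stepN (n + 1) x = step (stepN n x) := by
  induction n with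
  | zero => exact fun x => rfl
  | succ n ih => exact fun x => ih (step x)

theorem mem_orbFrom : ∀ (n x y : ℕ), y ∈ orbFrom n x → ∃ k, y = stepN k x
  | 0, _, _, h => absurd h List.not_mem_nil
  | n + 1, x, y, h => by
    rcases List.mem_cons.mp h with rfl | h
    · exact ⟨0, rfl⟩
    · obtain ⟨k, rfl⟩ := mem_orbFrom n (step x) y h
      exact ⟨k + 1, rfl⟩

theorem orbFrom_congr {f : ℕ → ℕ} (P : ℕ → Prop) (hP : ∀ x, P x → P (step x))
    (hf : ∀ x, P x → f (step x) = step (f x)) :
    ∀ (n x : ℕ), P x → orbFrom n (f x) = (orbFrom n x).map f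
  | 0, _, _ => rfl
  | n + 1, x, hx => by
    rw [orbFrom, orbFrom, List.map_cons, ← hf x hx, orbFrom_congr P hP hf n (step x) (hP x hx)]

theorem mem_orb_pt (hstep : ∀ x, isPt x = true → isPt (step x) = true) :
    ∀ (n x : ℕ), isPt x = true → ∀ y ∈ orbFrom n x, isPt y = true
  | 0, _, _, _, h => absurd h List.not_mem_nil
  | n + 1, x, hx, y, h => by
    rcases List.mem_cons.mp h with rfl | h
    · exact hx
    · exact mem_orb_pt hstep n (step x) (hstep x hx) y h

theorem key_congr {f : ℕ → ℕ} {y : ℕ} : ∀ (S : List ℕ) (k : ℕ), (∀ s ∈ S, adj (f s) (f y) = adj s y) →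
    (S.map f).foldl (fun k s => 2 * k + cond (adj s (f y)) 1 0) k =
      S.foldl (fun k s => 2 * k + cond (adj s y) 1 0) k
  | [], _, _ => rfl
  | s :: S, k, h => by
    rw [List.map_cons, List.foldl_cons, List.foldl_cons, h s List.mem_cons_self]
    exact key_congr S _ fun t ht => h t (List.mem_cons_of_mem _ ht)

theorem key_map {f : ℕ → ℕ} {y : ℕ} {S : List ℕ} (h : ∀ s ∈ S, adj (f s) (f y) = adj s y) :
    key (S.map f) (f y) = key S y :=
  key_congr S 0 h

end U6Code

namespace M22

open U6Code (Model step stepN orb)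

variable {G : Type*} [Group G] [Finite G] {D : Set G}

/-- An element acting as the chosen permutation. -/
def Acts {d : G} (M : Model D d) (h : G) : Prop :=
  ∀ x, U6Code.isPt x = true → U6Code.isPt (step x) = true ∧ h * M.pt x * h⁻¹ = M.pt (step x)

variable (C : Ctx D)
include C

theorem exists_acts {d : G} (hd : d ∈ D) (M : Model D d) :
    ∃ h, orderOf h = 11 ∧ Commute h d ∧ Acts M h := by
  have hw := U6Code.w11_ok
  simp only [Bool.and_eq_true, List.all_eq_true] at hw
  obtain ⟨g, hg, hgx⟩ := M.word C.set.cls U6Code.w11 hw.1.1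
  have hpow : ∀ n x, U6Code.isPt x = true →
      U6Code.isPt (stepN n x) = true ∧ g ^ n * M.pt x * (g ^ n)⁻¹ = M.pt (stepN n x) := by
    intro n
    induction n with
    | zero => exact fun x hx => ⟨hx, by simp [stepN]⟩
    | succ n ih =>
      intro x hx
      obtain ⟨h1, h2⟩ := hgx x hx
      obtain ⟨h3, h5⟩ := ih _ h1
      refine ⟨h3, ?_⟩
      rw [show stepN (n + 1) x = stepN n (U6Code.act U6Code.w11 x) from rfl, ← h5, ← h2, pow_succ]
      simp [mul_assoc]
  have hst := U6Code.step_ok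
  simp only [List.all_eq_true, Bool.and_eq_true, Bool.not_eq_true'] at hst
  have hfix : ∀ u ∈ perp D d, Commute u (g ^ 11) := fun u hu => by
    obtain ⟨x, hx, rfl⟩ := M.surj u hu
    have e := (hpow 11 x hx).2
    rw [Nat.eq_of_beq_eq_true (hst x (U6Code.mem_ptList.mpr hx)).1] at e
    exact (mul_inv_eq_iff_eq_mul.mp e).symm
  have hz : (⟨g ^ 11, pow_mem hg 11⟩ : ↥(PerpGroup D d)) ∈ Subgroup.center ↥(PerpGroup D d) :=
    Subgroup.mem_center_iff.mpr fun k => Subtype.ext (commute_all hfix k.2).eq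
  rw [C.centre d hd, Subgroup.mem_subgroupOf] at hz
  have h2 : (g ^ 11) ^ 2 = 1 := by
    obtain ⟨n, hn⟩ := hz
    rw [show (g ^ 11 : G) = d ^ n from hn.symm, ← zpow_natCast, ← zpow_mul, mul_comm, zpow_mul,
      zpow_natCast, pow_two, mul_self C.set.cls.1 hd, one_zpow]
  have hh : (g ^ 12) ^ 11 = 1 := by
    rw [← pow_mul, show 12 * 11 = 11 * 2 * 6 from rfl, pow_mul, pow_mul, h2, one_pow]
  have hgd : Commute g d := commute_self hg
  have hA : Acts M (g ^ 12) := fun x hx => by
    obtain ⟨h1, h5⟩ := hgx x hx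
    refine ⟨h1, ?_⟩
    rw [pow_succ, mul_inv_rev, show g ^ 11 * g * M.pt x * (g⁻¹ * (g ^ 11)⁻¹) =
      g ^ 11 * (g * M.pt x * g⁻¹) * (g ^ 11)⁻¹ by simp [mul_assoc], h5]
    exact conj_self_eq (hfix _ (M.mem _ h1)).symm
  refine ⟨g ^ 12, ?_, hgd.pow_left _, hA⟩
  haveI : Fact (Nat.Prime 11) := ⟨by norm_num⟩
  refine orderOf_eq_prime hh fun e => ?_
  have h3 : U6Code.isPt U6Code.e0 = true := hw.1.2
  have := (hA _ h3).2
  rw [e, one_mul, inv_one, mul_one] at this
  have h4' := (hst _ (U6Code.mem_ptList.mpr h3)).2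
  rw [← M.inj _ _ h3 (hA _ h3).1 this] at h4'
  simp at h4'

omit C in
theorem acts_moves {d h : G} (M : Model D d) (hA : Acts M h) {u : G} (hu : u ∈ perp D d) :
    ¬ Commute h u := fun k => by
  obtain ⟨x, hx, rfl⟩ := M.surj u hu
  obtain ⟨h1, h2⟩ := hA x hx
  rw [conj_self_eq k] at h2
  have hst := (Bool.and_eq_true _ _).mp (List.all_eq_true.mp U6Code.step_ok x (U6Code.mem_ptList.mpr hx))
  rw [← M.inj _ _ hx h1 h2] at hst
  simp at hst

omit C in
theorem acts_conj (h : IsThreeTranspositionClass D) {d : G} {M : Model D d} {k : G} (hA : Acts M k) {g : G}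
    (hg : Commute g d) : Acts (M.conjBy h g hg) (g * k * g⁻¹) := fun x hx => by
  obtain ⟨h1, h2⟩ := hA x hx
  refine ⟨h1, ?_⟩
  show g * k * g⁻¹ * (g * M.pt x * g⁻¹) * (g * k * g⁻¹)⁻¹ = g * M.pt (step x) * g⁻¹
  rw [← h2]
  simp [mul_assoc]

omit C in
theorem conj_of_eleven {H : Type*} [Group H] [Finite H] (h121 : ¬ 121 ∣ Nat.card H) {X Y : Subgroup H}
    (hX : Nat.card X = 11) (hY : Nat.card Y = 11) :
    ∃ g : H, X.map (MulAut.conj g).toMonoidHom = Y := by
  haveI : Fact (Nat.Prime 11) := ⟨by norm_num⟩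
  have hf : (Nat.card H).factorization 11 = 1 := by
    have h1 : 11 ∣ Nat.card H := hX ▸ Subgroup.card_subgroup_dvd_card X
    have h0 : Nat.card H ≠ 0 := Nat.card_pos.ne'
    refine le_antisymm (not_lt.mp fun k => h121 ?_) ((Nat.Prime.dvd_iff_one_le_factorization (by norm_num) h0).mp h1)
    exact (pow_dvd_pow 11 k).trans (Nat.ordProj_dvd (Nat.card H) 11)
  let P : Sylow 11 H := Sylow.ofCard X (by rw [hX, hf, pow_one])
  let Q : Sylow 11 H := Sylow.ofCard Y (by rw [hY, hf, pow_one])
  obtain ⟨g, hg⟩ := MulAction.exists_smul_eq H P Q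
  refine ⟨g, ?_⟩
  have := congrArg (fun S : Sylow 11 H => (S : Subgroup H)) hg
  simp only [P, Q, Sylow.coe_subgroup_smul, Sylow.coe_ofCard, Subgroup.pointwise_smul_def] at this
  exact this

theorem not_dvd_group : ¬ 121 ∣ Nat.card G := by
  rw [card_group C (numbered_ctx C)]; norm_num

/-- An element of order eleven fixes exactly one member, and acts on its perpendicular freely. -/
theorem eleven_setup {x : G} (hx : orderOf x = 11) : ∃ d ∈ D, Commute x d ∧
    (∀ e ∈ D, Commute x e → e = d) ∧ ∃ (M : Model D d) (h : G), Acts M h ∧ h ∈ Subgroup.zpowers x ∧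
      x ∈ Subgroup.zpowers h := by
  classical
  have hC := C.set.cls
  have hN := numbered_ctx C
  haveI : Fact (Nat.Prime 11) := ⟨by norm_num⟩
  letI : Fintype ↥D := Fintype.ofFinite _
  have fixed : ∀ (S : Set G), (∀ g ∈ Subgroup.zpowers x, ∀ u ∈ S, g * u * g⁻¹ ∈ S) → ¬ 11 ∣ S.ncard →
      ∃ u ∈ S, Commute x u := by
    intro S hS hcard
    letI : Fintype ↥S := Fintype.ofFinite _
    let σ : Equiv.Perm ↥S :=
      ⟨fun u => ⟨x * u.1 * x⁻¹, hS x (Subgroup.mem_zpowers x) _ u.2⟩,
        fun u => ⟨x⁻¹ * u.1 * x, by simpa using hS x⁻¹ (inv_mem (Subgroup.mem_zpowers x)) _ u.2⟩,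
        fun u => Subtype.ext (by simp [mul_assoc]), fun u => Subtype.ext (by simp [mul_assoc])⟩
    have hpow : ∀ (n : ℕ) (u : ↥S), ((σ ^ n) u : G) = x ^ n * u.1 * (x ^ n)⁻¹ := by
      intro n
      induction n with
      | zero => intro u; simp
      | succ n ih =>
        intro u
        rw [pow_succ, Equiv.Perm.mul_apply, ih, pow_succ]
        simp [σ, mul_assoc]
    have hσ : σ ^ 11 ^ 1 = 1 := Equiv.ext fun u => Subtype.ext (by
      rw [pow_one, hpow, ← hx, pow_orderOf_eq_one]; simp)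
    obtain ⟨u, hu⟩ := Equiv.Perm.exists_fixed_point_of_prime (p := 11) (by
      rwa [← Nat.card_eq_fintype_card, Nat.card_coe_set_eq]) hσ
    exact ⟨u.1, u.2, mul_inv_eq_iff_eq_mul.mp (congrArg Subtype.val hu)⟩
  obtain ⟨d, hd, hxd⟩ := fixed D (fun g _ u hu => conj_mem hC g hu) (by rw [ncard_eq C hN]; norm_num)
  obtain ⟨M⟩ := hN d hd
  obtain ⟨k, hk11, hkd, hkA⟩ := exists_acts C hd M
  let H := Subgroup.centralizer ({d} : Set G)
  have hxH : x ∈ H := Subgroup.mem_centralizer_singleton_iff.mpr hxd.eq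
  have hkH : k ∈ H := Subgroup.mem_centralizer_singleton_iff.mpr hkd.eq
  obtain ⟨g, hg⟩ := conj_of_eleven (H := ↥H)
    (fun k => not_dvd_group C (k.trans (Subgroup.card_subgroup_dvd_card H)))
    (X := Subgroup.zpowers ⟨k, hkH⟩) (Y := Subgroup.zpowers ⟨x, hxH⟩)
    (by rw [Nat.card_zpowers, Subgroup.orderOf_mk, hk11]) (by rw [Nat.card_zpowers, Subgroup.orderOf_mk, hx])
  rw [MonoidHom.map_zpowers] at hg
  have hgd : Commute (g : G) d := Subgroup.mem_centralizer_singleton_iff.mp g.2
  obtain ⟨n, hn⟩ := (hg ▸ Subgroup.mem_zpowers _ : (MulAut.conj g).toMonoidHom ⟨k, hkH⟩ ∈ Subgroup.zpowers ⟨x, hxH⟩)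
  obtain ⟨m, hm⟩ := (hg.symm ▸ Subgroup.mem_zpowers _ : (⟨x, hxH⟩ : ↥H) ∈
    Subgroup.zpowers ((MulAut.conj g).toMonoidHom ⟨k, hkH⟩))
  have hA := acts_conj hC hkA hgd
  have hin : (g : G) * k * (g : G)⁻¹ ∈ Subgroup.zpowers x := ⟨n, by simpa using congrArg Subtype.val hn⟩
  have hout : x ∈ Subgroup.zpowers ((g : G) * k * (g : G)⁻¹) := ⟨m, by simpa using congrArg Subtype.val hm⟩
  refine ⟨d, hd, hxd, fun e he hxe => ?_, _, _, hA, hin, hout⟩
  have hfree : ∀ u ∈ perp D d, ¬ Commute x u := fun u hu k' => acts_moves _ hA hu (by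
    obtain ⟨j, hj⟩ := hin
    rw [← hj]
    exact k'.zpow_left j)
  by_contra hne
  by_cases hde : Commute d e
  · exact hfree e ⟨he, hne, hde⟩ hxe
  obtain ⟨u, hu, k'⟩ := fixed (common D d e) (fun g hg u hu => by
    obtain ⟨j, rfl⟩ := hg
    exact ⟨perp_conj' hC (hxd.zpow_left j) hu.1, perp_conj' hC (hxe.zpow_left j) hu.2⟩)
    (by rw [(card_apart_common C.set hN C.meets).1 d hd e he hde]; norm_num)
  exact hfree u hu.1 k'

theorem card_commutant {d h : G} (hd : d ∈ D) (M : Model D d) (hA : Acts M h) :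
    Nat.card ↥(Subgroup.centralizer ({d, h} : Set G)) ≤ 66 := by
  classical
  have hC := C.set.cls
  have hw := U6Code.w11_ok
  simp only [Bool.and_eq_true, List.all_eq_true] at hw
  let Z := Subgroup.centralizer ({d, h} : Set G)
  have hZ : ∀ y ∈ Z, Commute y d ∧ Commute y h := fun y hy =>
    ⟨(Subgroup.mem_centralizer_iff.mp hy d (by simp)).symm, (Subgroup.mem_centralizer_iff.mp hy h (by simp)).symm⟩
  letI : Fintype ↥Z := Fintype.ofFinite _
  have hcode : ∀ (y : ↥Z) (x : ℕ), U6Code.isPt x = true →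
      ∃ c, U6Code.isPt c = true ∧ M.pt c = (y : G) * M.pt x * (y : G)⁻¹ :=
    fun y x hx => M.surj _ (perp_conj' hC (hZ y y.2).1 (M.mem x hx))
  choose! f hf1 hf2 using hcode
  have hstep : ∀ x, U6Code.isPt x = true → U6Code.isPt (step x) = true := fun x hx => (hA x hx).1
  have hcomm : ∀ y x, U6Code.isPt x = true → f y (step x) = step (f y x) := fun y x hx => by
    refine M.inj _ _ (hf1 y _ (hstep x hx)) (hstep _ (hf1 y x hx)) ?_
    rw [hf2 y _ (hstep x hx), ← (hA x hx).2, ← (hA _ (hf1 y x hx)).2, hf2 y x hx]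
    have k := (hZ y y.2).2
    rw [show (y : G) * (h * M.pt x * h⁻¹) * (y : G)⁻¹ = ((y : G) * h) * M.pt x * ((y : G) * h)⁻¹ by simp [mul_assoc],
      k.eq]
    simp [mul_assoc]
  have hadj : ∀ y a b, U6Code.isPt a = true → U6Code.isPt b = true →
      U6Code.adj (f y a) (f y b) = U6Code.adj a b := fun y a b ha hb => by
    rw [Bool.eq_iff_iff, ← M.comm _ _ (hf1 y a ha) (hf1 y b hb), ← M.comm a b ha hb, hf2 y a ha, hf2 y b hb]
    exact commute_conj_iff _ _ _
  have horb : ∀ y x, U6Code.isPt x = true → orb (f y x) = (orb x).map (f y) := fun y x hx =>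
    U6Code.orbFrom_congr (fun x => U6Code.isPt x = true) hstep (hcomm y) 11 x hx
  have hkey : ∀ y x z, U6Code.isPt x = true → U6Code.isPt z = true →
      U6Code.key (orb (f y x)) (f y z) = U6Code.key (orb x) z := fun y x z hx hz => by
    rw [horb y x hx]
    exact U6Code.key_map fun s hs => hadj y s z (U6Code.mem_orb_pt hstep 11 x hx s hs) hz
  let F : ↥Z → ℕ × ℕ := fun y => (f y U6Code.e0, f y U6Code.e1)
  have h0 := hw.1.2
  have h1 := hw.2
  have himg : (Finset.univ.image F) ⊆ U6Code.cand.toFinset := fun p hp => by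
    obtain ⟨y, -, rfl⟩ := Finset.mem_image.mp hp
    rw [List.mem_toFinset, U6Code.cand, List.mem_flatMap]
    refine ⟨f y U6Code.e0, List.mem_filter.mpr ⟨U6Code.mem_ptList.mpr (hf1 y _ h0), ?_⟩,
      List.mem_map.mpr ⟨f y U6Code.e1, List.mem_filter.mpr ⟨U6Code.mem_ptList.mpr (hf1 y _ h1), ?_⟩, rfl⟩⟩
    · rw [hkey y _ _ h0 h0]; simp
    · rw [hkey y _ _ h0 h1, hkey y _ _ h1 h1]; simp
  have hfib : ∀ p, (Finset.univ.filter fun y => F y = p).card ≤ 2 := by
    intro p
    by_contra hlt
    push Not at hlt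
    obtain ⟨a, b, c, ha, hb, hc, hab, hac, hbc⟩ := Finset.two_lt_card_iff.mp hlt
    simp only [Finset.mem_filter, Finset.mem_univ, true_and] at ha hb hc
    have same : ∀ y y', F y = F y' → (y' : G)⁻¹ * y = 1 ∨ (y' : G)⁻¹ * y = d := by
      intro y y' e
      have e0 : f y U6Code.e0 = f y' U6Code.e0 := congrArg Prod.fst e
      have e1 : f y U6Code.e1 = f y' U6Code.e1 := congrArg Prod.snd e
      have hall : ∀ z, U6Code.isPt z = true → f y z = f y' z := by
        intro z hz
        have hk : ∀ w, f y w = f y' w → U6Code.isPt w = true →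
            ∀ s ∈ orb w, f y s = f y' s := by
          intro w ew hwp s hs
          have : (orb w).map (f y) = (orb w).map (f y') := by rw [← horb y w hwp, ← horb y' w hwp, ew]
          exact List.map_inj_left.mp this s hs
        let z' := f (y'⁻¹ * y) z
        have hz' : U6Code.isPt z' = true := hf1 _ z hz
        suffices z' = z by
          refine M.inj _ _ (hf1 y z hz) (hf1 y' z hz) ?_
          rw [hf2 y z hz, hf2 y' z hz]
          have k := hf2 (y'⁻¹ * y) z hz
          rw [show f (y'⁻¹ * y) z = z from this, Subgroup.coe_mul, Subgroup.coe_inv] at k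
          conv_rhs => rw [k]
          simp [mul_assoc]
        have hfix : ∀ s ∈ orb U6Code.e0 ++ orb U6Code.e1, f (y'⁻¹ * y) s = s := by
          intro s hs
          have hsp : U6Code.isPt s = true := by
            rcases List.mem_append.mp hs with k | k
            exacts [U6Code.mem_orb_pt hstep 11 _ h0 s k, U6Code.mem_orb_pt hstep 11 _ h1 s k]
          have es : f y s = f y' s := by
            rcases List.mem_append.mp hs with k | k
            exacts [hk _ e0 h0 s k, hk _ e1 h1 s k]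
          refine M.inj _ _ (hf1 _ s hsp) hsp ?_
          rw [hf2 _ s hsp, Subgroup.coe_mul, Subgroup.coe_inv]
          have k1 := hf2 y s hsp
          rw [es, hf2 y' s hsp] at k1
          rw [show (y' : G)⁻¹ * y * M.pt s * ((y' : G)⁻¹ * y)⁻¹ = (y' : G)⁻¹ * ((y : G) * M.pt s * (y : G)⁻¹) * y'
            by simp [mul_assoc], ← k1]
          simp [mul_assoc]
        have hkz : U6Code.key (orb U6Code.e0 ++ orb U6Code.e1) z' = U6Code.key (orb U6Code.e0 ++ orb U6Code.e1) z := by
          conv_lhs => rw [← List.map_congr_left (g := id) hfix |>.trans (List.map_id _)]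
          exact U6Code.key_map fun s hs => hadj _ s z (by
            rcases List.mem_append.mp hs with k | k
            exacts [U6Code.mem_orb_pt hstep 11 _ h0 s k, U6Code.mem_orb_pt hstep 11 _ h1 s k]) hz
        have hsep := List.all_eq_true.mp U6Code.sep_ok z (U6Code.mem_ptList.mpr hz)
        obtain ⟨w, hw'⟩ := List.length_eq_one_iff.mp (Nat.eq_of_beq_eq_true hsep)
        have m1 : z ∈ [w] := hw' ▸ List.mem_filter.mpr ⟨U6Code.mem_ptList.mpr hz, by simp⟩
        have m2 : z' ∈ [w] := hw' ▸ List.mem_filter.mpr ⟨U6Code.mem_ptList.mpr hz', by rw [hkz]; simp⟩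
        rw [List.mem_singleton.mp m2, List.mem_singleton.mp m1]
      have hP : ((y' : G)⁻¹ * y) ∈ PerpGroup D d := by
        rw [← centralizer_eq C hd]
        exact Subgroup.mem_centralizer_singleton_iff.mpr ((hZ y' y'.2).1.inv_left.mul_left (hZ y y.2).1).eq
      have hz : (⟨_, hP⟩ : ↥(PerpGroup D d)) ∈ Subgroup.center ↥(PerpGroup D d) :=
        Subgroup.mem_center_iff.mpr fun k => Subtype.ext (commute_all (fun u hu => by
          obtain ⟨z, hz, rfl⟩ := M.surj u hu
          have k1 := hf2 y z hz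
          rw [hall z hz, hf2 y' z hz] at k1
          refine (mul_inv_eq_iff_eq_mul.mp ?_).symm
          rw [show (y' : G)⁻¹ * y * M.pt z * ((y' : G)⁻¹ * y)⁻¹ = (y' : G)⁻¹ * ((y : G) * M.pt z * (y : G)⁻¹) * y'
            by simp [mul_assoc], ← k1]
          simp [mul_assoc]) k.2).eq
      rw [C.centre d hd, Subgroup.mem_subgroupOf] at hz
      obtain ⟨n, hn⟩ := hz
      rcases Int.even_or_odd' n with ⟨k, rfl | rfl⟩
      · left; rw [show (y' : G)⁻¹ * y = d ^ (2 * k) from hn.symm, zpow_mul, zpow_ofNat, pow_two, mul_self hC.1 hd, one_zpow]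
      · right
        rw [show (y' : G)⁻¹ * y = d ^ (2 * k + 1) from hn.symm, zpow_add, zpow_mul, zpow_ofNat, pow_two,
          mul_self hC.1 hd, one_zpow, one_mul, zpow_one]
    rcases same b a (hb.trans ha.symm) with e | e
    · exact hab (Subtype.ext (inv_mul_eq_one.mp e))
    rcases same c a (hc.trans ha.symm) with e' | e'
    · exact hac (Subtype.ext (inv_mul_eq_one.mp e'))
    exact hbc (Subtype.ext (mul_left_cancel (e.trans e'.symm)))
  calc Nat.card ↥Z = (Finset.univ : Finset ↥Z).card := by rw [Nat.card_eq_fintype_card, Finset.card_univ]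
    _ ≤ 2 * (Finset.univ.image F).card := Finset.card_le_mul_card_image _ 2 fun p _ => hfib p
    _ ≤ 2 * 33 := Nat.mul_le_mul_left _ ((Finset.card_le_card himg).trans
        ((List.toFinset_card_le U6Code.cand).trans
          (@Nat.le_of_ble_eq_true (List.length U6Code.cand) 33 U6Code.cand_ok)))

/-- The centraliser has order 22 and the normaliser 110. -/
theorem eleven_orders {X : Subgroup G} (hX : Nat.card X = 11) : ∃ d ∈ D, (∀ u ∈ X, Commute u d) ∧
    Subgroup.normalizer (X : Set G) ≤ Subgroup.centralizer ({d} : Set G) ∧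
      Nat.card ↥(Subgroup.centralizer (X : Set G)) = 22 ∧ Nat.card ↥(Subgroup.normalizer (X : Set G)) = 110 := by
  classical
  haveI : Fact (Nat.Prime 11) := ⟨by norm_num⟩
  have hC := C.set.cls
  haveI : IsCyclic X := isCyclic_of_prime_card hX
  obtain ⟨⟨x, hxX⟩, hgen⟩ := IsCyclic.exists_generator (α := X)
  have hXeq : X = Subgroup.zpowers x := le_antisymm (fun u hu => by
    obtain ⟨n, hn⟩ := hgen ⟨u, hu⟩
    exact ⟨n, by simpa using congrArg Subtype.val hn⟩) (Subgroup.zpowers_le.mpr hxX)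
  have hx : orderOf x = 11 := by rw [← Nat.card_zpowers, ← hXeq, hX]
  obtain ⟨d, hd, hxd, huniq, M, h, hA, hhx, hxh⟩ := eleven_setup C hx
  have hXd : ∀ u ∈ X, Commute u d := fun u hu => by
    rw [hXeq] at hu; obtain ⟨n, rfl⟩ := hu; exact hxd.zpow_left n
  have hdX : d ∈ Subgroup.centralizer (X : Set G) :=
    Subgroup.mem_centralizer_iff.mpr fun u hu => (hXd u hu).eq
  let Cd := Subgroup.centralizer ({d} : Set G)
  let Cx := Subgroup.centralizer (X : Set G)
  let N := Subgroup.normalizer (X : Set G)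
  have hNd : N ≤ Cd := fun g hg => by
    have h1 := (Subgroup.mem_normalizer_iff.mp (inv_mem hg) x).mp hxX
    rw [inv_inv] at h1
    have k : Commute x (g * d * g⁻¹) := by
      have := (commute_conj_iff g (g⁻¹ * x * g) d).mpr (hXd _ h1)
      simpa [mul_assoc] using this
    exact Subgroup.mem_centralizer_singleton_iff.mpr (mul_inv_eq_iff_eq_mul.mp (huniq _ (conj_mem hC g hd) k))
  have hCN : Cx ≤ N := Subgroup.centralizer_le_normalizer _
  have hXC : X ≤ Cx := fun u hu => Subgroup.mem_centralizer_iff.mpr fun v hv => by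
    rw [hXeq] at hu
    have hv' : v ∈ Subgroup.zpowers x := hXeq ▸ hv
    obtain ⟨n, rfl⟩ := hu
    obtain ⟨m, rfl⟩ := hv'
    exact ((Commute.refl x).zpow_zpow m n).eq
  have h22 : 22 ∣ Nat.card ↥Cx := by
    have h2 : 2 ∣ Nat.card ↥Cx := by
      rw [← hC.1.1 d hd, ← Subgroup.orderOf_mk d hdX]; exact orderOf_dvd_natCard _
    have h11 : 11 ∣ Nat.card ↥Cx := hX ▸ Subgroup.card_dvd_of_le hXC
    omega
  have h66 : Nat.card ↥Cx ≤ 66 := by
    refine le_trans (Subgroup.card_le_of_le fun y hy => ?_) (card_commutant C hd M hA)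
    rw [Subgroup.mem_centralizer_iff]
    have hyd : Commute y d := Subgroup.mem_centralizer_singleton_iff.mp (hNd (hCN hy))
    rintro z (rfl | rfl)
    · exact hyd.symm.eq
    · exact Subgroup.mem_centralizer_iff.mp hy z (show z ∈ X by rw [hXeq]; exact hhx)
  have hker := Subgroup.normalizerMonoidHom_ker (H := X)
  have hidx : (Cx.subgroupOf N).index ∣ 10 := by
    rw [← hker, Subgroup.index_ker]
    refine (Subgroup.card_subgroup_dvd_card _).trans ?_
    rw [IsCyclic.card_mulAut, hX, Nat.totient_prime (by norm_num)]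
  have hNcard : Nat.card ↥Cx * (Cx.subgroupOf N).index = Nat.card ↥N := by
    rw [← Nat.card_congr (Subgroup.subgroupOfEquivOfLe hCN).toEquiv]
    exact Subgroup.card_mul_index _
  have hXd' : X ≤ Cd := fun u hu => Subgroup.mem_centralizer_singleton_iff.mpr (hXd u hu).eq
  have hcd : Nat.card ↥Cd = 2 * 9196830720 := card_centralizer C hd
  let P : Sylow 11 ↥Cd := Sylow.ofCard (X.subgroupOf Cd) (by
    rw [Nat.card_congr (Subgroup.subgroupOfEquivOfLe hXd').toEquiv, hX, hcd]
    have : (2 * 9196830720 : ℕ).factorization 11 = 1 := by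
      rw [show (2 * 9196830720 : ℕ) = 11 * 1672151040 by norm_num,
        Nat.factorization_mul (by norm_num) (by norm_num), Finsupp.add_apply, Nat.Prime.factorization_self (by norm_num),
        Nat.factorization_eq_zero_of_not_dvd (by norm_num)]
    rw [this, pow_one])
  have hmod := card_sylow_modEq_one 11 ↥Cd
  rw [P.card_eq_index_normalizer] at hmod
  have hPN : Nat.card ↥(Subgroup.normalizer (P : Set ↥Cd)) = Nat.card ↥N := by
    rw [← Nat.card_congr (Subgroup.subgroupOfEquivOfLe hNd).toEquiv]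
    refine congrArg (fun K : Subgroup ↥Cd => Nat.card ↥K) ?_
    show Subgroup.normalizer (X.subgroupOf Cd : Set ↥Cd) = N.subgroupOf Cd
    ext g
    rw [Subgroup.mem_subgroupOf, Subgroup.mem_normalizer_iff, Subgroup.mem_normalizer_iff]
    constructor
    · intro k u
      by_cases hu : u ∈ Cd
      · simpa [Subgroup.mem_subgroupOf] using k ⟨u, hu⟩
      · refine iff_of_false (fun e => hu (hXd' e)) fun e => hu ?_
        have := mul_mem (mul_mem (inv_mem g.2) (hXd' e)) g.2
        simpa [mul_assoc] using this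
    · intro k u
      simpa [Subgroup.mem_subgroupOf] using k u.1
  have hcount := Subgroup.card_mul_index (Subgroup.normalizer (P : Set ↥Cd))
  rw [hPN, hcd, ← hNcard] at hcount
  obtain ⟨i, hi⟩ : ∃ i, i = (Subgroup.normalizer (P : Set ↥Cd)).index := ⟨_, rfl⟩
  obtain ⟨e, he⟩ : ∃ e, e = (Cx.subgroupOf N).index := ⟨_, rfl⟩
  obtain ⟨c, hc⟩ : ∃ c, c = Nat.card ↥Cx := ⟨_, rfl⟩
  rw [← hi] at hmod hcount
  rw [← he] at hcount hidx hNcard
  rw [← hc] at hcount h66 h22 hNcard
  have hmod' : i % 11 = 1 := hmod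
  have key : c = 22 ∧ e = 5 := by
    have hc0 : c ≠ 0 := fun k => by rw [k] at hcount; simp at hcount
    have he' : e ≤ 10 := Nat.le_of_dvd (by norm_num) hidx
    interval_cases e <;> (first | omega | (norm_num at hidx; done) | skip)
    all_goals interval_cases c <;> omega
  refine ⟨d, hd, hXd, hNd, by rw [← key.1, hc], ?_⟩
  rw [← hNcard, key.1, key.2]

end M22

end Cfsg.Agent.Block.FischerTypes
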