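import Cfsg.Agent.Lib.Block.FischerTypes.U6Class

/-! The third point of a hyperbolic line and two hyperovals in an isotropic plane of `PSU_6(2)`. -/

set_option autoImplicit false
set_option linter.style.haveILetI false
set_option linter.unusedSectionVars false

namespace Cfsg.Agent.Block.FischerTypes.U6

open Matrix Cfsg Cfsg.Agent.Classical Cfsg.Agent.Classical.PSUAut Cfsg.Agent.Spor.UnitTwo
open Cfsg.Agent.Spor

variable {F : Type} [Field F] [Fintype F] (h4 : Fintype.card F = 4)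

local notation "hh" => hermForm 6 F 2
local notation "hF" => card_sq h4
local notation "π" => suToPSU 6 F 2

include h4

/-- Three roots commuting with everything commuting with a noncommuting pair. -/
theorem third {p q e : PSU 6 F 2} (hp : p ∈ roots h4 6) (hq : q ∈ roots h4 6) (he : e ∈ roots h4 6)
    (hpq : ¬ Commute p q)
    (hall : ∀ y ∈ roots h4 6, y ≠ p → y ≠ q → Commute y p → Commute y q → Commute y e) :
    e = p ∨ e = q ∨ e = p * q * p := by
  obtain ⟨P, hP0, hPP, rfl⟩ := hp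
  obtain ⟨Q, hQ0, hQQ, rfl⟩ := hq
  obtain ⟨E, hE0, hEE, rfl⟩ := he
  have hn : (1 : ℕ) ≤ 6 := by norm_num
  have hPQ : hh P Q ≠ 0 := fun k => hpq ((root_commute h4 hn hPP hQQ hP0 hQ0).mpr k)
  obtain ⟨C, hC⟩ : ∃ C, C = qFrob hF (hh P Q)⁻¹ • Q := ⟨_, rfl⟩
  have hk : qFrob hF (hh P Q)⁻¹ ≠ 0 := by simpa using hPQ
  have hCC : hh C C = 0 := by rw [hC, h_smul_left, h_smul_right hF, hQQ, mul_zero, mul_zero]
  have hC0 : C ≠ 0 := by rw [hC]; exact smul_ne_zero hk hQ0
  have hrootC : root h4 hQQ = root h4 hCC := by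
    rw [root_congr h4 hCC (hC ▸ hCC) hC]
    exact (root_smul h4 hQQ hk _).symm
  have hPC : hh P C = 1 := by rw [hC, h_smul_right hF, cj_cj, inv_mul_cancel₀ hPQ]
  have hCP : hh C P = 1 := by rw [← cj_h hF, hPC, map_one]
  rw [hrootC] at hall ⊢
  have hall' : ∀ Y, hh Y Y = 0 → hh Y P = 0 → hh Y C = 0 → hh Y E = 0 := by
    intro Y hY hYP hYC
    by_cases hY0 : Y = 0
    · rw [hY0, h_zero_left]
    refine (root_commute h4 hn hY hEE hY0 hE0).mp (hall _ ⟨Y, hY0, hY, rfl⟩ ?_ ?_
      ((root_commute h4 hn hY hPP hY0 hP0).mpr hYP) ((root_commute h4 hn hY hCC hY0 hC0).mpr hYC))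
    · intro k
      obtain ⟨a, ha, rfl⟩ := root_eq h4 hn hY hPP hY0 k
      exact ha (by simpa [h_smul_left, hPC] using hYC)
    · intro k
      obtain ⟨a, ha, rfl⟩ := root_eq h4 hn hY hCC hY0 k
      exact ha (by simpa [h_smul_left, hCP] using hYP)
  let pro : (Fin 6 → F) → (Fin 6 → F) := fun x => x - hh x C • P - hh x P • C
  have hproP : ∀ x, hh (pro x) P = 0 := fun x => by
    simp only [pro, h_sub_left, h_smul_left, hPP, hCP, mul_zero, mul_one, sub_zero, sub_self]
  have hproC : ∀ x, hh (pro x) C = 0 := fun x => by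
    simp only [pro, h_sub_left, h_smul_left, hCC, hPC, mul_zero, mul_one, sub_zero, sub_self]
  have hproW : ∀ x y, hh P y = 0 → hh C y = 0 → hh (pro x) y = hh x y := fun x y h1 h2 => by
    simp only [pro, h_sub_left, h_smul_left, h1, h2, mul_zero, sub_zero]
  by_cases hE' : pro E = 0
  · have e1 : E = hh E C • P + hh E P • C := by
      simp only [pro] at hE'
      rw [sub_sub, sub_eq_zero] at hE'
      exact hE'
    obtain ⟨a, ha⟩ : ∃ a, a = hh E C := ⟨_, rfl⟩
    obtain ⟨b, hb⟩ : ∃ b, b = hh E P := ⟨_, rfl⟩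
    rw [← ha, ← hb] at e1
    by_cases hb0 : b = 0
    · left
      have e2 : E = a • P := by rw [e1, hb0, zero_smul, add_zero]
      rw [root_congr h4 hEE (e2 ▸ hEE) e2]
      exact root_smul h4 hPP (fun h0 => hE0 (by rw [e2, h0, zero_smul])) _
    by_cases ha0 : a = 0
    · right; left
      have e2 : E = b • C := by rw [e1, ha0, zero_smul, zero_add]
      rw [root_congr h4 hEE (e2 ▸ hEE) e2]
      exact root_smul h4 hCC hb0 _
    right; right
    have hreal : qFrob hF (a * qFrob hF b) = a * qFrob hF b := by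
      have := hEE
      rw [e1, h_add_left, h_add_right hF, h_add_right hF, h_smul_left, h_smul_left, h_smul_left,
        h_smul_left, h_smul_right hF, h_smul_right hF, h_smul_right hF, h_smul_right hF, hPP, hCC, hPC,
        hCP] at this
      rw [map_mul, cj_cj]
      linear_combination this - add_self h4 (a * qFrob hF b)
    have hab : a * qFrob hF b = 1 :=
      (real_zero_or_one h4 hreal).resolve_left (mul_ne_zero ha0 (by simpa using hb0))
    have hab' : a = b := by
      have := norm_one h4 hb0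
      linear_combination b * hab - a * this
    have hSS : hh (P + C) (P + C) = 0 := by
      rw [h_add_left, h_add_right hF, h_add_right hF, hPP, hCC, hPC, hCP]
      linear_combination add_self h4 (1 : F)
    have e2 : E = a • (P + C) := by rw [e1, ← hab', smul_add]
    rw [root_congr h4 hEE (e2 ▸ hEE) e2, root_smul h4 hSS ha0 _, root, root, root]
    have htp : (tv h4 hPP)⁻¹ = tv h4 hPP := inv_eq_of_mul_eq_one_right (tv_mul_self h4 hPP)
    conv_rhs => rw [← map_mul, ← map_mul]; arg 2; arg 2; rw [← htp]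
    rw [suVal_conj h4 _ hCC]
    congr 1
    refine suVal_ext ?_
    rw [suVal_tv h4, suVal_tv h4]
    congr 1
    rw [suVal_tv h4, T_apply h4, hCP, one_smul, add_comm]
  exfalso
  have hEP' : hh P (pro E) = 0 := h_comm_zero hF (hproP E)
  have hEC' : hh C (pro E) = 0 := h_comm_zero hF (hproC E)
  have hkey : ∀ Y, hh Y P = 0 → hh Y C = 0 → hh Y (pro E) = hh Y E := fun Y h1 h2 => by
    simp only [pro, h_sub_right hF, h_smul_right hF, h1, h2, mul_zero, sub_zero]
  obtain ⟨E', hE'def⟩ : ∃ E', E' = pro E := ⟨_, rfl⟩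
  rw [← hE'def] at hE' hEP' hEC' hkey
  have hE'P : hh E' P = 0 := hE'def ▸ hproP E
  have hE'C : hh E' C = 0 := hE'def ▸ hproC E
  suffices ∃ Y, hh Y Y = 0 ∧ hh Y P = 0 ∧ hh Y C = 0 ∧ hh Y E' ≠ 0 by
    obtain ⟨Y, hY, hYP, hYC, hYE⟩ := this
    exact hYE ((hkey Y hYP hYC).trans (hall' Y hY hYP hYC))
  obtain ⟨f₀, hf₀⟩ := exists_h_eq hF hE' 1
  have hW : hh E' (pro f₀) = 1 := by
    rw [← cj_h hF, hproW f₀ E' hEP' hEC', cj_h hF, hf₀]
  rcases real_zero_or_one h4 (cj_h hF E' E') with hiso | han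
  · obtain ⟨t, ht⟩ := exists_trace_eq hF (a := hh (pro f₀) (pro f₀)) (cj_h hF _ _)
    have hW' : hh (pro f₀) E' = 1 := by rw [← cj_h hF, hW, map_one]
    refine ⟨pro f₀ + t • E', ?_, ?_, ?_, ?_⟩
    · rw [h_add_left, h_add_right hF, h_add_right hF, h_smul_left, h_smul_left, h_smul_right hF,
        h_smul_right hF, hiso, hW, hW']
      linear_combination ht + add_self h4 (hh (pro f₀) (pro f₀))
    · rw [h_add_left, h_smul_left, hproP, hE'P, mul_zero, add_zero]
    · rw [h_add_left, h_smul_left, hproC, hE'C, mul_zero, add_zero]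
    · rw [h_add_left, h_smul_left, hW', hiso, mul_zero, add_zero]
      exact one_ne_zero
  let L : (Fin 6 → F) →ₗ[F] (Fin 3 → F) :=
    { toFun := fun x => ![hh x P, hh x C, hh x E']
      map_add' := fun x y => by ext i; fin_cases i <;> simp [h_add_left]
      map_smul' := fun a x => by ext i; fin_cases i <;> simp [h_smul_left] }
  obtain ⟨x, hx, hx0⟩ := Submodule.exists_mem_ne_zero_of_ne_bot
    (LinearMap.ker_ne_bot_of_finrank_lt (f := L) (by simp))
  have hxP : hh x P = 0 := congrFun (LinearMap.mem_ker.mp hx) 0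
  have hxC : hh x C = 0 := congrFun (LinearMap.mem_ker.mp hx) 1
  have hxE : hh x E' = 0 := congrFun (LinearMap.mem_ker.mp hx) 2
  suffices ∃ k, hh k k = 1 ∧ hh k P = 0 ∧ hh k C = 0 ∧ hh k E' = 0 by
    obtain ⟨k, hk1, hkP, hkC, hkE⟩ := this
    refine ⟨E' + k, ?_, ?_, ?_, ?_⟩
    · rw [h_add_left, h_add_right hF, h_add_right hF, han, hk1, hkE, h_comm_zero hF hkE]
      linear_combination add_self h4 (1 : F)
    · rw [h_add_left, hE'P, hkP, add_zero]
    · rw [h_add_left, hE'C, hkC, add_zero]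
    · rw [h_add_left, han, hkE, add_zero]
      exact one_ne_zero
  rcases real_zero_or_one h4 (cj_h hF x x) with hxx | hxx
  · obtain ⟨g₀, hg₀⟩ := exists_h_eq hF hx0 1
    let f := pro g₀ - hh (pro g₀) E' • E'
    have hfP : hh f P = 0 := by simp only [f, h_sub_left, h_smul_left, hproP, hE'P, mul_zero, sub_zero]
    have hfC : hh f C = 0 := by simp only [f, h_sub_left, h_smul_left, hproC, hE'C, mul_zero, sub_zero]
    have hfE : hh f E' = 0 := by simp only [f, h_sub_left, h_smul_left, han, mul_one, sub_self]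
    have hfx : hh f x = 1 := by
      simp only [f, h_sub_left, h_smul_left, hproW g₀ x (h_comm_zero hF hxP) (h_comm_zero hF hxC),
        h_comm_zero hF hxE, mul_zero, sub_zero]
      rw [← cj_h hF, hg₀, map_one]
    obtain ⟨t, ht⟩ := exists_trace_eq hF (a := hh f f + 1) (by rw [map_add, cj_h hF, map_one])
    refine ⟨f + t • x, ?_, ?_, ?_, ?_⟩
    · rw [h_add_left, h_add_right hF, h_add_right hF, h_smul_left, h_smul_left, h_smul_right hF,
        h_smul_right hF, hxx, hfx, ← cj_h hF f x, hfx, map_one]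
      linear_combination ht + add_self h4 (hh f f)
    · rw [h_add_left, h_smul_left, hfP, hxP, mul_zero, add_zero]
    · rw [h_add_left, h_smul_left, hfC, hxC, mul_zero, add_zero]
    · rw [h_add_left, h_smul_left, hfE, hxE, mul_zero, add_zero]
  · exact ⟨x, hxx, hxP, hxC, hxE⟩

set_option maxHeartbeats 1000000 in
/-- Two sets of three points completing one triangle to hyperovals. -/
theorem plane : ∃ (p q r : PSU 6 F 2) (A B : List (PSU 6 F 2)),
    A.length = 3 ∧ B.length = 3 ∧ (p :: q :: r :: A).Nodup ∧ (p :: q :: r :: B).Nodup ∧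
      (∀ x ∈ p :: q :: r :: (A ++ B), x ∈ roots h4 6) ∧
      (∀ x ∈ p :: q :: r :: (A ++ B), ∀ y ∈ p :: q :: r :: (A ++ B), Commute x y) ∧
      (p :: q :: r :: A).prod = 1 ∧ (p :: q :: r :: B).prod = 1 ∧ ∃ x ∈ B, x ∉ A := by
  obtain ⟨w, hw0, hw1, hww, hwc, -⟩ := exists_omega h4
  let vec : F × F × F → (Fin 6 → F) := fun t => ![t.1, t.1, t.2.1, t.2.1, t.2.2, t.2.2]
  have horth : ∀ t u, hh (vec t) (vec u) = 0 := fun t u => by
    simp only [hermForm, Fin.sum_univ_six, vec]
    simp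
    linear_combination add_self h4 (t.1 * u.1 ^ 2) + add_self h4 (t.2.1 * u.2.1 ^ 2) +
      add_self h4 (t.2.2 * u.2.2 ^ 2)
  let f : F × F × F → PSU 6 F 2 := fun t => root h4 (horth t t)
  have hne : ∀ t, t ≠ 0 → vec t ≠ 0 := fun t ht e => ht (by
    obtain ⟨a, b, c⟩ := t
    have e0 := congrFun e 0
    have e2 := congrFun e 2
    have e4 := congrFun e 4
    simp [vec] at e0 e2 e4
    simp [e0, e2, e4])
  have hinj : ∀ t u, t ≠ 0 → f t = f u → ∃ a : F, a ≠ 0 ∧ t = a • u := fun t u ht e => by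
    obtain ⟨a, ha, e'⟩ := root_eq h4 (by norm_num) (horth t t) (horth u u) (hne t ht) e
    refine ⟨a, ha, ?_⟩
    have e0 := congrFun e' 0
    have e2 := congrFun e' 2
    have e4 := congrFun e' 4
    simp [vec] at e0 e2 e4
    ext <;> simp [e0, e2, e4]
  have hmem : ∀ t, t ≠ 0 → f t ∈ roots h4 6 := fun t ht => ⟨_, hne t ht, horth t t, rfl⟩
  have hcomm : ∀ t u, t ≠ 0 → u ≠ 0 → Commute (f t) (f u) := fun t u ht hu =>
    (root_commute h4 (by norm_num) (horth t t) (horth u u) (hne t ht) (hne u hu)).mpr (horth t u)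
  have hdiff : ∀ t u, t ≠ 0 → (t.1 * u.2.1 ≠ t.2.1 * u.1 ∨ t.1 * u.2.2 ≠ t.2.2 * u.1 ∨
      t.2.1 * u.2.2 ≠ t.2.2 * u.2.1) → f t ≠ f u := fun t u ht hd e => by
    obtain ⟨a, -, rfl⟩ := hinj t u ht e
    simp only [Prod.smul_fst, Prod.smul_snd, smul_eq_mul] at hd
    rcases hd with k | k | k <;> exact k (by ring)
  have two : (2 : F) = 0 := by rw [← one_add_one_eq_two, add_self h4]
  have hne' : w + 1 ≠ 0 := fun e => hw1 (by rw [eq_neg_of_add_eq_zero_left e, neg_eq h4])
  have hsix : ∀ a b c a' b' c' a'' b'' c'' : F,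
      1 + (a * qFrob hF a + a' * qFrob hF a' + a'' * qFrob hF a'') = 0 →
      1 + (b * qFrob hF b + b' * qFrob hF b' + b'' * qFrob hF b'') = 0 →
      1 + (c * qFrob hF c + c' * qFrob hF c' + c'' * qFrob hF c'') = 0 →
      a * qFrob hF b + a' * qFrob hF b' + a'' * qFrob hF b'' = 0 →
      a * qFrob hF c + a' * qFrob hF c' + a'' * qFrob hF c'' = 0 →
      b * qFrob hF c + b' * qFrob hF c' + b'' * qFrob hF c'' = 0 →
      [f (1, 0, 0), f (0, 1, 0), f (0, 0, 1), f (a, b, c), f (a', b', c'), f (a'', b'', c'')].prod = 1 := by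
    intro a b c a' b' c' a'' b'' c'' k1 k2 k3 k4 k5 k6
    have k4' := congrArg (qFrob hF) k4
    have k5' := congrArg (qFrob hF) k5
    have k6' := congrArg (qFrob hF) k6
    simp only [map_add, map_mul, cj_cj, map_zero] at k4' k5' k6'
    simp only [List.prod_cons, List.prod_nil, mul_one, f, root, ← map_mul]
    rw [← map_one π]
    congr 1
    refine suVal_ext (Matrix.ext_iff_mulVec.2 fun x => ?_)
    simp only [suVal_mul, suVal_tv, ← Matrix.mulVec_mulVec, T_apply h4, h_add_left, h_smul_left,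
      horth, mul_zero, add_zero]
    simp only [show suVal (1 : SU 6 F 2) = 1 from rfl, Matrix.one_mulVec]
    have hx : ∀ t, hh x (vec t) = (x 0 + x 1) * qFrob hF t.1 + (x 2 + x 3) * qFrob hF t.2.1 +
        (x 4 + x 5) * qFrob hF t.2.2 := fun t => by
      simp only [hermForm, Fin.sum_univ_six, vec, qFrob_apply]
      simp
      ring
    simp only [hx]
    obtain ⟨a0, a1, a2, a3, a4, a5, rfl⟩ : ∃ a0 a1 a2 a3 a4 a5 : F, x = ![a0, a1, a2, a3, a4, a5] :=
      ⟨x 0, x 1, x 2, x 3, x 4, x 5, by funext i; fin_cases i <;> rfl⟩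
    funext i
    fin_cases i <;> simp [vec]
    · linear_combination (a0 + a1) * k1 + (a2 + a3) * k4 + (a4 + a5) * k5
    · linear_combination (a0 + a1) * k1 + (a2 + a3) * k4 + (a4 + a5) * k5
    · linear_combination (a0 + a1) * k4' + (a2 + a3) * k2 + (a4 + a5) * k6
    · linear_combination (a0 + a1) * k4' + (a2 + a3) * k2 + (a4 + a5) * k6
    · linear_combination (a0 + a1) * k5' + (a2 + a3) * k6' + (a4 + a5) * k3
    · linear_combination (a0 + a1) * k5' + (a2 + a3) * k6' + (a4 + a5) * k3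
  have hw2 : (w + 1) * (w + 1) = w := by linear_combination hww + (w + 1) * two
  refine ⟨f (1, 0, 0), f (0, 1, 0), f (0, 0, 1),
    [f (1, 1, 1), f (1, w, w + 1), f (1, w + 1, w)],
    [f (1, 1, w), f (1, w, 1), f (1, w + 1, w + 1)], rfl, rfl, ?_, ?_, ?_, ?_, ?_, ?_, ?_⟩
  · simp only [List.nodup_cons, List.mem_cons, List.not_mem_nil, or_false, not_or, List.nodup_nil,
      and_true, not_false_eq_true]
    refine ⟨⟨?_, ?_, ?_, ?_, ?_⟩, ⟨?_, ?_, ?_, ?_⟩, ⟨?_, ?_, ?_⟩, ⟨?_, ?_⟩, ?_⟩ <;>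
      exact hdiff _ _ (by simp) (by simp [hw0, hw1, Ne.symm hw0, Ne.symm hw1, hne', Ne.symm hne'])
  · simp only [List.nodup_cons, List.mem_cons, List.not_mem_nil, or_false, not_or, List.nodup_nil,
      and_true, not_false_eq_true]
    refine ⟨⟨?_, ?_, ?_, ?_, ?_⟩, ⟨?_, ?_, ?_, ?_⟩, ⟨?_, ?_, ?_⟩, ⟨?_, ?_⟩, ?_⟩ <;>
      exact hdiff _ _ (by simp) (by simp [hw0, hw1, Ne.symm hw0, Ne.symm hw1, hne', Ne.symm hne'])
  · simp only [List.cons_append, List.nil_append, List.mem_cons, List.not_mem_nil, or_false,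
      forall_eq_or_imp, forall_eq]
    refine ⟨?_, ?_, ?_, ?_, ?_, ?_, ?_, ?_, ?_⟩ <;> exact hmem _ (by simp)
  · have hall : ∀ y ∈ [f (1, 0, 0), f (0, 1, 0), f (0, 0, 1), f (1, 1, 1), f (1, w, w + 1),
        f (1, w + 1, w), f (1, 1, w), f (1, w, 1), f (1, w + 1, w + 1)],
        ∃ t : F × F × F, t ≠ 0 ∧ y = f t := by
      simp only [List.mem_cons, List.not_mem_nil, or_false, forall_eq_or_imp, forall_eq]
      refine ⟨?_, ?_, ?_, ?_, ?_, ?_, ?_, ?_, ?_⟩ <;> exact ⟨_, by simp, rfl⟩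
    intro x hx y hy
    obtain ⟨t, ht, rfl⟩ := hall x hx
    obtain ⟨u, hu, rfl⟩ := hall y hy
    exact hcomm t u ht hu
  · apply hsix <;> simp only [map_one, map_add, hwc, one_mul, mul_one, add_assoc, one_add_one_eq_two,
      two, add_zero] <;> grind
  · apply hsix <;> simp only [map_one, map_add, hwc, one_mul, mul_one, add_assoc, one_add_one_eq_two,
      two, add_zero] <;> grind
  · refine ⟨f (1, 1, w), by simp, ?_⟩
    simp only [List.mem_cons, List.not_mem_nil, or_false, not_or]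
    refine ⟨?_, ?_, ?_⟩ <;>
      exact hdiff _ _ (by simp) (by simp [hw0, hw1, Ne.symm hw0, Ne.symm hw1, hne', Ne.symm hne'])

end Cfsg.Agent.Block.FischerTypes.U6
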