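import Cfsg.Agent.Lib.Block.FischerTypes.Hexad
import Cfsg.Agent.Lib.Block.FischerTypes.U6Plane
import Mathlib.GroupTheory.IsPerfect

/-! Simplicity of the groups of type M(22) and their transposition centralisers. -/

set_option autoImplicit false
set_option linter.style.haveILetI false

namespace Cfsg.Agent.Block.FischerTypes

open Cfsg.Agent.Spor.ThreeTrans

variable {G : Type*} [Group G] [Finite G] {D : Set G}

/-- The perpendicular quotient is a six-dimensional unitary group over four elements. -/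
def HasModel (D : Set G) (a : G) : Prop :=
  ∃ (F : Type) (_ : Field F) (_ : Fintype F), Fintype.card F = 4 ∧
    Nonempty (PerpQuot D a ≃* PSU 6 F 2)

theorem hasModel_conj (h : IsThreeTranspositionClass D) (g : G) {a : G} (ha : HasModel D a) :
    HasModel D (g * a * g⁻¹) := by
  obtain ⟨F, _, _, hF, ⟨e⟩⟩ := ha
  have em : (PerpGroup D a).map (MulAut.conj g).toMonoidHom = PerpGroup D (g * a * g⁻¹) := by
    show (Subgroup.closure (perp D a)).map _ = Subgroup.closure (perp D (g * a * g⁻¹))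
    rw [MonoidHom.map_closure, perp_conj h]
    rfl
  let σ : ↥(PerpGroup D a) ≃* ↥(PerpGroup D (g * a * g⁻¹)) :=
    ((PerpGroup D a).equivMapOfInjective _ (MulAut.conj g).injective).trans (MulEquiv.subgroupCongr em)
  refine ⟨F, _, _, hF, ⟨((QuotientGroup.congr _ _ σ ?_).symm).trans e⟩⟩
  ext x
  simp only [Subgroup.mem_map, MulEquiv.coe_toMonoidHom]
  constructor
  · rintro ⟨y, hy, rfl⟩
    exact Subgroup.mem_center_iff.mpr fun z => by
      simpa using congrArg σ (Subgroup.mem_center_iff.mp hy (σ.symm z))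
  · intro hx
    refine ⟨σ.symm x, Subgroup.mem_center_iff.mpr fun z => ?_, σ.apply_symm_apply x⟩
    simpa using congrArg σ.symm (Subgroup.mem_center_iff.mp hx (σ z))

/-- A map to the unitary group recording the perpendicular. -/
theorem exists_model (h : IsThreeTranspositionClass D) (htf : TwinFree D) {a : G} (ha : a ∈ D)
    {F : Type} [Field F] [Fintype F] (h4 : Fintype.card F = 4)
    (e : PerpQuot D a ≃* PSU 6 F 2) : ∃ ψ : G → PSU 6 F 2,
      (∀ u ∈ perp D a, ψ u ∈ U6.roots h4 6) ∧ (∀ x ∈ U6.roots h4 6, ∃ u ∈ perp D a, ψ u = x) ∧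
      (∀ u ∈ perp D a, ∀ v ∈ perp D a, ψ u = ψ v → u = v) ∧
      (∀ u ∈ perp D a, ∀ v ∈ perp D a, Commute (ψ u) (ψ v) ↔ Commute u v) ∧
      (∀ u ∈ perp D a, ∀ v ∈ perp D a, u * v * u ∈ perp D a ∧ ψ (u * v * u) = ψ u * ψ v * ψ u) ∧
      ∀ m : List G, (∀ x ∈ m, x ∈ perp D a) → (m.map ψ).prod = 1 →
        ∀ y ∈ perp D a, Commute y m.prod := by
  classical
  obtain ⟨hs, x₀, y₀, hxy⟩ := psu_six h4
  haveI := hs
  have hs' : IsSimpleGroup (PerpQuot D a) := (MulEquiv.isSimpleGroup_congr e).mpr hs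
  have hnc : ∃ x y : PerpQuot D a, ¬ Commute x y :=
    ⟨e.symm x₀, e.symm y₀, fun k => hxy (by simpa using k.map e)⟩
  have hE := (m22_perp_class h htf ha hs' hnc).1
  have hroots := U6.class_eq h4 (by norm_num) (class_image e hE)
  let ψ : G → PSU 6 F 2 := fun u => if hu : u ∈ perp D a then e (pr D a u hu) else 1
  have hψ : ∀ u (hu : u ∈ perp D a), ψ u = e (pr D a u hu) := fun u hu => dif_pos hu
  refine ⟨ψ, fun u hu => ?_, fun x hx => ?_, fun u hu v hv k => ?_, fun u hu v hv => ?_,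
    fun u hu v hv => ?_, fun m hm hprod y hy => ?_⟩
  · rw [← hroots, hψ u hu]
    exact ⟨_, pr_mem hu, rfl⟩
  · rw [← hroots] at hx
    obtain ⟨q, hq, rfl⟩ := hx
    obtain ⟨u, hu, rfl⟩ := exists_of_mem hq
    exact ⟨u, hu, hψ u hu⟩
  · rw [hψ u hu, hψ v hv] at k
    exact pr_injective h htf ha hu hv (e.injective k)
  · rw [hψ u hu, hψ v hv]
    constructor
    · intro k
      exact commute_of_pr h htf ha hu hv (by simpa using k.map e.symm)
    · exact fun k => (commute_pr hu hv k).map e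
  · have hw : u * v * u ∈ perp D a := by
      have := perp_conj' h hu.2.2.symm hv
      rwa [inv_eq h.1 hu.1] at this
    refine ⟨hw, ?_⟩
    rw [hψ _ hw, hψ u hu, hψ v hv, ← map_mul, ← map_mul]
    rfl
  · have lift : ∀ m : List G, (∀ x ∈ m, x ∈ perp D a) → ∃ U : ↥(PerpGroup D a),
        (U : G) = m.prod ∧ e (QuotientGroup.mk U : PerpQuot D a) = (m.map ψ).prod := by
      intro m
      induction m with
      | nil => exact fun _ => ⟨1, rfl, by simp⟩
      | cons x m ih =>
        intro hm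
        obtain ⟨U, hU, hU'⟩ := ih fun y hy => hm y (List.mem_cons_of_mem _ hy)
        have hx := hm x List.mem_cons_self
        refine ⟨⟨x, Subgroup.subset_closure hx⟩ * U, by simp [hU], ?_⟩
        rw [QuotientGroup.mk_mul, map_mul, hU', List.map_cons, List.prod_cons, hψ x hx]
    obtain ⟨U, hU, hU'⟩ := lift m hm
    rw [hprod, e.map_eq_one_iff, QuotientGroup.eq_one_iff] at hU'
    have := commute_of_center hU' (Subgroup.subset_closure hy : y ∈ PerpGroup D a)
    rwa [hU] at this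

/-- Only one and `a` commute with `a` and all its commuting members. -/
theorem centre_perp (S : Setting D) (hcen : Subgroup.center G = ⊥) {a c : G} (ha : a ∈ D)
    (hc : c ∈ D) (hac : ¬ Commute a c) (hx : (common D a c).Nonempty)
    (hmod : ∀ x ∈ D, HasModel D x) {z : G} (hza : Commute a z)
    (hz : ∀ y ∈ perp D a, Commute y z) : z = 1 ∨ z = a := by
  have h := S.cls
  have hall : ∀ z', Commute a z' → (∀ y ∈ perp D a, Commute y z') → Commute c z' → z' = 1 := by
    intro z' hza' hz' hzc'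
    have := mem_center_of_commute h fun y hy => by
      by_cases hya : Commute y a
      · by_cases e : y = a
        · exact e ▸ hza'
        · exact hz' y ⟨hy, e, hya.symm⟩
      obtain ⟨g, hg, rfl⟩ := transitive_apart S.hyp ha ⟨hc, fun k => hac k.symm⟩ ⟨hy, hya⟩
      have hgz : Commute g z' := by
        have hle : localGroup D a ≤ Subgroup.centralizer {z'} := by
          refine (Subgroup.closure_le _).mpr ?_
          rintro w (rfl | hw) <;> rw [SetLike.mem_coe, Subgroup.mem_centralizer_singleton_iff]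
          · exact hza'.eq
          · exact (hz' w hw).eq
        exact Subgroup.mem_centralizer_singleton_iff.mp (hle hg)
      exact (hgz.mul_left hzc').mul_left hgz.inv_left
    rwa [hcen, Subgroup.mem_bot] at this
  obtain ⟨x, hxa, hxc⟩ := hx
  have he : z * c * z⁻¹ ∈ D := conj_mem h z hc
  have hea : ¬ Commute a (z * c * z⁻¹) := fun k => hac (by
    rw [← commute_conj_iff z, conj_self_eq hza.symm]; exact k)
  have hzx : z * x * z⁻¹ = x := conj_self_eq (hz x hxa).symm
  have hex : z * c * z⁻¹ ∈ perp D x := by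
    refine ⟨he, fun k => hea (by rw [k]; exact hxa.2.2), ?_⟩
    have := (commute_conj_iff z x c).mpr hxc.2.2.symm
    rwa [hzx] at this
  obtain ⟨F, _, _, h4, ⟨e⟩⟩ := hmod x hxa.1
  obtain ⟨ψ, hmem, hsurj, hinj, hcom, hconj, -⟩ := exists_model h S.tf hxa.1 h4 e
  have ha' : a ∈ perp D x := ⟨ha, Ne.symm hxa.2.1, hxa.2.2.symm⟩
  have hc' : c ∈ perp D x := ⟨hc, Ne.symm hxc.2.1, hxc.2.2.symm⟩
  rcases U6.third h4 (hmem a ha') (hmem c hc') (hmem _ hex) (fun k => hac ((hcom a ha' c hc').mp k))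
      (fun w hw hwa _ hwa' hwc' => by
        obtain ⟨u, hu, rfl⟩ := hsurj w hw
        have h1 := (hcom u hu a ha').mp hwa'
        have h2 := (hcom u hu c hc').mp hwc'
        refine (hcom u hu _ hex).mpr ?_
        have hzu : z * u * z⁻¹ = u := conj_self_eq (hz u ⟨hu.1, fun k => hwa (k ▸ rfl), h1.symm⟩).symm
        have := (commute_conj_iff z u c).mpr h2
        rwa [hzu] at this) with k | k | k
  · exact absurd (hinj _ hex a ha' k ▸ Commute.refl a) hea
  · left
    refine hall z hza hz ?_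
    exact (mul_inv_eq_iff_eq_mul.mp (hinj _ hex c hc' k) : z * c = c * z).symm
  · right
    have k' : z * c * z⁻¹ = a * c * a := hinj _ hex _ (hconj a ha' c hc').1
      (k.trans (hconj a ha' c hc').2.symm)
    have h1 := hall (a * z) ((Commute.refl a).mul_right hza)
      (fun y hy => hy.2.2.symm.mul_right (hz y hy)) ?_
    · rw [eq_inv_of_mul_eq_one_right h1, inv_eq h.1 ha]
    · show c * (a * z) = a * z * c
      have k2 : z * c = a * c * a * z := mul_inv_eq_iff_eq_mul.mp k'
      rw [mul_assoc a z c, k2]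
      simp only [mul_assoc, mul_self_mul h.1 ha]

/-- A member is a product of five and of six members commuting with it. -/
theorem five_six (S : Setting D) (hcen : Subgroup.center G = ⊥) (hat : ∀ a ∈ D, HexadAt D a)
    (hmod : ∀ x ∈ D, HasModel D x) {a c : G} (ha : a ∈ D) (hc : c ∈ D) (hac : ¬ Commute a c)
    (hx : (common D a c).Nonempty) :
    (∃ m : List G, m.length = 5 ∧ (∀ x ∈ m, x ∈ perp D a) ∧ m.prod = a) ∧
      ∃ m : List G, m.length = 6 ∧ (∀ x ∈ m, x ∈ perp D a) ∧ m.prod = a := by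
  classical
  have h := S.cls
  obtain ⟨F, _, _, h4, ⟨e⟩⟩ := hmod a ha
  obtain ⟨ψ, hmem, hsurj, hinj, hcom, -, hcentral⟩ := exists_model h S.tf ha h4 e
  obtain ⟨P, Q, R, A, B, hA, hB, hnA, hnB, hroot, hcomm, hpA, hpB, hdiff⟩ := U6.plane h4
  choose φ hφ hφψ using hsurj
  let φ' : PSU 6 F 2 → G := fun x => if hx : x ∈ U6.roots h4 6 then φ x hx else 1
  have hφ' : ∀ x ∈ P :: Q :: R :: (A ++ B), φ' x ∈ perp D a ∧ ψ (φ' x) = x := fun x hx => by
    simp only [φ', dif_pos (hroot x hx)]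
    exact ⟨hφ x _, hφψ x _⟩
  have key : ∀ L, L.length = 3 → (P :: Q :: R :: L).Nodup → (P :: Q :: R :: L).prod = 1 →
      (∀ x ∈ L, x ∈ A ++ B) →
      Fact' D 3 (L.map φ').prod (L.map φ') ∧ ((∀ y ∈ L.map φ', y ∈ perp D a) ∧
        ((φ' P :: φ' Q :: φ' R :: L.map φ').prod = 1 ∨
          (φ' P :: φ' Q :: φ' R :: L.map φ').prod = a)) := by
    intro L hL hn hp hsub
    have hin : ∀ x ∈ P :: Q :: R :: L, x ∈ P :: Q :: R :: (A ++ B) := by
      simp only [List.mem_cons]
      rintro x (k | k | k | k)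
      exacts [Or.inl k, Or.inr (Or.inl k), Or.inr (Or.inr (Or.inl k)), Or.inr (Or.inr (Or.inr (hsub x k)))]
    have hperp : ∀ y ∈ (P :: Q :: R :: L).map φ', y ∈ perp D a := fun y hy => by
      obtain ⟨x, hx, rfl⟩ := List.mem_map.mp hy
      exact (hφ' x (hin x hx)).1
    have hmap : ((P :: Q :: R :: L).map φ').map ψ = P :: Q :: R :: L := by
      rw [List.map_map]
      conv_rhs => rw [← List.map_id (P :: Q :: R :: L)]
      exact List.map_congr_left fun x hx => (hφ' x (hin x hx)).2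
    refine ⟨⟨?_, by simpa using hL, fun y hy => (hperp y ?_).1, ?_, rfl⟩, fun y hy => hperp y ?_,
      centre_perp S hcen ha hc hac hx hmod (Commute.list_prod_right _ a fun y hy => (hperp y hy).2.2)
        (hcentral ((P :: Q :: R :: L).map φ') hperp (by rw [hmap, hp]))⟩
    · refine List.Nodup.of_map ψ ?_
      rw [List.map_map, List.map_congr_left (f := ψ ∘ φ') (g := id)
        (fun x hx => (hφ' x (hin x (by simp [hx]))).2), List.map_id]
      exact ((List.nodup_cons.mp (List.nodup_cons.mp (List.nodup_cons.mp hn).2).2)).2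
    · simp only [List.map_cons, List.mem_cons]
      exact Or.inr (Or.inr (Or.inr hy))
    · intro y hy y' hy'
      obtain ⟨x, hx, rfl⟩ := List.mem_map.mp hy
      obtain ⟨x', hx', rfl⟩ := List.mem_map.mp hy'
      have h1 := hφ' x (hin x (by simp [hx]))
      have h2 := hφ' x' (hin x' (by simp [hx']))
      refine (hcom _ h1.1 _ h2.1).mp ?_
      rw [h1.2, h2.2]
      exact hcomm x (hin x (by simp [hx])) x' (hin x' (by simp [hx']))
    · simp only [List.map_cons, List.mem_cons]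
      exact Or.inr (Or.inr (Or.inr hy))
  obtain ⟨fA, pA, rA⟩ := key A hA hnA hpA fun x hx => List.mem_append_left _ hx
  obtain ⟨fB, pB, rB⟩ := key B hB hnB hpB fun x hx => List.mem_append_right _ hx
  have hP := hφ' P (by simp)
  have hQ := hφ' Q (by simp)
  have hR := hφ' R (by simp)
  have hPQ : P ≠ Q := fun k => (List.nodup_cons.mp hnA).1 (by simp [k])
  have hPR : P ≠ R := fun k => (List.nodup_cons.mp hnA).1 (by simp [k])
  have hQR : Q ≠ R := fun k => (List.nodup_cons.mp (List.nodup_cons.mp hnA).2).1 (by simp [k])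
  have hPQ' : φ' P ≠ φ' Q := fun k => hPQ (by rw [← hP.2, k, hQ.2])
  have hPR' : φ' P ≠ φ' R := fun k => hPR (by rw [← hP.2, k, hR.2])
  have hQR' : φ' Q ≠ φ' R := fun k => hQR (by rw [← hQ.2, k, hR.2])
  have cPQ : Commute (φ' P) (φ' Q) :=
    (hcom _ hP.1 _ hQ.1).mp (by rw [hP.2, hQ.2]; exact hcomm _ (by simp) _ (by simp))
  have cPR : Commute (φ' P) (φ' R) :=
    (hcom _ hP.1 _ hR.1).mp (by rw [hP.2, hR.2]; exact hcomm _ (by simp) _ (by simp))
  have cQR : Commute (φ' Q) (φ' R) :=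
    (hcom _ hQ.1 _ hR.1).mp (by rw [hQ.2, hR.2]; exact hcomm _ (by simp) _ (by simp))
  constructor
  · obtain ⟨l, -, hlen, hmem', hlc, hl⟩ := hexad S hcen hat ha hP.1
      (c := φ' Q) ⟨hQ.1, ⟨hQ.1.1, hPQ'.symm, cPQ⟩⟩
    refine ⟨φ' P :: l, by simp [hlen], ?_, ?_⟩
    · intro x hx'
      rcases List.mem_cons.mp hx' with rfl | hx'
      exacts [hP.1, ((hmem' x).mp hx').1.1]
    · rw [List.prod_cons, eq_comm, ← inv_eq h.1 ha]
      exact inv_eq_of_mul_eq_one_right (by rw [← mul_assoc]; exact hl)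
  suffices (φ' P :: φ' Q :: φ' R :: A.map φ').prod = a ∨
      (φ' P :: φ' Q :: φ' R :: B.map φ').prod = a by
    rcases this with k | k
    · refine ⟨_, by simp [hA], ?_, k⟩
      simp only [List.mem_cons]
      rintro x (rfl | rfl | rfl | hx')
      exacts [hP.1, hQ.1, hR.1, pA x hx']
    · refine ⟨_, by simp [hB], ?_, k⟩
      simp only [List.mem_cons]
      rintro x (rfl | rfl | rfl | hx')
      exacts [hP.1, hQ.1, hR.1, pB x hx']
  by_contra hno
  push Not at hno
  have eA := rA.resolve_right hno.1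
  have eB := rB.resolve_right hno.2
  obtain ⟨j, hj⟩ : ∃ j, j = [φ' P, φ' Q, φ' R].prod := ⟨_, rfl⟩
  have fix : ∀ {L : List G}, Fact' D 3 L.prod L → (φ' P :: φ' Q :: φ' R :: L).prod = 1 →
      Fact' D 3 j L := fun {L} f k => by
    obtain ⟨f1, f2, f3, f4, -⟩ := f
    refine ⟨f1, f2, f3, f4, ?_⟩
    have h1 := prod_mul_prod h.1 L f3 f4
    simp only [List.prod_cons, ← mul_assoc] at k
    rw [hj, show [φ' P, φ' Q, φ' R].prod = φ' P * φ' Q * φ' R by simp [mul_assoc],
      eq_inv_of_mul_eq_one_left k]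
    exact eq_inv_of_mul_eq_one_left h1
  have f0 : Fact' D 3 j [φ' P, φ' Q, φ' R] := by
    refine ⟨by simp [hPQ', hPR', hQR'], rfl, by simp [hP.1.1, hQ.1.1, hR.1.1], ?_, hj.symm⟩
    simp [cPQ, cPR, cQR, cPQ.symm, cPR.symm, cQR.symm]
  have f1 := fix fA eA
  have f2 := fix fB eB
  have inj' : ∀ x ∈ P :: Q :: R :: (A ++ B), ∀ y ∈ P :: Q :: R :: (A ++ B), φ' x = φ' y → x = y :=
    fun x hx' y hy k => by rw [← (hφ' x hx').2, k, (hφ' y hy).2]
  have sep : ∀ L, (P :: Q :: R :: L).Nodup → (∀ x ∈ L, x ∈ A ++ B) →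
      ¬ ∀ y, y ∈ [φ' P, φ' Q, φ' R] ↔ y ∈ L.map φ' := by
    intro L hn hsub k
    obtain ⟨x, hx', e'⟩ := List.mem_map.mp ((k (φ' P)).mp (by simp))
    have := inj' x (by simp [List.mem_append.mp (hsub x hx')]) P (by simp) e'
    exact (List.nodup_cons.mp hn).1 (by simp [← this, hx'])
  have sepAB : ¬ ∀ y, y ∈ A.map φ' ↔ y ∈ B.map φ' := fun k => by
    obtain ⟨x, hxB, hxA⟩ := hdiff
    obtain ⟨x', hx', e'⟩ := List.mem_map.mp ((k (φ' x)).mpr (List.mem_map_of_mem hxB))
    exact hxA (inj' x' (by simp [hx']) x (by simp [hxB]) e' ▸ hx')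
  obtain ⟨l₁, l₂, -, -, -, hl⟩ := triples S hcen hat j _ f0
  have s01 := sep A hnA fun x hx' => List.mem_append_left _ hx'
  have s02 := sep B hnB fun x hx' => List.mem_append_right _ hx'
  rcases hl _ f0 with k0 | k0 <;> rcases hl _ f1 with k1 | k1 <;> rcases hl _ f2 with k2 | k2
  all_goals first
    | exact s01 fun y => (k0 y).trans (k1 y).symm
    | exact s02 fun y => (k0 y).trans (k2 y).symm
    | exact sepAB fun y => (k1 y).trans (k2 y).symm

omit [Finite G] in
theorem map_prod_const {K A : Type*} [Group K] [Group A] (f : K →* A) {s : A} (l : List K)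
    (hl : ∀ x ∈ l, f x = s) : f l.prod = s ^ l.length := by
  rw [map_list_prod]
  rw [List.prod_eq_pow_card (l.map f) s (by simpa using hl), List.length_map]

/-- The standing facts of a group of type M(22). -/
theorem m22_standing (hD : IsThreeTranspositionGroup D) (hprim : IsPrimitiveUnderConj D)
    (h22 : IsOfTypeM22 G D) : Setting D ∧ Subgroup.center G = ⊥ ∧ (∀ a ∈ D, HexadAt D a) ∧
      (∀ a ∈ D, HasModel D a) ∧ ∀ a ∈ D, ∃ c ∈ D, ¬ Commute a c ∧ (common D a c).Nonempty := by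
  obtain ⟨hcen, d, hd, ⟨c, hc, hdc⟩, hs, hnc⟩ := m22_data h22
  obtain ⟨u, hu, v, hv, huv⟩ := exists_perp_noncommute hnc
  have h := class_of_prim hD hprim
  obtain ⟨H, htf⟩ := hyp_of_prim h hprim hcen ⟨d, hd, c, hc, hdc⟩ ⟨d, hd, u, hu⟩
  obtain ⟨-, d', hd', -, -, -, hF, -⟩ := h22
  have hmod : ∀ a ∈ D, HasModel D a := fun a ha => by
    obtain ⟨g, rfl⟩ := transitive h hd' ha
    exact hasModel_conj h g hF
  have hsimple : ∀ a ∈ D, IsSimpleGroup (PerpQuot D a) ∧ ∃ x y : PerpQuot D a, ¬ Commute x y :=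
    fun a ha => by
      obtain ⟨F, _, _, h4, ⟨e⟩⟩ := hmod a ha
      obtain ⟨hs, x, y, hxy⟩ := psu_six h4
      haveI := hs
      exact ⟨(MulEquiv.isSimpleGroup_congr e).mpr hs, e.symm x, e.symm y,
        fun k => hxy (by simpa using k.map e)⟩
  haveI : Fact (Nat.Prime 2) := ⟨Nat.prime_two⟩
  haveI : Fact (Nat.Prime 3) := ⟨Nat.prime_three⟩
  have S : Setting D := ⟨h, H, htf, fun a ha => perp_nonempty H ha,
    fun a ha => pCore_eq_bot_of_simple 2 (hsimple a ha).1 (hsimple a ha).2,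
    fun a ha => pCore_eq_bot_of_simple 3 (hsimple a ha).1 (hsimple a ha).2⟩
  refine ⟨S, hcen, fun a ha => ?_, hmod, fun a ha => ?_⟩
  · obtain ⟨F, _, _, h4, ⟨e⟩⟩ := hmod a ha
    exact fun b hb c hc => local_hexad h htf ha h4 e hb hc
  · obtain ⟨b, hb⟩ := S.perp_ne a ha
    obtain ⟨b₁, hb₁, b₂, hb₂, hbb⟩ := exists_perp_noncommute (hsimple b hb.1).2
    obtain ⟨g, hg1, -⟩ := apart_pair_conj S hb₁.1 hb₂.1 hbb ha
      (exists_not_commute h ⟨d, hd, u, hu.1, hu.2.1.symm⟩ ha).choose_spec.1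
      (exists_not_commute h ⟨d, hd, u, hu.1, hu.2.1.symm⟩ ha).choose_spec.2
    refine ⟨g * b₂ * g⁻¹, conj_mem h g hb₂.1, fun k => hbb ?_, g * b * g⁻¹, ?_, ?_⟩
    · rw [← hg1] at k
      exact (commute_conj_iff g b₁ b₂).mp k
    · rw [← hg1]
      exact (conj_mem_perp h g b₁).mpr ⟨hb.1, Ne.symm hb₁.2.1, hb₁.2.2.symm⟩
    · exact (conj_mem_perp h g b₂).mpr ⟨hb.1, Ne.symm hb₂.2.1, hb₂.2.2.symm⟩

/-- Simplicity, and the structure of the perpendicular groups. -/
theorem m22_structure (hD : IsThreeTranspositionGroup D) (hprim : IsPrimitiveUnderConj D)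
    (h22 : IsOfTypeM22 G D) : IsSimpleGroup G ∧ ∀ a ∈ D, a ∈ PerpGroup D a ∧
      IsQuasisimple ↥(PerpGroup D a) ∧
      Subgroup.center ↥(PerpGroup D a) = (Subgroup.zpowers a).subgroupOf (PerpGroup D a) := by
  obtain ⟨S, hcen, hat, hmod, hcc⟩ := m22_standing hD hprim h22
  have h := S.cls
  have hfs : ∀ a ∈ D, (∃ m : List G, m.length = 5 ∧ (∀ x ∈ m, x ∈ perp D a) ∧ m.prod = a) ∧
      ∃ m : List G, m.length = 6 ∧ (∀ x ∈ m, x ∈ perp D a) ∧ m.prod = a := fun a ha => by
    obtain ⟨c, hc, hac, hx⟩ := hcc a ha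
    exact five_six S hcen hat hmod ha hc hac hx
  constructor
  · obtain ⟨a, ha, b, hb, hne⟩ := hprim.2.1
    haveI : Nontrivial G := ⟨⟨a, b, hne⟩⟩
    refine ⟨fun N hN => ?_⟩
    rcases block_dichotomy h hprim N with hall | hsep
    swap
    · exact Or.inl (eq_bot_of_separated h hcen N hsep)
    right
    let f := QuotientGroup.mk' N
    have hconst : ∀ x ∈ D, f x = f a := fun x hx => by
      rw [← inv_eq h.1 hx]
      refine (QuotientGroup.mk'_eq_mk' N).mpr ⟨_, hall x hx a ha, ?_⟩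
      rw [← mul_assoc, inv_mul_cancel, one_mul]
    obtain ⟨⟨m, hm, hmp, hme⟩, m', hm', hmp', hme'⟩ := hfs a ha
    have e1 := map_prod_const f m fun x hx => hconst x (hmp x hx).1
    have e2 := map_prod_const f m' fun x hx => hconst x (hmp' x hx).1
    rw [hme, hm] at e1
    rw [hme', hm'] at e2
    have hs : f a = 1 := by
      have e3 : f a ^ 6 = f a ^ 5 := e2.symm.trans e1
      rwa [pow_succ, mul_eq_left] at e3
    have hle : Subgroup.closure D ≤ N := (Subgroup.closure_le _).mpr fun x hx =>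
      (QuotientGroup.eq_one_iff x).mp ((hconst x hx).trans hs)
    rw [h.2.2, top_le_iff] at hle
    exact hle
  intro a ha
  obtain ⟨⟨m, hm, hmp, hme⟩, m', hm', hmp', hme'⟩ := hfs a ha
  have haH : a ∈ PerpGroup D a := by
    have : m.prod ∈ PerpGroup D a := list_prod_mem fun x hx => Subgroup.subset_closure (hmp x hx)
    rwa [hme] at this
  refine ⟨haH, ⟨?_, ?_⟩, ?_⟩
  · rw [Group.isPerfect_def]
    let H := PerpGroup D a
    let f := QuotientGroup.mk' (commutator ↥H)
    obtain ⟨u₀, hu₀⟩ := S.perp_ne a ha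
    have hconst : ∀ x (hx : x ∈ perp D a), f ⟨x, Subgroup.subset_closure hx⟩ =
        f ⟨u₀, Subgroup.subset_closure hu₀⟩ := fun x hx => by
      obtain ⟨g, hg, e'⟩ := transitive_perp S.hyp ha hu₀ hx
      have e'' : (⟨x, Subgroup.subset_closure hx⟩ : ↥H) =
          ⟨g, hg⟩ * ⟨u₀, Subgroup.subset_closure hu₀⟩ * ⟨g, hg⟩⁻¹ := Subtype.ext e'.symm
      refine (QuotientGroup.eq_iff_div_mem).mpr ?_
      rw [e'', div_eq_mul_inv]
      exact Subgroup.commutator_mem_commutator (Subgroup.mem_top _) (Subgroup.mem_top _)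
    have lift : ∀ l : List G, (hl : ∀ x ∈ l, x ∈ perp D a) → ∀ hp : l.prod ∈ H,
        f ⟨l.prod, hp⟩ = f ⟨u₀, Subgroup.subset_closure hu₀⟩ ^ l.length := by
      intro l
      induction l with
      | nil =>
        exact fun _ hp => by
          rw [show (⟨_, hp⟩ : ↥H) = 1 from Subtype.ext rfl, map_one, List.length_nil, pow_zero]
      | cons x l ih =>
        intro hl hp
        have hx := hl x List.mem_cons_self
        have hl' := fun y hy => hl y (List.mem_cons_of_mem _ hy)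
        rw [show (⟨_, hp⟩ : ↥H) = ⟨x, Subgroup.subset_closure hx⟩ *
          ⟨l.prod, list_prod_mem fun y hy => Subgroup.subset_closure (hl' y hy)⟩ from
            Subtype.ext List.prod_cons, map_mul, ih hl' _, hconst x hx, List.length_cons, pow_succ']
    have e1 := lift m hmp (hme ▸ haH)
    have e2 := lift m' hmp' (hme' ▸ haH)
    rw [hm] at e1
    rw [hm'] at e2
    have hs : f ⟨u₀, Subgroup.subset_closure hu₀⟩ = 1 := by
      have e4 : (⟨m.prod, hme ▸ haH⟩ : ↥H) = ⟨m'.prod, hme' ▸ haH⟩ := Subtype.ext (hme.trans hme'.symm)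
      rw [e4, e2, pow_succ, mul_eq_left] at e1
      exact e1
    rw [eq_top_iff, ← Subgroup.closure_closure_coe_preimage (k := perp D a), Subgroup.closure_le]
    intro x hx
    exact (QuotientGroup.eq_one_iff _).mp ((hconst _ hx).trans hs)
  · obtain ⟨F, _, _, h4, ⟨e⟩⟩ := hmod a ha
    haveI := (psu_six h4).1
    exact (MulEquiv.isSimpleGroup_congr e).mpr inferInstance
  · ext z
    rw [Subgroup.mem_subgroupOf]
    constructor
    · intro hz
      obtain ⟨c, hc, hac, hx⟩ := hcc a ha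
      rcases centre_perp S hcen ha hc hac hx hmod (commute_of_center hz haH)
          (fun y hy => commute_of_center hz (Subgroup.subset_closure hy)) with k | k <;> rw [k]
      exacts [one_mem _, Subgroup.mem_zpowers a]
    · rintro ⟨n, hn⟩
      refine Subgroup.mem_center_iff.mpr fun g => Subtype.ext ?_
      show (g : G) * z = z * g
      rw [← hn]
      exact ((commute_all (fun x hx => hx.2.2.symm) g.2).zpow_right n).eq

end Cfsg.Agent.Block.FischerTypes
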