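import Cfsg.Agent.Lib.Block.FischerTypes.U6Class
import Cfsg.Agent.Lib.Classical.UnitCenter

/-! An involution of `PSU₆(2)` is a product of at most three commuting transvections. -/

set_option autoImplicit false
set_option linter.style.haveILetI false
set_option linter.unusedSectionVars false

namespace Cfsg.Agent.Block.FischerTypes.U6

open Matrix Cfsg Cfsg.Agent.Classical Cfsg.Agent.Classical.PSUAut Cfsg.Agent.Spor.UnitTwo
open Cfsg.Agent.Spor

variable {F : Type} [Field F] [Fintype F] {n : ℕ} (h4 : Fintype.card F = 4)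

local notation "hh" => hermForm n F 2
local notation "hF" => card_sq h4

/-- The displacement of a unitary map. -/
noncomputable def disp (g : SU n F 2) : (Fin n → F) →ₗ[F] (Fin n → F) :=
  Matrix.mulVecLin (suVal g) - LinearMap.id

theorem disp_apply (g : SU n F 2) (x : Fin n → F) : disp g x = suVal g *ᵥ x - x := rfl

include h4

theorem apply_disp (g : SU n F 2) (x : Fin n → F) : suVal g *ᵥ x = x + disp g x := by
  rw [disp_apply, add_sub_cancel]

theorem disp_disp {g : SU n F 2} (hg : g * g = 1) (x : Fin n → F) : disp g (disp g x) = 0 := by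
  have e : suVal g *ᵥ (suVal g *ᵥ x) = x := by
    rw [Matrix.mulVec_mulVec, ← suVal_mul, hg]
    exact Matrix.one_mulVec x
  rw [disp_apply, disp_apply, Matrix.mulVec_sub, e, sub_sub_sub_eq]
  funext i
  simp [sub_eq_add_neg, neg_eq h4]
  linear_combination add_self h4 (x i) + add_self h4 ((suVal g *ᵥ x) i)

theorem disp_form (g : SU n F 2) (x y : Fin n → F) :
    hh (disp g x) y + hh x (disp g y) + hh (disp g x) (disp g y) = 0 := by
  have h := su_form g x y
  rw [apply_disp h4 g x, apply_disp h4 g y, h_add_left, h_add_right hF, h_add_right hF] at h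
  linear_combination h

theorem disp_orth {g : SU n F 2} (hg : g * g = 1) (x y : Fin n → F) : hh (disp g x) (disp g y) = 0 := by
  have h := disp_form h4 g x (disp g y)
  rw [disp_disp h4 hg] at h
  have z : ∀ u : Fin n → F, hh u 0 = 0 := fun u => by simp [hermForm]
  rwa [z, z, add_zero, add_zero] at h

theorem disp_self {g : SU n F 2} (hg : g * g = 1) (x y : Fin n → F) : hh (disp g x) y = hh x (disp g y) := by
  have h := disp_form h4 g x y
  rw [disp_orth h4 hg, add_zero] at h
  rw [eq_neg_of_add_eq_zero_left h, neg_eq h4]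

/-- An element moving a vector has a vector not orthogonal to its displacement. -/
theorem exists_nonorth {g : SU n F 2} (hg : g * g = 1) (h : disp g ≠ 0) :
    ∃ x, hh x (disp g x) = 1 := by
  by_contra hno
  push Not at hno
  have h0 : ∀ x, hh x (disp g x) = 0 := fun x => by
    refine (real_zero_or_one h4 ?_).resolve_right (hno x)
    rw [cj_h hF, disp_self h4 hg]
  have hsum : ∀ x y, hh x (disp g y) + qFrob hF (hh x (disp g y)) = 0 := fun x y => by
    have e := h0 (x + y)
    rw [map_add, h_add_left, h_add_right hF, h_add_right hF, h0, h0] at e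
    rw [cj_h hF, disp_self h4 hg]
    linear_combination e
  obtain ⟨y, hy⟩ : ∃ y, disp g y ≠ 0 := by
    by_contra k
    push Not at k
    exact h (LinearMap.ext k)
  obtain ⟨w, -, hw1, -, hwc, -⟩ := exists_omega h4
  obtain ⟨x, hx⟩ := exists_h_eq hF hy w
  have e := hsum x y
  rw [← cj_h hF (disp g y) x, hx, cj_cj, hwc] at e
  exact one_ne_zero (α := F) (by linear_combination e - add_self h4 w)

/-- Peeling transvections from an involution. -/
theorem peel (W : Submodule F (Fin n → F)) : ∀ (m : ℕ) (g : SU n F 2), g * g = 1 →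
    LinearMap.range (disp g) ≤ W → n ≤ Module.finrank F (LinearMap.ker (disp g)) + m →
    ∃ l : List (PSU n F 2), l.length ≤ m ∧
      (∀ r ∈ l, ∃ v ∈ W, v ≠ 0 ∧ ∃ hv : hh v v = 0, root h4 hv = r) ∧ l.prod = suToPSU n F 2 g := by
  intro m
  induction m with
  | zero =>
    intro g _ _ hd
    refine ⟨[], le_rfl, by simp, ?_⟩
    have htop : LinearMap.ker (disp g) = ⊤ := Submodule.eq_top_of_finrank_eq
      (le_antisymm (Submodule.finrank_le _) (by rw [Module.finrank_fin_fun]; omega))
    have : g = 1 := suVal_ext (Matrix.ext_iff_mulVec.2 fun x => by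
      rw [apply_disp h4 g x, LinearMap.mem_ker.mp (htop ▸ Submodule.mem_top : x ∈ LinearMap.ker (disp g)),
        add_zero]
      exact (Matrix.one_mulVec x).symm)
    rw [List.prod_nil, this, map_one]
  | succ m ih =>
    intro g hg hW hd
    by_cases h0 : disp g = 0
    · refine ⟨[], Nat.zero_le _, by simp, ?_⟩
      have : g = 1 := suVal_ext (Matrix.ext_iff_mulVec.2 fun x => by
        rw [apply_disp h4 g x, h0, LinearMap.zero_apply, add_zero]
        exact (Matrix.one_mulVec x).symm)
      rw [List.prod_nil, this, map_one]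
    obtain ⟨x, hx⟩ := exists_nonorth h4 hg h0
    obtain ⟨v, hvdef⟩ : ∃ v, v = disp g x := ⟨_, rfl⟩
    have hv : hh v v = 0 := by rw [hvdef]; exact disp_orth h4 hg x x
    have hv0 : v ≠ 0 := fun k => one_ne_zero (α := F) (by rw [← hx, ← hvdef, k]; simp [hermForm])
    have hgv : suVal g *ᵥ v = v := by rw [apply_disp h4, hvdef, disp_disp h4 hg, add_zero]
    have hcomm : g * tv h4 hv = tv h4 hv * g := by
      have := suVal_conj h4 g hv
      rw [← mul_inv_eq_iff_eq_mul, this]
      exact suVal_ext (by rw [suVal_tv h4, suVal_tv h4, hgv])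
    let g' := g * tv h4 hv
    have hg' : g' * g' = 1 := by
      show g * tv h4 hv * (g * tv h4 hv) = 1
      conv_lhs => arg 2; rw [hcomm]
      rw [mul_assoc, ← mul_assoc (tv h4 hv), tv_mul_self, one_mul, hg]
    have happ : ∀ y, suVal g' *ᵥ y = suVal g *ᵥ y + hh y v • v := fun y => by
      show suVal (g * tv h4 hv) *ᵥ y = _
      rw [suVal_mul, ← Matrix.mulVec_mulVec, suVal_tv h4, T_apply h4, Matrix.mulVec_add,
        Matrix.mulVec_smul, hgv]
    have hdisp : ∀ y, disp g' y = disp g y + hh y v • v := fun y => by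
      rw [disp_apply, happ, disp_apply]; abel
    have hsub : LinearMap.ker (disp g) < LinearMap.ker (disp g') := by
      refine SetLike.lt_iff_le_and_exists.mpr ⟨fun y hy => ?_, x, ?_, fun k => hv0 (hvdef.trans k)⟩
      · rw [LinearMap.mem_ker] at hy ⊢
        rw [hdisp, hy, zero_add, hvdef, ← disp_self h4 hg, hy]
        simp [hermForm]
      · rw [LinearMap.mem_ker, hdisp, ← hvdef, hvdef, hx, one_smul, ← two_smul F, ← one_add_one_eq_two,
          add_self h4, zero_smul]
    have hW' : LinearMap.range (disp g') ≤ W := by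
      rintro _ ⟨y, rfl⟩
      rw [hdisp]
      exact add_mem (hW ⟨y, rfl⟩) (Submodule.smul_mem _ _ (hvdef ▸ hW ⟨x, rfl⟩))
    have hd' : n ≤ Module.finrank F (LinearMap.ker (disp g')) + m := by
      have := Submodule.finrank_lt_finrank_of_lt hsub
      omega
    obtain ⟨l, hl, hmem, hprod⟩ := ih g' hg' hW' hd'
    refine ⟨l ++ [root h4 hv], by rw [List.length_append, List.length_singleton]; omega, fun r hr => ?_, ?_⟩
    · rcases List.mem_append.mp hr with k | k
      · exact hmem r k
      · exact ⟨v, hvdef ▸ hW ⟨x, rfl⟩, hv0, hv, (List.mem_singleton.mp k).symm⟩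
    · rw [List.prod_append, hprod, List.prod_singleton, root, ← map_mul]
      show suToPSU n F 2 (g * tv h4 hv * tv h4 hv) = _
      rw [mul_assoc, tv_mul_self, mul_one]

/-- An involution of `PSU₆(2)` is a product of at most three commuting transvections. -/
theorem involution_roots {y : PSU 6 F 2} (hy : y * y = 1) :
    ∃ l : List (PSU 6 F 2), l.length ≤ 3 ∧ (∀ r ∈ l, r ∈ roots h4 6) ∧
      (∀ r ∈ l, ∀ s ∈ l, Commute r s) ∧ l.prod = y := by
  obtain ⟨g₀, rfl⟩ := pi_surjective y
  rw [← map_mul] at hy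
  have hz : g₀ * g₀ ∈ Subgroup.center (SU 6 F 2) := (QuotientGroup.eq_one_iff _).mp hy
  have h3 : (g₀ * g₀) ^ 3 = 1 := by
    have h := pow_card_eq_one' (x := (⟨g₀ * g₀, hz⟩ : ↥(Subgroup.center (SU 6 F 2))))
    rw [natCard_center_SU (card_sq h4) (by norm_num)] at h
    exact congrArg Subtype.val h
  obtain ⟨g, hgdef⟩ : ∃ g, g = g₀ * (g₀ * g₀) := ⟨_, rfl⟩
  have hg : g * g = 1 := by
    rw [← h3, hgdef, pow_three']
    simp only [mul_assoc]
  have hπ : suToPSU 6 F 2 g = suToPSU 6 F 2 g₀ := by rw [hgdef, map_mul, hy, mul_one]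
  have hle : LinearMap.range (disp g) ≤ LinearMap.ker (disp g) := by
    rintro _ ⟨x, rfl⟩
    exact disp_disp h4 hg x
  have hsum := LinearMap.finrank_range_add_finrank_ker (disp g)
  rw [Module.finrank_fin_fun] at hsum
  have hle' := Submodule.finrank_mono hle
  obtain ⟨l, hl, hmem, hprod⟩ := peel h4 (LinearMap.range (disp g)) 3 g hg le_rfl (by omega)
  refine ⟨l, hl, fun r hr => ?_, fun r hr s hs => ?_, hprod.trans hπ⟩
  · obtain ⟨v, -, hv0, hv, e⟩ := hmem r hr
    exact ⟨v, hv0, hv, e⟩
  · obtain ⟨u, ⟨a, ea⟩, hu0, hu, rfl⟩ := hmem r hr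
    obtain ⟨v, ⟨b, eb⟩, hv0, hv, rfl⟩ := hmem s hs
    rw [root_commute h4 (by norm_num) hu hv hu0 hv0, ← ea, ← eb]
    exact disp_orth h4 hg a b

end Cfsg.Agent.Block.FischerTypes.U6
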