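import Cfsg.Agent.Lib.Block.FischerTypes.M22Triples
import Cfsg.Agent.Lib.Block.FischerTypes.U6Invol

/-! The involutions of a group of type M(22). -/

set_option autoImplicit false
set_option linter.style.haveILetI false
set_option linter.unusedSectionVars false

namespace Cfsg.Agent.Block.FischerTypes.M22

open Cfsg Cfsg.Agent.Spor.ThreeTrans

variable {G : Type*} [Group G] [Finite G] {D : Set G} (C : Ctx D)
include C

/-- The centraliser of a member meets the centraliser of another in a large group. -/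
theorem card_pair_le {a b : G} (ha : a ∈ D) (hb : b ∈ D) :
    2 * 9196830720 ≤ 3510 *
      Nat.card ↥((Subgroup.centralizer ({b} : Set G)).subgroupOf (Subgroup.centralizer ({a} : Set G))) := by
  have hidx : (Subgroup.centralizer ({b} : Set G)).index = 3510 := by
    have h := Subgroup.index_mul_card (Subgroup.centralizer ({b} : Set G))
    rw [card_centralizer C hb, card_group C (numbered_ctx C)] at h
    omega
  have h1 : (Subgroup.centralizer ({b} : Set G)).relIndex (Subgroup.centralizer ({a} : Set G)) ≤ 3510 := by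
    rw [← hidx, ← Subgroup.relIndex_top_right]
    exact Subgroup.relIndex_le_of_le_right le_top (by rw [Subgroup.relIndex_top_right, hidx]; norm_num)
  have h2 := Subgroup.index_mul_card
    ((Subgroup.centralizer ({b} : Set G)).subgroupOf (Subgroup.centralizer ({a} : Set G)))
  rw [card_centralizer C ha] at h2
  rw [← h2]
  exact Nat.mul_le_mul_right _ h1

theorem triple_ne_one {l : List G} (hl : Fact' D 3 1 l) : False := by
  have h := card_centralizer_triple C hl
  have e : Subgroup.centralizer ({1} : Set G) = ⊤ :=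
    eq_top_iff.mpr fun g _ => Subgroup.mem_centralizer_singleton_iff.mpr (by simp)
  rw [e, Subgroup.card_top, card_group C (numbered_ctx C)] at h
  norm_num at h

theorem triple_ne_member {j : G} {l : List G} (hl : Fact' D 3 j l) : j ∉ D := fun hj => by
  have h := card_centralizer_triple C hl
  rw [card_centralizer C hj] at h
  norm_num at h

theorem triple_ne_pair {j : G} {l l' : List G} (hl : Fact' D 3 j l) (hl' : Fact' D 2 j l') : False := by
  obtain ⟨a, b, rfl⟩ := List.length_eq_two.mp hl'.2.1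
  have ha := hl'.2.2.1 a (by simp)
  have hb := hl'.2.2.1 b (by simp)
  have h := card_centralizer_triple C hl
  let f : ↥((Subgroup.centralizer ({b} : Set G)).subgroupOf (Subgroup.centralizer ({a} : Set G))) →
      ↥(Subgroup.centralizer ({j} : Set G)) := fun g => ⟨g.1.1, by
    rw [Subgroup.mem_centralizer_singleton_iff, ← hl'.2.2.2.2]
    have h1 : Commute (g.1.1) a := Subgroup.mem_centralizer_singleton_iff.mp g.1.2
    have h2 : Commute (g.1.1) b := Subgroup.mem_centralizer_singleton_iff.mp g.2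
    simpa using (h1.mul_right h2).eq⟩
  have hle := Nat.card_le_card_of_injective f fun x y e => by
    simp only [f, Subtype.mk.injEq] at e
    exact Subtype.ext (Subtype.ext e)
  have := card_pair_le C ha hb
  rw [h] at hle
  omega

theorem pair_ne_member {j : G} {l : List G} (hl : Fact' D 2 j l) : j ∉ D := fun hj => by
  obtain ⟨a, b, rfl⟩ := List.length_eq_two.mp hl.2.1
  have hne : a ≠ b := by simpa using hl.1
  have ha := hl.2.2.1 a (by simp)
  have hb := hl.2.2.1 b (by simp)
  have hab : Commute a b := hl.2.2.2.1 a (by simp) b (by simp)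
  obtain rfl : a * b = j := by simpa using hl.2.2.2.2
  have hja : a * b ≠ a := fun e => by
    have h1 : b = 1 := mul_left_cancel (e.trans (mul_one a).symm)
    have h2 := C.set.cls.1.1 b hb
    rw [h1, orderOf_one] at h2
    omega
  have hjb : a * b ≠ b := fun e => by
    have h1 : a = 1 := mul_right_cancel (e.trans (one_mul b).symm)
    have h2 := C.set.cls.1.1 a ha
    rw [h1, orderOf_one] at h2
    omega
  have k1 : Commute (a * b) a := (Commute.refl a).mul_left hab.symm
  have k2 : Commute (a * b) b := hab.mul_left (Commute.refl b)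
  refine triple_ne_one C (l := [a, b, a * b]) ⟨?_, rfl, by simp [ha, hb, hj], ?_, ?_⟩
  · simp [hne, Ne.symm hja, Ne.symm hjb]
  · simp only [List.mem_cons, List.not_mem_nil, or_false]
    rintro x (rfl | rfl | rfl) y (rfl | rfl | rfl)
    exacts [.refl _, hab, k1.symm, hab.symm, .refl _, k2.symm, k1, k2, .refl _]
  · simp only [List.prod_cons, List.prod_nil, mul_one]
    rw [← mul_assoc]
    exact mul_self C.set.cls.1 hj

/-- A product of few commuting members. -/
def Short (D : Set G) (x : G) : Prop := ∃ m, m ≤ 3 ∧ ∃ l, Fact' D m x l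

theorem short_list : ∀ (l : List G), l.length ≤ 3 → (∀ x ∈ l, x ∈ D) →
    (∀ x ∈ l, ∀ y ∈ l, Commute x y) → Short D l.prod := by
  have h := C.set.cls.1
  intro l hlen hD hc
  by_cases hn : l.Nodup
  · exact ⟨_, hlen, l, hn, rfl, hD, hc, rfl⟩
  match l, hlen with
  | [], _ => exact absurd List.nodup_nil hn
  | [a], _ => exact absurd (List.nodup_singleton a) hn
  | [a, b], _ =>
    obtain rfl : a = b := by simpa using hn
    exact ⟨0, by omega, [], List.nodup_nil, rfl, by simp, by simp,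
      by simp [mul_self h (hD a (by simp))]⟩
  | [a, b, c], _ =>
    have ha := hD a (by simp)
    have hb := hD b (by simp)
    have hk := hc a (by simp) c (by simp)
    by_cases hab : a = b
    · subst hab
      exact ⟨1, by omega, [c], List.nodup_singleton c, rfl, by simp [hD c (by simp)], by simp,
        by simp [mul_self_mul h ha]⟩
    by_cases hbc : b = c
    · subst hbc
      exact ⟨1, by omega, [a], List.nodup_singleton a, rfl, by simp [ha], by simp,
        by simp [mul_self h hb]⟩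
    obtain rfl : a = c := by
      by_contra k
      exact hn (by simp [hab, hbc, k])
    refine ⟨1, by omega, [b], List.nodup_singleton b, rfl, by simp [hb], by simp, ?_⟩
    have := hc b (by simp) a (by simp)
    simp only [List.prod_cons, List.prod_nil, mul_one]
    rw [this.eq, mul_self_mul h ha]

/-- A triple beside a member on a line gives a pair. -/
theorem line_short {a p q r : G} (ha : a ∈ D) (hp : p ∈ perp D a) (hq : q ∈ common D a p)
    (hr : r ∈ common D a p) (hne : q ≠ r) (htw : ∀ y ∈ common D a p, Commute y q ↔ Commute y r) :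
    ∃ l, Fact' D 2 (a * p * q * r) l := by
  classical
  have h := C.set.cls
  obtain ⟨T, hTn, hTlen, hT, hTc, hT1⟩ := hexad C.set C.cen C.hex ha hp hq
  have hqT : q ∈ T := (hT q).mpr ⟨hq, fun _ _ => Iff.rfl⟩
  have hrT : r ∈ T.erase q := (List.mem_erase_of_ne (Ne.symm hne)).mpr ((hT r).mpr ⟨hr, htw⟩)
  let U := (T.erase q).erase r
  have hperm : T.Perm (q :: r :: U) :=
    (List.perm_cons_erase hqT).trans ((List.perm_cons_erase hrT).cons q)
  have hUc : ∀ x ∈ U, ∀ y ∈ U, Commute x y := fun x hx y hy =>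
    hTc x (List.mem_of_mem_erase (List.mem_of_mem_erase hx)) y (List.mem_of_mem_erase (List.mem_of_mem_erase hy))
  have hUD : ∀ x ∈ U, x ∈ D := fun x hx =>
    ((hT x).mp (List.mem_of_mem_erase (List.mem_of_mem_erase hx))).1.1.1
  refine ⟨U, (hTn.erase q).erase r, ?_, hUD, hUc, ?_⟩
  · rw [List.length_erase_of_mem hrT, List.length_erase_of_mem hqT, hTlen]
  · rw [hperm.prod_eq' (List.pairwise_of_forall_mem_list hTc), List.prod_cons, List.prod_cons] at hT1
    have h2 := prod_mul_prod h.1 U hUD hUc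
    rw [eq_inv_of_mul_eq_one_left (show (a * p * q * r) * U.prod = 1 by simpa [mul_assoc] using hT1)]
    exact eq_inv_of_mul_eq_one_left h2

theorem eq_one_or_self {a z : G} (ha : a ∈ D) (hz : z ∈ Subgroup.zpowers a) : z = 1 ∨ z = a := by
  obtain ⟨n, rfl⟩ := hz
  have h2 : a ^ (2 : ℤ) = 1 := by
    rw [show (2 : ℤ) = ((2 : ℕ) : ℤ) from rfl, zpow_natCast, pow_two]; exact mul_self C.set.cls.1 ha
  obtain ⟨k, rfl | rfl⟩ := Int.even_or_odd' n
  · left; simp [zpow_mul, h2]
  · right; simp [zpow_add, zpow_mul, h2]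

/-- Some triple beside a member multiplies with it to a triple. -/
theorem exists_frame {a : G} (ha : a ∈ D) : ∃ p q r : G, p ∈ perp D a ∧ q ∈ common D a p ∧
    r ∈ common D a p ∧ q ≠ r ∧ Commute q r ∧ ∃ l, Fact' D 3 (a * p * q * r) l := by
  classical
  have h := C.set.cls
  obtain ⟨F, _, _, h4, Φ, hsurj, hmem, hlift, hinj, hcom, hker⟩ := C.mdl a ha
  obtain ⟨P, Q, R, A, B, hA, hB, hnA, hnB, hroot, hcomm, hpA, hpB, x₀, hxB, hxA⟩ := U6.plane h4
  choose φ hφ hφΦ using hlift
  let ψ : PSU 6 F 2 → G := fun x => if hx : x ∈ U6.roots h4 6 then φ x hx else 1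
  let S := P :: Q :: R :: (A ++ B)
  have hψ : ∀ x ∈ S, ∃ hu : ψ x ∈ perp D a, Φ (el hu) = x := fun x hx => by
    simp only [ψ, dif_pos (hroot x hx)]
    exact ⟨hφ x _, hφΦ x _⟩
  have hψi : ∀ x ∈ S, ∀ y ∈ S, ψ x = ψ y → x = y := fun x hx y hy e => by
    obtain ⟨hu, e1⟩ := hψ x hx
    obtain ⟨hv, e2⟩ := hψ y hy
    rw [← e1, ← e2]
    congr 1
    exact Subtype.ext e
  have hψc : ∀ x ∈ S, ∀ y ∈ S, Commute (ψ x) (ψ y) := fun x hx y hy => by
    obtain ⟨hu, e1⟩ := hψ x hx
    obtain ⟨hv, e2⟩ := hψ y hy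
    exact (hcom _ hu _ hv).mp (by rw [e1, e2]; exact hcomm x hx y hy)
  have key : ∀ L : List (PSU 6 F 2), L.length = 3 → (P :: Q :: R :: L).Nodup →
      (P :: Q :: R :: L).prod = 1 → (∀ x ∈ L, x ∈ A ++ B) →
      Fact' D 3 (ψ P * ψ Q * ψ R) (L.map ψ) ∨ Fact' D 3 (a * ψ P * ψ Q * ψ R) (L.map ψ) := by
    intro L hL hn hp hsub
    obtain ⟨x, y, z, rfl⟩ := List.length_eq_three.mp hL
    have sub : ∀ {e}, e ∈ [x, y, z] → e ∈ S := fun {e} he => by
      have := List.mem_append.mp (hsub e he)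
      simp only [S, List.mem_cons, List.mem_append]
      tauto
    have hD : ∀ e ∈ [x, y, z].map ψ, e ∈ D := fun e he => by
      obtain ⟨u, hu, rfl⟩ := List.mem_map.mp he
      obtain ⟨k, -⟩ := hψ u (sub hu)
      exact k.1
    have hc : ∀ e ∈ [x, y, z].map ψ, ∀ e' ∈ [x, y, z].map ψ, Commute e e' := fun e he e' he' => by
      obtain ⟨u, hu, rfl⟩ := List.mem_map.mp he
      obtain ⟨v, hv, rfl⟩ := List.mem_map.mp he'
      exact hψc u (sub hu) v (sub hv)
    have hnd : ([x, y, z].map ψ).Nodup := List.Nodup.map_on (fun u hu v hv e => hψi u (sub hu) v (sub hv) e)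
      (List.nodup_cons.mp (List.nodup_cons.mp (List.nodup_cons.mp hn).2).2).2
    obtain ⟨uP, eP⟩ := hψ P (by simp [S])
    obtain ⟨uQ, eQ⟩ := hψ Q (by simp [S])
    obtain ⟨uR, eR⟩ := hψ R (by simp [S])
    obtain ⟨ux, ex⟩ := hψ x (sub (by simp))
    obtain ⟨uy, ey⟩ := hψ y (sub (by simp))
    obtain ⟨uz, ez⟩ := hψ z (sub (by simp))
    have hz := hker (el uP * el uQ * el uR * (el ux * el uy * el uz)) (by
      simp only [map_mul, eP, eQ, eR, ex, ey, ez]
      simpa [mul_assoc] using hp)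
    rw [C.centre a ha, Subgroup.mem_subgroupOf] at hz
    have h2 := prod_mul_prod h.1 _ hD hc
    rcases eq_one_or_self C ha hz with e | e
    · refine Or.inl ⟨hnd, rfl, hD, hc, ?_⟩
      rw [eq_inv_of_mul_eq_one_left (show ψ P * ψ Q * ψ R * ([x, y, z].map ψ).prod = 1 by
        simpa [mul_assoc] using e)]
      exact eq_inv_of_mul_eq_one_left h2
    · refine Or.inr ⟨hnd, rfl, hD, hc, ?_⟩
      have e' : ψ P * ψ Q * ψ R * ([x, y, z].map ψ).prod = a := by simpa [mul_assoc] using e
      have hj : a * ψ P * ψ Q * ψ R * ([x, y, z].map ψ).prod = 1 := by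
        rw [show a * ψ P * ψ Q * ψ R * ([x, y, z].map ψ).prod =
          a * (ψ P * ψ Q * ψ R * ([x, y, z].map ψ).prod) by simp only [mul_assoc], e', mul_self h.1 ha]
      rw [eq_inv_of_mul_eq_one_left hj]
      exact eq_inv_of_mul_eq_one_left h2
  obtain ⟨hP, eP⟩ := hψ P (by simp [S])
  obtain ⟨hQ, eQ⟩ := hψ Q (by simp [S])
  obtain ⟨hR, eR⟩ := hψ R (by simp [S])
  have hPQR : [P, Q, R].Nodup := hnA.sublist (by simp)
  simp only [List.nodup_cons, List.mem_cons, List.not_mem_nil, or_false, not_or, List.nodup_nil,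
    not_false_eq_true, and_true] at hPQR
  have inS : P ∈ S ∧ Q ∈ S ∧ R ∈ S := by simp [S]
  have nPQ : ψ Q ≠ ψ P := fun e => hPQR.1.1 (hψi _ inS.2.1 _ inS.1 e).symm
  have nPR : ψ R ≠ ψ P := fun e => hPQR.1.2 (hψi _ inS.2.2 _ inS.1 e).symm
  have nQR : ψ Q ≠ ψ R := fun e => hPQR.2 (hψi _ inS.2.1 _ inS.2.2 e)
  refine ⟨ψ P, ψ Q, ψ R, hP, ⟨hQ, hQ.1, nPQ, hψc _ inS.1 _ inS.2.1⟩,
    ⟨hR, hR.1, nPR, hψc _ inS.1 _ inS.2.2⟩, nQR, hψc _ inS.2.1 _ inS.2.2, ?_⟩
  rcases key A hA hnA hpA fun x hx => List.mem_append_left _ hx with fA | fA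
  swap
  · exact ⟨_, fA⟩
  rcases key B hB hnB hpB fun x hx => List.mem_append_right _ hx with fB | fB
  swap
  · exact ⟨_, fB⟩
  exfalso
  have f0 : Fact' D 3 (ψ P * ψ Q * ψ R) [ψ P, ψ Q, ψ R] := by
    refine ⟨by simp [Ne.symm nPQ, Ne.symm nPR, nQR], rfl, by simp [hP.1, hQ.1, hR.1], ?_,
      by simp [mul_assoc]⟩
    intro x hx y hy
    rw [show [ψ P, ψ Q, ψ R] = [P, Q, R].map ψ from rfl] at hx hy
    obtain ⟨u, hu, rfl⟩ := List.mem_map.mp hx
    obtain ⟨v, hv, rfl⟩ := List.mem_map.mp hy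
    have sub : ∀ e ∈ [P, Q, R], e ∈ S := fun e he => by
      simp only [S, List.mem_cons, List.not_mem_nil, or_false] at he ⊢; tauto
    exact hψc u (sub u hu) v (sub v hv)
  obtain ⟨l₁, l₂, -, -, -, hl⟩ := triples C.set C.cen C.hex _ _ f0
  have sep : ∀ L, (P :: Q :: R :: L).Nodup → (∀ x ∈ L, x ∈ A ++ B) →
      ¬ ∀ y, y ∈ [ψ P, ψ Q, ψ R] ↔ y ∈ L.map ψ := by
    intro L hn hsub k
    obtain ⟨x, hx', e'⟩ := List.mem_map.mp ((k (ψ P)).mp (by simp))
    have := hψi x (by simp only [S, List.mem_cons]; exact Or.inr (Or.inr (Or.inr (hsub x hx')))) P inS.1 e'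
    exact (List.nodup_cons.mp hn).1 (by simp [← this, hx'])
  have sepAB : ¬ ∀ y, y ∈ A.map ψ ↔ y ∈ B.map ψ := fun k => by
    obtain ⟨x', hx', e'⟩ := List.mem_map.mp ((k (ψ x₀)).mpr (List.mem_map_of_mem hxB))
    exact hxA (hψi x' (by simp [S, hx']) x₀ (by simp [S, hxB]) e' ▸ hx')
  have s01 := sep A hnA fun x hx' => List.mem_append_left _ hx'
  have s02 := sep B hnB fun x hx' => List.mem_append_right _ hx'
  rcases hl _ f0 with k0 | k0 <;> rcases hl _ fA with k1 | k1 <;> rcases hl _ fB with k2 | k2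
  all_goals first
    | exact s01 fun y => (k0 y).trans (k1 y).symm
    | exact s02 fun y => (k0 y).trans (k2 y).symm
    | exact sepAB fun y => (k1 y).trans (k2 y).symm

/-- Three commuting members beside a member: on a line, or like a chosen frame. -/
theorem line_or_conj {a p q r : G} (N : U6Code.Model D a) (hp : N.pt U6Code.b0 = p) (hq : N.pt U6Code.b1 = q)
    (hr : r ∈ common D a p) (hqr : Commute q r) (hne : q ≠ r) :
    (∀ y ∈ common D a p, Commute y q ↔ Commute y r) ∨
      ∃ g ∈ PerpGroup D a, g * p * g⁻¹ = p ∧ g * q * g⁻¹ = q ∧ g * N.pt U6Code.b2 * g⁻¹ = r := by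
  open U6Code in
  open U6Code.Model in
  subst hp hq
  obtain ⟨c, hc, rfl⟩ := N.surj r hr.1
  have h0 : adj U6Code.b0 c = true := (N.comm _ _ pt_b0 hc).mp hr.2.2.2
  have h1 : adj U6Code.b1 c = true := (N.comm _ _ pt_b1 hc).mp hqr
  have hcp : c ∈ pairList := by
    rw [pairList, List.mem_filter, Bool.and_eq_true]; exact ⟨mem_ptList.mpr hc, h0, h1⟩
  by_cases hon : onLine U6Code.b0 U6Code.b1 c = true
  · left
    intro y hy
    have hs := List.all_eq_true.mp line_symm c hcp
    simp only [hon, Bool.not_true, Bool.false_or] at hs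
    exact ⟨N.lineT pt_b0 pt_b1 hc hon y hy.1 hy.2.2.2.symm,
      N.lineT pt_b0 hc pt_b1 hs y hy.1 hy.2.2.2.symm⟩
  · right
    obtain ⟨g, hg, e, hfix⟩ := N.move C.set.cls (B := [U6Code.b0, U6Code.b1]) (by simp [pt_b0, pt_b1]) pt_b2 tr2_ok (c := c)
      (List.mem_filter.mpr ⟨mem_ptList.mpr hc, by
        simp only [Bool.and_eq_true, Bool.not_eq_true', ← Bool.not_eq_true]
        refine ⟨⟨⟨⟨h0, h1⟩, fun k => ?_⟩, fun k => ?_⟩, hon⟩
        · exact hr.2.2.1 (by rw [Nat.eq_of_beq_eq_true k])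
        · exact hne (by rw [Nat.eq_of_beq_eq_true k])⟩)
    exact ⟨g, hg, hfix _ List.mem_cons_self, hfix _ (by simp), e⟩

/-- A member times three commuting members of its perpendicular is short. -/
theorem four_short {a p q r : G} (ha : a ∈ D) (hp : p ∈ perp D a) (hq : q ∈ common D a p)
    (hr : r ∈ common D a p) (hqr : Commute q r) (hne : q ≠ r) : Short D (a * p * q * r) := by
  have h := C.set.cls
  obtain ⟨P, Q, R, hP, hQ, hR, hQR, cQR, L, hL⟩ := exists_frame C ha
  obtain ⟨k, hk, e1⟩ := lift_conj C ha hP hp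
  have ka := commute_self hk
  have hQ1 : k * Q * k⁻¹ ∈ perp D a := perp_conj' h ka hQ.1
  have hQ2 : k * Q * k⁻¹ ∈ perp D p := by rw [← e1]; exact (conj_mem_perp h k P).mpr hQ.2
  obtain ⟨g, g1, g2, e2⟩ := lift_conj_fix C ha hp hQ1 hq.1 hQ2 hq.2
  have ga := commute_self g1
  have gp := commute_self g2
  obtain ⟨t, htdef⟩ : ∃ t, t = g * k := ⟨_, rfl⟩
  have ta : t * a * t⁻¹ = a := conj_self_eq (by rw [htdef]; exact ga.mul_left ka)
  have tP : t * P * t⁻¹ = p := by
    rw [htdef, show g * k * P * (g * k)⁻¹ = g * (k * P * k⁻¹) * g⁻¹ by simp [mul_assoc], e1, conj_self_eq gp]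
  have tQ : t * Q * t⁻¹ = q := by
    rw [htdef, show g * k * Q * (g * k)⁻¹ = g * (k * Q * k⁻¹) * g⁻¹ by simp [mul_assoc], e2]
  obtain ⟨R', hR'def⟩ : ∃ R', R' = t * R * t⁻¹ := ⟨_, rfl⟩
  have hR' : R' ∈ common D a p := by
    rw [hR'def]
    constructor
    · rw [← ta]; exact (conj_mem_perp h t a).mpr hR.1
    · rw [← tP]; exact (conj_mem_perp h t P).mpr hR.2
  have hL' : Fact' D 3 (a * p * q * R') (L.map (MulAut.conj t)) := by
    obtain ⟨hn, hlen, hm, hc, hpr⟩ := hL
    refine ⟨hn.map (MulEquiv.injective _), by simpa, ?_, ?_, ?_⟩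
    · intro x hx
      obtain ⟨y, hy, rfl⟩ := List.mem_map.mp hx
      exact conj_mem h _ (hm y hy)
    · intro x hx z hz
      obtain ⟨y, hy, rfl⟩ := List.mem_map.mp hx
      obtain ⟨w, hw, rfl⟩ := List.mem_map.mp hz
      exact (hc y hy w hw).map _
    · rw [← map_list_prod, hpr]
      simp only [map_mul, MulAut.conj_apply, ta, tP, tQ, hR'def]
  have cqR' : Commute q R' := by rw [hR'def, ← tQ]; exact (commute_conj_iff t Q R).mpr cQR
  have nqR' : q ≠ R' := fun e => hQR (by rw [hR'def, ← tQ] at e; simpa using e)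
  obtain ⟨M⟩ := numbered_ctx C a ha
  obtain ⟨N, eN0, eN1⟩ := M.exists_pair h hp hq.1 (Ne.symm hq.2.2.1) hq.2.2.2
  rcases line_or_conj C N eN0 eN1 hr hqr hne with htw | ⟨u, hu, u1, u2, u3⟩
  · obtain ⟨l, hl⟩ := line_short C ha hp hq hr hne htw
    exact ⟨2, by omega, l, hl⟩
  rcases line_or_conj C N eN0 eN1 hR' cqR' nqR' with htw | ⟨v, hv, v1, v2, v3⟩
  · obtain ⟨l, hl⟩ := line_short C ha hp hq hR' nqR' htw
    exact (triple_ne_pair C hL' hl).elim
  refine ⟨3, le_rfl, (L.map (MulAut.conj t)).map (MulAut.conj (u * v⁻¹)), ?_⟩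
  obtain ⟨hn, hlen, hm, hc, hpr⟩ := hL'
  refine ⟨hn.map (MulEquiv.injective _), by simpa using hlen, ?_, ?_, ?_⟩
  · intro x hx
    obtain ⟨y, hy, rfl⟩ := List.mem_map.mp hx
    exact conj_mem h _ (hm y hy)
  · intro x hx z hz
    obtain ⟨y, hy, rfl⟩ := List.mem_map.mp hx
    obtain ⟨w, hw, rfl⟩ := List.mem_map.mp hz
    exact (hc y hy w hw).map _
  · have cv : ∀ {x}, v * x * v⁻¹ = x → Commute v x := fun e => mul_inv_eq_iff_eq_mul.mp e
    have cu : ∀ {x}, u * x * u⁻¹ = x → Commute u x := fun e => mul_inv_eq_iff_eq_mul.mp e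
    have fixes : ∀ {x}, Commute u x → Commute v x → MulAut.conj (u * v⁻¹) x = x := fun hu hv =>
      conj_self_eq (hu.mul_left hv.inv_left)
    rw [← map_list_prod, hpr, map_mul, map_mul, map_mul, fixes (commute_self hu) (commute_self hv),
      fixes (cu u1) (cv v1), fixes (cu u2) (cv v2)]
    congr 1
    rw [← u3, ← v3]
    simp [mul_assoc]

theorem exists_fixed {x : G} (hx : x * x = 1) : ∃ d ∈ D, Commute x d := by
  classical
  by_contra hno
  push Not at hno
  have h := C.set.cls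
  letI : Fintype ↥D := Fintype.ofFinite _
  let σ : G →* Equiv.Perm ↥D :=
    { toFun := fun g =>
        ⟨fun d => ⟨g * d.1 * g⁻¹, conj_mem h g d.2⟩, fun d => ⟨g⁻¹ * d.1 * g, by simpa using conj_mem h g⁻¹ d.2⟩,
          fun d => Subtype.ext (by simp [mul_assoc]), fun d => Subtype.ext (by simp [mul_assoc])⟩
      map_one' := Equiv.ext fun d => Subtype.ext (by simp)
      map_mul' := fun g k => Equiv.ext fun d => Subtype.ext (by simp [mul_assoc]) }
  have hσ : σ x ^ 2 = 1 := by rw [← map_pow, pow_two, hx, map_one]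
  have hfix : Fintype.card (Function.fixedPoints (σ x)) = 0 := by
    rw [Fintype.card_eq_zero_iff]
    exact ⟨fun ⟨d, hd⟩ => hno d.1 d.2 (mul_inv_eq_iff_eq_mul.mp (congrArg Subtype.val hd))⟩
  have hsign := Equiv.Perm.sign_of_pow_two_eq_one hσ
  rw [hfix, ← Nat.card_eq_fintype_card, Nat.card_coe_set_eq, ncard_eq C (numbered_ctx C)] at hsign
  have htriv : ∀ g : G, Equiv.Perm.sign (σ g) = 1 := by
    intro g
    have hg : g ∈ Subgroup.closure D := h.2.2 ▸ Subgroup.mem_top g
    induction hg using Subgroup.closure_induction with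
    | mem u hu =>
      have hu2 : σ u ^ 2 = 1 := by rw [← map_pow, pow_two, mul_self h.1 hu, map_one]
      obtain ⟨M⟩ := numbered_ctx C u hu
      have he : Fintype.card (Function.fixedPoints (σ u)) = 694 := by
        rw [← Nat.card_eq_fintype_card, Nat.card_coe_set_eq]
        have himg : Subtype.val '' Function.fixedPoints (σ u) = insert u (perp D u) := by
          ext v
          constructor
          · rintro ⟨⟨v, hv⟩, hf, rfl⟩
            by_cases e : v = u
            · exact Or.inl e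
            · exact Or.inr ⟨hv, e, mul_inv_eq_iff_eq_mul.mp (congrArg Subtype.val hf)⟩
          · rintro (rfl | hv)
            · exact ⟨⟨v, hu⟩, Subtype.ext (conj_self_eq (Commute.refl v)), rfl⟩
            · exact ⟨⟨v, hv.1⟩, Subtype.ext (conj_self_eq hv.2.2), rfl⟩
        rw [← Set.ncard_image_of_injective _ Subtype.val_injective, himg,
          Set.ncard_insert_of_notMem (fun k => k.2.1 rfl), M.card_perp]
      have hs := Equiv.Perm.sign_of_pow_two_eq_one hu2
      rw [he, ← Nat.card_eq_fintype_card, Nat.card_coe_set_eq, ncard_eq C (numbered_ctx C)] at hs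
      rw [hs]
      exact Even.neg_one_pow ⟨704, by norm_num⟩
    | one => rw [map_one, map_one]
    | mul u v _ _ ihu ihv => rw [map_mul, map_mul, ihu, ihv, mul_one]
    | inv u _ ih => rw [map_inv, map_inv, ih, inv_one]
  rw [htriv x, Odd.neg_one_pow ⟨877, by norm_num⟩] at hsign
  exact absurd hsign (by decide)

/-- Every involution is a product of at most three commuting members. -/
theorem involution_short {x : G} (hx : x * x = 1) : Short D x := by
  have h := C.set.cls
  obtain ⟨d, hd, hxd⟩ := exists_fixed C hx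
  obtain ⟨F, _, _, h4, Φ, hsurj, hmem, hlift, hinj, hcom, hker⟩ := C.mdl d hd
  have hxP : x ∈ PerpGroup D d := by
    rw [← centralizer_eq C hd]; exact Subgroup.mem_centralizer_singleton_iff.mpr hxd.eq
  obtain ⟨L, hL3, hLr, hLc, hLp⟩ := U6.involution_roots h4 (y := Φ ⟨x, hxP⟩)
    (by rw [← map_mul, show (⟨x, hxP⟩ : ↥(PerpGroup D d)) * ⟨x, hxP⟩ = 1 from Subtype.ext hx, map_one])
  have lift : ∀ l : List (PSU 6 F 2), (∀ r ∈ l, r ∈ U6.roots h4 6) → ∃ m : List G, m.length = l.length ∧
      (∀ u ∈ m, ∃ hu : u ∈ perp D d, Φ (el hu) ∈ l) ∧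
      ∃ U : ↥(PerpGroup D d), (U : G) = m.prod ∧ Φ U = l.prod := by
    intro l
    induction l with
    | nil => exact fun _ => ⟨[], rfl, by simp, 1, rfl, map_one Φ⟩
    | cons r l ih =>
      intro hl
      obtain ⟨m, hm1, hm2, U, hU1, hU2⟩ := ih fun s hs => hl s (List.mem_cons_of_mem _ hs)
      obtain ⟨u, hu, eu⟩ := hlift r (hl r List.mem_cons_self)
      refine ⟨u :: m, by simp [hm1], fun v hv => ?_, el hu * U, by simp [hU1], by simp [hU2, eu]⟩
      rcases List.mem_cons.mp hv with rfl | hv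
      · exact ⟨hu, by rw [eu]; exact List.mem_cons_self⟩
      · obtain ⟨k, k'⟩ := hm2 v hv
        exact ⟨k, List.mem_cons_of_mem _ k'⟩
  obtain ⟨m, hm1, hm2, U, hU1, hU2⟩ := lift L hLr
  have hmD : ∀ u ∈ m, u ∈ D := fun u hu => (hm2 u hu).1.1
  have hmc : ∀ u ∈ m, ∀ v ∈ m, Commute u v := fun u hu v hv => by
    obtain ⟨ku, ru⟩ := hm2 u hu
    obtain ⟨kv, rv⟩ := hm2 v hv
    exact (hcom u ku v kv).mp (hLc _ ru _ rv)
  have hz := hker (⟨x, hxP⟩ * U⁻¹) (by rw [map_mul, map_inv, hU2, hLp, mul_inv_cancel])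
  rw [C.centre d hd, Subgroup.mem_subgroupOf] at hz
  rcases eq_one_or_self C hd hz with e | e
  · have e' : x = m.prod := by rw [← hU1]; exact mul_inv_eq_one.mp e
    rw [e']
    exact short_list C m (hm1 ▸ hL3) hmD hmc
  · have e' : x = (d :: m).prod := by
      rw [List.prod_cons, ← hU1]; exact mul_inv_eq_iff_eq_mul.mp e
    have hdm : ∀ u ∈ m, u ∈ perp D d := fun u hu => (hm2 u hu).1
    by_cases hlen : m.length ≤ 2
    · rw [e']
      refine short_list C (d :: m) (by simp; omega) ?_ ?_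
      · simp only [List.mem_cons]; rintro u (rfl | hu)
        exacts [hd, hmD u hu]
      · simp only [List.mem_cons]; rintro u (rfl | hu) v (rfl | hv)
        exacts [.refl _, (hdm v hv).2.2, (hdm u hu).2.2.symm, hmc u hu v hv]
    obtain ⟨p, q, r, rfl⟩ := List.length_eq_three.mp (show m.length = 3 by omega)
    have hp := hdm p (by simp)
    have hq := hdm q (by simp)
    have hr := hdm r (by simp)
    have cpq := hmc p (by simp) q (by simp)
    have cpr := hmc p (by simp) r (by simp)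
    have cqr := hmc q (by simp) r (by simp)
    have e'' : x = d * p * q * r := by simpa [mul_assoc] using e'
    have two : ∀ {v}, v ∈ perp D d → Short D (d * v) := fun {v} hv => by
      have := short_list C [d, v] (by simp) (by simp [hd, hv.1])
        (by simp [hv.2.2, hv.2.2.symm])
      simpa using this
    rw [e'']
    by_cases k1 : p = q
    · subst k1
      rw [mul_assoc d p p, mul_self h.1 hp.1, mul_one]; exact two hr
    by_cases k2 : q = r
    · subst k2
      rw [mul_assoc _ q q, mul_self h.1 hq.1, mul_one]; exact two hp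
    by_cases k3 : p = r
    · subst k3
      rw [mul_assoc d p q, cpq.eq, ← mul_assoc d q p, mul_assoc _ p p, mul_self h.1 hp.1, mul_one]
      exact two hq
    exact four_short C hd hp ⟨hq, hq.1, Ne.symm k1, cpq⟩ ⟨hr, hr.1, Ne.symm k3, cpr⟩ cqr k2

theorem exists_involution {m : ℕ} (hm1 : 1 ≤ m) (hm3 : m ≤ 3) :
    ∃ x l, Fact' D m x l ∧ orderOf x = 2 := by
  have h := C.set.cls
  obtain ⟨a, ha, -⟩ := h.2.1
  obtain ⟨p, q, r, hp, hq, hr, hne, hc, -⟩ := exists_frame C ha
  obtain ⟨l, hlm, hl⟩ : ∃ l : List G, l.length = m ∧ Fact' D m l.prod l := by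
    have f3 : Fact' D 3 [p, q, r].prod [p, q, r] :=
      (fact_iff h).mpr ⟨hp.1, hq.2, hr.2, hr.1.1, Ne.symm hne, hc⟩
    obtain ⟨hn, -, hm, hcc, -⟩ := f3
    have hsub : List.Sublist ([p, q, r].take m) [p, q, r] := List.take_sublist _ _
    have hlen : ([p, q, r].take m).length = m := by simp; omega
    exact ⟨_, hlen, hn.sublist hsub, hlen, fun x hx => hm x (hsub.subset hx),
      fun x hx y hy => hcc x (hsub.subset hx) y (hsub.subset hy), rfl⟩
  refine ⟨l.prod, l, hl, orderOf_eq_prime ?_ ?_⟩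
  · rw [pow_two]; exact prod_mul_prod h.1 l hl.2.2.1 hl.2.2.2.1
  · intro e
    interval_cases m
    · obtain ⟨u, rfl⟩ := List.length_eq_one_iff.mp hl.2.1
      have := h.1.1 u (hl.2.2.1 u (by simp))
      rw [show u = 1 by simpa using e, orderOf_one] at this
      omega
    · obtain ⟨u, v, rfl⟩ := List.length_eq_two.mp hl.2.1
      have e' : u * v = 1 := by simpa using e
      have hne' : u ≠ v := by simpa using hl.1
      exact hne' (by rw [eq_inv_of_mul_eq_one_left e', inv_eq h.1 (hl.2.2.1 v (by simp))])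
    · exact triple_ne_one C (e ▸ hl)

theorem classes {m : ℕ} (hm1 : 1 ≤ m) (hm3 : m ≤ 3) {x y : G} {l l' : List G}
    (hl : Fact' D m x l) (hl' : Fact' D m y l') : IsConj x y := by
  interval_cases m
  · obtain ⟨a, rfl⟩ := List.length_eq_one_iff.mp hl.2.1
    obtain ⟨b, rfl⟩ := List.length_eq_one_iff.mp hl'.2.1
    obtain rfl : a = x := by simpa using hl.2.2.2.2
    obtain rfl : b = y := by simpa using hl'.2.2.2.2
    obtain ⟨g, hg⟩ := transitive C.set.cls (hl.2.2.1 a (by simp)) (hl'.2.2.1 b (by simp))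
    exact isConj_iff.mpr ⟨g, hg⟩
  · obtain ⟨a, b, rfl⟩ := List.length_eq_two.mp hl.2.1
    obtain ⟨a', b', rfl⟩ := List.length_eq_two.mp hl'.2.1
    obtain rfl : a * b = x := by simpa using hl.2.2.2.2
    obtain rfl : a' * b' = y := by simpa using hl'.2.2.2.2
    have hab : b ≠ a := Ne.symm (by simpa using hl.1)
    have hab' : b' ≠ a' := Ne.symm (by simpa using hl'.1)
    obtain ⟨g, rfl, rfl⟩ := pair_conj C.set (hl.2.2.1 a (by simp))
      ⟨hl.2.2.1 b (by simp), hab, hl.2.2.2.1 a (by simp) b (by simp)⟩ (hl'.2.2.1 a' (by simp))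
      (b' := b') ⟨hl'.2.2.1 b' (by simp), hab', hl'.2.2.2.1 a' (by simp) b' (by simp)⟩
    exact isConj_iff.mpr ⟨g, by simp [mul_assoc]⟩
  · exact isConj_iff.mpr (triple_conj C hl hl')

theorem unique_length {m m' : ℕ} (hm1 : 1 ≤ m) (hm3 : m ≤ 3) (hn1 : 1 ≤ m') (hn3 : m' ≤ 3) {x : G}
    {l l' : List G} (hl : Fact' D m x l) (hl' : Fact' D m' x l') : m = m' := by
  have mem1 : ∀ {k : List G}, Fact' D 1 x k → x ∈ D := fun {k} hk => by
    obtain ⟨a, rfl⟩ := List.length_eq_one_iff.mp hk.2.1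
    obtain rfl : a = x := by simpa using hk.2.2.2.2
    exact hk.2.2.1 a (by simp)
  interval_cases m <;> interval_cases m' <;> first
    | rfl
    | exact absurd (mem1 hl) (pair_ne_member C hl')
    | exact absurd (mem1 hl) (triple_ne_member C hl')
    | exact absurd (mem1 hl') (pair_ne_member C hl)
    | exact absurd (mem1 hl') (triple_ne_member C hl)
    | exact (triple_ne_pair C hl hl').elim
    | exact (triple_ne_pair C hl' hl).elim

end Cfsg.Agent.Block.FischerTypes.M22
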