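import Cfsg.Agent.Lib.Block.FischerTypes.U6Code.Lines

/-! The 126 members commuting with an apart pair, and the 3510 transpositions. -/

set_option autoImplicit false
set_option linter.style.haveILetI false

namespace Cfsg.Agent.Block.FischerTypes

open Cfsg Cfsg.Agent.Spor.ThreeTrans
open scoped _root_.Classical

/-- Counting a relation in two ways. -/
theorem double_count_rel {X : Type*} [Finite X] (A B : Set X) (R : X → X → Prop) :
    ∑ x ∈ A.toFinite.toFinset, {y | y ∈ B ∧ R x y}.ncard =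
      ∑ y ∈ B.toFinite.toFinset, {x | x ∈ A ∧ R x y}.ncard := by
  have e1 : ∀ x, {y | y ∈ B ∧ R x y}.ncard = ((B.toFinite.toFinset).filter (R x)).card := fun x => by
    rw [← Set.ncard_coe_finset]; congr 1; ext y; simp
  have e2 : ∀ y, {x | x ∈ A ∧ R x y}.ncard = ((A.toFinite.toFinset).filter (R · y)).card := fun y => by
    rw [← Set.ncard_coe_finset]; congr 1; ext x; simp
  simp only [e1, e2]
  exact Finset.sum_card_bipartiteAbove_eq_sum_card_bipartiteBelow R

theorem split_ncard {X : Type*} [Finite X] (A : Set X) (P : X → Prop) :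
    {x | x ∈ A ∧ P x}.ncard + {x | x ∈ A ∧ ¬ P x}.ncard = A.ncard :=
  Set.ncard_inter_add_ncard_sdiff_eq_ncard A {x | P x}

variable {G : Type*} [Group G] [Finite G] {D : Set G}

/-- A numbering at every member. -/
abbrev Numbered (D : Set G) : Prop := ∀ x ∈ D, Nonempty (U6Code.Model D x)

variable (S : Setting D) (hN : Numbered D) {a c : G} (ha : a ∈ D) (hc : c ∈ D) (hac : ¬ Commute a c)

include S hac in
omit [Finite G] in
theorem common_perp {s : G} (ha : a ∈ D) (hc : c ∈ D) (hs : s ∈ common D a c) :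
    a ∈ perp D s ∧ c ∈ perp D s :=
  ⟨⟨ha, Ne.symm hs.1.2.1, hs.1.2.2.symm⟩, ⟨hc, Ne.symm hs.2.2.1, hs.2.2.2.symm⟩⟩

include S hac in
omit [Finite G] in
theorem mem_common_iff {s u : G} (hs : s ∈ common D a c) :
    u ∈ perp D s ∧ Commute a u ∧ Commute c u ↔ u ∈ common D a c ∧ u ≠ s ∧ Commute s u := by
  constructor
  · rintro ⟨⟨hu, hne, hsu⟩, hau, hcu⟩
    exact ⟨⟨⟨hu, fun e => hac (e ▸ hcu.symm), hau⟩, ⟨hu, fun e => hac (e ▸ hau), hcu⟩⟩, hne, hsu⟩
  · rintro ⟨⟨⟨hu, -, hau⟩, ⟨-, -, hcu⟩⟩, hne, hsu⟩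
    exact ⟨⟨hu, hne, hsu⟩, hau, hcu⟩

include S hN ha hc hac in
theorem nbr_common {s : G} (hs : s ∈ common D a c) :
    {u | u ∈ common D a c ∧ Commute s u}.ncard = 46 := by
  obtain ⟨M⟩ := hN s hs.1.1
  obtain ⟨h1, h2⟩ := common_perp S hac ha hc hs
  have h45 := M.card_both S.cls h1 h2 hac
  have e : {u | u ∈ common D a c ∧ Commute s u} = insert s {u | u ∈ perp D s ∧ Commute a u ∧ Commute c u} := by
    ext u
    simp only [Set.mem_insert_iff, Set.mem_setOf_eq, mem_common_iff S hac hs]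
    constructor
    · exact fun k => (em (u = s)).imp id fun ne => ⟨k.1, ne, k.2⟩
    · rintro (rfl | k)
      exacts [⟨hs, Commute.refl _⟩, ⟨k.1, k.2.2⟩]
  rw [e, Set.ncard_insert_of_notMem (fun k => k.1.2.1 rfl), h45]

include S hN ha hc hac in
theorem nbr_both {s y : G} (hs : s ∈ common D a c) (hy : y ∈ common D a c) (hne : y ≠ s) (hsy : Commute s y) :
    {u | u ∈ common D a c ∧ Commute s u ∧ Commute y u}.ncard = 14 := by
  obtain ⟨M⟩ := hN s hs.1.1
  obtain ⟨h1, h2⟩ := common_perp S hac ha hc hs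
  have h13 := M.card_three S.cls h1 h2 hac (r := y) ⟨hy.1.1, hne, hsy⟩ hy.1.2.2 hy.2.2.2
  have e : {u | u ∈ common D a c ∧ Commute s u ∧ Commute y u} =
      insert s {u | u ∈ perp D s ∧ Commute a u ∧ Commute c u ∧ Commute y u} := by
    ext u
    simp only [Set.mem_insert_iff, Set.mem_setOf_eq]
    constructor
    · intro k
      by_cases ne : u = s
      · exact Or.inl ne
      · obtain ⟨k1, k2, k3⟩ := (mem_common_iff S hac hs).2 ⟨k.1, ne, k.2.1⟩
        exact Or.inr ⟨k1, k2, k3, k.2.2⟩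
    · rintro (rfl | ⟨k1, k2, k3, k4⟩)
      · exact ⟨hs, Commute.refl _, hsy.symm⟩
      · obtain ⟨l1, -, l2⟩ := (mem_common_iff S hac hs).1 ⟨k1, k2, k3⟩
        exact ⟨l1, l2, k4⟩
  rw [e, Set.ncard_insert_of_notMem (fun k => k.1.2.1 rfl), h13]

include S hN ha hc hac in
theorem noThree : U6Code.NoThree D a (common D a c) := by
  intro u hu v hv w hw huv huw hvw cuv cuw cvw hL
  obtain ⟨M⟩ := hN u hu.1.1
  obtain ⟨h1, h2⟩ := common_perp S hac ha hc hu
  obtain ⟨y, hy, hya, hay, hvy, hwy⟩ := M.exists_sep S.cls h1 h2 hac (v := v) (w := w)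
    ⟨hv.1.1, Ne.symm huv, cuv⟩ ⟨hw.1.1, Ne.symm huw, cuw⟩ hvw cvw hv.1.2.2 hv.2.2.2 hw.1.2.2 hw.2.2.2
  exact hwy (hL y ⟨hy.1, hya, hay⟩ hy.2.2.symm hvy.symm).symm

/-- The members of the common perpendicular commuting with `s` and `x`. -/
abbrev tauSet (D : Set G) (a c s x : G) : Set G := {u | u ∈ common D a c ∧ Commute s u ∧ Commute x u}

include S hN ha hc hac in
theorem tau_le {s x : G} (hs : s ∈ common D a c) (hx : x ∈ common D a c) (hsx : ¬ Commute s x) :
    (tauSet D a c s x).ncard ≤ 18 := by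
  obtain ⟨M⟩ := hN a ha
  refine le_trans (le_of_eq ?_) (M.le_eighteen S.cls (noThree S hN ha hc hac) hs.1 hx.1 hsx)
  congr 1
  ext u
  exact ⟨fun k => ⟨k.1.1, k.1, k.2⟩, fun k => k.2⟩

include S hN ha hc hac in
theorem sum_tau {s : G} (hs : s ∈ common D a c) :
    ∑ x ∈ ({x | x ∈ common D a c ∧ ¬ Commute s x}).toFinite.toFinset, (tauSet D a c s x).ncard = 1440 := by
  have e : ∀ x ∈ ({x | x ∈ common D a c ∧ ¬ Commute s x}).toFinite.toFinset, (tauSet D a c s x).ncard =
      {y | y ∈ {y | y ∈ common D a c ∧ y ≠ s ∧ Commute s y} ∧ Commute x y}.ncard := by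
    intro x hx
    simp only [Set.Finite.mem_toFinset, Set.mem_setOf_eq] at hx
    congr 1
    ext y
    exact ⟨fun k => ⟨⟨k.1, fun e => hx.2 (e ▸ k.2.2.symm), k.2.1⟩, k.2.2⟩,
      fun k => ⟨k.1.1, k.1.2.2, k.2⟩⟩
  rw [Finset.sum_congr rfl e, double_count_rel]
  have e2 : ∀ y ∈ ({y | y ∈ common D a c ∧ y ≠ s ∧ Commute s y}).toFinite.toFinset,
      {x | x ∈ {x | x ∈ common D a c ∧ ¬ Commute s x} ∧ Commute x y}.ncard = 32 := by
    intro y hy
    simp only [Set.Finite.mem_toFinset, Set.mem_setOf_eq] at hy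
    have h1 := split_ncard {u | u ∈ common D a c ∧ Commute y u} (Commute s)
    rw [nbr_common S hN ha hc hac hy.1,
      show {u | u ∈ {u | u ∈ common D a c ∧ Commute y u} ∧ Commute s u} =
        {u | u ∈ common D a c ∧ Commute s u ∧ Commute y u} from
        Set.ext fun u => ⟨fun k => ⟨k.1.1, k.2, k.1.2⟩, fun k => ⟨⟨k.1, k.2.2⟩, k.2.1⟩⟩,
      nbr_both S hN ha hc hac hs hy.1 hy.2.1 hy.2.2,
      show {u | u ∈ {u | u ∈ common D a c ∧ Commute y u} ∧ ¬ Commute s u} =
        {x | x ∈ {x | x ∈ common D a c ∧ ¬ Commute s x} ∧ Commute x y} from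
        Set.ext fun u => ⟨fun k => ⟨⟨k.1.1, k.2⟩, k.1.2.symm⟩, fun k => ⟨⟨k.1.1, k.2.symm⟩, k.1.2⟩⟩] at h1
    omega
  rw [Finset.sum_congr rfl e2, Finset.sum_const, ← Set.ncard_eq_toFinset_card, smul_eq_mul]
  have h2 := nbr_common S hN ha hc hac hs
  rw [show {u | u ∈ common D a c ∧ Commute s u} = insert s {y | y ∈ common D a c ∧ y ≠ s ∧ Commute s y} from
    Set.ext fun u => by
      simp only [Set.mem_insert_iff, Set.mem_setOf_eq]
      exact ⟨fun k => (em (u = s)).imp id fun ne => ⟨k.1, ne, k.2⟩,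
        fun k => k.elim (fun e => ⟨e ▸ hs, e ▸ Commute.refl _⟩) fun k => ⟨k.1, k.2.2⟩⟩,
    Set.ncard_insert_of_notMem (fun k => k.2.1 rfl)] at h2
  omega

include S hN ha hc hac in
theorem far_count {s : G} (hs : s ∈ common D a c) :
    80 ≤ {x | x ∈ common D a c ∧ ¬ Commute s x ∧ (tauSet D a c s x).Nonempty}.ncard := by
  have h := sum_tau S hN ha hc hac hs
  rw [← Finset.sum_filter_ne_zero] at h
  have hle := Finset.sum_le_card_nsmul
    ((({x | x ∈ common D a c ∧ ¬ Commute s x}).toFinite.toFinset).filter fun x => (tauSet D a c s x).ncard ≠ 0)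
    (fun x => (tauSet D a c s x).ncard) 18 fun x hx => by
      simp only [Finset.mem_filter, Set.Finite.mem_toFinset, Set.mem_setOf_eq] at hx
      exact tau_le S hN ha hc hac hs hx.1.1 hx.1.2
  rw [h, smul_eq_mul] at hle
  have e : {x | x ∈ common D a c ∧ ¬ Commute s x ∧ (tauSet D a c s x).Nonempty} =
      ↑((({x | x ∈ common D a c ∧ ¬ Commute s x}).toFinite.toFinset).filter
        fun x => (tauSet D a c s x).ncard ≠ 0) := by
    ext x
    simp only [Finset.coe_filter, Set.Finite.mem_toFinset, Set.mem_setOf_eq, and_assoc, ← Nat.pos_iff_ne_zero,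
      Set.ncard_pos (Set.toFinite _)]
  rw [e, Set.ncard_coe_finset]
  omega

include S hN ha hc hac in
theorem mu_le : (common D a c).ncard ≤ 277 := by
  obtain ⟨M⟩ := hN a ha
  have hsub : common D a c ⊆ perp D a := Set.inter_subset_left
  have h := double_count_rel (common D a c) (perp D a \ common D a c) Commute
  have e1 : ∀ s ∈ (common D a c).toFinite.toFinset,
      {b | b ∈ perp D a \ common D a c ∧ Commute s b}.ncard = 135 := by
    intro s hs
    rw [Set.Finite.mem_toFinset] at hs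
    have h1 := split_ncard {u | u ∈ perp D a ∧ Commute s u} (· ∈ common D a c)
    rw [M.card_commute S.cls hs.1,
      show {u | u ∈ {u | u ∈ perp D a ∧ Commute s u} ∧ u ∈ common D a c} = {u | u ∈ common D a c ∧ Commute s u}
        from Set.ext fun u => ⟨fun k => ⟨k.2, k.1.2⟩, fun k => ⟨⟨k.1.1, k.2⟩, k.1⟩⟩,
      nbr_common S hN ha hc hac hs,
      show {u | u ∈ {u | u ∈ perp D a ∧ Commute s u} ∧ u ∉ common D a c} =
        {b | b ∈ perp D a \ common D a c ∧ Commute s b}
        from Set.ext fun u => ⟨fun k => ⟨⟨k.1.1, k.2⟩, k.1.2⟩, fun k => ⟨⟨k.1.1, k.2⟩, k.1.2⟩⟩] at h1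
    omega
  rw [Finset.sum_congr rfl e1, Finset.sum_const, ← Set.ncard_eq_toFinset_card, smul_eq_mul] at h
  have e2 : ∀ b ∈ (perp D a \ common D a c).toFinite.toFinset,
      {s | s ∈ common D a c ∧ Commute s b}.ncard ≤ 90 := by
    intro b hb
    rw [Set.Finite.mem_toFinset] at hb
    refine le_trans (le_of_eq ?_) (M.le_ninety S.cls (noThree S hN ha hc hac) hb.1 hb.2)
    congr 1
    ext s
    exact ⟨fun k => ⟨k.1.1, k.1, k.2.symm⟩, fun k => ⟨k.2.1, k.2.2.symm⟩⟩
  have h3 := Finset.sum_le_card_nsmul _ _ 90 e2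
  rw [← h, ← Set.ncard_eq_toFinset_card, smul_eq_mul, Set.ncard_sdiff hsub, M.card_perp] at h3
  omega

/-- Commuting inside the common perpendicular. -/
def Step (D : Set G) (a c u v : G) : Prop := u ∈ common D a c ∧ v ∈ common D a c ∧ Commute u v

/-- Connected inside the common perpendicular. -/
abbrev Linked (D : Set G) (a c : G) : G → G → Prop := Relation.ReflTransGen (Step D a c)

omit [Finite G] in
theorem linked_symm {u v : G} (h : Linked D a c u v) : Linked D a c v u := by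
  induction h with
  | refl => exact .refl
  | tail _ hs ih => exact ih.head ⟨hs.2.1, hs.1, hs.2.2.symm⟩

include S ha hc hac in
theorem conj_common {g : G} (hga : Commute g a) (hgc : Commute g c) {u : G} (hu : u ∈ common D a c) :
    g * u * g⁻¹ ∈ common D a c :=
  ⟨perp_conj' S.cls hga hu.1, perp_conj' S.cls hgc hu.2⟩

include S ha hc hac in
theorem linked_conj {g : G} (hga : Commute g a) (hgc : Commute g c) {u v : G} (h : Linked D a c u v) :
    Linked D a c (g * u * g⁻¹) (g * v * g⁻¹) := by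
  induction h with
  | refl => exact .refl
  | tail _ hs ih =>
    exact ih.tail ⟨conj_common S ha hc hac hga hgc hs.1, conj_common S ha hc hac hga hgc hs.2.1,
      (commute_conj_iff g _ _).2 hs.2.2⟩

include S hN ha hc hac in
theorem linked_card {s : G} (hs : s ∈ common D a c) :
    126 ≤ {u | u ∈ common D a c ∧ Linked D a c s u}.ncard := by
  have hsub : {u | u ∈ common D a c ∧ Commute s u} ∪
      {x | x ∈ common D a c ∧ ¬ Commute s x ∧ (tauSet D a c s x).Nonempty} ⊆
      {u | u ∈ common D a c ∧ Linked D a c s u} := by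
    rintro u (k | ⟨k1, -, y, hy, hsy, huy⟩)
    · exact ⟨k.1, .single ⟨hs, k.1, k.2⟩⟩
    · exact ⟨k1, (Relation.ReflTransGen.single ⟨hs, hy, hsy⟩).tail ⟨hy, k1, huy.symm⟩⟩
  have h1 := Set.ncard_le_ncard hsub
  rw [Set.ncard_union_eq (Set.disjoint_left.2 fun u k k' => k'.2.1 k.2), nbr_common S hN ha hc hac hs] at h1
  have := far_count S hN ha hc hac hs
  omega

include S hN ha hc hac in
theorem linked_all {s x : G} (hs : s ∈ common D a c) (hx : x ∈ common D a c) : Linked D a c s x := by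
  by_contra hne
  have hsx : ¬ Commute s x := fun k => hne (.single ⟨hs, hx, k⟩)
  have h := S.cls
  have hu : x * s * x ∈ common D a c := by
    have := conj_common S ha hc hac hx.1.2.2.symm hx.2.2.2.symm hs
    rwa [inv_eq h.1 hx.1.1] at this
  have fix : ∀ {p q}, p ∈ common D a c → q ∈ common D a c → ¬ Commute p q → Linked D a c p (q * p * q) →
      Linked D a c p q := by
    intro p q hp hq hpq hl
    have := linked_conj S ha hc hac hp.1.2.2.symm hp.2.2.2.symm hl
    rw [conj_self_eq (Commute.refl p), inv_eq h.1 hp.1.1,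
      show p * (q * p * q) * p = q from ?_] at this
    · exact this
    · rw [braid h.1 hq.1.1 hp.1.1 fun k => hpq k.symm]
      simp [mul_assoc, mul_self_mul h.1 hp.1.1, mul_self h.1 hp.1.1]
  have hsu : ¬ Linked D a c s (x * s * x) := fun k => hne (fix hs hx hsx k)
  have hxu : ¬ Linked D a c x (x * s * x) := fun k => by
    have := fix hx hs (fun e => hsx e.symm) (by rwa [braid h.1 hs.1.1 hx.1.1 hsx])
    exact hne (linked_symm this)
  have d : ∀ {p q}, ¬ Linked D a c p q → Disjoint {u | u ∈ common D a c ∧ Linked D a c p u}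
      {u | u ∈ common D a c ∧ Linked D a c q u} := fun hpq =>
    Set.disjoint_left.2 fun u k k' => hpq (k.2.trans (linked_symm k'.2))
  have h1 := linked_card S hN ha hc hac hs
  have h2 := linked_card S hN ha hc hac hx
  have h3 := linked_card S hN ha hc hac hu
  have h5 : ({u | u ∈ common D a c ∧ Linked D a c s u} ∪ {u | u ∈ common D a c ∧ Linked D a c x u} ∪
      {u | u ∈ common D a c ∧ Linked D a c (x * s * x) u}).ncard ≤ (common D a c).ncard :=
    Set.ncard_le_ncard (by rintro u ((k | k) | k) <;> exact k.1)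
  rw [Set.ncard_union_eq (Set.disjoint_union_left.2 ⟨d hsu, d hxu⟩), Set.ncard_union_eq (d hne)] at h5
  have := mu_le S hN ha hc hac
  omega

end Cfsg.Agent.Block.FischerTypes
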