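import Cfsg.Agent.Lib.Block.FischerTypes.M22Count
import Cfsg.Agent.Lib.Block.FischerTypes.U6Code.Planes
import Cfsg.Agent.Lib.Block.FischerTypes.M22Centralizer
import Cfsg.Agent.S0280

/-! The number of transpositions, the order and the width of a group of type M(22). -/

set_option autoImplicit false
set_option linter.style.haveILetI false
set_option linter.unusedSectionVars false

namespace Cfsg.Agent.Block.FischerTypes.M22

open Cfsg Cfsg.Agent.Spor.ThreeTrans

theorem card_psu {F : Type} [Field F] [Fintype F] (hF : Fintype.card F = 4) :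
    Nat.card (PSU 6 F 2) = 9196830720 := by
  have hc := Cfsg.Agent.S0280.result (show Fintype.card F = 2 ^ 2 by rw [hF]; norm_num) 6 (by norm_num)
  norm_num [Finset.prod_range_succ, Nat.even_iff] at hc
  omega

variable {G : Type*} [Group G] [Finite G] {D : Set G}

theorem numbered (hD : IsThreeTranspositionGroup D) (hprim : IsPrimitiveUnderConj D)
    (h22 : IsOfTypeM22 G D) : Numbered D := by
  obtain ⟨S, -, -, hmod, -⟩ := m22_standing hD hprim h22
  exact fun a ha => U6Code.exists_numbering S.cls S.tf ha (hmod a ha)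

variable (C : Ctx D) (hN : Numbered D)
include C

theorem card_perpGroup {a : G} (ha : a ∈ D) : Nat.card ↥(PerpGroup D a) = 2 * 9196830720 := by
  obtain ⟨F, _, _, h4, Φ, hsurj, hmem, hlift, hinj, hcom, hker⟩ := C.mdl a ha
  haveI := (psu_six h4).1
  obtain ⟨-, x₀, y₀, hxy⟩ := psu_six h4
  have hbot : Subgroup.center (PSU 6 F 2) = ⊥ :=
    (Subgroup.Normal.eq_bot_or_eq_top inferInstance).resolve_right fun ht =>
      hxy (Subgroup.mem_center_iff.mp (ht ▸ Subgroup.mem_top x₀) y₀).symm
  have hk : Φ.ker = Subgroup.center ↥(PerpGroup D a) := by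
    refine le_antisymm (fun g hg => hker g hg) fun g hg => ?_
    rw [MonoidHom.mem_ker, ← Subgroup.mem_bot, ← hbot, Subgroup.mem_center_iff]
    intro x
    obtain ⟨x, rfl⟩ := hsurj x
    rw [← map_mul, ← map_mul, Subgroup.mem_center_iff.mp hg x]
  have h := Subgroup.card_eq_card_quotient_mul_card_subgroup Φ.ker
  rw [h, Nat.card_congr (QuotientGroup.quotientKerEquivOfSurjective Φ hsurj).toEquiv, card_psu h4, hk,
    C.centre a ha, Nat.card_congr (Subgroup.subgroupOfEquivOfLe (Subgroup.zpowers_le.mpr (C.self a ha))).toEquiv,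
    Nat.card_zpowers, C.set.cls.1.1 a ha, mul_comm]

theorem card_centralizer {a : G} (ha : a ∈ D) :
    Nat.card ↥(Subgroup.centralizer ({a} : Set G)) = 2 * 9196830720 := by
  rw [centralizer_eq C ha]
  exact card_perpGroup C ha

omit [Finite G] in
omit C in
theorem orbit_conj (h : IsThreeTranspositionClass D) {a : G} (ha : a ∈ D) :
    MulAction.orbit (ConjAct G) a = D := by
  ext x
  rw [MulAction.mem_orbit_iff]
  constructor
  · rintro ⟨g, rfl⟩
    rw [ConjAct.smul_def]
    exact conj_mem h _ ha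
  · intro hx
    obtain ⟨g, rfl⟩ := transitive h ha hx
    exact ⟨ConjAct.toConjAct g, by rw [ConjAct.smul_def, ConjAct.ofConjAct_toConjAct]⟩

omit C in
theorem card_orbit (a : G) :
    (MulAction.orbit (ConjAct G) a).ncard * Nat.card ↥(Subgroup.centralizer ({a} : Set G)) = Nat.card G := by
  have h := Subgroup.index_mul_card (MulAction.stabilizer (ConjAct G) a)
  rw [MulAction.index_stabilizer, ConjAct.stabilizer_eq_centralizer] at h
  exact h

include hN

theorem ncard_eq : D.ncard = 3510 := by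
  have h := C.set.cls
  obtain ⟨a, ha, -⟩ := h.2.1
  obtain ⟨M⟩ := hN a ha
  have hs := split_ncard D (Commute a)
  have e1 : {u | u ∈ D ∧ Commute a u} = insert a (perp D a) := by
    ext u
    constructor
    · intro hu
      by_cases e : u = a
      · exact Or.inl e
      · exact Or.inr ⟨hu.1, e, hu.2⟩
    · rintro (rfl | hu)
      · exact ⟨ha, Commute.refl _⟩
      · exact ⟨hu.1, hu.2.2⟩
  have e2 : {u | u ∈ D ∧ ¬ Commute a u} = apart D a :=
    Set.ext fun u => ⟨fun k => ⟨k.1, fun e => k.2 e.symm⟩, fun k => ⟨k.1, fun e => k.2 e.symm⟩⟩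
  rw [e1, e2, Set.ncard_insert_of_notMem (fun k => k.2.1 rfl), M.card_perp,
    (card_apart_common C.set hN C.meets).2 a ha] at hs
  omega

theorem card_group : Nat.card G = 64561751654400 := by
  have h := ncard_eq C hN
  obtain ⟨a, ha⟩ := Set.nonempty_of_ncard_ne_zero (s := D) (by omega)
  rw [← card_orbit a, orbit_conj C.set.cls ha, h, card_centralizer C ha]

omit hN in
/-- Pairwise commuting members commuting with a transposition number at most 21. -/
theorem clique_le {a : G} (M : U6Code.Model D a) {E : Set G} (hE : E ⊆ perp D a)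
    (hc : ∀ x ∈ E, ∀ y ∈ E, Commute x y) : E.ncard ≤ 21 := by
  by_contra hlt
  push Not at hlt
  obtain ⟨u, hu, v, hv, huv⟩ := (Set.one_lt_ncard).mp (show 1 < E.ncard by omega)
  obtain ⟨N, rfl, rfl⟩ := M.exists_pair C.set.cls (hE hu) (hE hv) huv (hc _ hu _ hv)
  have key : ∀ (l : List ℕ), (∀ c, U6Code.isPt c = true → N.pt c ∈ E → c ∈ l) → l.length ≤ 21 → False := by
    intro l hl hlen
    have hsub : E ⊆ N.pt '' (↑l.toFinset : Set ℕ) := fun x hx => by
      obtain ⟨c, hcp, rfl⟩ := N.surj x (hE hx)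
      exact ⟨c, List.mem_toFinset.mpr (hl c hcp hx), rfl⟩
    have h1 := (Set.ncard_le_ncard hsub).trans (Set.ncard_image_le)
    rw [Set.ncard_coe_finset] at h1
    have := List.toFinset_card_le l
    omega
  have hpair : ∀ c, U6Code.isPt c = true → N.pt c ∈ E → c ∈ U6Code.pairList := fun c hcp hx => by
    rw [U6Code.pairList, List.mem_filter, Bool.and_eq_true]
    exact ⟨U6Code.mem_ptList.mpr hcp, (N.comm _ _ U6Code.Model.pt_b0 hcp).mp (hc _ hu _ hx),
      (N.comm _ _ U6Code.Model.pt_b1 hcp).mp (hc _ hv _ hx)⟩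
  have hw := U6Code.pair_w
  simp only [Bool.and_eq_true, List.all_eq_true, Bool.or_eq_true] at hw
  by_cases hon : ∀ c, U6Code.isPt c = true → N.pt c ∈ E → U6Code.onPair c = true
  · refine key (U6Code.pairList.filter U6Code.onPair)
      (fun c hcp hx => List.mem_filter.mpr ⟨hpair c hcp hx, hon c hcp hx⟩) ?_
    have := Nat.le_of_ble_eq_true hw.2
    omega
  · push Not at hon
    obtain ⟨c, hcp, hx, hno⟩ := hon
    refine key (U6Code.pairList.filter (U6Code.adj c)) (fun d hdp hy =>
      List.mem_filter.mpr ⟨hpair d hdp hy, (N.comm _ _ hcp hdp).mp (hc _ hx _ hy)⟩) ?_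
    exact Nat.le_of_ble_eq_true ((hw.1 c (hpair c hcp hx)).resolve_left hno)

theorem width : commutingWidth D = 22 := by
  have h := ncard_eq C hN
  obtain ⟨a, ha⟩ := Set.nonempty_of_ncard_ne_zero (s := D) (by omega)
  refine le_antisymm ?_ ?_
  · refine csSup_le ⟨0, ∅, by simp, Set.finite_empty, by simp, by simp⟩ ?_
    rintro n ⟨E, hE, -, hc, rfl⟩
    by_cases he : E = ∅
    · simp [he]
    obtain ⟨x, hx⟩ := Set.nonempty_iff_ne_empty.mpr he
    obtain ⟨M⟩ := hN x (hE hx)
    have := clique_le C M (E := E \ {x}) (fun y hy => ⟨hE hy.1, hy.2, hc x hx y hy.1⟩)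
      (fun y hy z hz => hc y hy.1 z hz.1)
    rw [Set.ncard_sdiff_singleton_of_mem hx] at this
    omega
  · obtain ⟨M⟩ := hN a ha
    have hp := U6Code.plane_w
    simp only [Bool.and_eq_true, List.all_eq_true] at hp
    have hm : ∀ c ∈ U6Code.planeList, U6Code.isPt c = true := fun c hc =>
      U6Code.mem_ptList.mp (List.mem_filter.mp (List.mem_filter.mp hc).1).1
    refine le_csSup ⟨D.ncard, ?_⟩ ⟨insert a (M.pt '' (↑U6Code.planeList.toFinset : Set ℕ)), ?_, Set.toFinite _, ?_, ?_⟩
    · rintro n ⟨E, hE, -, -, rfl⟩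
      exact Set.ncard_le_ncard hE
    · rintro x (rfl | ⟨c, hc, rfl⟩)
      · exact ha
      · exact (M.mem c (hm c (List.mem_toFinset.mp hc))).1
    · rintro x (rfl | ⟨c, hc, rfl⟩) y (rfl | ⟨d, hd, rfl⟩)
      · exact Commute.refl _
      · exact (M.mem d (hm d (List.mem_toFinset.mp hd))).2.2
      · exact (M.mem c (hm c (List.mem_toFinset.mp hc))).2.2.symm
      · have hc := List.mem_toFinset.mp hc
        have hd := List.mem_toFinset.mp hd
        exact (M.comm c d (hm c hc) (hm d hd)).mpr (hp.2 c hc d hd)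
    · rw [Set.ncard_insert_of_notMem, Set.InjOn.ncard_image, Set.ncard_coe_finset,
        List.toFinset_card_of_nodup (show U6Code.planeList.Nodup from (U6Code.Model.nodup_ptList.filter _).filter _),
        Nat.eq_of_beq_eq_true hp.1]
      · exact fun c hc d hd => M.inj c d (hm c (List.mem_toFinset.mp hc)) (hm d (List.mem_toFinset.mp hd))
      · rintro ⟨c, hc, e⟩
        exact (M.mem c (hm c (List.mem_toFinset.mp hc))).2.1 e

end Cfsg.Agent.Block.FischerTypes.M22
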