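import Cfsg.Agent.Lib.Block.FischerTypes.M22PairKernel
import Cfsg.Agent.Lib.Block.FischerTypes.ExtraSplit
import Cfsg.Agent.Lib.Fus.CharTwo
import Cfsg.Agent.Lib.Grp.Cores

/-! The centraliser of a product of two commuting transpositions in type M(22). -/

set_option autoImplicit false
set_option linter.style.haveILetI false
set_option linter.unusedSectionVars false
set_option maxRecDepth 20000

namespace Cfsg.Agent.Block.FischerTypes.M22

open Cfsg Cfsg.Agent.Spor.ThreeTrans U6Code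

variable {G : Type*} [Group G] [Finite G] {D : Set G}

/-- A member is not a square. -/
theorem no_root (C : Ctx D) {a : G} (ha : a ∈ D) {x : G} (hx : x * x = a) : False := by
  have h := C.set.cls
  have hxa : Commute x a := by rw [← hx]; exact (Commute.refl x).mul_right (Commute.refl x)
  obtain ⟨F, _, _, h4, Φ, hsurj, hmem, hlift, hinj, hcom, hker⟩ := C.mdl a ha
  haveI := (psu_six h4).1
  obtain ⟨-, x₀, y₀, hxy⟩ := psu_six h4
  have hbot : Subgroup.center (PSU 6 F 2) = ⊥ :=
    (Subgroup.Normal.eq_bot_or_eq_top inferInstance).resolve_right fun ht =>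
      hxy (Subgroup.mem_center_iff.mp (ht ▸ Subgroup.mem_top x₀) y₀).symm
  have hxP : x ∈ PerpGroup D a := by
    rw [← centralizer_eq C ha]; exact Subgroup.mem_centralizer_singleton_iff.mpr hxa.eq
  have hA : Φ ⟨a, C.self a ha⟩ = 1 := by
    rw [← Subgroup.mem_bot, ← hbot, Subgroup.mem_center_iff]
    intro y
    obtain ⟨y, rfl⟩ := hsurj y
    rw [← map_mul, ← map_mul]
    exact congrArg Φ (Subtype.ext (commute_self y.2).eq)
  obtain ⟨L, -, hLr, hLc, hLp⟩ := U6.involution_roots h4 (y := Φ ⟨x, hxP⟩)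
    (by rw [← map_mul, show (⟨x, hxP⟩ : ↥(PerpGroup D a)) * ⟨x, hxP⟩ = ⟨a, C.self a ha⟩ from Subtype.ext hx, hA])
  have lift : ∀ l : List (PSU 6 F 2), (∀ r ∈ l, r ∈ U6.roots h4 6) → ∃ m : List G,
      (∀ u ∈ m, ∃ hu : u ∈ perp D a, Φ (el hu) ∈ l) ∧
      ∃ U : ↥(PerpGroup D a), (U : G) = m.prod ∧ Φ U = l.prod := by
    intro l
    induction l with
    | nil => exact fun _ => ⟨[], by simp, 1, rfl, map_one Φ⟩
    | cons r l ih =>
      intro hl
      obtain ⟨m, hm2, U, hU1, hU2⟩ := ih fun s hs => hl s (List.mem_cons_of_mem _ hs)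
      obtain ⟨u, hu, eu⟩ := hlift r (hl r List.mem_cons_self)
      refine ⟨u :: m, fun v hv => ?_, el hu * U, by simp [hU1], by simp [hU2, eu]⟩
      rcases List.mem_cons.mp hv with rfl | hv
      · exact ⟨hu, by rw [eu]; exact List.mem_cons_self⟩
      · obtain ⟨k, k'⟩ := hm2 v hv
        exact ⟨k, List.mem_cons_of_mem _ k'⟩
  obtain ⟨m, hm2, U, hU1, hU2⟩ := lift L hLr
  have hUU : (U : G) * U = 1 := by
    rw [hU1]
    exact prod_mul_prod h.1 m (fun u hu => (hm2 u hu).1.1) fun u hu v hv => by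
      obtain ⟨ku, ru⟩ := hm2 u hu
      obtain ⟨kv, rv⟩ := hm2 v hv
      exact (hcom u ku v kv).mp (hLc _ ru _ rv)
  have hz := hker (⟨x, hxP⟩ * U⁻¹) (by rw [map_mul, map_inv, hU2, hLp, mul_inv_cancel])
  rw [C.centre a ha, Subgroup.mem_subgroupOf] at hz
  have hx1 : x * x = 1 := by
    rcases eq_one_or_self C ha hz with e | e
    · have e' : x = (U : G) := mul_inv_eq_one.mp e
      rw [e', hUU]
    · have e' : x = a * (U : G) := mul_inv_eq_iff_eq_mul.mp e
      have hc : Commute (U : G) a := commute_self U.2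
      rw [e', show a * (U : G) * (a * U) = a * ((U : G) * a) * U by simp [mul_assoc], hc.eq]
      rw [show a * (a * (U : G)) * U = a * a * ((U : G) * U) by simp [mul_assoc], mul_self h.1 ha, hUU, mul_one]
  have h2 := h.1.1 a ha
  rw [← hx, hx1, orderOf_one] at h2
  omega

theorem key_congr (S : List ℕ) {x y : ℕ} (h : ∀ s ∈ S, adj s x = adj s y) : key S x = key S y := by
  unfold key
  suffices H : ∀ (S : List ℕ) (k : ℕ), (∀ s ∈ S, adj s x = adj s y) →
      S.foldl (fun k s => 2 * k + cond (adj s x) 1 0) k = S.foldl (fun k s => 2 * k + cond (adj s y) 1 0) k from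
    H S 0 h
  intro S
  induction S with
  | nil => intros; rfl
  | cons s S ih =>
    intro k hs
    simp only [List.foldl_cons, hs s List.mem_cons_self]
    exact ih _ fun t ht => hs t (List.mem_cons_of_mem _ ht)

/-- An element fixing the starting points of the rounds fixes everything. -/
theorem fix_rounds {a g : G} (M : Model D a) (hg : Commute g a) (h : IsThreeTranspositionClass D) :
    ∀ (rs : List (List ℕ × List ℕ)) (fx : List ℕ), chkOnes fx rs = true →
      (∀ c ∈ fx, isPt c = true ∧ g * M.pt c * g⁻¹ = M.pt c) → ∀ u ∈ perp D a, g * u * g⁻¹ = u := by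
  intro rs
  induction rs with
  | nil =>
    intro fx hc hf u hu
    obtain ⟨c, hcp, rfl⟩ := M.surj u hu
    simp only [chkOnes, List.all_eq_true, List.contains_iff_mem] at hc
    exact (hf c (hc c (mem_ptList.mpr hcp))).2
  | cons r rs ih =>
    intro fx hc hf
    simp only [chkOnes, chkOne, Bool.and_eq_true, List.all_eq_true, List.contains_iff_mem] at hc
    obtain ⟨⟨hS, hnew⟩, hrest⟩ := hc
    refine ih (fx ++ r.2) hrest fun c hcm => ?_
    rcases List.mem_append.mp hcm with hcm | hcm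
    · exact hf c hcm
    obtain ⟨hcp, hlen⟩ := hnew c hcm
    refine ⟨hcp, ?_⟩
    by_cases hcx : c ∈ fx
    · exact (hf c hcx).2
    obtain ⟨d, hd, e⟩ := M.surj (g * M.pt c * g⁻¹) (perp_conj' h hg (M.mem c hcp))
    have hdx : d ∉ fx := fun k => hcx (by
      have e' := (hf d k).2
      have : M.pt c = M.pt d := mul_left_cancel (mul_right_cancel (e.symm.trans e'.symm))
      rwa [M.inj c d hcp hd this])
    have hkey : key r.1 d = key r.1 c := key_congr _ fun s hs => by
      obtain ⟨hsp, hsf⟩ := hf s (hS s hs)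
      refine Bool.eq_iff_iff.2 ?_
      rw [← M.comm s d hsp hd, ← M.comm s c hsp hcp, ← commute_conj_iff g (M.pt s) (M.pt c), hsf, e]
    obtain rfl : d = c := by
      by_contra hne
      have hle := Nat.le_of_ble_eq_true hlen
      have mem : ∀ z, isPt z = true → z ∉ fx → key r.1 z = key r.1 c →
          (z, key r.1 z) ∈ ((ptList.filter fun x => !(fx.contains x)).map fun x => (x, key r.1 x)).filter
            fun e => Nat.beq e.2 (key r.1 c) := fun z hz hzx hk => by
        refine List.mem_filter.2 ⟨List.mem_map.2 ⟨z, List.mem_filter.2 ⟨mem_ptList.mpr hz, ?_⟩, rfl⟩, ?_⟩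
        · simp only [Bool.not_eq_true', ← Bool.not_eq_true, List.contains_iff_mem]
          exact hzx
        · show Nat.beq (key r.1 z) (key r.1 c) = true
          rw [hk]
          exact Nat.beq_refl _
      have hmd := mem d hd hdx hkey
      have hmc := mem c hcp hcx rfl
      revert hle hmd hmc
      generalize List.filter _ _ = l
      intro hle hmd hmc
      match l, hle with
      | [], _ => simp at hmd
      | [z], _ =>
        rw [List.mem_singleton] at hmd hmc
        exact hne (congrArg Prod.fst (hmd.trans hmc.symm))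
      | _ :: _ :: _, hle => simp at hle
    exact e.symm

namespace PairData

variable {d₁ d₂ : G} (P : PairData D d₁ d₂)
include P

theorem left_mem : d₁ ∈ P.kerC ∧ d₂ ∈ P.kerC := by
  have h1 : Commute d₁ (d₁ * d₂) := (Commute.refl d₁).mul_right P.comm₁₂
  have h2 : Commute d₂ (d₁ * d₂) := P.comm₁₂.symm.mul_right (Commute.refl d₂)
  refine ⟨P.mem_kerC.mpr ⟨h1, fun i => ?_⟩, P.mem_kerC.mpr ⟨h2, fun i => ?_⟩⟩
  · rw [clsMap, conj_self_eq (P.rep_mem i).1.2.2, P.cid_rep]
  · rw [clsMap, conj_self_eq (P.rep_mem i).2.2.2, P.cid_rep]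

theorem closure_le : Subgroup.closure ({d₁, d₂} : Set G) ≤ P.kerC := by
  rw [Subgroup.closure_le]
  rintro x (rfl | rfl)
  exacts [P.left_mem.1, P.left_mem.2]

/-- Fixing every member of the common perpendicular. -/
theorem fibre {g : G} (hg : Commute g (d₁ * d₂)) (hfix : ∀ u ∈ common D d₁ d₂, g * u * g⁻¹ = u) :
    g ∈ Subgroup.closure ({d₁, d₂} : Set G) := by
  have h := P.cls
  have hw := P.rep_mem 0
  obtain ⟨hga, hgb⟩ := mem_pairCent.mp (P.pair_of_twins hg hw (hfix _ hw) fun x hx _ => hfix x hx)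
  have m1 : d₁ ∈ Subgroup.closure ({d₁, d₂} : Set G) := Subgroup.subset_closure (by simp)
  have m2 : d₂ ∈ Subgroup.closure ({d₁, d₂} : Set G) := Subgroup.subset_closure (by simp)
  have hfo := fibre_ok
  simp only [Bool.and_eq_true, List.all_eq_true, List.contains_iff_mem] at hfo
  have hcl : ∀ c ∈ commonList, isPt c = true ∧ P.num.pt c ∈ common D d₁ d₂ := fun c hc => by
    obtain ⟨i, hi, hci⟩ := List.any_eq_true.1 (List.all_eq_true.1 twin_cover c hc)
    have hci' : c ∈ clsOf (⟨i, List.mem_range.1 hi⟩ : Fin 45) := List.contains_iff_mem.1 hci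
    exact ⟨(cls_facts hci').1, P.pt_common hci'⟩
  obtain ⟨c, hc, e⟩ := P.num.surj (g * P.num.pt c0 * g⁻¹) (perp_conj' h hga (P.num.mem _ Model.pt_c0))
  have hbase := base_pts
  simp only [Bool.and_eq_true, Bool.not_eq_true'] at hbase
  have hna : adj b0 c0 = false := hbase.1.1.1.1.1.1.2
  have h0c : adj b0 c = false := Bool.eq_false_iff.2 fun k => by
    have k' := (P.num.comm _ _ Model.pt_b0 hc).2 k
    rw [P.num_b0, e] at k'
    have k'' : Commute d₂ (P.num.pt c0) :=
      (commute_conj_iff g d₂ (P.num.pt c0)).1 (by rw [conj_self_eq hgb]; exact k')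
    have k' : Commute (P.num.pt b0) (P.num.pt c0) := by rw [P.num_b0]; exact k''
    rw [P.num.comm _ _ Model.pt_b0 Model.pt_c0, hna] at k'
    exact absurd k' (by simp)
  have hsame : fibreSep.all (fun s => adj s c == adj s c0) = true := List.all_eq_true.2 fun s hs => beq_iff_eq.2 (by
    obtain ⟨hsp, hsc⟩ := hcl s (hfo.1 s hs)
    refine Bool.eq_iff_iff.2 ?_
    rw [← P.num.comm s c hsp hc, ← P.num.comm s c0 hsp Model.pt_c0, e,
      ← commute_conj_iff g (P.num.pt s) (P.num.pt c0), hfix _ hsc])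
  have hcase := hfo.2 c (mem_ptList.mpr hc)
  simp only [h0c, hsame, Bool.not_true, Bool.false_or, Bool.or_eq_true] at hcase
  obtain ⟨g', hg', hg'a, hg'b, hg'f, hg'0⟩ : ∃ g', (g' ∈ Subgroup.closure ({d₁, d₂} : Set G) →
      g ∈ Subgroup.closure ({d₁, d₂} : Set G)) ∧ Commute g' d₁ ∧ Commute g' d₂ ∧
      (∀ u ∈ common D d₁ d₂, g' * u * g'⁻¹ = u) ∧ g' * P.num.pt c0 * g'⁻¹ = P.num.pt c0 := by
    rcases hcase with hcase | hcase
    · exact ⟨g, id, hga, hgb, hfix, by rw [← e, Nat.eq_of_beq_eq_true hcase]⟩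
    · refine ⟨d₂ * g, fun k => ?_, P.comm₁₂.symm.mul_left hga, (Commute.refl d₂).mul_left hgb, fun u hu => ?_, ?_⟩
      · have := mul_mem (inv_mem m2) k
        simpa using this
      · rw [show d₂ * g * u * (d₂ * g)⁻¹ = d₂ * (g * u * g⁻¹) * d₂⁻¹ by simp [mul_assoc], hfix u hu,
          conj_self_eq hu.2.2.2]
      · obtain ⟨k1, k2⟩ := P.num.conj b0 (refl b0 c0) Model.pt_b0 (P.num.conj b0 c0 Model.pt_b0 Model.pt_c0).1
        have q2 := (P.num.conj b0 c0 Model.pt_b0 Model.pt_c0).2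
        rw [P.num_b0] at q2
        rw [show d₂ * g * P.num.pt c0 * (d₂ * g)⁻¹ = d₂ * (g * P.num.pt c0 * g⁻¹) * d₂⁻¹ by simp [mul_assoc],
          ← e, Nat.eq_of_beq_eq_true hcase, ← q2, inv_eq h.1 P.mem₂]
        simp [mul_assoc, mul_self h.1 P.mem₂, mul_self_mul h.1 P.mem₂]
  refine hg' ?_
  have hall := fix_rounds P.num hg'a h twinRounds (b0 :: U6Code.c0 :: commonList) twin_rounds (by
    intro d hd
    rcases List.mem_cons.mp hd with rfl | hd
    · exact ⟨Model.pt_b0, by rw [P.num_b0]; exact conj_self_eq hg'b⟩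
    rcases List.mem_cons.mp hd with rfl | hd
    · exact ⟨Model.pt_c0, hg'0⟩
    · exact ⟨(hcl d hd).1, hg'f _ (hcl d hd).2⟩)
  have hgP : g' ∈ PerpGroup D d₁ := by
    rw [← centralizer_eq P.ctx P.mem]; exact Subgroup.mem_centralizer_singleton_iff.mpr hg'a.eq
  have hz : (⟨g', hgP⟩ : ↥(PerpGroup D d₁)) ∈ Subgroup.center ↥(PerpGroup D d₁) := by
    rw [Subgroup.mem_center_iff]
    intro y
    exact Subtype.ext (commute_all (u := g') (fun x hx => (commute_of_conj (hall x hx)).symm) y.2).eq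
  rw [P.ctx.centre d₁ P.mem, Subgroup.mem_subgroupOf] at hz
  rcases eq_one_or_self P.ctx P.mem hz with e1 | e1
  · rw [show g' = 1 from e1]; exact one_mem _
  · rw [show g' = d₁ from e1]; exact m1

theorem closure_cases {z : G} (hz : z ∈ Subgroup.closure ({d₁, d₂} : Set G)) :
    z = 1 ∨ z = d₁ ∨ z = d₁ * d₂ ∨ z = d₁ * (d₁ * d₂) := by
  have h := P.cls.1
  have e2 : d₁ * (d₁ * d₂) = d₂ := mul_self_mul h P.mem _
  have hex : ∃ n m : ℤ, z = d₁ ^ n * d₂ ^ m := by
    induction hz using Subgroup.closure_induction with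
    | mem x hx =>
      rcases hx with rfl | rfl
      · exact ⟨1, 0, by simp⟩
      · exact ⟨0, 1, by simp⟩
    | one => exact ⟨0, 0, by simp⟩
    | mul x y _ _ ihx ihy =>
      obtain ⟨n, m, rfl⟩ := ihx
      obtain ⟨n', m', rfl⟩ := ihy
      refine ⟨n + n', m + m', ?_⟩
      rw [zpow_add, zpow_add, mul_assoc, ← mul_assoc (d₂ ^ m), (P.comm₁₂.symm.zpow_zpow m n').eq]
      simp [mul_assoc]
    | inv x _ ih =>
      obtain ⟨n, m, rfl⟩ := ih
      refine ⟨-n, -m, ?_⟩
      rw [mul_inv_rev, zpow_neg, zpow_neg]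
      exact ((P.comm₁₂.zpow_zpow n m).inv_inv.symm).eq
  obtain ⟨n, m, rfl⟩ := hex
  rw [e2]
  have key : ∀ {a : G}, a ∈ D → ∀ k : ℤ, a ^ k = 1 ∨ a ^ k = a := fun {a} ha k =>
    eq_one_or_self P.ctx ha ⟨k, rfl⟩
  rcases key P.mem n with e | e <;> rcases key P.mem₂ m with e' | e' <;> rw [e, e'] <;> simp

theorem sq_fix {x u : G} (hx : x ∈ P.kerC) (hu : u ∈ common D d₁ d₂) : (x * x) * u * (x * x)⁻¹ = u := by
  have hxj := (P.mem_kerC.mp hx).1
  have hv := P.conj_common hxj hu
  have hid := P.cid_kerC hx hu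
  obtain ⟨f, f1, f2, f3, f4⟩ := P.move_class hu hv hid.symm
  have hfi : f⁻¹ = f := inv_eq_of_mul_eq_one_right f3
  have hfix : ∀ y ∈ common D d₁ d₂, P.cid y = P.cid u → f * x * y * (f * x)⁻¹ = y := fun y hy e =>
    P.inf_fix (mul_mem f1 hx) (mul_mem f2 (P.kerC_le_pair hx)) hu (by
      rw [show f * x * u * (f * x)⁻¹ = f * (x * u * x⁻¹) * f⁻¹ by simp [mul_assoc], ← f4, hfi]
      simp [mul_assoc, f3, show ∀ y, f * (f * y) = y from fun y => by rw [← mul_assoc, f3, one_mul]]) hy e
  have key : ∀ y, y ∈ common D d₁ d₂ → P.cid y = P.cid u → x * y * x⁻¹ = f * y * f⁻¹ := fun y hy e => by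
    have h' := hfix y hy e
    calc x * y * x⁻¹ = f⁻¹ * (f * x * y * (f * x)⁻¹) * f := by simp [mul_assoc]
      _ = f * y * f⁻¹ := by rw [h', hfi]
  have ev : x * u * x⁻¹ = f * u * f⁻¹ := key u hu rfl
  rw [show x * x * u * (x * x)⁻¹ = x * (x * u * x⁻¹) * x⁻¹ by simp [mul_assoc], key _ hv hid, ev, hfi]
  simp [mul_assoc, f3, show ∀ y, f * (f * y) = y from fun y => by rw [← mul_assoc, f3, one_mul]]

theorem sq_mem {x : G} (hx : x ∈ P.kerC) : x * x = 1 ∨ x * x = d₁ * d₂ := by
  have hxj := (P.mem_kerC.mp hx).1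
  rcases P.closure_cases (P.fibre (hxj.mul_left hxj) fun u hu => P.sq_fix hx hu) with e | e | e | e
  · exact Or.inl e
  · exact (no_root P.ctx P.mem e).elim
  · exact Or.inr e
  · exact (no_root P.ctx P.mem₂ (e.trans (mul_self_mul P.cls.1 P.mem _))).elim

/-- Commuting with all the products of twins. -/
theorem centralizer_prods {x : G} (hx : Commute x (d₁ * d₂))
    (h : ∀ f ∈ P.kerC, Commute x f) : x ∈ Subgroup.closure ({d₁, d₂} : Set G) := by
  classical
  refine P.fibre hx fun u hu => ?_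
  obtain ⟨c, hc, rfl⟩ := P.cid_spec hu
  obtain ⟨i, hi⟩ : ∃ i, i = P.cid (P.num.pt c) := ⟨_, rfl⟩
  rw [← hi] at hc
  have hl := twin_len
  simp only [Bool.and_eq_true, List.all_eq_true] at hl
  obtain ⟨h4, hnd⟩ := hl.2 i (List.mem_range.2 i.2)
  obtain ⟨a, b, ha, hb, hca, hcb, hab⟩ : ∃ a b, a ∈ clsOf i ∧ b ∈ clsOf i ∧ c ≠ a ∧ c ≠ b ∧ a ≠ b := by
    have h4' := Nat.eq_of_beq_eq_true h4
    have key : ∀ l : List ℕ, (∀ y ∈ l, (l.filter (Nat.beq y)).length = 1) → l.Nodup := fun l hl =>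
      List.nodup_iff_count_le_one.2 fun y => by
        by_cases hy : y ∈ l
        · refine le_of_eq (Eq.trans ?_ (hl y hy))
          rw [List.count_eq_length_filter]
          congr 1
          exact List.filter_congr fun x _ => Bool.eq_iff_iff.2
            ⟨fun k => by rw [beq_iff_eq.1 k]; exact Nat.beq_refl _,
              fun k => beq_iff_eq.2 (Nat.eq_of_beq_eq_true k).symm⟩
        · rw [List.count_eq_zero_of_not_mem hy]; norm_num
    have hn := key _ fun y hy => Nat.eq_of_beq_eq_true (hnd y hy).2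
    have hcard : ((clsOf i).toFinset.erase c).card = 3 := by
      rw [Finset.card_erase_of_mem (List.mem_toFinset.2 hc), List.toFinset_card_of_nodup hn, h4']
    obtain ⟨a, ha, b, hb, hab⟩ := Finset.one_lt_card.1 (show 1 < ((clsOf i).toFinset.erase c).card by omega)
    simp only [Finset.mem_erase, List.mem_toFinset] at ha hb
    exact ⟨a, b, ha.2, hb.2, Ne.symm ha.1, Ne.symm hb.1, hab⟩
  have pairs : ∀ {v}, v ∈ clsOf i → c ≠ v →
      x * P.num.pt c * x⁻¹ = P.num.pt c ∨ x * P.num.pt c * x⁻¹ = P.num.pt v := by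
    intro v hv hne
    have hvc := P.pt_common hv
    obtain ⟨k1, -, -⟩ := P.prod_mem hu hvc (by rw [← hi, P.cid_pt hv])
    have hne' : P.num.pt c ≠ P.num.pt v := fun e => hne (P.num.inj _ _ (cls_facts hc).1 (cls_facts hv).1 e)
    have hcv : Commute (P.num.pt c) (P.num.pt v) :=
      ((P.cid_eq_iff hu hvc).mp (by rw [← hi, P.cid_pt hv]) _ hu).mp (Commute.refl _)
    have f1 : Fact' D 2 (P.num.pt c * P.num.pt v) [P.num.pt c, P.num.pt v] :=
      ⟨by simp [hne'], rfl, by simp [hu.1.1, hvc.1.1], by simp [hcv, hcv.symm], by simp⟩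
    have f2 : Fact' D 2 (P.num.pt c * P.num.pt v) [x * P.num.pt c * x⁻¹, x * P.num.pt v * x⁻¹] := by
      refine ⟨by simp [hne'], rfl, by simp [conj_mem P.cls x hu.1.1, conj_mem P.cls x hvc.1.1], ?_, ?_⟩
      · have := (commute_conj_iff x (P.num.pt c) (P.num.pt v)).mpr hcv
        simp [this, this.symm]
      · simpa [mul_assoc] using conj_self_eq (h _ k1)
    have := ((pair_unique P.cls P.ctx.set.tf f1 f2) (x * P.num.pt c * x⁻¹)).mpr (by simp)
    simpa using this
  rcases pairs ha hca with k | k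
  · exact k
  rcases pairs hb hcb with k' | k'
  · exact k'
  · exact absurd (P.num.inj _ _ (cls_facts ha).1 (cls_facts hb).1 (k.symm.trans k')) hab

theorem center_pairCent : (Subgroup.center ↥(Subgroup.centralizer ({d₁, d₂} : Set G))).map
    (Subgroup.centralizer ({d₁, d₂} : Set G)).subtype = Subgroup.closure ({d₁, d₂} : Set G) := by
  refine le_antisymm ?_ ?_
  · rintro _ ⟨z, hz, rfl⟩
    refine P.centralizer_prods (commute_of_mem (P.pair_le z.2)) fun f hf => ?_
    exact (congrArg Subtype.val (Subgroup.mem_center_iff.mp hz ⟨f, P.kerC_le_pair hf⟩)).symm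
  · rw [Subgroup.closure_le]
    intro x hx
    have hxK : x ∈ Subgroup.centralizer ({d₁, d₂} : Set G) := by
      rcases hx with rfl | rfl
      · exact mem_pairCent.mpr ⟨Commute.refl _, P.comm₁₂⟩
      · exact mem_pairCent.mpr ⟨P.comm₁₂.symm, Commute.refl _⟩
    refine ⟨⟨x, hxK⟩, Subgroup.mem_center_iff.mpr fun y => Subtype.ext ?_, rfl⟩
    rcases hx with rfl | rfl
    exacts [(mem_pairCent.mp y.2).1.eq, (mem_pairCent.mp y.2).2.eq]

theorem subgroupOf_kerC : P.kerC.subgroupOf (Subgroup.centralizer ({d₁ * d₂} : Set G)) = P.act.ker :=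
  Subgroup.comap_map_eq_self_of_injective (Subgroup.subtype_injective _) _

/-- The quotient is the automorphism group of the graph. -/
noncomputable def quotEquiv :
    (↥(Subgroup.centralizer ({d₁ * d₂} : Set G)) ⧸ P.act.ker) ≃* ↥Twin.Aut45 :=
  QuotientGroup.quotientKerEquivOfSurjective P.act P.card_kerC.2

theorem gfit : generalizedFittingSubgroup ↥(Subgroup.centralizer ({d₁ * d₂} : Set G)) = P.act.ker := by
  haveI : Fact (Nat.Prime 2) := ⟨Nat.prime_two⟩
  have hker : IsPGroup 2 ↥P.act.ker := IsPGroup.of_card (n := 10) (by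
    rw [← Subgroup.card_subtype (Subgroup.centralizer ({d₁ * d₂} : Set G)) P.act.ker]
    exact P.card_kerC.1)
  have hcore : pCore 2 ↥(Subgroup.centralizer ({d₁ * d₂} : Set G)) = P.act.ker := by
    refine le_antisymm ?_ (Grp.le_pCore inferInstance hker)
    haveI : (pCore 2 ↥(Subgroup.centralizer ({d₁ * d₂} : Set G))).Normal := Grp.pCore_isNormal
    haveI : ((pCore 2 ↥(Subgroup.centralizer ({d₁ * d₂} : Set G))).map P.act).Normal :=
      Subgroup.Normal.map ‹_› _ P.card_kerC.2
    rcases Twin.normal_cases ((pCore 2 ↥(Subgroup.centralizer ({d₁ * d₂} : Set G))).map P.act) with e | e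
    · rwa [Subgroup.map_eq_bot_iff] at e
    · exfalso
      obtain ⟨k, hk⟩ := IsPGroup.iff_card.mp ((Grp.pCore_isPGroup (p := 2)
        (G := ↥(Subgroup.centralizer ({d₁ * d₂} : Set G)))).map P.act)
      have h3 : 3 ∣ 2 ^ k := hk ▸ dvd_trans (by rw [Twin.card_omega]; norm_num) (Subgroup.card_dvd_of_le e)
      exact absurd (Nat.Prime.dvd_of_dvd_pow Nat.prime_three h3) (by norm_num)
  rw [Fus.generalizedFittingSubgroup_eq_of_charP (p := 2) ?_, hcore]
  show Subgroup.centralizer _ ≤ _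
  rw [hcore]
  intro x hx
  have hV := P.centralizer_prods (commute_of_mem x.2) fun f hf => by
    obtain ⟨y, hy, rfl⟩ := hf
    exact (congrArg Subtype.val (Subgroup.mem_centralizer_iff.mp hx y hy)).symm
  obtain ⟨y, hy, e⟩ := P.closure_le hV
  rwa [show x = y from Subtype.ext e.symm]

/-- The kernel splits. -/
theorem kerC_split : ∃ (E : Type) (_ : Group E) (_ : Finite E), IsExtraspecial 2 E ∧ Nat.card E = 2 ^ 9 ∧
    Nonempty (↥P.act.ker ≃* Multiplicative (ZMod 2) × E) := by
  have hcard : Nat.card ↥P.act.ker = 1024 := by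
    rw [← Subgroup.card_subtype (Subgroup.centralizer ({d₁ * d₂} : Set G)) P.act.ker]
    exact P.card_kerC.1
  let e : ↥P.act.ker ≃* Shrink.{0} ↥P.act.ker := (Shrink.mulEquiv : Shrink.{0} ↥P.act.ker ≃* ↥P.act.ker).symm
  haveI : Finite (Shrink.{0} ↥P.act.ker) := Finite.of_equiv _ (equivShrink _)
  obtain ⟨A, hA⟩ : ∃ A : ↥P.act.ker, ((A : ↥(Subgroup.centralizer ({d₁ * d₂} : Set G))) : G) = d₁ := by
    obtain ⟨y, hy, ey⟩ := P.left_mem.1
    exact ⟨⟨y, hy⟩, ey⟩
  obtain ⟨B, hB⟩ : ∃ B : ↥P.act.ker, ((B : ↥(Subgroup.centralizer ({d₁ * d₂} : Set G))) : G) = d₁ * d₂ := by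
    obtain ⟨y, hy, ey⟩ := mul_mem P.left_mem.1 P.left_mem.2
    exact ⟨⟨y, hy⟩, ey⟩
  have hv : Function.Injective fun z : ↥P.act.ker => ((z : ↥(Subgroup.centralizer ({d₁ * d₂} : Set G))) : G) :=
    fun z z' k => Subtype.ext (Subtype.ext k)
  have hmem : ∀ z : ↥P.act.ker, ((z : ↥(Subgroup.centralizer ({d₁ * d₂} : Set G))) : G) ∈ P.kerC :=
    fun z => ⟨z.1, z.2, rfl⟩
  have hAc : A ∈ Subgroup.center ↥P.act.ker := Subgroup.mem_center_iff.mpr fun z => hv (by
    simp only [Subgroup.coe_mul, hA]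
    exact (mem_pairCent.mp (P.kerC_le_pair (hmem z))).1.eq)
  have hBc : B ∈ Subgroup.center ↥P.act.ker := Subgroup.mem_center_iff.mpr fun z => hv (by
    simp only [Subgroup.coe_mul, hB]
    exact (P.mem_kerC.mp (hmem z)).1.eq)
  have he : ∀ z, z ∈ Subgroup.center ↥P.act.ker → e z ∈ Subgroup.center (Shrink.{0} ↥P.act.ker) := fun z hz =>
    Subgroup.mem_center_iff.mpr fun y => by
      obtain ⟨y, rfl⟩ := e.surjective y
      rw [← map_mul, ← map_mul, Subgroup.mem_center_iff.mp hz y]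
  have hd1 : d₁ ≠ 1 := fun k => by
    have := P.cls.1.1 d₁ P.mem
    rw [k, orderOf_one] at this
    omega
  have hd2 : d₂ ≠ 1 := fun k => by
    have := P.cls.1.1 d₂ P.mem₂
    rw [k, orderOf_one] at this
    omega
  obtain ⟨X, hX1, hX2, ⟨f⟩⟩ := exists_extraspecial_factor (E := Shrink.{0} ↥P.act.ker) (a := e A) (j := e B)
    (by rw [← Nat.card_congr e.toEquiv, hcard]; norm_num)
    (by rw [← map_mul, ← map_one e]; exact congrArg e (hv (by simp [hA, mul_self P.cls.1 P.mem])))
    (by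
      rw [← map_mul, ← map_one e]
      refine congrArg e (hv ?_)
      simp only [Subgroup.coe_mul, hB, Subgroup.coe_one]
      have := prod_mul_prod P.cls.1 [d₁, d₂] P.fact_pair.2.2.1 P.fact_pair.2.2.2.1
      simpa using this)
    (fun k => by
      have k' := congrArg (fun z : ↥P.act.ker => ((z : ↥(Subgroup.centralizer ({d₁ * d₂} : Set G))) : G))
        (e.map_eq_one_iff.mp k)
      simp only [hB, Subgroup.coe_one] at k'
      exact P.perp'.2.1 (by rw [eq_inv_of_mul_eq_one_left k', inv_eq P.cls.1 P.mem₂]))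
    (fun k => hd1 (by
      have k' := congrArg (fun z : ↥P.act.ker => ((z : ↥(Subgroup.centralizer ({d₁ * d₂} : Set G))) : G))
        (e.map_eq_one_iff.mp k)
      simpa [hA] using k'))
    (fun k => hd2 (by
      have k' := congrArg (fun z : ↥P.act.ker => ((z : ↥(Subgroup.centralizer ({d₁ * d₂} : Set G))) : G))
        (e.injective k)
      simp only [hA, hB] at k'
      exact mul_left_cancel (k'.symm.trans (mul_one d₁).symm)))
    (fun y => by
      obtain ⟨y, rfl⟩ := e.surjective y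
      rw [← map_mul]
      rcases P.sq_mem (hmem y) with k | k
      · rw [show y * y = 1 from hv (by simpa using k), map_one]; exact one_mem _
      · rw [show y * y = B from hv (by simpa [hB] using k)]; exact Subgroup.mem_zpowers _)
    (he A hAc) (he B hBc)
    (fun z hz => by
      obtain ⟨z, rfl⟩ := e.surjective z
      have hc := P.centralizer_prods (P.mem_kerC.mp (hmem z)).1 fun f hf => by
        obtain ⟨y, hy, rfl⟩ := hf
        have h1 := e.injective (by rw [map_mul, map_mul]; exact Subgroup.mem_center_iff.mp hz (e ⟨y, hy⟩) :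
          e (⟨y, hy⟩ * z) = e (z * ⟨y, hy⟩))
        exact (congrArg (fun w : ↥P.act.ker => ((w : ↥(Subgroup.centralizer ({d₁ * d₂} : Set G))) : G)) h1).symm
      rcases P.closure_cases hc with k | k | k | k
      · exact Or.inl (by rw [← map_one e]; exact congrArg e (hv (by simpa using k)))
      · exact Or.inr (Or.inl (congrArg e (hv (by simpa [hA] using k))))
      · exact Or.inr (Or.inr (Or.inl (congrArg e (hv (by simpa [hB] using k)))))
      · exact Or.inr (Or.inr (Or.inr (by rw [← map_mul]; exact congrArg e (hv (by simpa [hA, hB] using k))))))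
  exact ⟨↥X, inferInstance, inferInstance, hX1, hX2, ⟨e.trans f⟩⟩

end PairData

end Cfsg.Agent.Block.FischerTypes.M22
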