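import Cfsg.Agent.Lib.Block.FischerTypes.U6Code.PairChecks
import Cfsg.Prelude.Def_Classical
import Mathlib

/-! The automorphisms of the graph of the forty-five classes of twins. -/

set_option autoImplicit false
set_option maxRecDepth 100000
set_option maxHeartbeats 4000000

namespace Cfsg.Agent.Block.FischerTypes.Twin

open U6Code

/-- The adjacency of two classes. -/
def A (i j : Fin 45) : Bool := gqA i j

/-- The automorphisms. -/
def Aut45 : Subgroup (Equiv.Perm (Fin 45)) where
  carrier := {σ | ∀ i j, A (σ i) (σ j) = A i j}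
  one_mem' := fun i j => rfl
  mul_mem' := fun {σ τ} hσ hτ i j => (hσ (τ i) (τ j)).trans (hτ i j)
  inv_mem' := fun {σ} hσ i j => by
    have := hσ (σ⁻¹ i) (σ⁻¹ j)
    simpa using this.symm

/-- The pattern of a class over a list. -/
def pat (S : List (Fin 45)) (x : Fin 45) : ℕ :=
  S.foldl (fun k s => 3 * k + cond (x == s) 2 (cond (A s x) 1 0)) 0

/-- The pattern together with those of the neighbours. -/
def key (S : List (Fin 45)) (x : Fin 45) : ℕ × ℕ :=
  (pat S x, ∑ y, cond (A x y) (2 ^ (6 * pat S y)) 0)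

theorem pat_map {σ : Equiv.Perm (Fin 45)} (hσ : σ ∈ Aut45) (S : List (Fin 45)) (x : Fin 45) :
    pat (S.map σ) (σ x) = pat S x := by
  unfold pat
  rw [List.foldl_map]
  congr 1
  funext k s
  rw [hσ s x]
  congr 2
  simp

theorem key_map {σ : Equiv.Perm (Fin 45)} (hσ : σ ∈ Aut45) (S : List (Fin 45)) (x : Fin 45) :
    key (S.map σ) (σ x) = key S x := by
  unfold key
  refine Prod.ext (pat_map hσ S x) ?_
  show ∑ y, cond (A (σ x) y) (2 ^ (6 * pat (S.map σ) y)) 0 = ∑ y, cond (A x y) (2 ^ (6 * pat S y)) 0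
  rw [← Equiv.sum_comp σ]
  exact Finset.sum_congr rfl fun y _ => by rw [hσ x y, pat_map hσ S y]

/-- The automorphisms fixing a list. -/
def stab (S : List (Fin 45)) : Subgroup (Equiv.Perm (Fin 45)) where
  carrier := {σ | σ ∈ Aut45 ∧ ∀ s ∈ S, σ s = s}
  one_mem' := ⟨one_mem _, fun _ _ => rfl⟩
  mul_mem' := fun {σ τ} hσ hτ => ⟨mul_mem hσ.1 hτ.1, fun s hs => by
    rw [Equiv.Perm.mul_apply, hτ.2 s hs, hσ.2 s hs]⟩
  inv_mem' := fun {σ} hσ => ⟨inv_mem hσ.1, fun s hs => by
    conv_lhs => rw [← hσ.2 s hs]
    simp⟩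

/-- The number of classes looking like `b` over `S`. -/
def cnt (S : List (Fin 45)) (b : Fin 45) : ℕ := (Finset.univ.filter fun x => key S x = key S b).card

theorem stab_step (S : List (Fin 45)) (b : Fin 45) :
    Nat.card ↥(stab S) ≤ cnt S b * Nat.card ↥(stab (S ++ [b])) := by
  classical
  have h := Subgroup.index_mul_card (MulAction.stabilizer ↥(stab S) b)
  rw [MulAction.index_stabilizer] at h
  rw [← h]
  refine Nat.mul_le_mul ?_ ?_
  · rw [cnt, ← Set.ncard_coe_finset]
    refine Set.ncard_le_ncard ?_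
    rintro _ ⟨σ, rfl⟩
    simp only [Finset.coe_filter, Finset.mem_univ, true_and, Set.mem_setOf_eq]
    have e : S.map (σ.1 : Equiv.Perm (Fin 45)) = S := by
      conv_rhs => rw [← List.map_id S]
      exact List.map_congr_left fun s hs => σ.2.2 s hs
    have := key_map σ.2.1 S b
    rw [e] at this
    exact this
  · refine Nat.card_le_card_of_injective (fun σ => ⟨σ.1.1, σ.1.2.1, fun s hs => ?_⟩) fun x y e => ?_
    · rcases List.mem_append.1 hs with hs | hs
      · exact σ.1.2.2 s hs
      · rw [List.mem_singleton.1 hs]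
        exact σ.2
    · have e' : (x.1.1 : Equiv.Perm (Fin 45)) = y.1.1 := congrArg (fun z : ↥(stab (S ++ [b])) => z.1) e
      exact Subtype.ext (Subtype.ext e')

/-- The base. -/
def base : List (Fin 45) := [19, 33, 2, 37]

theorem base_counts : cnt [] 19 * (cnt [19] 33 * (cnt [19, 33] 2 * cnt [19, 33, 2] 37)) = 51840 := by
  decide +kernel

theorem base_sep : (List.finRange 45).map (key base) |>.Nodup := by decide +kernel

theorem card_le : Nat.card ↥Aut45 ≤ 51840 := by
  have e : Aut45 = stab [] := SetLike.ext fun σ =>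
    ⟨fun h => show σ ∈ Aut45 ∧ ∀ s ∈ ([] : List (Fin 45)), σ s = s from ⟨h, fun _ k => absurd k List.not_mem_nil⟩,
      fun h => (show σ ∈ Aut45 ∧ _ from h).1⟩
  have hb : Nat.card ↥(stab base) = 1 := by
    rw [Subgroup.card_eq_one, eq_bot_iff]
    intro σ hσ
    refine Subgroup.mem_bot.2 (Equiv.ext fun x => ?_)
    have := key_map hσ.1 base x
    rw [show base.map σ = base from by
      conv_rhs => rw [← List.map_id base]
      exact List.map_congr_left fun s hs => hσ.2 s hs] at this
    exact List.inj_on_of_nodup_map base_sep (List.mem_finRange _) (List.mem_finRange _) this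
  have h1 := stab_step [] 19
  have h2 := stab_step [19] 33
  have h3 := stab_step [19, 33] 2
  have h4 := stab_step [19, 33, 2] 37
  simp only [List.nil_append, List.cons_append] at h1 h2 h3 h4
  rw [show ([19, 33, 2, 37] : List (Fin 45)) = base from rfl, hb, mul_one] at h4
  rw [e, ← base_counts]
  exact h1.trans (Nat.mul_le_mul_left _ (h2.trans (Nat.mul_le_mul_left _ (h3.trans (Nat.mul_le_mul_left _ h4)))))

/-- The class permutation of a member. -/
def tauFun (i j : Fin 45) : Fin 45 := Fin.ofNat 45 (tauN i j)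

theorem tau_inv : ∀ i j, tauFun i (tauFun i j) = j := by decide +kernel

theorem tau_aut : ∀ i j k, A (tauFun i j) (tauFun i k) = A j k := by decide +kernel

/-- The class permutation of a member, as an automorphism. -/
def tau (i : Fin 45) : Equiv.Perm (Fin 45) := Function.Involutive.toPerm (tauFun i) (tau_inv i)

theorem tau_apply (i j : Fin 45) : tau i j = tauFun i j := rfl

theorem tau_mem (i : Fin 45) : tau i ∈ Aut45 := tau_aut i

theorem tau_val (i j : Fin 45) : ((tau i j : Fin 45) : ℕ) = tauN i j := by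
  have h := List.all_eq_true.1 tau_act i (List.mem_range.2 i.2)
  have hl := twin_len
  simp only [Bool.and_eq_true, List.all_eq_true] at hl
  have hk := (hl.2 i (List.mem_range.2 i.2)).1
  obtain ⟨c, hc⟩ : ∃ c, c ∈ clsOf i := List.exists_mem_of_ne_nil _ (fun e => by
    rw [e] at hk
    exact absurd (Nat.eq_of_beq_eq_true hk) (by norm_num))
  have := List.all_eq_true.1 (List.all_eq_true.1 h c hc) j (List.mem_range.2 j.2)
  simp only [Bool.and_eq_true] at this
  rw [tau_apply, tauFun]
  exact Nat.mod_eq_of_lt (Nat.le_of_ble_eq_true this.1)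

theorem tau_injective : Function.Injective tau := by
  intro i j e
  by_contra hne
  have h := List.all_eq_true.1 (List.all_eq_true.1 tau_sep i (List.mem_range.2 i.2)) j (List.mem_range.2 j.2)
  simp only [Bool.or_eq_true, List.any_eq_true, Bool.not_eq_true'] at h
  rcases h with h | ⟨k, hk, h⟩
  · exact hne (Fin.ext (Nat.eq_of_beq_eq_true h))
  · have := congrArg (fun σ => ((σ ⟨k, List.mem_range.1 hk⟩ : Fin 45) : ℕ)) e
    simp only [tau_val] at this
    exact Nat.ne_of_beq_eq_false h this

theorem tau_ne_one (i : Fin 45) : tau i ≠ 1 := by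
  intro e
  have h := List.all_eq_true.1 tau_move i (List.mem_range.2 i.2)
  simp only [List.any_eq_true, Bool.not_eq_true'] at h
  obtain ⟨k, hk, h⟩ := h
  have := congrArg (fun σ => ((σ ⟨k, List.mem_range.1 hk⟩ : Fin 45) : ℕ)) e
  simp only [tau_val] at this
  exact Nat.ne_of_beq_eq_false h this

theorem testBit_row (i : ℕ) {x : ℕ} (hx : x < 45) : (gqRow i).testBit x = gqA i x := by
  rw [gqRow, Nat.testBit_and, Nat.testBit_two_pow_sub_one, decide_eq_true hx, Bool.and_true,
    Nat.testBit_shiftRight, gqA]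

theorem cover_iff (i j k : Fin 45) : cover i j k = true ↔ ∀ x, A i x = true → A j x = true → A k x = true := by
  unfold cover
  constructor
  · intro h x h1 h2
    have := congrArg (fun n => n.testBit x) (Nat.eq_of_beq_eq_true h)
    simp only [Nat.testBit_and, testBit_row _ x.2] at this
    simp only [A] at h1 h2 ⊢
    simpa [h1, h2] using this
  · intro h
    have e : (gqRow i &&& gqRow j) &&& gqRow k = gqRow i &&& gqRow j := by
      refine Nat.eq_of_testBit_eq fun x => ?_
      by_cases hx : x < 45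
      · simp only [Nat.testBit_and, testBit_row _ hx]
        cases h1 : gqA i x <;> cases h2 : gqA j x <;> simp
        exact h ⟨x, hx⟩ h1 h2
      · have h0 : ∀ i, (gqRow i).testBit x = false := fun i => by
          rw [gqRow, Nat.testBit_and, Nat.testBit_two_pow_sub_one, decide_eq_false hx, Bool.and_false]
        simp only [Nat.testBit_and, h0, Bool.and_false]
    rw [e]
    exact Nat.beq_refl _

/-- The permutation of a member is intrinsic. -/
theorem tau_conj {σ : Equiv.Perm (Fin 45)} (hσ : σ ∈ Aut45) (i : Fin 45) : σ * tau i * σ⁻¹ = tau (σ i) := by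
  refine Equiv.ext fun y => ?_
  obtain ⟨j, rfl⟩ := σ.surjective y
  have e1 : (σ * tau i * σ⁻¹) (σ j) = σ (tau i j) := by simp
  rw [e1]
  have hi := List.all_eq_true.1 (List.all_eq_true.1 tau_spec i (List.mem_range.2 i.2)) j (List.mem_range.2 j.2)
  have hj := List.all_eq_true.1 (List.all_eq_true.1 tau_spec (σ i) (List.mem_range.2 (σ i).2)) (σ j)
    (List.mem_range.2 (σ j).2)
  have eA : gqA (σ i) (σ j) = gqA i j := hσ i j
  rw [eA] at hj
  cases hA : gqA i j
  · simp only [hA, cond_false, Bool.and_eq_true, Bool.not_eq_true', List.all_eq_true, Bool.or_eq_true] at hi hj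
    rw [← tau_val] at hi hj
    obtain ⟨⟨⟨h1, h2⟩, h3⟩, -⟩ := hi
    have hc : cover (σ i) (σ j) (σ (tau i j)) = true := by
      rw [cover_iff]
      intro x k1 k2
      obtain ⟨x, rfl⟩ := σ.surjective x
      rw [hσ] at k1 k2 ⊢
      exact (cover_iff _ _ _).1 h3 x k1 k2
    rcases hj.2 _ (List.mem_range.2 (σ (tau i j)).2) with ((k | k) | k) | k
    · rw [hc] at k; exact absurd k (by simp)
    · exact absurd (congrArg Fin.val (σ.injective (Fin.ext (Nat.eq_of_beq_eq_true k)))) (Nat.ne_of_beq_eq_false h1)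
    · exact absurd (congrArg Fin.val (σ.injective (Fin.ext (Nat.eq_of_beq_eq_true k)))) (Nat.ne_of_beq_eq_false h2)
    · exact Fin.ext (Nat.eq_of_beq_eq_true k)
  · simp only [hA, cond_true] at hi hj
    rw [← tau_val] at hi hj
    rw [Fin.ext (Nat.eq_of_beq_eq_true hi), Fin.ext (Nat.eq_of_beq_eq_true hj)]

/-- Only the identity commutes with all the permutations of members. -/
theorem eq_one_of_commute {σ : Equiv.Perm (Fin 45)} (hσ : σ ∈ Aut45) (h : ∀ i, σ * tau i = tau i * σ) : σ = 1 := by
  refine Equiv.ext fun i => tau_injective ?_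
  rw [← tau_conj hσ i, h i, mul_inv_cancel_right, Equiv.Perm.one_apply]

end Cfsg.Agent.Block.FischerTypes.Twin
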