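import Cfsg.Agent.Lib.Block.FischerTypes.M22Involutions
import Cfsg.Agent.Lib.Block.FischerTypes.U6Code.Linear
import Cfsg.Agent.Lib.Block.FischerTypes.TwinGraph

/-! The forty-five classes of twins of a commuting pair in type M(22). -/

set_option autoImplicit false
set_option linter.style.haveILetI false
set_option linter.unusedSectionVars false

namespace Cfsg.Agent.Block.FischerTypes.M22

open Cfsg Cfsg.Agent.Spor.ThreeTrans U6Code

variable {G : Type*} [Group G] [Finite G] {D : Set G}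

/-- A commuting pair with a numbering around its first member. -/
structure PairData (D : Set G) (d₁ d₂ : G) where
  ctx : Ctx D
  mem : d₁ ∈ D
  perp' : d₂ ∈ perp D d₁
  num : Model D d₁
  num_b0 : num.pt b0 = d₂

theorem exists_pairData (C : Ctx D) {d₁ d₂ : G} (h₁ : d₁ ∈ D) (h₂ : d₂ ∈ perp D d₁) :
    Nonempty (PairData D d₁ d₂) := by
  obtain ⟨M⟩ := numbered_ctx C d₁ h₁
  obtain ⟨N, hN⟩ := M.exists_base C.set.cls h₂
  exact ⟨⟨C, h₁, h₂, N, hN⟩⟩

namespace PairData

variable {d₁ d₂ : G} (P : PairData D d₁ d₂)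
include P

theorem cls : IsThreeTranspositionClass D := P.ctx.set.cls

theorem mem₂ : d₂ ∈ D := P.perp'.1

theorem comm₁₂ : Commute d₁ d₂ := P.perp'.2.2

theorem fact_pair : Fact' D 2 (d₁ * d₂) [d₁, d₂] :=
  ⟨by simp [Ne.symm P.perp'.2.1], rfl, by simp [P.mem, P.mem₂], by simp [P.comm₁₂, P.comm₁₂.symm], by simp⟩

/-- The centraliser of the product permutes the pair. -/
theorem fix_or_swap {g : G} (hg : Commute g (d₁ * d₂)) :
    (g * d₁ * g⁻¹ = d₁ ∧ g * d₂ * g⁻¹ = d₂) ∨ (g * d₁ * g⁻¹ = d₂ ∧ g * d₂ * g⁻¹ = d₁) := by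
  have h := P.cls
  have hf : Fact' D 2 (d₁ * d₂) [g * d₁ * g⁻¹, g * d₂ * g⁻¹] := by
    refine ⟨by simp [Ne.symm P.perp'.2.1], rfl, by simp [conj_mem h g P.mem, conj_mem h g P.mem₂], ?_, ?_⟩
    · have := (commute_conj_iff g d₁ d₂).mpr P.comm₁₂
      simp [this, this.symm]
    · have := conj_self_eq hg
      simpa [mul_assoc] using this
  have key := pair_unique h P.ctx.set.tf hf P.fact_pair
  have k1 := (key (g * d₁ * g⁻¹)).mp (by simp)
  have k2 := (key (g * d₂ * g⁻¹)).mp (by simp)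
  have hne : g * d₁ * g⁻¹ ≠ g * d₂ * g⁻¹ := fun e => P.perp'.2.1 (by simpa using e.symm)
  simp only [List.mem_cons, List.not_mem_nil, or_false] at k1 k2
  rcases k1 with k1 | k1 <;> rcases k2 with k2 | k2
  · exact absurd (k1.trans k2.symm) hne
  · exact Or.inl ⟨k1, k2⟩
  · exact Or.inr ⟨k1, k2⟩
  · exact absurd (k1.trans k2.symm) hne

theorem conj_common {g u : G} (hg : Commute g (d₁ * d₂)) (hu : u ∈ common D d₁ d₂) :
    g * u * g⁻¹ ∈ common D d₁ d₂ := by
  have h := P.cls
  rcases P.fix_or_swap hg with ⟨e1, e2⟩ | ⟨e1, e2⟩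
  · refine ⟨?_, ?_⟩
    · rw [← e1]; exact (conj_mem_perp h g d₁).mpr hu.1
    · rw [← e2]; exact (conj_mem_perp h g d₂).mpr hu.2
  · refine ⟨?_, ?_⟩
    · rw [← e2]; exact (conj_mem_perp h g d₂).mpr hu.2
    · rw [← e1]; exact (conj_mem_perp h g d₁).mpr hu.1

theorem commute_member {u : G} (hu : u ∈ common D d₁ d₂) : Commute u (d₁ * d₂) :=
  hu.1.2.2.symm.mul_right hu.2.2.2.symm

theorem exists_class {u : G} (hu : u ∈ common D d₁ d₂) :
    ∃ i : Fin 45, ∃ c ∈ clsOf i, P.num.pt c = u := by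
  obtain ⟨c, hc, rfl⟩ := P.num.surj u hu.1
  have h0 : adj b0 c = true := (P.num.comm _ _ Model.pt_b0 hc).mp (by rw [P.num_b0]; exact hu.2.2.2)
  have hne : c ≠ b0 := fun e => hu.2.2.1 (by rw [e, P.num_b0])
  have hm : c ∈ commonList := by
    rw [commonList, List.mem_filter, Bool.and_eq_true, Bool.not_eq_true']
    exact ⟨mem_ptList.mpr hc, h0, Bool.eq_false_iff.2 fun k => hne (Nat.eq_of_beq_eq_true k)⟩
  have := List.all_eq_true.1 twin_cover c hm
  simp only [List.any_eq_true, List.contains_iff_mem] at this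
  obtain ⟨i, hi, hci⟩ := this
  exact ⟨⟨i, List.mem_range.1 hi⟩, c, hci, rfl⟩

omit P in
theorem cls_facts {i : Fin 45} {c : ℕ} (hc : c ∈ clsOf i) : isPt c = true ∧ adj b0 c = true ∧ c ≠ b0 := by
  have hl := twin_len
  simp only [Bool.and_eq_true, List.all_eq_true, Bool.not_eq_true'] at hl
  obtain ⟨⟨⟨h1, h2⟩, h3⟩, -⟩ := (hl.2 i (List.mem_range.2 i.2)).2 c hc
  exact ⟨h1, h2, Nat.ne_of_beq_eq_false h3⟩

theorem pt_common {i : Fin 45} {c : ℕ} (hc : c ∈ clsOf i) : P.num.pt c ∈ common D d₁ d₂ := by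
  obtain ⟨h1, h2, h3⟩ := cls_facts hc
  refine ⟨P.num.mem c h1, (P.num.mem c h1).1, fun e => h3 ?_, ?_⟩
  · exact P.num.inj c b0 h1 Model.pt_b0 (e.trans P.num_b0.symm)
  · have k := (P.num.comm _ _ Model.pt_b0 h1).mpr h2
    rwa [P.num_b0] at k

omit P in
theorem adj_cls {i j : Fin 45} {a b : ℕ} (ha : a ∈ clsOf i) (hb : b ∈ clsOf j) : adj a b = Twin.A i j :=
  beq_iff_eq.1 (List.all_eq_true.1 (List.all_eq_true.1 (List.all_eq_true.1 (List.all_eq_true.1 twin_adj i
    (List.mem_range.2 i.2)) j (List.mem_range.2 j.2)) a ha) b hb)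

omit P in
theorem class_eq {i j : Fin 45} {c : ℕ} (hi : c ∈ clsOf i) (hj : c ∈ clsOf j) : i = j := by
  by_contra hne
  have h := List.all_eq_true.1 (List.all_eq_true.1 twin_sep i (List.mem_range.2 i.2)) j (List.mem_range.2 j.2)
  simp only [Bool.or_eq_true, List.any_eq_true, bne_iff_ne] at h
  rcases h with h | ⟨k, hk, h⟩
  · exact hne (Fin.ext (Nat.eq_of_beq_eq_true h))
  · obtain ⟨e, he⟩ : ∃ e, e ∈ clsOf (⟨k, List.mem_range.1 hk⟩ : Fin 45) := List.exists_mem_of_ne_nil _ (fun e => by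
      have hl := twin_len
      simp only [Bool.and_eq_true, List.all_eq_true] at hl
      have h4 := (hl.2 k hk).1
      simp only [e] at h4
      exact absurd (Nat.eq_of_beq_eq_true h4) (by norm_num))
    exact h ((adj_cls hi he).symm.trans (adj_cls hj he))

/-- The class of a member. -/
noncomputable def cid (u : G) : Fin 45 := by
  classical
  exact if hu : u ∈ common D d₁ d₂ then (P.exists_class hu).choose else 0

theorem cid_spec {u : G} (hu : u ∈ common D d₁ d₂) : ∃ c ∈ clsOf (P.cid u), P.num.pt c = u := by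
  rw [cid, dif_pos hu]
  exact (P.exists_class hu).choose_spec

theorem cid_pt {i : Fin 45} {c : ℕ} (hc : c ∈ clsOf i) : P.cid (P.num.pt c) = i := by
  obtain ⟨d, hd, e⟩ := P.cid_spec (P.pt_common hc)
  obtain rfl : d = c := P.num.inj d c (cls_facts hd).1 (cls_facts hc).1 e
  exact class_eq hd hc

theorem commute_iff {u v : G} (hu : u ∈ common D d₁ d₂) (hv : v ∈ common D d₁ d₂) :
    Commute u v ↔ Twin.A (P.cid u) (P.cid v) = true := by
  obtain ⟨c, hc, e⟩ := P.cid_spec hu
  obtain ⟨d, hd, e'⟩ := P.cid_spec hv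
  have key := P.num.comm c d (cls_facts hc).1 (cls_facts hd).1
  rwa [e, e', adj_cls hc hd] at key

/-- A member of each class. -/
noncomputable def rep (i : Fin 45) : G := P.num.pt (clsRep i)

omit P in
theorem clsRep_mem (i : Fin 45) : clsRep i ∈ clsOf i := by
  have hl := twin_len
  simp only [Bool.and_eq_true, List.all_eq_true] at hl
  have h4 := Nat.eq_of_beq_eq_true (hl.2 i (List.mem_range.2 i.2)).1
  unfold clsRep
  generalize clsOf i = l at h4 ⊢
  match l, h4 with
  | a :: _, _ => simp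

theorem rep_mem (i : Fin 45) : P.rep i ∈ common D d₁ d₂ := P.pt_common (clsRep_mem i)

theorem cid_rep (i : Fin 45) : P.cid (P.rep i) = i := P.cid_pt (clsRep_mem i)

theorem cid_eq_iff {u v : G} (hu : u ∈ common D d₁ d₂) (hv : v ∈ common D d₁ d₂) :
    P.cid u = P.cid v ↔ ∀ z ∈ common D d₁ d₂, (Commute z u ↔ Commute z v) := by
  constructor
  · intro e z hz
    rw [P.commute_iff hz hu, P.commute_iff hz hv, e]
  · intro h
    by_contra hne
    have h' := List.all_eq_true.1 (List.all_eq_true.1 twin_sep (P.cid u) (List.mem_range.2 (P.cid u).2)) (P.cid v)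
      (List.mem_range.2 (P.cid v).2)
    simp only [Bool.or_eq_true, List.any_eq_true, bne_iff_ne] at h'
    rcases h' with h' | ⟨k, hk, h'⟩
    · exact hne (Fin.ext (Nat.eq_of_beq_eq_true h'))
    · obtain ⟨k, rfl⟩ : ∃ k' : Fin 45, (k' : ℕ) = k := ⟨⟨k, List.mem_range.1 hk⟩, rfl⟩
      have := h _ (P.rep_mem k)
      rw [Commute.symm_iff, P.commute_iff hu (P.rep_mem k), Commute.symm_iff, P.commute_iff hv (P.rep_mem k),
        P.cid_rep] at this
      exact h' (Bool.eq_iff_iff.2 this)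

theorem cid_conj {g : G} (hg : Commute g (d₁ * d₂)) {u : G} (hu : u ∈ common D d₁ d₂) :
    P.cid (g * u * g⁻¹) = P.cid (g * P.rep (P.cid u) * g⁻¹) := by
  refine (P.cid_eq_iff (P.conj_common hg hu) (P.conj_common hg (P.rep_mem _))).mpr fun z hz => ?_
  obtain ⟨w, hw, rfl⟩ : ∃ w ∈ common D d₁ d₂, g * w * g⁻¹ = z :=
    ⟨g⁻¹ * z * g, by simpa using P.conj_common hg.inv_left hz, by simp [mul_assoc]⟩
  rw [commute_conj_iff, commute_conj_iff, P.commute_iff hw hu, P.commute_iff hw (P.rep_mem _), P.cid_rep]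

/-- The action on the classes. -/
noncomputable def clsMap (g : G) (i : Fin 45) : Fin 45 := P.cid (g * P.rep i * g⁻¹)

theorem clsMap_cid {g : G} (hg : Commute g (d₁ * d₂)) {u : G} (hu : u ∈ common D d₁ d₂) :
    P.clsMap g (P.cid u) = P.cid (g * u * g⁻¹) := (P.cid_conj hg hu).symm

theorem clsMap_one (i : Fin 45) : P.clsMap 1 i = i := by
  simp [clsMap, P.cid_rep]

theorem clsMap_mul {g h : G} (hg : Commute g (d₁ * d₂)) (hh : Commute h (d₁ * d₂)) (i : Fin 45) :
    P.clsMap (g * h) i = P.clsMap g (P.clsMap h i) := by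
  show _ = P.clsMap g (P.cid (h * P.rep i * h⁻¹))
  rw [P.clsMap_cid hg (P.conj_common hh (P.rep_mem i))]
  simp [clsMap, mul_assoc]

omit [Finite G] in
omit P in
theorem commute_of_mem {g : G} (hg : g ∈ Subgroup.centralizer ({d₁ * d₂} : Set G)) : Commute g (d₁ * d₂) :=
  Subgroup.mem_centralizer_singleton_iff.mp hg

/-- The permutation of the classes. -/
noncomputable def clsPerm (g : ↥(Subgroup.centralizer ({d₁ * d₂} : Set G))) : Equiv.Perm (Fin 45) where
  toFun := P.clsMap g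
  invFun := P.clsMap (g : G)⁻¹
  left_inv i := by
    rw [← P.clsMap_mul (commute_of_mem g.2).inv_left (commute_of_mem g.2), inv_mul_cancel, P.clsMap_one]
  right_inv i := by
    rw [← P.clsMap_mul (commute_of_mem g.2) (commute_of_mem g.2).inv_left, mul_inv_cancel, P.clsMap_one]

theorem clsPerm_mem (g : ↥(Subgroup.centralizer ({d₁ * d₂} : Set G))) : P.clsPerm g ∈ Twin.Aut45 := by
  intro i j
  have hg := commute_of_mem g.2
  refine Bool.eq_iff_iff.2 ?_
  show Twin.A (P.cid _) (P.cid _) = true ↔ _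
  rw [← P.commute_iff (P.conj_common hg (P.rep_mem i)) (P.conj_common hg (P.rep_mem j)), commute_conj_iff,
    P.commute_iff (P.rep_mem i) (P.rep_mem j), P.cid_rep, P.cid_rep]

/-- The action of the centraliser on the classes. -/
noncomputable def act : ↥(Subgroup.centralizer ({d₁ * d₂} : Set G)) →* ↥Twin.Aut45 where
  toFun g := ⟨P.clsPerm g, P.clsPerm_mem g⟩
  map_one' := Subtype.ext (Equiv.ext P.clsMap_one)
  map_mul' g h := Subtype.ext (Equiv.ext (P.clsMap_mul (commute_of_mem g.2) (commute_of_mem h.2)))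

theorem act_apply (g : ↥(Subgroup.centralizer ({d₁ * d₂} : Set G))) (i : Fin 45) :
    (P.act g : Equiv.Perm (Fin 45)) i = P.clsMap g i := rfl

/-- A member permutes the classes as prescribed. -/
theorem clsMap_member {u : G} (hu : u ∈ common D d₁ d₂) (j : Fin 45) : P.clsMap u j = Twin.tau (P.cid u) j := by
  obtain ⟨c, hc, e⟩ := P.cid_spec hu
  have h := List.all_eq_true.1 (List.all_eq_true.1 (List.all_eq_true.1 tau_act (P.cid u)
    (List.mem_range.2 (P.cid u).2)) c hc) j (List.mem_range.2 j.2)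
  simp only [Bool.and_eq_true, List.contains_iff_mem] at h
  rw [← Twin.tau_val] at h
  obtain ⟨-, h2⟩ := P.num.conj c (clsRep j) (cls_facts hc).1 (cls_facts (clsRep_mem j)).1
  show P.cid (u * P.rep j * u⁻¹) = _
  rw [inv_eq P.cls.1 hu.1.1, ← e, rep, h2, P.cid_pt h.2, e]

theorem act_member {u : G} (hu : u ∈ common D d₁ d₂) :
    P.act ⟨u, Subgroup.mem_centralizer_singleton_iff.mpr (P.commute_member hu).eq⟩ =
      ⟨Twin.tau (P.cid u), Twin.tau_mem _⟩ :=
  Subtype.ext (Equiv.ext (P.clsMap_member hu))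

/-- The twins of a member are the three further points of a line through the pair. -/
theorem twins {w : G} (hw : w ∈ common D d₁ d₂) :
    ∃ M : Model D w, M.pt b0 = d₁ ∧ M.pt b1 = d₂ ∧
      (∀ x ∈ common D d₁ d₂, P.cid x = P.cid w → x ≠ w → ∃ s, 1 ≤ s ∧ s < 4 ∧ M.pt (linePt s) = x) ∧
      ∀ s, 1 ≤ s → s < 4 → M.pt (linePt s) ∈ common D d₁ d₂ ∧ P.cid (M.pt (linePt s)) = P.cid w ∧
        M.pt (linePt s) ≠ w := by
  classical
  obtain ⟨M₀⟩ := numbered_ctx P.ctx w hw.1.1
  obtain ⟨M, e0, e1⟩ := M₀.exists_pair P.cls (perp_symm P.mem hw.1) (perp_symm P.mem₂ hw.2) (Ne.symm P.perp'.2.1)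
    P.comm₁₂
  have fwd : ∀ x ∈ common D d₁ d₂, P.cid x = P.cid w → x ≠ w → ∃ s, 1 ≤ s ∧ s < 4 ∧ M.pt (linePt s) = x := by
    intro x hx hid hne
    have hxw : Commute w x := (((P.cid_eq_iff hx hw).mp hid) w hw).mpr (Commute.refl w)
    obtain ⟨c, hc, rfl⟩ := M.surj x ⟨hx.1.1, hne, hxw⟩
    have hcp : c ∈ pairList := by
      rw [pairList, List.mem_filter, Bool.and_eq_true]
      exact ⟨mem_ptList.mpr hc, (M.comm _ _ Model.pt_b0 hc).mp (by rw [e0]; exact hx.1.2.2),
        (M.comm _ _ Model.pt_b1 hc).mp (by rw [e1]; exact hx.2.2.2)⟩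
    have h := List.all_eq_true.1 line_only c hcp
    simp only [Bool.or_eq_true, Bool.not_eq_true', List.any_eq_true] at h
    rcases h with ((h | h) | h) | ⟨s, hs, h⟩
    · exact absurd (by rw [Nat.eq_of_beq_eq_true h, e0]) hx.1.2.1
    · exact absurd (by rw [Nat.eq_of_beq_eq_true h, e1]) hx.2.2.1
    · exfalso
      rw [List.all_eq_false] at h
      obtain ⟨y, hy, hy'⟩ := h
      simp only [Bool.not_eq_true, Bool.or_eq_false_iff] at hy'
      obtain ⟨⟨k0, k1⟩, k2⟩ := hy'
      rw [pairList, List.mem_filter, Bool.and_eq_true] at hy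
      have hyp := mem_ptList.mp hy.1
      have hy0 := M.mem y hyp
      have hyc : M.pt y ∈ common D d₁ d₂ := by
        refine ⟨⟨hy0.1, fun e => Nat.ne_of_beq_eq_false k0 (M.inj y b0 hyp Model.pt_b0 (e.trans e0.symm)), ?_⟩,
          ⟨hy0.1, fun e => Nat.ne_of_beq_eq_false k1 (M.inj y b1 hyp Model.pt_b1 (e.trans e1.symm)), ?_⟩⟩
        · rw [← e0]; exact (M.comm _ _ Model.pt_b0 hyp).mpr hy.2.1
        · rw [← e1]; exact (M.comm _ _ Model.pt_b1 hyp).mpr hy.2.2
      have k := (M.comm c y hc hyp).mp (((P.cid_eq_iff hx hw).mp hid _ hyc).mpr hy0.2.2.symm).symm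
      rw [k2] at k
      exact absurd k (by simp)
    · refine ⟨s, ?_, ?_, by rw [Nat.eq_of_beq_eq_true h]⟩ <;>
        (simp only [List.mem_cons, List.not_mem_nil, or_false] at hs; omega)
  refine ⟨M, e0, e1, fwd, ?_⟩
  -- there are three twins and three points on the line
  let i := P.cid w
  obtain ⟨cw, hcw, ew⟩ := P.cid_spec hw
  let Tw : Finset G := ((clsOf i).toFinset.erase cw).image P.num.pt
  let Ln : Finset G := ({1, 2, 3} : Finset ℕ).image fun s => M.pt (linePt s)
  have hsub : Tw ⊆ Ln := by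
    intro x hx
    obtain ⟨c, hc, rfl⟩ := Finset.mem_image.1 hx
    obtain ⟨hne, hc⟩ := Finset.mem_erase.1 hc
    have hc := List.mem_toFinset.1 hc
    obtain ⟨s, h1, h4, e⟩ := fwd _ (P.pt_common hc) (P.cid_pt hc)
      (fun e => hne (P.num.inj c cw (cls_facts hc).1 (cls_facts hcw).1 (e.trans ew.symm)))
    exact Finset.mem_image.2 ⟨s, by simp; omega, e⟩
  have hcard : Ln.card ≤ Tw.card := by
    refine Finset.card_image_le.trans ?_
    rw [Finset.card_image_of_injOn, Finset.card_erase_of_mem (List.mem_toFinset.2 hcw)]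
    · have hl := twin_len
      simp only [Bool.and_eq_true, List.all_eq_true] at hl
      obtain ⟨h4, hnd⟩ := hl.2 i (List.mem_range.2 i.2)
      have hn : (clsOf i).Nodup := List.nodup_iff_count_le_one.2 fun a => by
        by_cases ha : a ∈ clsOf i
        · have h1 := Nat.eq_of_beq_eq_true (hnd a ha).2
          rw [List.count_eq_length_filter]
          refine le_of_eq (Eq.trans ?_ h1)
          congr 1
          refine List.filter_congr fun x _ => Bool.eq_iff_iff.2 ?_
          exact ⟨fun k => by rw [beq_iff_eq.1 k]; exact Nat.beq_refl _,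
            fun k => beq_iff_eq.2 (Nat.eq_of_beq_eq_true k).symm⟩
        · rw [List.count_eq_zero_of_not_mem ha]; norm_num
      rw [List.toFinset_card_of_nodup hn, Nat.eq_of_beq_eq_true h4]
      simp
    · intro a ha b hb e
      have ha := List.mem_toFinset.1 (Finset.mem_erase.1 (Finset.mem_coe.1 ha)).2
      have hb := List.mem_toFinset.1 (Finset.mem_erase.1 (Finset.mem_coe.1 hb)).2
      exact P.num.inj a b (cls_facts ha).1 (cls_facts hb).1 e
  intro s h1 h4
  have : M.pt (linePt s) ∈ Tw := by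
    rw [Finset.eq_of_subset_of_card_le hsub hcard]
    exact Finset.mem_image.2 ⟨s, by simp; omega, rfl⟩
  obtain ⟨c, hc, e⟩ := Finset.mem_image.1 this
  obtain ⟨hne, hc⟩ := Finset.mem_erase.1 hc
  have hc := List.mem_toFinset.1 hc
  rw [← e]
  exact ⟨P.pt_common hc, P.cid_pt hc,
    fun e => hne (P.num.inj c cw (cls_facts hc).1 (cls_facts hcw).1 (e.trans ew.symm))⟩

end PairData

end Cfsg.Agent.Block.FischerTypes.M22
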