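import Cfsg.Agent.Lib.Block.FischerTypes.TwinGraph
import Cfsg.Agent.Lib.Classical.QuadBasic
import Cfsg.Agent.Lib.Classical.OrthCount
import Cfsg.Agent.Lib.Classical.OrthOrder
import Cfsg.Agent.Lib.Classical.QuadClass
import Cfsg.Agent.Lib.Spor.USixTwo.K4
import Cfsg.Agent.S0303
import Cfsg.Agent.S0280
import Cfsg.Agent.S0283
import Cfsg.Agent.S0815

/-! The graph of the classes of twins has the orthogonal group of minus type in dimension six as its group. -/

set_option autoImplicit false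
set_option maxRecDepth 100000
set_option maxHeartbeats 4000000
set_option linter.style.haveILetI false

namespace Cfsg.Agent.Block.FischerTypes.Twin

open Matrix Cfsg U6Code Cfsg.Agent.Classical Cfsg.Agent.Spor.USixTwo

/-- The index set. -/
abbrev I6 : Type := (Fin 2 ⊕ Fin 2) ⊕ Fin 2

/-- The bit of an index. -/
def bitOf : I6 → ℕ
  | .inl (.inl k) => k
  | .inl (.inr k) => 2 + k
  | .inr k => 4 + k

/-- The vector of a number. -/
def qvec (n : ℕ) : I6 → ZMod 2 := fun i => cond (n.testBit (bitOf i)) 1 0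

/-- The form. -/
abbrev Q6 : (I6 → ZMod 2) → ZMod 2 := quadFormMinus 2 (ZMod 2) 1 1

/-- The group of the form. -/
abbrev GO6 : Subgroup (GL I6 (ZMod 2)) := isometryGroup (ZMod 2) Q6

theorem aniso : ∀ z₁ z₂ : ZMod 2, z₁ ^ 2 + 1 * z₁ * z₂ + 1 * z₂ ^ 2 = 0 → z₁ = 0 ∧ z₂ = 0 := by decide

theorem qvec_q : ∀ n : Fin 64, Q6 (qvec n) = cond (qn n) 1 0 := by decide +kernel

theorem qvec_inj : ∀ m n : Fin 64, qvec m = qvec n → m = n := by decide +kernel

theorem qvec_surj : ∀ v : I6 → ZMod 2, ∃ n : Fin 64, qvec n = v := by decide +kernel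

theorem qvec_xor (m n : ℕ) : qvec (m ^^^ n) = qvec m + qvec n := by
  funext i
  simp only [qvec, Pi.add_apply, Nat.testBit_xor]
  cases m.testBit (bitOf i) <;> cases n.testBit (bitOf i) <;> decide

theorem qvec_zero : qvec 0 = 0 := by
  funext i
  simp [qvec]

/-- The action on numbers. -/
noncomputable def gn (g : ↥GO6) (u : ℕ) : Fin 64 :=
  (qvec_surj (((g : GL I6 (ZMod 2)) : Matrix I6 I6 (ZMod 2)) *ᵥ qvec u)).choose

theorem qvec_gn (g : ↥GO6) (u : ℕ) :
    qvec (gn g u) = ((g : GL I6 (ZMod 2)) : Matrix I6 I6 (ZMod 2)) *ᵥ qvec u :=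
  (qvec_surj _).choose_spec

theorem gn_eq {g : ↥GO6} {u m : ℕ} (hm : m < 64)
    (e : qvec m = ((g : GL I6 (ZMod 2)) : Matrix I6 I6 (ZMod 2)) *ᵥ qvec u) : (gn g u : ℕ) = m :=
  congrArg Fin.val (qvec_inj (gn g u) ⟨m, hm⟩ ((qvec_gn g u).trans e.symm))

theorem gn_mul (g h : ↥GO6) (u : ℕ) : (gn (g * h) u : ℕ) = gn g (gn h u) := by
  refine gn_eq (gn g (gn h u)).2 ?_
  rw [qvec_gn, qvec_gn, Matrix.mulVec_mulVec]
  rfl

theorem gn_one {u : ℕ} (hu : u < 64) : (gn 1 u : ℕ) = u := gn_eq hu (by simp)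

theorem gn_xor (g : ↥GO6) (u v : ℕ) : (gn g (u ^^^ v) : ℕ) = (gn g u : ℕ) ^^^ (gn g v : ℕ) := by
  refine gn_eq (Nat.xor_lt_two_pow (n := 6) (gn g u).2 (gn g v).2) ?_
  rw [qvec_xor, qvec_gn, qvec_gn, qvec_xor, Matrix.mulVec_add]

theorem gn_inj (g : ↥GO6) {u v : ℕ} (hu : u < 64) (hv : v < 64) (e : (gn g u : ℕ) = gn g v) : u = v := by
  have := congrArg (fun n => (gn g⁻¹ n : ℕ)) e
  simp only [← gn_mul, inv_mul_cancel, gn_one hu, gn_one hv] at this
  exact this

theorem gn_zero (g : ↥GO6) : (gn g 0 : ℕ) = 0 := gn_eq (by norm_num) (by simp [qvec_zero])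

theorem sing_iff {u : ℕ} : isSing u = true ↔ u ≠ 0 ∧ u < 64 ∧ qn u = false := by
  simp only [isSing, Bool.and_eq_true, Bool.not_eq_true']
  exact ⟨fun h => ⟨Nat.ne_of_beq_eq_false h.1.1, Nat.le_of_ble_eq_true h.1.2, h.2⟩,
    fun h => ⟨⟨Bool.eq_false_iff.2 fun k => h.1 (Nat.eq_of_beq_eq_true k), Nat.ble_eq_true_of_le h.2.1⟩, h.2.2⟩⟩

theorem gn_sing (g : ↥GO6) {u : ℕ} (hu : isSing u = true) : isSing (gn g u) = true := by
  obtain ⟨h1, h2, h3⟩ := sing_iff.1 hu
  refine sing_iff.2 ⟨fun e => h1 (gn_inj g h2 (by norm_num) (e.trans (gn_zero g).symm)), (gn g u).2, ?_⟩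
  have h := mem_isometryGroup.1 g.2 (qvec u)
  rw [← qvec_gn, qvec_q, show Q6 (qvec u) = Q6 (qvec ((⟨u, h2⟩ : Fin 64) : ℕ)) from rfl, qvec_q] at h
  simp only [h3] at h
  cases hq : qn (gn g u)
  · rfl
  · rw [hq] at h
    exact absurd h (by decide)

theorem line_facts (i : Fin 45) : (∀ u ∈ lineVecs i, isSing u = true) ∧
    (quadLines.getD i (0, 0)).1 ≠ (quadLines.getD i (0, 0)).2 := by
  have h := List.all_eq_true.1 lines_q i (List.mem_range.2 i.2)
  simp only [Bool.and_eq_true, List.all_eq_true, Bool.not_eq_true'] at h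
  exact ⟨h.1, Nat.ne_of_beq_eq_false h.2⟩

theorem line_xor {i : Fin 45} {u v : ℕ} (hu : u ∈ lineVecs i) (hv : v ∈ lineVecs i) (hne : u ≠ v) :
    u ^^^ v ∈ lineVecs i := by
  simp only [lineVecs, List.mem_cons, List.not_mem_nil, or_false] at hu hv ⊢
  rcases hu with rfl | rfl | rfl <;> rcases hv with rfl | rfl | rfl <;>
    first
    | exact absurd rfl hne
    | simp [← Nat.xor_assoc, Nat.xor_comm]
    | simp [Nat.xor_assoc, Nat.xor_comm, Nat.xor_left_comm]

theorem line_meet (i j : Fin 45) : (A i j = true ↔ ∃ u, u ∈ lineVecs i ∧ u ∈ lineVecs j) ∧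
    (i ≠ j → ∀ u v, u ∈ lineVecs i → u ∈ lineVecs j → v ∈ lineVecs i → v ∈ lineVecs j → u = v) := by
  have h := List.all_eq_true.1 (List.all_eq_true.1 lines_meet i (List.mem_range.2 i.2)) j (List.mem_range.2 j.2)
  simp only [Bool.and_eq_true, beq_iff_eq, Bool.or_eq_true] at h
  refine ⟨?_, fun hne u v a b c d => ?_⟩
  · show gqA i j = true ↔ _
    rw [h.1, List.any_eq_true]
    simp [List.contains_iff_mem]
  · have hl := h.2.resolve_left fun k => hne (Fin.ext (Nat.eq_of_beq_eq_true k))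
    by_contra huv
    have hsub : ({u, v} : Finset ℕ) ⊆ ((lineVecs i).filter fun w => (lineVecs j).contains w).toFinset := by
      intro w hw
      simp only [Finset.mem_insert, Finset.mem_singleton] at hw
      rw [List.mem_toFinset, List.mem_filter, List.contains_iff_mem]
      rcases hw with rfl | rfl
      · exact ⟨a, b⟩
      · exact ⟨c, d⟩
    have := (Finset.card_le_card hsub).trans (List.toFinset_card_le _)
    rw [Finset.card_pair huv] at this
    have := Nat.le_of_ble_eq_true hl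
    omega

theorem line_image (g : ↥GO6) (i : Fin 45) : ∃ j : Fin 45, ∀ u ∈ lineVecs i, (gn g u : ℕ) ∈ lineVecs j := by
  obtain ⟨hs, hne⟩ := line_facts i
  obtain ⟨a, ha⟩ : ∃ a, a = (quadLines.getD i (0, 0)).1 := ⟨_, rfl⟩
  obtain ⟨b, hb⟩ : ∃ b, b = (quadLines.getD i (0, 0)).2 := ⟨_, rfl⟩
  have hm : lineVecs i = [a, b, a ^^^ b] := by rw [ha, hb]; rfl
  have sa := hs a (by simp [hm])
  have sb := hs b (by simp [hm])
  have sc := hs (a ^^^ b) (by simp [hm])
  have h := List.all_eq_true.1 (List.all_eq_true.1 lines_cover _ (List.mem_range.2 (gn g a).2)) _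
    (List.mem_range.2 (gn g b).2)
  rw [← gn_xor, gn_sing g sa, gn_sing g sb, gn_sing g sc] at h
  simp only [Bool.not_true, Bool.false_or, List.any_eq_true, Bool.and_eq_true, List.contains_iff_mem] at h
  obtain ⟨j, hj, h1, h2⟩ := h
  refine ⟨⟨j, List.mem_range.1 hj⟩, fun u hu => ?_⟩
  rw [hm] at hu
  simp only [List.mem_cons, List.not_mem_nil, or_false] at hu
  rcases hu with rfl | rfl | rfl
  · exact h1
  · exact h2
  · rw [gn_xor]
    refine line_xor (i := ⟨j, List.mem_range.1 hj⟩) h1 h2 fun e => ?_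
    exact (ha ▸ hb ▸ hne) (gn_inj g (sing_iff.1 sa).2.1 (sing_iff.1 sb).2.1 e)

/-- The action on lines. -/
noncomputable def lineMap (g : ↥GO6) (i : Fin 45) : Fin 45 := (line_image g i).choose

theorem lineMap_spec (g : ↥GO6) (i : Fin 45) : ∀ u ∈ lineVecs i, (gn g u : ℕ) ∈ lineVecs (lineMap g i) :=
  (line_image g i).choose_spec

theorem lineMap_eq {g : ↥GO6} {i j : Fin 45} (h : ∀ u ∈ lineVecs i, (gn g u : ℕ) ∈ lineVecs j) :
    lineMap g i = j := by
  by_contra hne
  obtain ⟨hs, hab⟩ := line_facts i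
  have ha : (quadLines.getD i (0, 0)).1 ∈ lineVecs i := by simp [lineVecs]
  have hb : (quadLines.getD i (0, 0)).2 ∈ lineVecs i := by simp [lineVecs]
  exact hab (gn_inj g (sing_iff.1 (hs _ ha)).2.1 (sing_iff.1 (hs _ hb)).2.1
    ((line_meet _ _).2 hne _ _ (lineMap_spec g i _ ha) (h _ ha) (lineMap_spec g i _ hb) (h _ hb)))

theorem lineMap_mul (g h : ↥GO6) (i : Fin 45) : lineMap (g * h) i = lineMap g (lineMap h i) :=
  lineMap_eq fun u hu => by
    rw [gn_mul]
    exact lineMap_spec g _ _ (lineMap_spec h i u hu)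

theorem lineMap_one (i : Fin 45) : lineMap 1 i = i :=
  lineMap_eq fun u hu => by rwa [gn_one (sing_iff.1 ((line_facts i).1 u hu)).2.1]

/-- The permutation of the lines. -/
noncomputable def linePerm (g : ↥GO6) : Equiv.Perm (Fin 45) where
  toFun := lineMap g
  invFun := lineMap g⁻¹
  left_inv i := by rw [← lineMap_mul, inv_mul_cancel, lineMap_one]
  right_inv i := by rw [← lineMap_mul, mul_inv_cancel, lineMap_one]

theorem linePerm_mem (g : ↥GO6) : linePerm g ∈ Aut45 := by
  have key : ∀ g i j, A i j = true → A (lineMap g i) (lineMap g j) = true := fun g i j h => by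
    obtain ⟨u, h1, h2⟩ := (line_meet i j).1.1 h
    exact (line_meet _ _).1.2 ⟨_, lineMap_spec g i u h1, lineMap_spec g j u h2⟩
  intro i j
  show A (lineMap g i) (lineMap g j) = A i j
  refine Bool.eq_iff_iff.2 ⟨fun h => ?_, key g i j⟩
  have := key g⁻¹ _ _ h
  rwa [← lineMap_mul, ← lineMap_mul, inv_mul_cancel, lineMap_one, lineMap_one] at this

/-- The orthogonal group on the lines. -/
noncomputable def lineHom : ↥GO6 →* ↥Aut45 where
  toFun g := ⟨linePerm g, linePerm_mem g⟩
  map_one' := Subtype.ext (Equiv.ext lineMap_one)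
  map_mul' g h := Subtype.ext (Equiv.ext (lineMap_mul g h))

theorem lineHom_injective : Function.Injective lineHom := by
  rw [injective_iff_map_eq_one]
  intro g hg
  have hfix : ∀ i, lineMap g i = i := fun i => congrArg (fun σ : ↥Aut45 => σ.1 i) hg
  have hsing : ∀ u, isSing u = true → (gn g u : ℕ) = u := fun u hu => by
    have h := List.all_eq_true.1 lines_point u (List.mem_range.2 (sing_iff.1 hu).2.1)
    simp only [hu, Bool.not_true, Bool.false_or, List.any_eq_true, Bool.and_eq_true, List.contains_iff_mem,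
      Bool.not_eq_true'] at h
    obtain ⟨i, hi, j, hj, ⟨hne, h1⟩, h2⟩ := h
    refine (line_meet ⟨i, List.mem_range.1 hi⟩ ⟨j, List.mem_range.1 hj⟩).2
      (fun e => Nat.ne_of_beq_eq_false hne (congrArg Fin.val e)) _ _ ?_ ?_ h1 h2
    · have := lineMap_spec g ⟨i, List.mem_range.1 hi⟩ u h1
      rwa [hfix] at this
    · have := lineMap_spec g ⟨j, List.mem_range.1 hj⟩ u h2
      rwa [hfix] at this
  have hunit : ∀ k < 6, (gn g (2 ^ k) : ℕ) = 2 ^ k := fun k hk => by
    have h := List.all_eq_true.1 unit_sum k (List.mem_range.2 hk)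
    simp only [List.any_eq_true, Bool.or_eq_true, Bool.and_eq_true] at h
    obtain ⟨u, -, ⟨h1, h2⟩ | h⟩ := h
    · have e : 2 ^ k = (2 ^ k ^^^ u) ^^^ u := by rw [Nat.xor_assoc, Nat.xor_self, Nat.xor_zero]
      conv_lhs => rw [e, gn_xor, hsing _ h2, hsing _ h1]
      exact e.symm
    · exact hsing _ h
  refine Subtype.ext (Units.ext (Matrix.ext fun r c => ?_))
  have hc : ∀ c : I6, qvec (2 ^ bitOf c) = Pi.single c 1 ∧ bitOf c < 6 := by decide +kernel
  have h := qvec_gn g (2 ^ bitOf c)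
  rw [hunit _ (hc c).2, (hc c).1, Matrix.mulVec_single_one] at h
  have := congrFun h r
  simp only [Matrix.col_apply] at this
  rw [← this, Pi.single_apply]
  simp [Matrix.one_apply]

theorem card_GO6 : Nat.card ↥GO6 = 51840 := by
  rw [natCard_isometryGroup' (qfMinus 2 (ZMod 2) 1 1) (coe_qfMinus 2 1 1)]
  have := order_qfMinus 2 aniso
  rw [ZMod.card] at this
  simp [Finset.prod_range_succ] at this
  omega

theorem lineHom_bijective : Function.Bijective lineHom :=
  (Nat.bijective_iff_injective_and_card _).2 ⟨lineHom_injective,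
    le_antisymm (Nat.card_le_card_of_injective _ lineHom_injective) (card_le.trans_eq card_GO6.symm)⟩

theorem card_aut : Nat.card ↥Aut45 = 51840 := by
  rw [← Nat.card_congr (Equiv.ofBijective _ lineHom_bijective), card_GO6]

/-- The orthogonal group is the automorphism group. -/
noncomputable def autEquiv : ↥GO6 ≃* ↥Aut45 := MulEquiv.ofBijective lineHom lineHom_bijective

theorem h4 : Fintype.card K4 = 2 ^ 2 := rfl

theorem card_psu4 : Nat.card (PSU 4 K4 2) = 25920 := by
  have hc := Cfsg.Agent.S0280.result h4 4 (by norm_num)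
  norm_num [Finset.prod_range_succ, Nat.even_iff] at hc
  omega

/-- Corresponding derived groups. -/
noncomputable def omegaEquiv : ↥(commutator ↥Aut45) ≃* ↥(Omega (ZMod 2) Q6) :=
  ((Subgroup.equivMapOfInjective (commutator ↥GO6) autEquiv.toMonoidHom autEquiv.injective).trans
    (MulEquiv.subgroupCongr (by
      rw [map_commutator_eq, MonoidHom.range_eq_top.2 (show Function.Surjective autEquiv.toMonoidHom from autEquiv.surjective), commutator_def]))).symm

/-- An automorphism central among the permutations of members is trivial. -/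
theorem central_eq_one {z : ↥Aut45} (h : ∀ g, z * g = g * z) : z = 1 :=
  Subtype.ext (eq_one_of_commute z.2 fun i => congrArg Subtype.val (h ⟨tau i, tau_mem i⟩))

theorem central_of_card_le {N : Subgroup ↥Aut45} [N.Normal] (h : Nat.card ↥N ≤ 2) : N = ⊥ := by
  refine eq_bot_iff.2 fun z hz => Subgroup.mem_bot.2 ?_
  by_contra hz1
  refine hz1 (central_eq_one fun g => ?_)
  by_contra hne
  have h2 : (⟨g * z * g⁻¹, Subgroup.Normal.conj_mem ‹_› z hz g⟩ : ↥N) ≠ ⟨z, hz⟩ := fun e =>
    hne ((mul_inv_eq_iff_eq_mul.1 (congrArg Subtype.val e)).symm)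
  have h3 : (⟨g * z * g⁻¹, Subgroup.Normal.conj_mem ‹_› z hz g⟩ : ↥N) ≠ 1 := fun e => hz1 (by
    have e' := congrArg Subtype.val e
    simpa using e')
  haveI := Fintype.ofFinite ↥N
  rw [Nat.card_eq_fintype_card] at h
  have h4 : ({⟨g * z * g⁻¹, Subgroup.Normal.conj_mem ‹_› z hz g⟩, ⟨z, hz⟩, 1} : Finset ↥N).card = 3 := by
    rw [Finset.card_insert_of_notMem, Finset.card_pair]
    · exact fun e => hz1 (congrArg Subtype.val e)
    · simp [h2, h3]
  have := Finset.card_le_univ ({⟨g * z * g⁻¹, Subgroup.Normal.conj_mem ‹_› z hz g⟩, ⟨z, hz⟩, 1} : Finset ↥N)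
  omega

theorem nonempty_psu : Nonempty (POmega (ZMod 2) Q6 ≃* PSU 4 K4 2) :=
  Cfsg.Agent.S0303.result (F := ZMod 2) (K := K4) (q := 2) (ZMod.card 2) h4 1 1 aniso

theorem center_omega : Subgroup.center ↥(commutator ↥Aut45) = ⊥ := by
  have hmap : (Subgroup.center ↥(commutator ↥Aut45)).map (commutator ↥Aut45).subtype = ⊥ := by
    haveI : ((Subgroup.center ↥(commutator ↥Aut45)).map (commutator ↥Aut45).subtype).Normal :=
      ConjAct.normal_of_characteristic_of_normal
    refine central_of_card_le ?_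
    rw [Subgroup.card_subtype, Nat.card_congr (Subgroup.centerCongr omegaEquiv).toEquiv]
    obtain ⟨e⟩ := nonempty_psu
    have h := Subgroup.card_eq_card_quotient_mul_card_subgroup (Subgroup.center ↥(Omega (ZMod 2) Q6))
    rw [Nat.card_congr e.toEquiv, card_psu4] at h
    have hd := Subgroup.card_subgroup_dvd_card (Omega (ZMod 2) Q6)
    rw [h, card_GO6] at hd
    have := Nat.le_of_dvd (by norm_num) hd
    omega
  exact (Subgroup.map_eq_bot_iff_of_injective _ (Subgroup.subtype_injective _)).1 hmap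

theorem nonempty_omega : Nonempty (↥(commutator ↥Aut45) ≃* PSU 4 K4 2) := by
  obtain ⟨e⟩ := nonempty_psu
  have hb : Subgroup.center ↥(Omega (ZMod 2) Q6) = ⊥ := by
    rw [← Subgroup.card_eq_one, ← Nat.card_congr (Subgroup.centerCongr omegaEquiv).toEquiv, center_omega,
      Subgroup.card_bot]
  exact ⟨omegaEquiv.trans (((QuotientGroup.quotientMulEquivOfEq hb).trans QuotientGroup.quotientBot).symm.trans e)⟩

theorem card_omega : Nat.card ↥(commutator ↥Aut45) = 25920 := by
  obtain ⟨e⟩ := nonempty_omega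
  rw [Nat.card_congr e.toEquiv, card_psu4]

instance isSimple_omega : IsSimpleGroup ↥(commutator ↥Aut45) := by
  obtain ⟨e⟩ := nonempty_omega
  exact (MulEquiv.isSimpleGroup_congr e).mpr (Cfsg.Agent.S0283.result h4 4 (by norm_num) (by norm_num))

/-- A nontrivial normal subgroup contains the derived group. -/
theorem normal_cases (N : Subgroup ↥Aut45) [N.Normal] : N = ⊥ ∨ commutator ↥Aut45 ≤ N := by
  rcases (inferInstance : (N.subgroupOf (commutator ↥Aut45)).Normal).eq_bot_or_eq_top with h | h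
  · left
    refine central_of_card_le ?_
    rw [Subgroup.subgroupOf_eq_bot] at h
    let f : ↥N × ↥(commutator ↥Aut45) → ↥Aut45 := fun p => p.1.1 * p.2.1
    have hf : Function.Injective f := by
      rintro ⟨x, y⟩ ⟨x', y'⟩ e
      simp only [f] at e
      have h1 : x'.1⁻¹ * x.1 = y'.1 * y.1⁻¹ := by
        rw [eq_mul_inv_iff_mul_eq, mul_assoc, e, inv_mul_cancel_left]
      have h2 : x'.1⁻¹ * x.1 = 1 := Subgroup.disjoint_def.1 h (mul_mem (inv_mem x'.2) x.2)
        (h1 ▸ mul_mem y'.2 (inv_mem y.2))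
      rw [h2] at h1
      exact Prod.ext (Subtype.ext (inv_mul_eq_one.1 h2).symm) (Subtype.ext (mul_inv_eq_one.1 h1.symm).symm)
    have := Nat.card_le_card_of_injective f hf
    rw [Nat.card_prod, card_omega, card_aut] at this
    omega
  · exact Or.inr (Subgroup.subgroupOf_eq_top.1 h)

/-- Containing all the permutations of members means containing the derived group. -/
theorem omega_le {H : Subgroup ↥Aut45} (h : ∀ i, (⟨tau i, tau_mem i⟩ : ↥Aut45) ∈ H) : commutator ↥Aut45 ≤ H := by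
  let T : Set ↥Aut45 := Set.range fun i => ⟨tau i, tau_mem i⟩
  haveI : (Subgroup.closure T).Normal := by
    refine ⟨fun n hn g => ?_⟩
    have hle : (Subgroup.closure T).map (MulAut.conj g).toMonoidHom ≤ Subgroup.closure T := by
      rw [MonoidHom.map_closure, Subgroup.closure_le]
      rintro _ ⟨_, ⟨i, rfl⟩, rfl⟩
      exact Subgroup.subset_closure ⟨g.1 i, Subtype.ext (tau_conj g.2 i).symm⟩
    exact hle ⟨n, hn, rfl⟩
  refine ((normal_cases (Subgroup.closure T)).resolve_left fun e => ?_).trans ((Subgroup.closure_le _).2 ?_)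
  · have h0 : (⟨tau 0, tau_mem 0⟩ : ↥Aut45) ∈ (⊥ : Subgroup ↥Aut45) := e ▸ Subgroup.subset_closure ⟨0, rfl⟩
    exact tau_ne_one 0 (congrArg Subtype.val (Subgroup.mem_bot.1 h0))
  · rintro _ ⟨i, rfl⟩
    exact h i

/-- The automorphism group is the automorphism group of the unitary group. -/
theorem nonempty_mulAut : Nonempty (↥Aut45 ≃* MulAut (PSU 4 K4 2)) := by
  obtain ⟨e⟩ := nonempty_omega
  let f : ↥Aut45 →* MulAut ↥(commutator ↥Aut45) := MulAut.conjNormal
  have hker : f.ker = ⊥ := (normal_cases f.ker).resolve_right fun hle => by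
    haveI : Nontrivial ↥(commutator ↥Aut45) := IsSimpleGroup.toNontrivial
    obtain ⟨y, hy⟩ := exists_ne (1 : ↥(commutator ↥Aut45))
    have hyc : y ∈ Subgroup.center ↥(commutator ↥Aut45) := by
      rw [Subgroup.mem_center_iff]
      intro x
      have := congrArg (fun φ : MulAut ↥(commutator ↥Aut45) => φ x) (MonoidHom.mem_ker.1 (hle y.2))
      refine Subtype.ext ?_
      have e' := congrArg Subtype.val this
      simp only [f, MulAut.conjNormal_apply, MulAut.one_apply] at e'
      exact (mul_inv_eq_iff_eq_mul.1 e').symm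
    rw [center_omega] at hyc
    exact hy hyc
  have hi : Function.Injective f := (MonoidHom.ker_eq_bot_iff f).1 hker
  have hcard : Nat.card (MulAut (PSU 4 K4 2)) = 51840 := by
    haveI : Fact (Nat.Prime 2) := ⟨Nat.prime_two⟩
    rw [Cfsg.Agent.S0815.result 2 1 le_rfl (q := 2) (by norm_num) h4 4 (by norm_num) (by norm_num), card_psu4]
    norm_num
  let t : MulAut ↥(commutator ↥Aut45) ≃* MulAut (PSU 4 K4 2) := MulAut.congr e
  have hinj : Function.Injective (t.toMonoidHom.comp f) := t.injective.comp hi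
  refine ⟨MulEquiv.ofBijective (t.toMonoidHom.comp f) ?_⟩
  haveI : Finite (MulAut (PSU 4 K4 2)) := Nat.finite_of_card_ne_zero (by rw [hcard]; norm_num)
  exact (Nat.bijective_iff_injective_and_card _).2 ⟨hinj, by rw [card_aut, hcard]⟩

end Cfsg.Agent.Block.FischerTypes.Twin
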