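import Cfsg.Agent.Lib.Block.FischerTypes.M22PairClasses
import Cfsg.Agent.Lib.Block.FischerTypes.TwinOrth

/-! The kernel of the action on the classes of twins of a commuting pair in type M(22). -/

set_option autoImplicit false
set_option linter.style.haveILetI false
set_option linter.unusedSectionVars false

namespace Cfsg.Agent.Block.FischerTypes.M22

open Cfsg Cfsg.Agent.Spor.ThreeTrans U6Code

variable {G : Type*} [Group G] [Finite G] {D : Set G}

omit [Finite G] in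
theorem mem_pairCent {a b g : G} :
    g ∈ Subgroup.centralizer ({a, b} : Set G) ↔ Commute g a ∧ Commute g b := by
  rw [Subgroup.mem_centralizer_iff]
  constructor
  · intro h
    exact ⟨(h a (by simp)).symm, (h b (by simp)).symm⟩
  · rintro ⟨h1, h2⟩ x hx
    rcases hx with rfl | rfl
    exacts [h1.symm, h2.symm]

omit [Finite G] in
theorem commute_of_conj {a g : G} (e : g * a * g⁻¹ = a) : Commute g a := mul_inv_eq_iff_eq_mul.mp e

theorem involutive_fixed : ∀ π : Equiv.Perm (Fin 3), π * π = 1 → ∃ x, π x = x := by decide +kernel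

theorem two_fixed : ∀ π : Equiv.Perm (Fin 3), ∀ x y, x ≠ y → π x = x → π y = y → π = 1 := by decide +kernel

namespace PairData

variable {d₁ d₂ : G} (P : PairData D d₁ d₂)
include P

theorem pair_le : Subgroup.centralizer ({d₁, d₂} : Set G) ≤ Subgroup.centralizer ({d₁ * d₂} : Set G) := fun g hg =>
  Subgroup.mem_centralizer_singleton_iff.mpr ((mem_pairCent.mp hg).1.mul_right (mem_pairCent.mp hg).2).eq

theorem mem_pair_of_fix {g : G} (hj : Commute g (d₁ * d₂)) (e : g * d₁ * g⁻¹ = d₁) :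
    g ∈ Subgroup.centralizer ({d₁, d₂} : Set G) := by
  rcases P.fix_or_swap hj with ⟨-, e2⟩ | ⟨e1, -⟩
  · exact mem_pairCent.mpr ⟨commute_of_conj e, commute_of_conj e2⟩
  · exact absurd (e1.symm.trans e) P.perp'.2.1

theorem not_mem_swap {g : G} (hj : Commute g (d₁ * d₂)) (hg : g ∉ Subgroup.centralizer ({d₁, d₂} : Set G)) :
    g * d₁ * g⁻¹ = d₂ ∧ g * d₂ * g⁻¹ = d₁ :=
  (P.fix_or_swap hj).resolve_left fun k => hg (P.mem_pair_of_fix hj k.1)

theorem swap_mul {g h : G} (hj : Commute g (d₁ * d₂)) (hj' : Commute h (d₁ * d₂))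
    (hg : g ∉ Subgroup.centralizer ({d₁, d₂} : Set G)) (hh : h ∉ Subgroup.centralizer ({d₁, d₂} : Set G)) :
    g * h ∈ Subgroup.centralizer ({d₁, d₂} : Set G) := by
  refine P.mem_pair_of_fix (hj.mul_left hj') ?_
  rw [show g * h * d₁ * (g * h)⁻¹ = g * (h * d₁ * h⁻¹) * g⁻¹ by simp [mul_assoc], (P.not_mem_swap hj' hh).1,
    (P.not_mem_swap hj hg).2]

/-- The elements fixing every class. -/
noncomputable def kerC : Subgroup G := (P.act.ker).map (Subgroup.centralizer ({d₁ * d₂} : Set G)).subtype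

theorem mem_kerC {g : G} : g ∈ P.kerC ↔ Commute g (d₁ * d₂) ∧ ∀ i, P.clsMap g i = i := by
  constructor
  · rintro ⟨x, hx, rfl⟩
    exact ⟨commute_of_mem x.2, fun i => congrArg (fun σ : ↥Twin.Aut45 => σ.1 i) (MonoidHom.mem_ker.1 hx)⟩
  · rintro ⟨h1, h2⟩
    exact ⟨⟨g, Subgroup.mem_centralizer_singleton_iff.mpr h1.eq⟩, MonoidHom.mem_ker.2 (Subtype.ext (Equiv.ext h2)),
      rfl⟩

theorem kerC_le : P.kerC ≤ Subgroup.centralizer ({d₁ * d₂} : Set G) := Subgroup.map_subtype_le _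

theorem kerC_normal {c x : G} (hc : Commute c (d₁ * d₂)) (hx : x ∈ P.kerC) : c * x * c⁻¹ ∈ P.kerC := by
  obtain ⟨h1, h2⟩ := P.mem_kerC.mp hx
  refine P.mem_kerC.mpr ⟨(hc.mul_left h1).mul_left hc.inv_left, fun i => ?_⟩
  rw [P.clsMap_mul (hc.mul_left h1) hc.inv_left, P.clsMap_mul hc h1, h2, ← P.clsMap_mul hc hc.inv_left,
    mul_inv_cancel, P.clsMap_one]

theorem cid_kerC {g u : G} (hg : g ∈ P.kerC) (hu : u ∈ common D d₁ d₂) : P.cid (g * u * g⁻¹) = P.cid u := by
  obtain ⟨h1, h2⟩ := P.mem_kerC.mp hg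
  rw [← P.clsMap_cid h1 hu, h2]

theorem card_pairCent : Nat.card ↥(Subgroup.centralizer ({d₁, d₂} : Set G)) = 26542080 := by
  have h := P.cls
  let S : Subgroup G := Subgroup.centralizer ({d₁} : Set G)
  let φ : ↥S →* ConjAct G := (ConjAct.toConjAct : G ≃* ConjAct G).toMonoidHom.comp S.subtype
  letI : MulAction ↥S G := MulAction.compHom G φ
  have hsmul : ∀ (s : ↥S) (x : G), s • x = (s : G) * x * (s : G)⁻¹ := fun s x => ConjAct.smul_def _ _
  have horb : MulAction.orbit ↥S d₂ = perp D d₁ := by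
    ext x
    constructor
    · rintro ⟨s, rfl⟩
      show s • d₂ ∈ _
      rw [hsmul]
      exact perp_conj' h (Subgroup.mem_centralizer_singleton_iff.mp s.2) P.perp'
    · intro hx
      obtain ⟨k, hk, e⟩ := lift_conj P.ctx P.mem P.perp' hx
      refine ⟨⟨k, Subgroup.mem_centralizer_singleton_iff.mpr (commute_self hk).eq⟩, ?_⟩
      show (⟨k, _⟩ : ↥S) • d₂ = x
      rw [hsmul]; exact e
  have hst : Nat.card ↥(MulAction.stabilizer ↥S d₂) = Nat.card ↥(Subgroup.centralizer ({d₁, d₂} : Set G)) := by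
    refine Nat.card_congr
      { toFun := fun s => ⟨s.1.1, mem_pairCent.mpr ⟨Subgroup.mem_centralizer_singleton_iff.mp s.1.2,
          commute_of_conj ((hsmul s.1 d₂).symm.trans s.2)⟩⟩
        invFun := fun g => ⟨⟨g.1, Subgroup.mem_centralizer_singleton_iff.mpr (mem_pairCent.mp g.2).1.eq⟩,
          (hsmul _ _).trans (conj_self_eq (mem_pairCent.mp g.2).2)⟩
        left_inv := fun s => rfl
        right_inv := fun g => rfl }
  have hc := Subgroup.index_mul_card (MulAction.stabilizer ↥S d₂)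
  rw [MulAction.index_stabilizer, horb, (counts P.ctx).perp693 d₁ P.mem, hst, card_centralizer P.ctx P.mem] at hc
  omega

theorem card_prodCent : Nat.card ↥(Subgroup.centralizer ({d₁ * d₂} : Set G)) = 53084160 ∧
    ((Subgroup.centralizer ({d₁, d₂} : Set G)).subgroupOf (Subgroup.centralizer ({d₁ * d₂} : Set G))).index = 2 := by
  obtain ⟨s, e1, e2⟩ := pair_conj P.ctx.set P.mem P.perp' P.mem₂ (perp_symm P.mem P.perp')
  have hsj : Commute s (d₁ * d₂) := commute_of_conj (by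
    rw [show s * (d₁ * d₂) * s⁻¹ = (s * d₁ * s⁻¹) * (s * d₂ * s⁻¹) by simp [mul_assoc], e1, e2, P.comm₁₂.eq])
  have hs : s ∉ Subgroup.centralizer ({d₁, d₂} : Set G) := fun k =>
    P.perp'.2.1 (by rw [← e1, conj_self_eq (mem_pairCent.mp k).1])
  have hidx : ((Subgroup.centralizer ({d₁, d₂} : Set G)).subgroupOf
      (Subgroup.centralizer ({d₁ * d₂} : Set G))).index = 2 := by
    rw [Subgroup.index_eq_two_iff]
    refine ⟨⟨s, Subgroup.mem_centralizer_singleton_iff.mpr hsj.eq⟩, fun b => ?_⟩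
    simp only [Subgroup.mem_subgroupOf, Subgroup.coe_mul]
    by_cases hb : (b : G) ∈ Subgroup.centralizer ({d₁, d₂} : Set G)
    · refine Or.inr ⟨hb, fun k => hs ?_⟩
      have := mul_mem (inv_mem hb) k
      simpa using this
    · exact Or.inl ⟨P.swap_mul (commute_of_mem b.2) hsj hb hs, hb⟩
  refine ⟨?_, hidx⟩
  have hc := Subgroup.index_mul_card ((Subgroup.centralizer ({d₁, d₂} : Set G)).subgroupOf
    (Subgroup.centralizer ({d₁ * d₂} : Set G)))
  rw [hidx, Nat.card_congr (Subgroup.subgroupOfEquivOfLe P.pair_le).toEquiv, P.card_pairCent] at hc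
  omega

theorem tau_range (i : Fin 45) : (⟨Twin.tau i, Twin.tau_mem i⟩ : ↥Twin.Aut45) ∈
    (P.act.comp (Subgroup.inclusion P.pair_le)).range := by
  have hu := P.rep_mem i
  refine ⟨⟨P.rep i, mem_pairCent.mpr ⟨hu.1.2.2.symm, hu.2.2.2.symm⟩⟩, ?_⟩
  show P.act ⟨P.rep i, _⟩ = _
  rw [P.act_member hu]
  simp [P.cid_rep]

theorem card_inf_dvd : Nat.card ↥(P.kerC ⊓ Subgroup.centralizer ({d₁, d₂} : Set G)) ∣ 1024 := by
  let f := P.act.comp (Subgroup.inclusion P.pair_le)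
  have hk : Nat.card ↥f.ker = Nat.card ↥(P.kerC ⊓ Subgroup.centralizer ({d₁, d₂} : Set G)) := by
    refine Nat.card_congr
      { toFun := fun x => ⟨x.1.1, ⟨⟨Subgroup.inclusion P.pair_le x.1, x.2, rfl⟩, x.1.2⟩⟩
        invFun := fun g => ⟨⟨g.1, g.2.2⟩, by
          obtain ⟨x, hx, e⟩ := g.2.1
          show P.act (Subgroup.inclusion P.pair_le ⟨g.1, g.2.2⟩) = 1
          rw [show Subgroup.inclusion P.pair_le ⟨g.1, g.2.2⟩ = x from Subtype.ext e.symm]
          exact hx⟩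
        left_inv := fun x => rfl
        right_inv := fun g => rfl }
  have h1 := Subgroup.card_eq_card_quotient_mul_card_subgroup f.ker
  rw [Nat.card_congr (QuotientGroup.quotientKerEquivRange f).toEquiv, P.card_pairCent, hk] at h1
  obtain ⟨m, hm⟩ : 25920 ∣ Nat.card ↥f.range := by
    rw [← Twin.card_omega]
    exact Subgroup.card_dvd_of_le (Twin.omega_le P.tau_range)
  rw [hm, mul_assoc] at h1
  exact ⟨m, by
    have : 1024 = m * Nat.card ↥(P.kerC ⊓ Subgroup.centralizer ({d₁, d₂} : Set G)) := by omega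
    rw [this, mul_comm]⟩

theorem pow_inf {g : G} (h1 : g ∈ P.kerC) (h2 : g ∈ Subgroup.centralizer ({d₁, d₂} : Set G)) :
    g ^ 1024 = 1 := by
  have h : orderOf (⟨g, Subgroup.mem_inf.mpr ⟨h1, h2⟩⟩ : ↥(P.kerC ⊓ Subgroup.centralizer ({d₁, d₂} : Set G))) ∣ 1024 :=
    (orderOf_dvd_natCard _).trans P.card_inf_dvd
  rw [Subgroup.orderOf_mk] at h
  exact orderOf_dvd_iff_pow_eq_one.mp h

/-- The permutation of three points. -/
theorem exists_twinPerm {w : G} (M : Model D w)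
    (bwd : ∀ s, 1 ≤ s → s < 4 → M.pt (linePt s) ∈ common D d₁ d₂ ∧ P.cid (M.pt (linePt s)) = P.cid w ∧
      M.pt (linePt s) ≠ w)
    (fwd : ∀ x ∈ common D d₁ d₂, P.cid x = P.cid w → x ≠ w → ∃ s, 1 ≤ s ∧ s < 4 ∧ M.pt (linePt s) = x)
    (hw : w ∈ common D d₁ d₂) {g : G} (hg : Commute g (d₁ * d₂)) (hgw : g * w * g⁻¹ = w) :
    ∃ π : Equiv.Perm (Fin 3),
      ∀ s : Fin 3, g * M.pt (linePt (s + 1)) * g⁻¹ = M.pt (linePt ((π s : Fin 3) + 1)) := by
  have ex : ∀ s : Fin 3, ∃ t : Fin 3, g * M.pt (linePt (s + 1)) * g⁻¹ = M.pt (linePt (t + 1)) := by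
    intro s
    obtain ⟨h1, h2, h3⟩ := bwd (s + 1) (by omega) (by omega)
    have e : P.cid (g * M.pt (linePt (s + 1)) * g⁻¹) = P.cid w := by
      rw [← P.clsMap_cid hg h1, h2, P.clsMap_cid hg hw, hgw]
    obtain ⟨t, t1, t4, et⟩ := fwd _ (P.conj_common hg h1) e fun k => h3 (mul_left_cancel (mul_right_cancel (k.trans hgw.symm)))
    exact ⟨⟨t - 1, by omega⟩, by rw [← et]; congr 2; simp; omega⟩
  choose f hf using ex
  have hinj : Function.Injective f := by
    intro s t e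
    have e' : M.pt (linePt (s + 1)) = M.pt (linePt (t + 1)) := by
      have := (hf s).trans ((congrArg (fun r : Fin 3 => M.pt (linePt (r + 1))) e).trans (hf t).symm)
      exact mul_left_cancel (mul_right_cancel this)
    obtain ⟨h1, -, -, -, -, -, hu⟩ := linePt_facts (s := (t : ℕ) + 1) (by omega) (by omega)
    obtain ⟨h1', -⟩ := linePt_facts (s := (s : ℕ) + 1) (by omega) (by omega)
    have := hu (s + 1) (by omega) (by omega) (M.inj _ _ h1' h1 e')
    exact Fin.ext (by omega)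
  exact ⟨Equiv.ofBijective f (Finite.injective_iff_bijective.mp hinj), hf⟩

/-- An element of the two-part fixing a member fixes its twins. -/
theorem inf_fix {g w x : G} (h1 : g ∈ P.kerC) (h2 : g ∈ Subgroup.centralizer ({d₁, d₂} : Set G))
    (hw : w ∈ common D d₁ d₂) (hgw : g * w * g⁻¹ = w) (hx : x ∈ common D d₁ d₂) (hxw : P.cid x = P.cid w) :
    g * x * g⁻¹ = x := by
  by_cases hne : x = w
  · subst hne; exact hgw
  obtain ⟨M, e0, e1, fwd, bwd⟩ := P.twins hw
  obtain ⟨π, hπ⟩ := P.exists_twinPerm M bwd fwd hw (commute_of_mem (P.kerC_le h1)) hgw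
  have hpow : ∀ (n : ℕ) (s : Fin 3),
      g ^ n * M.pt (linePt (s + 1)) * (g ^ n)⁻¹ = M.pt (linePt (((π ^ n) s : Fin 3) + 1)) := by
    intro n
    induction n with
    | zero => intro s; simp
    | succ n ih =>
      intro s
      rw [pow_succ' g, pow_succ' π, Equiv.Perm.mul_apply, ← hπ, ← ih]
      simp [mul_assoc]
  have h1024 : π ^ 1024 = 1 := Equiv.ext fun s => by
    have e := hpow 1024 s
    rw [P.pow_inf h1 h2, one_mul, inv_one, mul_one] at e
    obtain ⟨k1, -, -, -, -, -, hu⟩ := linePt_facts (s := ((π ^ 1024) s : ℕ) + 1) (by omega) (by omega)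
    obtain ⟨k2, -⟩ := linePt_facts (s := (s : ℕ) + 1) (by omega) (by omega)
    have := hu (s + 1) (by omega) (by omega) (M.inj _ _ k2 k1 e)
    rw [Equiv.Perm.one_apply]
    exact Fin.ext (by omega)
  have h6 : π ^ 6 = 1 := by
    have := pow_card_eq_one (x := π)
    rwa [Fintype.card_perm, Fintype.card_fin] at this
  have hsq : π * π = 1 := by
    have := (Nat.dvd_gcd (orderOf_dvd_of_pow_eq_one h1024) (orderOf_dvd_of_pow_eq_one h6))
    rw [← pow_two]
    exact orderOf_dvd_iff_pow_eq_one.mp this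
  obtain ⟨s, hs⟩ := involutive_fixed π hsq
  have hgP : g ∈ PerpGroup D w := by
    rw [← centralizer_eq P.ctx hw.1.1]
    exact Subgroup.mem_centralizer_singleton_iff.mpr (commute_of_conj hgw).eq
  obtain ⟨t, t1, t4, rfl⟩ := fwd x hx hxw hne
  refine M.line_fix P.cls hgP (by rw [e0]; exact conj_self_eq (mem_pairCent.mp h2).1)
    (by rw [e1]; exact conj_self_eq (mem_pairCent.mp h2).2) (k := (s : ℕ) + 1) (by omega) (by omega) ?_ t1 t4
  rw [hπ s, hs]

/-- Fixing a member and its twins fixes the pair. -/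
theorem pair_of_twins {g w : G} (hg : Commute g (d₁ * d₂)) (hw : w ∈ common D d₁ d₂) (hgw : g * w * g⁻¹ = w)
    (h : ∀ x ∈ common D d₁ d₂, P.cid x = P.cid w → g * x * g⁻¹ = x) :
    g ∈ Subgroup.centralizer ({d₁, d₂} : Set G) := by
  obtain ⟨M, e0, -, -, bwd⟩ := P.twins hw
  refine P.mem_pair_of_fix hg ?_
  rw [← e0]
  refine M.line_fix' P.cls ?_ fun s h1 h4 => ?_
  · rw [← centralizer_eq P.ctx hw.1.1]
    exact Subgroup.mem_centralizer_singleton_iff.mpr (commute_of_conj hgw).eq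
  · obtain ⟨k1, k2, -⟩ := bwd s h1 h4
    exact h _ k1 k2

/-- A pairwise product of twins fixes every class. -/
theorem prod_mem {u v : G} (hu : u ∈ common D d₁ d₂) (hv : v ∈ common D d₁ d₂) (e : P.cid u = P.cid v) :
    u * v ∈ P.kerC ∧ u * v ∈ Subgroup.centralizer ({d₁, d₂} : Set G) ∧ (u * v) * (u * v) = 1 := by
  refine ⟨P.mem_kerC.mpr ⟨(P.commute_member hu).mul_left (P.commute_member hv), fun i => ?_⟩,
    mem_pairCent.mpr ⟨hu.1.2.2.symm.mul_left hv.1.2.2.symm, hu.2.2.2.symm.mul_left hv.2.2.2.symm⟩, ?_⟩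
  · rw [P.clsMap_mul (P.commute_member hu) (P.commute_member hv), P.clsMap_member hu, P.clsMap_member hv, e,
      Twin.tau_apply, Twin.tau_apply, Twin.tau_inv]
  · have huv : Commute u v := ((P.cid_eq_iff hu hv).mp e u hu).mp (Commute.refl u)
    rw [mul_assoc, ← mul_assoc v u v, ← huv.eq, mul_assoc u v v, mul_self P.cls.1 hv.1.1, mul_one,
      mul_self P.cls.1 hu.1.1]

/-- The two-part is transitive on each class. -/
theorem move_class {x y : G} (hx : x ∈ common D d₁ d₂) (hy : y ∈ common D d₁ d₂) (e : P.cid x = P.cid y) :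
    ∃ f, f ∈ P.kerC ∧ f ∈ Subgroup.centralizer ({d₁, d₂} : Set G) ∧ f * f = 1 ∧ f * x * f⁻¹ = y := by
  by_cases hxy : x = y
  · exact ⟨1, one_mem _, one_mem _, one_mul 1, by simp [hxy]⟩
  obtain ⟨c, hc, rfl⟩ := P.cid_spec hx
  obtain ⟨d, hd, rfl⟩ := P.cid_spec hy
  rw [← e] at hd
  obtain ⟨i, hi⟩ : ∃ i, i = P.cid (P.num.pt c) := ⟨_, rfl⟩
  rw [← hi] at hc hd
  have h := List.all_eq_true.1 wit_ok i (List.mem_range.2 i.2)
  simp only [Bool.and_eq_true, List.all_eq_true] at h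
  have h' := h.2 c hc d hd
  simp only [Bool.or_eq_true, List.any_eq_true, Bool.and_eq_true] at h'
  rcases h' with h' | ⟨a, ha, b, hb, -, h'⟩
  · exact absurd (by rw [Nat.eq_of_beq_eq_true h']) hxy
  obtain ⟨k, hk⟩ : ∃ k : Fin 45, (k : ℕ) = twinWit.getD i 45 :=
    ⟨⟨_, Nat.le_of_ble_eq_true h.1⟩, rfl⟩
  rw [← hk] at ha hb
  have hua := P.pt_common ha
  have hub := P.pt_common hb
  obtain ⟨k1, k2, k3⟩ := P.prod_mem hua hub (by rw [P.cid_pt ha, P.cid_pt hb])
  refine ⟨_, k1, k2, k3, ?_⟩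
  obtain ⟨q1, q2⟩ := P.num.conj b c (cls_facts hb).1 (cls_facts hc).1
  obtain ⟨-, q4⟩ := P.num.conj a (refl b c) (cls_facts ha).1 q1
  rw [← Nat.eq_of_beq_eq_true h', ← q4, ← q2, mul_inv_rev, inv_eq P.cls.1 hua.1.1, inv_eq P.cls.1 hub.1.1]
  simp [mul_assoc]

/-- A kernel element fixes the pair. -/
theorem kerC_le_pair : P.kerC ≤ Subgroup.centralizer ({d₁, d₂} : Set G) := by
  intro h₀ h₀E
  by_contra h₀K
  have hw := P.rep_mem 0
  obtain ⟨w, hwdef⟩ : ∃ w, w = P.rep 0 := ⟨_, rfl⟩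
  rw [← hwdef] at hw
  have hj₀ := (P.mem_kerC.mp h₀E).1
  obtain ⟨f, f1, f2, -, f4⟩ := P.move_class (P.conj_common hj₀ hw) hw (P.cid_kerC h₀E hw)
  obtain ⟨h, hdef⟩ : ∃ h, h = f * h₀ := ⟨_, rfl⟩
  have hE : h ∈ P.kerC := hdef ▸ mul_mem f1 h₀E
  have hK : h ∉ Subgroup.centralizer ({d₁, d₂} : Set G) := fun k => h₀K (by
    have := mul_mem (inv_mem f2) k
    simpa [hdef] using this)
  have hhw : h * w * h⁻¹ = w := by
    rw [hdef, show f * h₀ * w * (f * h₀)⁻¹ = f * (h₀ * w * h₀⁻¹) * f⁻¹ by simp [mul_assoc], f4]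
  have hj := (P.mem_kerC.mp hE).1
  obtain ⟨M, e0, e1, fwd, bwd⟩ := P.twins hw
  obtain ⟨π, hπ⟩ := P.exists_twinPerm M bwd fwd hw hj hhw
  have hz : ∀ a b : Fin 3, M.pt (linePt (a + 1)) = M.pt (linePt (b + 1)) → a = b := fun a b e => by
    obtain ⟨k1, -, -, -, -, -, hu⟩ := linePt_facts (s := (b : ℕ) + 1) (by omega) (by omega)
    obtain ⟨k2, -⟩ := linePt_facts (s := (a : ℕ) + 1) (by omega) (by omega)
    have := hu (a + 1) (by omega) (by omega) (M.inj _ _ k2 k1 e)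
    exact Fin.ext (by omega)
  have hsq : π * π = 1 := Equiv.ext fun s => hz _ _ (by
    obtain ⟨k1, k2, -⟩ := bwd (s + 1) (by omega) (by omega)
    have := P.inf_fix (mul_mem hE hE) (P.swap_mul hj hj hK hK) hw
      (by rw [show h * h * w * (h * h)⁻¹ = h * (h * w * h⁻¹) * h⁻¹ by simp [mul_assoc], hhw, hhw]) k1 k2
    rw [Equiv.Perm.one_apply, Equiv.Perm.mul_apply, ← hπ, ← hπ]
    conv_rhs => rw [← this]
    simp [mul_assoc])
  obtain ⟨s, hs⟩ := involutive_fixed π hsq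
  -- conjugate by a word cycling the three twins
  have he3 := e3_ok
  simp only [Bool.and_eq_true, List.all_eq_true] at he3
  obtain ⟨τ, hτP, hτ⟩ := M.word P.cls e3 he3.1.1.1.1.1.1
  have hτw : τ * w * τ⁻¹ = w := conj_self_eq (Model.commute_perp hτP)
  have hτ0 : τ * d₁ * τ⁻¹ = d₁ := by
    rw [← e0, (hτ _ Model.pt_b0).2, Nat.eq_of_beq_eq_true he3.1.1.1.1.1.2]
  have hτ1 : τ * d₂ * τ⁻¹ = d₂ := by
    rw [← e1, (hτ _ Model.pt_b1).2, Nat.eq_of_beq_eq_true he3.1.1.1.1.2]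
  have hτj : Commute τ (d₁ * d₂) := (commute_of_conj hτ0).mul_right (commute_of_conj hτ1)
  obtain ⟨u, hudef⟩ : ∃ u, u = τ * h * τ⁻¹ := ⟨_, rfl⟩
  have huE : u ∈ P.kerC := hudef ▸ P.kerC_normal hτj hE
  have huK : u ∉ Subgroup.centralizer ({d₁, d₂} : Set G) := fun k => hK (by
    have hm : τ ∈ Subgroup.centralizer ({d₁, d₂} : Set G) :=
      mem_pairCent.mpr ⟨commute_of_conj hτ0, commute_of_conj hτ1⟩
    have := mul_mem (mul_mem (inv_mem hm) k) hm
    simpa [hudef, mul_assoc] using this)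
  have huw : u * w * u⁻¹ = w :=
    conj_self_eq (hudef ▸ ((commute_of_conj hτw).mul_left (commute_of_conj hhw)).mul_left
      (commute_of_conj hτw).inv_left)
  obtain ⟨z, hzdef⟩ : ∃ z, z = M.pt (linePt (s + 1)) := ⟨_, rfl⟩
  obtain ⟨z', hz'def⟩ : ∃ z', z' = τ * z * τ⁻¹ := ⟨_, rfl⟩
  obtain ⟨-, -, -, -, -, ⟨t, t1, t4, tne, te⟩, -⟩ := linePt_facts (s := (s : ℕ) + 1) (by omega) (by omega)
  have hz't : z' = M.pt (linePt t) := by
    rw [hz'def, hzdef, (hτ _ (linePt_facts (s := (s : ℕ) + 1) (by omega) (by omega)).1).2, te]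
  have huz : u * z' * u⁻¹ = z' := by
    have e' : h * z * h⁻¹ = z := by rw [hzdef, hπ, hs]
    rw [hudef, hz'def, show τ * h * τ⁻¹ * (τ * z * τ⁻¹) * (τ * h * τ⁻¹)⁻¹ = τ * (h * z * h⁻¹) * τ⁻¹ by
      simp [mul_assoc], e']
  have hagree : h * z' * h⁻¹ = z' := by
    obtain ⟨k1, k2, -⟩ := bwd t t1 t4
    have hfix := P.inf_fix (mul_mem hE huE) (P.swap_mul hj (P.mem_kerC.mp huE).1 hK huK) hw
      (by rw [show h * u * w * (h * u)⁻¹ = h * (u * w * u⁻¹) * h⁻¹ by simp [mul_assoc], huw, hhw]) k1 k2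
    rw [← hz't, show h * u * z' * (h * u)⁻¹ = h * (u * z' * u⁻¹) * h⁻¹ by simp [mul_assoc], huz] at hfix
    exact hfix
  have ht : π ⟨t - 1, by omega⟩ = ⟨t - 1, by omega⟩ := hz _ _ (by
    rw [← hπ]
    have et : t - 1 + 1 = t := by omega
    simp only [et]
    rw [← hz't]
    exact hagree)
  have hone := two_fixed π s ⟨t - 1, by omega⟩ (fun e => tne (by rw [e]; simp; omega)) hs ht
  refine hK (P.pair_of_twins hj hw hhw fun x hx hxw => ?_)
  by_cases hne : x = w
  · subst hne; exact hhw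
  obtain ⟨r, r1, r4, rfl⟩ := fwd x hx hxw hne
  have := hπ ⟨r - 1, by omega⟩
  have er : r - 1 + 1 = r := by omega
  simpa [hone, er] using this

theorem card_kerC : Nat.card ↥P.kerC = 1024 ∧ Function.Surjective P.act := by
  have hd := P.card_inf_dvd
  rw [inf_eq_left.mpr P.kerC_le_pair] at hd
  have hle := Nat.le_of_dvd (by norm_num) hd
  have h1 := Subgroup.card_eq_card_quotient_mul_card_subgroup P.act.ker
  rw [Nat.card_congr (QuotientGroup.quotientKerEquivRange P.act).toEquiv, P.card_prodCent.1,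
    show Nat.card ↥P.act.ker = Nat.card ↥P.kerC from
      (Subgroup.card_subtype (Subgroup.centralizer ({d₁ * d₂} : Set G)) P.act.ker).symm] at h1
  have h2 : Nat.card ↥P.act.range ≤ 51840 := Twin.card_aut ▸ Subgroup.card_le_card_group _
  have h3 : Nat.card ↥P.act.range * Nat.card ↥P.kerC ≤ 51840 * Nat.card ↥P.kerC := Nat.mul_le_mul_right _ h2
  have e : Nat.card ↥P.kerC = 1024 := by omega
  rw [e] at h1
  refine ⟨e, MonoidHom.range_eq_top.mp (Subgroup.eq_top_of_card_eq _ ?_)⟩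
  rw [Twin.card_aut]
  omega

end PairData

end Cfsg.Agent.Block.FischerTypes.M22
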