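import Cfsg.Agent.Lib.Block.FischerTypes.M22Counts

/-! The perpendicular groups of type M(22) are quasisimple, from the local facts alone. -/

set_option autoImplicit false
set_option linter.style.haveILetI false
set_option linter.unusedSectionVars false

namespace Cfsg.Agent.Block.FischerTypes.M22

open Cfsg Cfsg.Agent.Spor.ThreeTrans

variable {G : Type*} [Group G] [Finite G] {D : Set G} (C : Ctx D)
include C

theorem hasModel_ctx {a : G} (ha : a ∈ D) : HasModel D a := by
  obtain ⟨F, i, j, h4, Φ, hsurj, -, -, -, -, hker⟩ := C.mdl a ha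
  haveI := (psu_six h4).1
  obtain ⟨-, x₀, y₀, hxy⟩ := psu_six h4
  have hbot : Subgroup.center (PSU 6 F 2) = ⊥ :=
    (Subgroup.Normal.eq_bot_or_eq_top inferInstance).resolve_right fun ht =>
      hxy (Subgroup.mem_center_iff.mp (ht ▸ Subgroup.mem_top x₀) y₀).symm
  have hk : Φ.ker = Subgroup.center ↥(PerpGroup D a) := by
    refine le_antisymm (fun g hg => hker g hg) fun g hg => ?_
    rw [MonoidHom.mem_ker, ← Subgroup.mem_bot, ← hbot, Subgroup.mem_center_iff]
    intro x
    obtain ⟨x, rfl⟩ := hsurj x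
    rw [← map_mul, ← map_mul, Subgroup.mem_center_iff.mp hg x]
  exact ⟨F, i, j, h4,
    ⟨(QuotientGroup.quotientMulEquivOfEq hk.symm).trans (QuotientGroup.quotientKerEquivOfSurjective Φ hsurj)⟩⟩

theorem perfect {a : G} (ha : a ∈ D) : commutator ↥(PerpGroup D a) = ⊤ := by
  have h := C.set.cls
  obtain ⟨c, hc⟩ := apart_nonempty C.set.hyp ha
  have hac : ¬ Commute a c := fun k => hc.2 k.symm
  obtain ⟨⟨m₅, hl₅, hm₅, he₅⟩, ⟨m₆, hl₆, hm₆, he₆⟩⟩ :=
    five_six C.set C.cen C.hex (fun x hx => hasModel_ctx C hx) ha hc.1 hac (C.meets a ha c hc.1 hac)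
  obtain ⟨u₀, hu₀⟩ := C.set.perp_ne a ha
  let f := QuotientGroup.mk' (commutator ↥(PerpGroup D a))
  have hconst : ∀ x (hx : x ∈ perp D a), f (el hx) = f (el hu₀) := fun x hx => by
    obtain ⟨g, hg, e'⟩ := lift_conj C ha hu₀ hx
    have e'' : el hx = ⟨g, hg⟩ * el hu₀ * (⟨g, hg⟩ : ↥(PerpGroup D a))⁻¹ := Subtype.ext e'.symm
    refine (QuotientGroup.eq_iff_div_mem).mpr ?_
    rw [e'', div_eq_mul_inv]
    exact Subgroup.commutator_mem_commutator (Subgroup.mem_top _) (Subgroup.mem_top _)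
  have lift : ∀ l : List G, (hl : ∀ x ∈ l, x ∈ perp D a) → ∀ hp : l.prod ∈ PerpGroup D a,
      f ⟨l.prod, hp⟩ = f (el hu₀) ^ l.length := by
    intro l
    induction l with
    | nil =>
      exact fun _ hp => by
        rw [show (⟨_, hp⟩ : ↥(PerpGroup D a)) = 1 from Subtype.ext rfl, map_one, List.length_nil, pow_zero]
    | cons x l ih =>
      intro hl hp
      have hx := hl x List.mem_cons_self
      have hl' := fun y hy => hl y (List.mem_cons_of_mem _ hy)
      rw [show (⟨_, hp⟩ : ↥(PerpGroup D a)) = el hx *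
        ⟨l.prod, list_prod_mem fun y hy => Subgroup.subset_closure (hl' y hy)⟩ from
          Subtype.ext List.prod_cons, map_mul, ih hl' _, hconst x hx, List.length_cons, pow_succ']
  have e5 := lift m₅ hm₅ (by rw [he₅]; exact C.self a ha)
  have e6 := lift m₆ hm₆ (by rw [he₆]; exact C.self a ha)
  have e56 : f (el hu₀) ^ 5 = f (el hu₀) ^ 6 := by
    rw [← hl₅, ← e5]
    conv_rhs => rw [← hl₆, ← e6]
    exact congrArg f (Subtype.ext (he₅.trans he₆.symm))
  have hs : f (el hu₀) = 1 := by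
    rw [pow_succ _ 5] at e56
    exact left_eq_mul.mp e56
  rw [eq_top_iff]
  rintro ⟨g, hg⟩ -
  rw [← QuotientGroup.eq_one_iff]
  show f ⟨g, hg⟩ = 1
  induction hg using Subgroup.closure_induction with
  | mem u hu => exact (hconst u hu).trans hs
  | one => exact map_one f
  | mul u v hu hv ihu ihv =>
    exact (map_mul f (⟨u, hu⟩ : ↥(PerpGroup D a)) ⟨v, hv⟩).trans (by rw [ihu, ihv, one_mul])
  | inv u hu ih => exact (map_inv f (⟨u, hu⟩ : ↥(PerpGroup D a))).trans (by rw [ih, inv_one])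

end Cfsg.Agent.Block.FischerTypes.M22
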