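import Cfsg.Agent.Lib.Block.FischerTypes.M22Counts

/-! Products of three commuting transpositions in type M(22). -/

set_option autoImplicit false
set_option linter.style.haveILetI false
set_option linter.unusedSectionVars false

namespace Cfsg.Agent.Block.FischerTypes.M22

open Cfsg Cfsg.Agent.Spor.ThreeTrans

variable {G : Type*} [Group G] [Finite G] {D : Set G} (C : Ctx D)
include C

/-- The group is transitive on ordered commuting triples. -/
theorem trans_three {a b c a' b' c' : G} (ha : a ∈ D) (hb : b ∈ perp D a) (hc : c ∈ common D a b)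
    (ha' : a' ∈ D) (hb' : b' ∈ perp D a') (hc' : c' ∈ common D a' b') :
    ∃ g : G, g * a * g⁻¹ = a' ∧ g * b * g⁻¹ = b' ∧ g * c * g⁻¹ = c' := by
  have h := C.set.cls
  obtain ⟨g, e1, e2⟩ := pair_conj C.set ha hb ha' hb'
  have h1 : g * c * g⁻¹ ∈ perp D a' := by rw [← e1]; exact (conj_mem_perp h g a).mpr hc.1
  have h2 : g * c * g⁻¹ ∈ perp D b' := by rw [← e2]; exact (conj_mem_perp h g b).mpr hc.2
  obtain ⟨k, k1, k2, e3⟩ := lift_conj_fix C ha' hb' h1 hc'.1 h2 hc'.2
  refine ⟨k * g, ?_, ?_, ?_⟩
  · rw [show k * g * a * (k * g)⁻¹ = k * (g * a * g⁻¹) * k⁻¹ by simp [mul_assoc], e1,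
      conj_self_eq (commute_self k1)]
  · rw [show k * g * b * (k * g)⁻¹ = k * (g * b * g⁻¹) * k⁻¹ by simp [mul_assoc], e2,
      conj_self_eq (commute_self k2)]
  · rw [show k * g * c * (k * g)⁻¹ = k * (g * c * g⁻¹) * k⁻¹ by simp [mul_assoc], e3]

/-- The ordered commuting triples. -/
def tripleLists (D : Set G) : Set (List G) := {l | Fact' D 3 l.prod l}

omit C in
omit [Finite G] in
theorem fact_iff {a b c : G} (_ : IsThreeTranspositionClass D) :
    Fact' D 3 [a, b, c].prod [a, b, c] ↔ a ∈ D ∧ b ∈ perp D a ∧ c ∈ common D a b := by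
  constructor
  · rintro ⟨hn, -, hm, hc, -⟩
    simp only [List.nodup_cons, List.mem_cons, List.not_mem_nil, or_false, not_or, List.nodup_nil,
      not_false_eq_true, and_true] at hn
    obtain ⟨⟨hab, hac⟩, hbc⟩ := hn
    exact ⟨hm a (by simp), ⟨hm b (by simp), Ne.symm hab, hc a (by simp) b (by simp)⟩,
      ⟨hm c (by simp), Ne.symm hac, hc a (by simp) c (by simp)⟩,
      ⟨hm c (by simp), Ne.symm hbc, hc b (by simp) c (by simp)⟩⟩
  · rintro ⟨ha, hb, hc⟩
    refine ⟨by simp [Ne.symm hb.2.1, Ne.symm hc.1.2.1, Ne.symm hc.2.2.1], rfl, by simp [ha, hb.1, hc.1.1],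
      ?_, rfl⟩
    simp only [List.mem_cons, List.not_mem_nil, or_false]
    rintro x (rfl | rfl | rfl) y (rfl | rfl | rfl)
    exacts [.refl _, hb.2.2, hc.1.2.2, hb.2.2.symm, .refl _, hc.2.2.2, hc.1.2.2.symm, hc.2.2.2.symm, .refl _]

theorem card_tripleLists : (tripleLists D).ncard = 3510 * (693 * 180) := by
  classical
  have K := counts C
  let P := fun a : G => (perp D a).toFinite.toFinset
  let Q := fun a b : G => (common D a b).toFinite.toFinset
  let T := D.toFinite.toFinset.sigma fun a => (P a).sigma fun b => Q a b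
  have hcard : T.card = 3510 * (693 * 180) := by
    have h1 : ∀ a ∈ D.toFinite.toFinset, ((P a).sigma fun b => Q a b).card = 693 * 180 := by
      intro a ha
      rw [Set.Finite.mem_toFinset] at ha
      rw [Finset.card_sigma, Finset.sum_congr rfl fun b hb => show (Q a b).card = 180 from by
        rw [← Set.ncard_eq_toFinset_card]; exact K.common180 a ha b ((Set.Finite.mem_toFinset _).mp hb),
        Finset.sum_const, ← Set.ncard_eq_toFinset_card, K.perp693 a ha, smul_eq_mul]
    rw [Finset.card_sigma, Finset.sum_congr rfl h1, Finset.sum_const, ← Set.ncard_eq_toFinset_card, K.all,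
      smul_eq_mul]
  let f : (Σ _ : G, Σ _ : G, G) → List G := fun t => [t.1, t.2.1, t.2.2]
  have he : tripleLists D = f '' (↑T : Set _) := by
    ext l
    constructor
    · intro hl
      obtain ⟨a, b, c, rfl⟩ := List.length_eq_three.mp hl.2.1
      obtain ⟨ha, hb, hc⟩ := (fact_iff C.set.cls).mp hl
      exact ⟨⟨a, b, c⟩, by simp [T, P, Q, ha, hb, hc], rfl⟩
    · rintro ⟨⟨a, b, c⟩, ht, rfl⟩
      simp only [T, P, Q, Finset.mem_coe, Finset.mem_sigma, Set.Finite.mem_toFinset] at ht
      exact (fact_iff C.set.cls).mpr ht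
  rw [he, Set.ncard_image_of_injective, Set.ncard_coe_finset, hcard]
  rintro ⟨a, b, c⟩ ⟨a', b', c'⟩ e
  simp only [f, List.cons.injEq, and_true] at e
  obtain ⟨rfl, rfl, rfl⟩ := e
  rfl

theorem card_fibre {j : G} {l₀ : List G} (hl₀ : Fact' D 3 j l₀) :
    {l | Fact' D 3 j l}.ncard = 12 := by
  classical
  obtain ⟨l₁, l₂, h1, h2, hne, hall⟩ := triples C.set C.cen C.hex j l₀ hl₀
  have e : {l | Fact' D 3 j l} = {l | l.Perm l₁} ∪ {l | l.Perm l₂} := by
    ext l
    constructor
    · intro hl
      rcases hall l hl with k | k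
      · exact Or.inl ((List.perm_ext_iff_of_nodup hl.1 h1.1).mpr k)
      · exact Or.inr ((List.perm_ext_iff_of_nodup hl.1 h2.1).mpr k)
    · rintro (hp | hp)
      on_goal 1 => rename' h1 => h0
      on_goal 2 => rename' h2 => h0
      all_goals
        refine ⟨hp.nodup_iff.mpr h0.1, hp.length_eq.trans h0.2.1, fun x hx => h0.2.2.1 x (hp.subset hx),
          fun x hx y hy => h0.2.2.2.1 x (hp.subset hx) y (hp.subset hy), ?_⟩
        rw [hp.prod_eq' (List.pairwise_of_forall_mem_list fun x hx y hy =>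
          h0.2.2.2.1 x (hp.subset hx) y (hp.subset hy))]
        exact h0.2.2.2.2
  have six : ∀ {m : List G}, m.Nodup → m.length = 3 → {l : List G | l.Perm m}.ncard = 6 := by
    intro m hm hlen
    rw [show {l : List G | l.Perm m} = ↑m.permutations.toFinset from Set.ext fun l => by
        simp [List.mem_permutations], Set.ncard_coe_finset,
      List.toFinset_card_of_nodup (List.nodup_permutations _ hm), List.length_permutations, hlen]
    rfl
  have hf : ∀ {m : List G}, {l : List G | l.Perm m}.Finite := fun {m} => by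
    rw [show {l : List G | l.Perm m} = ↑m.permutations.toFinset from Set.ext fun l => by
        simp [List.mem_permutations]]
    exact Finset.finite_toSet _
  rw [e, Set.ncard_union_eq (Set.disjoint_left.mpr fun l k1 k2 => hne fun x => ?_) hf hf,
    six h1.1 h1.2.1, six h2.1 h2.2.1]
  exact k1.mem_iff.symm.trans k2.mem_iff

/-- The products of three commuting members are conjugate. -/
theorem triple_conj {j j' : G} {l l' : List G} (hl : Fact' D 3 j l) (hl' : Fact' D 3 j' l') :
    ∃ g : G, g * j * g⁻¹ = j' := by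
  obtain ⟨a, b, c, rfl⟩ := List.length_eq_three.mp hl.2.1
  obtain ⟨a', b', c', rfl⟩ := List.length_eq_three.mp hl'.2.1
  obtain rfl := hl.2.2.2.2
  obtain rfl := hl'.2.2.2.2
  obtain ⟨ha, hb, hc⟩ := (fact_iff C.set.cls).mp hl
  obtain ⟨ha', hb', hc'⟩ := (fact_iff C.set.cls).mp hl'
  obtain ⟨g, rfl, rfl, rfl⟩ := trans_three C ha hb hc ha' hb' hc'
  exact ⟨g, by simp [mul_assoc]⟩

/-- The centraliser of a product of three commuting members. -/
theorem card_centralizer_triple {j : G} {l₀ : List G} (hl₀ : Fact' D 3 j l₀) :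
    Nat.card ↥(Subgroup.centralizer ({j} : Set G)) = 2 ^ 16 * 3 ^ 3 := by
  classical
  have horb : ∀ j', j' ∈ MulAction.orbit (ConjAct G) j ↔ ∃ l, Fact' D 3 j' l := by
    intro j'
    constructor
    · rintro ⟨g, rfl⟩
      simp only [ConjAct.smul_def]
      obtain ⟨hn, hlen, hm, hc, hp⟩ := hl₀
      refine ⟨l₀.map (MulAut.conj (ConjAct.ofConjAct g)), hn.map (MulEquiv.injective _), by simpa,
        ?_, ?_, ?_⟩
      · intro x hx
        obtain ⟨y, hy, rfl⟩ := List.mem_map.mp hx
        exact conj_mem C.set.cls _ (hm y hy)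
      · intro x hx z hz
        obtain ⟨y, hy, rfl⟩ := List.mem_map.mp hx
        obtain ⟨w, hw, rfl⟩ := List.mem_map.mp hz
        exact (hc y hy w hw).map _
      · rw [← map_list_prod, hp]; rfl
    · rintro ⟨l, hl⟩
      obtain ⟨g, rfl⟩ := triple_conj C hl₀ hl
      exact ⟨ConjAct.toConjAct g, by simp [ConjAct.smul_def]⟩
  have hTf : (tripleLists D).Finite := Set.finite_of_ncard_ne_zero (by rw [card_tripleLists C]; norm_num)
  have hO : (MulAction.orbit (ConjAct G) j).Finite := Set.toFinite _
  have hfib := Finset.card_eq_sum_card_fiberwise (s := hTf.toFinset) (t := hO.toFinset) (f := List.prod)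
    (fun l hl => by
      simp only [Finset.mem_coe, Set.Finite.mem_toFinset] at hl ⊢
      exact (horb _).mpr ⟨l, hl⟩)
  rw [Finset.sum_congr rfl (g := fun _ => 12) fun j' hj' => by
    rw [Set.Finite.mem_toFinset] at hj'
    obtain ⟨l, hl⟩ := (horb j').mp hj'
    rw [← Set.ncard_coe_finset, show (↑(hTf.toFinset.filter fun l => l.prod = j') : Set (List G)) =
      {l | Fact' D 3 j' l} from Set.ext fun m => by
        simp only [Finset.coe_filter, Set.Finite.mem_toFinset, Set.mem_ofPred_eq]
        exact ⟨fun k => k.2 ▸ k.1, fun k => ⟨by show Fact' D 3 m.prod m; rw [k.2.2.2.2]; exact k, k.2.2.2.2⟩⟩,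
      card_fibre C hl],
    Finset.sum_const, ← Set.ncard_eq_toFinset_card _ hTf, ← Set.ncard_eq_toFinset_card _ hO, card_tripleLists C,
    smul_eq_mul] at hfib
  have ho : (MulAction.orbit (ConjAct G) j).ncard = 36486450 := by omega
  have h := card_orbit j
  rw [ho, card_group C (numbered_ctx C)] at h
  omega

end Cfsg.Agent.Block.FischerTypes.M22
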