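import Cfsg.Agent.Lib.Block.FischerTypes.M23Setting
import Cfsg.Agent.Lib.Block.FischerTypes.Cover

/-! Groups of type M(23): structure and centralisers of transpositions. -/

set_option autoImplicit false
set_option linter.style.haveILetI false
set_option linter.unusedSectionVars false

namespace Cfsg.Agent.Block.FischerTypes

open Cfsg.Agent.Spor.ThreeTrans

variable {G : Type*} [Group G] [Finite G] {D : Set G}

/-- One congruent pair makes all members congruent. -/
theorem all_cong (S : Setting D) (hmeets : ∀ a ∈ D, ∀ c ∈ D, ¬ Commute a c → (common D a c).Nonempty)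
    (N : Subgroup G) [N.Normal] {a b : G} (ha : a ∈ D) (hb : b ∈ D) (hne : a ≠ b) (hab : a * b ∈ N) :
    ∀ d ∈ D, ∀ e ∈ D, d * e ∈ N := by
  have h := S.cls
  have hrefl : ∀ d ∈ D, d * d ∈ N := fun d hd => by rw [mul_self h.1 hd]; exact one_mem _
  have hconj : ∀ {u v : G} (g : G), u * v ∈ N → (g * u * g⁻¹) * (g * v * g⁻¹) ∈ N := fun {u v} g k => by
    rw [show g * u * g⁻¹ * (g * v * g⁻¹) = g * (u * v) * g⁻¹ by simp [mul_assoc]]
    exact Subgroup.Normal.conj_mem inferInstance _ k g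
  by_cases hc : Commute a b
  · have hall : ∀ d ∈ D, ∀ e ∈ D, Commute d e → d * e ∈ N := by
      intro d hd e he hde
      by_cases k : d = e
      · rw [k]; exact hrefl e he
      obtain ⟨g, rfl, rfl⟩ := pair_conj S ha ⟨hb, Ne.symm hne, hc⟩ hd ⟨he, Ne.symm k, hde⟩
      exact hconj g hab
    intro d hd e he
    by_cases hde : Commute d e
    · exact hall d hd e he hde
    obtain ⟨x, hx1, hx2⟩ := hmeets d hd e he hde
    exact mul_trans_mem h hx1.1 (hall d hd x hx1.1 hx1.2.2) (hall x hx1.1 e he hx2.2.2.symm)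
  · have hall : ∀ d ∈ D, ∀ e ∈ D, ¬ Commute d e → d * e ∈ N := by
      intro d hd e he hde
      obtain ⟨g, rfl, rfl⟩ := apart_pair_conj S ha hb hc hd he hde
      exact hconj g hab
    intro d hd e he
    by_cases hde : Commute d e
    · by_cases k : d = e
      · rw [k]; exact hrefl e he
      obtain ⟨c, hc1, hc2⟩ := exists_apart_partner S.hyp hd ⟨he, Ne.symm k, hde⟩
      exact mul_trans_mem h hc1.1 (hall d hd c hc1.1 fun k' => hc1.2 k'.symm) (hall c hc1.1 e he hc2)
    · exact hall d hd e he hde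

/-- Groups with M(22) local structure are simple. -/
theorem M22.simple (C : M22.Ctx D) (hmod : ∀ a ∈ D, HasModel D a)
    (h2 : ∃ x ∈ D, ∃ y ∈ D, x ≠ y) : IsSimpleGroup G := by
  have h := C.set.cls
  obtain ⟨a, ha, b, hb, hne⟩ := h2
  haveI : Nontrivial G := ⟨⟨a, b, hne⟩⟩
  refine ⟨fun N hN => ?_⟩
  by_cases hsep : ∀ d ∈ D, ∀ e ∈ D, d * e ∈ N → d = e
  · exact Or.inl (eq_bot_of_separated h C.cen N hsep)
  right
  push Not at hsep
  obtain ⟨p, hp, q, hq, hpq, hpq'⟩ := hsep
  have hall := all_cong C.set C.meets N hp hq hpq' hpq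
  let f := QuotientGroup.mk' N
  have hconst : ∀ x ∈ D, f x = f a := fun x hx => by
    rw [← inv_eq h.1 hx]
    refine (QuotientGroup.mk'_eq_mk' N).mpr ⟨_, hall x hx a ha, ?_⟩
    rw [← mul_assoc, inv_mul_cancel, one_mul]
  obtain ⟨c, hc, hac⟩ := exists_not_commute h ⟨a, ha, b, hb, hne⟩ ha
  obtain ⟨⟨m, hm, hmp, hme⟩, m', hm', hmp', hme'⟩ :=
    five_six C.set C.cen C.hex hmod ha hc hac (C.meets a ha c hc hac)
  have e1 := map_prod_const f m fun x hx => hconst x (hmp x hx).1
  have e2 := map_prod_const f m' fun x hx => hconst x (hmp' x hx).1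
  rw [hme, hm] at e1
  rw [hme', hm'] at e2
  have hs : f a = 1 := by
    have e3 : f a ^ 6 = f a ^ 5 := e2.symm.trans e1
    rwa [pow_succ, mul_eq_left] at e3
  have hle : Subgroup.closure D ≤ N := (Subgroup.closure_le _).mpr fun x hx =>
    (QuotientGroup.eq_one_iff x).mp ((hconst x hx).trans hs)
  rw [h.2.2, top_le_iff] at hle
  exact hle

/-- A member of the common perpendicular of all that commute with a noncommuting pair. -/
theorem M22.third (C : M22.Ctx D) {a c e : G} (ha : a ∈ D) (hc : c ∈ D) (he : e ∈ D)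
    (hac : ¬ Commute a c) (hae : ¬ Commute a e) (hall : ∀ w ∈ common D a c, Commute w e) :
    e = a ∨ e = c ∨ e = a * c * a := by
  obtain ⟨x, hxa, hxc⟩ := C.meets a ha c hc hac
  have hex : e ∈ perp D x := ⟨he, fun k => hae (k ▸ hxa.2.2), hall x ⟨hxa, hxc⟩⟩
  have ha' := M22.perp_symm ha hxa
  have hc' := M22.perp_symm hc hxc
  obtain ⟨F, _, _, h4, Φ, hsurj, hmem, hlift, hinj, hcom, hker⟩ := C.mdl x hxa.1
  have hw : a * c * a ∈ perp D x := by
    have := perp_conj' C.set.cls ha'.2.2.symm hc'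
    rwa [inv_eq C.set.cls.1 ha] at this
  rcases U6.third h4 (hmem a ha') (hmem c hc') (hmem e hex) (fun k => hac ((hcom a ha' c hc').mp k))
      (fun w hw hwa hwc kwa kwc => by
        obtain ⟨u, hu, rfl⟩ := hlift w hw
        exact (hcom u hu e hex).mpr (hall u
          ⟨⟨hu.1, fun k => hwa (by subst k; rfl), ((hcom u hu a ha').mp kwa).symm⟩,
            ⟨hu.1, fun k => hwc (by subst k; rfl), ((hcom u hu c hc').mp kwc).symm⟩⟩)) with k | k | k
  · exact Or.inl (hinj e hex a ha' k)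
  · exact Or.inr (Or.inl (hinj e hex c hc' k))
  · refine Or.inr (Or.inr (hinj e hex _ hw ?_))
    rw [show M22.el hw = M22.el ha' * M22.el hc' * M22.el ha' from rfl, map_mul, map_mul]
    exact k

namespace M23

open Cfsg.Agent.Block.FischerTypes.M22 (perp_symm commute_self el)

/-- The standing facts in type M(23). -/
structure Base (D : Set G) : Prop where
  set : Setting D
  cen : Subgroup.center G = ⊥
  ctx : ∀ a ∈ D, M22.Ctx (perpSet D a)
  meets : ∀ a ∈ D, ∀ c ∈ D, ¬ Commute a c → (common D a c).Nonempty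
  linked : ∀ a ∈ D, ∀ c ∈ D, ¬ Commute a c → ∀ x ∈ common D a c, ∃ y ∈ common D a c, y ≠ x ∧ Commute x y
  apart_ne : ∀ a ∈ D, ∃ c ∈ D, ¬ Commute a c

theorem base (hD : IsThreeTranspositionGroup D) (hprim : IsPrimitiveUnderConj D)
    (h23 : IsOfTypeM23 G D) : Base D := by
  obtain ⟨S, hcen, hctx, hP⟩ := m23_levels hD hprim h23
  obtain ⟨-, d, hd, c, hc, hdc, -⟩ := h23
  exact ⟨S, hcen, hctx, fun a ha c hc k => (hP a ha c hc k).1, fun a ha c hc k => (hP a ha c hc k).2,
    fun a ha => exists_not_commute S.cls ⟨d, hd, c, hc, fun e => hdc (e ▸ Commute.refl d)⟩ ha⟩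

variable (B : Base D)
include B

theorem toK {a u v : G} (ha : a ∈ D) (hu : u ∈ perp D a) (hv : v ∈ perp D a) :
    pr D a v hv ∈ perp (perpSet D a) (pr D a u hu) ↔ v ∈ perp D u :=
  ⟨fun k => ⟨hv.1, fun e => k.2.1 (by subst e; rfl), commute_of_pr B.set.cls B.set.tf ha hu hv k.2.2⟩,
    fun k => ⟨pr_mem hv, fun e => k.2.1 (pr_injective B.set.cls B.set.tf ha hv hu e),
      commute_pr hu hv k.2.2⟩⟩

/-- Only one and `a` commute with `a` and its perpendicular. -/
theorem centre_perp {a z : G} (ha : a ∈ D) (hza : Commute a z) (hz : ∀ y ∈ perp D a, Commute y z) :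
    z = 1 ∨ z = a := by
  have h := B.set.cls
  obtain ⟨c, hc, hac⟩ := B.apart_ne a ha
  have hall : ∀ z', Commute a z' → (∀ y ∈ perp D a, Commute y z') → Commute c z' → z' = 1 := by
    intro z' hza' hz' hzc'
    have := mem_center_of_commute h fun y hy => by
      by_cases hya : Commute y a
      · by_cases e : y = a
        · exact e ▸ hza'
        · exact hz' y ⟨hy, e, hya.symm⟩
      obtain ⟨g, hg, rfl⟩ := transitive_apart B.set.hyp ha ⟨hc, fun k => hac k.symm⟩ ⟨hy, hya⟩
      have hgz : Commute g z' := by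
        have hle : localGroup D a ≤ Subgroup.centralizer {z'} := by
          refine (Subgroup.closure_le _).mpr ?_
          rintro w (rfl | hw) <;> rw [SetLike.mem_coe, Subgroup.mem_centralizer_singleton_iff]
          · exact hza'.eq
          · exact (hz' w hw).eq
        exact Subgroup.mem_centralizer_singleton_iff.mp (hle hg)
      exact (hgz.mul_left hzc').mul_left hgz.inv_left
    rwa [B.cen, Subgroup.mem_bot] at this
  obtain ⟨x, hxa, hxc⟩ := B.meets a ha c hc hac
  have hea : ¬ Commute a (z * c * z⁻¹) := fun k => hac (by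
    rw [← commute_conj_iff z, conj_self_eq hza.symm]; exact k)
  have hzx : z * x * z⁻¹ = x := conj_self_eq (hz x hxa).symm
  have hex : z * c * z⁻¹ ∈ perp D x := by
    refine ⟨conj_mem h z hc, fun k => hea (by rw [k]; exact hxa.2.2), ?_⟩
    have := (commute_conj_iff z x c).mpr hxc.2.2.symm
    rwa [hzx] at this
  have ha' := perp_symm ha hxa
  have hc' := perp_symm hc hxc
  have hw : a * c * a ∈ perp D x := by
    have := perp_conj' h ha'.2.2.symm hc'
    rwa [inv_eq h.1 ha] at this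
  rcases M22.third (B.ctx x hxa.1) (pr_mem ha') (pr_mem hc') (pr_mem hex)
      (fun k => hac (commute_of_pr h B.set.tf hxa.1 ha' hc' k))
      (fun k => hea (commute_of_pr h B.set.tf hxa.1 ha' hex k))
      (fun w hw => by
        obtain ⟨u, hu, rfl⟩ := exists_of_mem hw.1.1
        have h1 := commute_of_pr h B.set.tf hxa.1 ha' hu hw.1.2.2
        have h2 := commute_of_pr h B.set.tf hxa.1 hc' hu hw.2.2.2
        refine commute_pr hu hex ?_
        have hzu : z * u * z⁻¹ = u :=
          conj_self_eq (hz u ⟨hu.1, fun k => hw.1.2.1 (by subst k; rfl), h1⟩).symm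
        have := (commute_conj_iff z u c).mpr h2.symm
        rwa [hzu] at this) with k | k | k
  · exact absurd (pr_injective h B.set.tf hxa.1 hex ha' k ▸ Commute.refl a) hea
  · left
    refine hall z hza hz ?_
    exact (mul_inv_eq_iff_eq_mul.mp (pr_injective h B.set.tf hxa.1 hex hc' k) : z * c = c * z).symm
  · right
    have k' : z * c * z⁻¹ = a * c * a := pr_injective h B.set.tf hxa.1 hex hw (k.trans (by
      rw [← QuotientGroup.mk_mul, ← QuotientGroup.mk_mul]; rfl))
    have h1 := hall (a * z) ((Commute.refl a).mul_right hza)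
      (fun y hy => hy.2.2.symm.mul_right (hz y hy)) ?_
    · rw [eq_inv_of_mul_eq_one_right h1, inv_eq h.1 ha]
    · show c * (a * z) = a * z * c
      have k2 : z * c = a * c * a * z := mul_inv_eq_iff_eq_mul.mp k'
      rw [mul_assoc a z c, k2]
      simp only [mul_assoc, mul_self_mul h.1 ha]

/-- A member is a product of six members of its perpendicular. -/
theorem six {a : G} (ha : a ∈ D) :
    ∃ m : List G, m.length = 6 ∧ (∀ x ∈ m, x ∈ perp D a) ∧ m.prod = a := by
  classical
  have h := B.set.cls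
  have htf := B.set.tf
  let ψ : ∀ a : G, G → PerpQuot D a := fun a u => if hu : u ∈ perp D a then pr D a u hu else 1
  have hψ : ∀ {a u : G} (hu : u ∈ perp D a), ψ a u = pr D a u hu := fun hu => dif_pos hu
  have lift : ∀ {a : G} (m : List G), (∀ x ∈ m, x ∈ perp D a) → ∃ U : ↥(PerpGroup D a),
      (U : G) = m.prod ∧ (QuotientGroup.mk U : PerpQuot D a) = (m.map (ψ a)).prod := by
    intro a m
    induction m with
    | nil => exact fun _ => ⟨1, rfl, by simp⟩
    | cons x m ih =>
      intro hm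
      obtain ⟨U, hU, hU'⟩ := ih fun y hy => hm y (List.mem_cons_of_mem _ hy)
      have hx := hm x List.mem_cons_self
      refine ⟨el hx * U, by simp [hU], ?_⟩
      rw [QuotientGroup.mk_mul, hU', List.map_cons, List.prod_cons, hψ hx]
  have C := B.ctx a ha
  obtain ⟨u, hu⟩ := B.set.perp_ne a ha
  obtain ⟨p, hp⟩ := C.set.perp_ne _ (pr_mem hu)
  obtain ⟨c, hc⟩ := M22.common_nonempty C (pr_mem hu) hp
  obtain ⟨l, hn, hlen, hl, hlc, hprod⟩ := hexad C.set C.cen C.hex (pr_mem hu) hp hc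
  set L := pr D a u hu :: p :: l with hL
  have hLE : ∀ x ∈ L, x ∈ perpSet D a := by
    intro x hx
    simp only [hL, List.mem_cons] at hx
    rcases hx with rfl | rfl | hx
    exacts [pr_mem hu, hp.1, ((hl x).mp hx).1.1.1]
  have hLn : L.Nodup := by
    simp only [hL, List.nodup_cons, List.mem_cons, not_or]
    exact ⟨⟨Ne.symm hp.2.1, fun k => ((hl _).mp k).1.1.2.1 rfl⟩, fun k => ((hl _).mp k).1.2.2.1 rfl, hn⟩
  have hLc : ∀ x ∈ L, ∀ y ∈ L, Commute x y := by
    have k1 : ∀ y ∈ l, Commute (pr D a u hu) y := fun y hy => ((hl y).mp hy).1.1.2.2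
    have k2 : ∀ y ∈ l, Commute p y := fun y hy => ((hl y).mp hy).1.2.2.2
    simp only [hL, List.mem_cons]
    rintro x (rfl | rfl | hx) y (rfl | rfl | hy)
    exacts [Commute.refl _, hp.2.2, k1 y hy, hp.2.2.symm, Commute.refl _, k2 y hy, (k1 x hx).symm,
      (k2 x hx).symm, hlc x hx y hy]
  have hch : ∀ q ∈ perpSet D a, ∃ v ∈ perp D a, ψ a v = q := fun q hq => by
    obtain ⟨v, hv, rfl⟩ := exists_of_mem hq
    exact ⟨v, hv, hψ hv⟩
  choose φ hφ hφψ using hch
  let φ' : PerpQuot D a → G := fun q => if hq : q ∈ perpSet D a then φ q hq else 1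
  have hφ' : ∀ q ∈ perpSet D a, φ' q ∈ perp D a ∧ ψ a (φ' q) = q := fun q hq => by
    simp only [φ', dif_pos hq]
    exact ⟨hφ q hq, hφψ q hq⟩
  set m := L.map φ' with hm
  have hmp : ∀ x ∈ m, x ∈ perp D a := fun x hx => by
    obtain ⟨q, hq, rfl⟩ := List.mem_map.mp hx
    exact (hφ' q (hLE q hq)).1
  have hmψ : m.map (ψ a) = L := by
    rw [hm, List.map_map]
    conv_rhs => rw [← List.map_id L]
    exact List.map_congr_left fun q hq => (hφ' q (hLE q hq)).2
  have hmn : m.Nodup := List.Nodup.of_map (ψ a) (hmψ.symm ▸ hLn)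
  have hmc : ∀ x ∈ m, ∀ y ∈ m, Commute x y := fun x hx y hy => by
    refine commute_of_pr h htf ha (hmp x hx) (hmp y hy) ?_
    rw [← hψ (hmp x hx), ← hψ (hmp y hy)]
    exact hLc _ (hmψ ▸ List.mem_map_of_mem hx) _ (hmψ ▸ List.mem_map_of_mem hy)
  have hmlen : m.length = 6 := by simp [hm, hL, hlen]
  obtain ⟨U, hU, hU'⟩ := lift m hmp
  rw [hmψ, hL, List.prod_cons, List.prod_cons, ← mul_assoc, hprod, QuotientGroup.eq_one_iff] at hU'
  rcases centre_perp B ha (Commute.list_prod_right _ a fun x hx => (hmp x hx).2.2)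
      (fun y hy => hU ▸ commute_of_center hU' (Subgroup.subset_closure hy)) with k | k
  swap
  · exact ⟨m, hmlen, hmp, k⟩
  exfalso
  obtain ⟨b, rest, hbr⟩ : ∃ b rest, m = b :: rest := by
    cases hm' : m with
    | nil => rw [hm'] at hmlen; simp at hmlen
    | cons b rest => exact ⟨b, rest, rfl⟩
  rw [hbr] at hmn hmp hmc hmlen k
  have hb := (hmp b List.mem_cons_self).1
  have hbne : ∀ x ∈ rest, x ≠ b := fun x hx e => (List.nodup_cons.mp hmn).1 (e ▸ hx)
  have hrest : ∀ x ∈ rest, x ∈ perp D b := fun x hx =>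
    ⟨(hmp x (List.mem_cons_of_mem _ hx)).1, hbne x hx, hmc b List.mem_cons_self x (List.mem_cons_of_mem _ hx)⟩
  have hrp : rest.prod = b := by
    rw [List.prod_cons] at k
    rw [eq_inv_of_mul_eq_one_right k, inv_eq h.1 hb]
  obtain ⟨V, hV, hV'⟩ := lift rest hrest
  have hone : (QuotientGroup.mk V : PerpQuot D b) = 1 := by
    rw [QuotientGroup.eq_one_iff, Subgroup.mem_center_iff]
    exact fun g => Subtype.ext (by
      show (g : G) * V = V * g
      rw [hV, hrp]
      exact (commute_self g.2).eq)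
  refine M22.no_five (B.ctx b hb) (l := rest.map (ψ b)) ?_ ?_ ?_ ?_ (hV'.symm.trans hone)
  · refine List.Nodup.map_on (fun x hx y hy e => ?_) (List.nodup_cons.mp hmn).2
    rw [hψ (hrest x hx), hψ (hrest y hy)] at e
    exact pr_injective h htf hb (hrest x hx) (hrest y hy) e
  · simpa using hmlen
  · intro x hx
    obtain ⟨v, hv, rfl⟩ := List.mem_map.mp hx
    rw [hψ (hrest v hv)]
    exact pr_mem _
  · intro x hx y hy
    obtain ⟨v, hv, rfl⟩ := List.mem_map.mp hx
    obtain ⟨v', hv', rfl⟩ := List.mem_map.mp hy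
    rw [hψ (hrest v hv), hψ (hrest v' hv')]
    exact commute_pr _ _ (hmc v (List.mem_cons_of_mem _ hv) v' (List.mem_cons_of_mem _ hv'))

theorem self {a : G} (ha : a ∈ D) : a ∈ PerpGroup D a := by
  obtain ⟨m, -, hm, hm'⟩ := six B ha
  have : m.prod ∈ PerpGroup D a := list_prod_mem fun x hx => Subgroup.subset_closure (hm x hx)
  rwa [hm'] at this

theorem centre {a : G} (ha : a ∈ D) :
    Subgroup.center ↥(PerpGroup D a) = (Subgroup.zpowers a).subgroupOf (PerpGroup D a) := by
  ext z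
  rw [Subgroup.mem_subgroupOf]
  constructor
  · intro hz
    rcases centre_perp B ha (commute_of_center hz (self B ha))
        (fun y hy => commute_of_center hz (Subgroup.subset_closure hy)) with k | k <;> rw [k]
    exacts [one_mem _, Subgroup.mem_zpowers a]
  · rintro ⟨n, hn⟩
    refine Subgroup.mem_center_iff.mpr fun g => Subtype.ext ?_
    show (g : G) * z = z * g
    rw [← hn]
    exact ((commute_self g.2).zpow_right n).eq

theorem z_lemma {d f w : G} (hd : d ∈ D) (hf : f ∈ D) (hdf : ¬ Commute d f) {x : G}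
    (hx : x ∈ common D d f) (hw : w ∈ perp D d) (hxw : ¬ Commute x w) :
    ∃ z ∈ common D d f, Commute z x ∧ Commute z w := by
  have h := B.set.cls
  have htf := B.set.tf
  let S' : Set (PerpQuot D d) := {r | ∃ (u : G) (hu : u ∈ perp D d), u ∈ perp D f ∧ pr D d u hu = r}
  have hcl : ∀ {u v : G}, u ∈ common D d f → v ∈ common D d f → u * v * u ∈ common D d f := by
    intro u v hu hv
    have h1 : u * v * u⁻¹ ∈ perp D d := perp_conj' h hu.1.2.2.symm hv.1
    have h2 : u * v * u⁻¹ ∈ perp D f := perp_conj' h hu.2.2.2.symm hv.2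
    rw [inv_eq h.1 hu.1.1] at h1 h2
    exact ⟨h1, h2⟩
  obtain ⟨r, ⟨z, hz, hzf, rfl⟩, hzx, hzw⟩ := M22.meet (B.ctx d hd) (S := S') (x := pr D d x hx.1)
    (w := pr D d w hw) (fun r ⟨u, hu, _, e⟩ => e ▸ pr_mem hu)
    (by
      rintro _ ⟨u, hu, huf, rfl⟩ _ ⟨v, hv, hvf, rfl⟩ -
      refine ⟨u * v * u, (hcl ⟨hu, huf⟩ ⟨hv, hvf⟩).1, (hcl ⟨hu, huf⟩ ⟨hv, hvf⟩).2, ?_⟩
      rw [← QuotientGroup.mk_mul, ← QuotientGroup.mk_mul]; rfl)
    (by
      rintro _ ⟨u, hu, huf, rfl⟩
      obtain ⟨y, hy, hne, hc⟩ := B.linked d hd f hf hdf u ⟨hu, huf⟩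
      exact ⟨_, ⟨y, hy.1, hy.2, rfl⟩, (toK B hd hu hy.1).mpr ⟨hy.1.1, hne, hc⟩⟩)
    (by
      rintro _ ⟨u, hu, huf, rfl⟩ _ ⟨v, hv, hvf, rfl⟩ hvu c hc
      obtain ⟨c, hcd, rfl⟩ := exists_of_mem hc.1.1
      have kvu := (toK B hd hu hv).mp hvu
      have kcu := (toK B hd hu hcd).mp hc.1
      have kcv := (toK B hd hv hcd).mp hc.2
      have du := perp_symm hd hu
      have fu := perp_symm hf huf
      obtain ⟨e, he, e1, e2, htw⟩ := M22.line_meet (B.ctx u hu.1) (pr_mem kvu)
        ((toK B hu.1 kvu du).mpr (perp_symm hd hv)) ((toK B hu.1 kvu fu).mpr (perp_symm hf hvf))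
        (fun k => hdf (commute_of_pr h htf hu.1 du fu k)) ((toK B hu.1 kvu kcu).mpr kcv)
        (commute_pr kcu du hcd.2.2.symm) (fun k => hcd.2.1 (pr_injective h htf hu.1 kcu du k))
      obtain ⟨e, heu, rfl⟩ := exists_of_mem he.1
      have kev := (toK B hu.1 kvu heu).mp he
      have ked := commute_of_pr h htf hu.1 heu du e1
      have kef := commute_of_pr h htf hu.1 heu fu e2
      have hed : e ∈ perp D d := ⟨heu.1, fun k => hdf (k ▸ kef), ked.symm⟩
      refine ⟨_, ⟨e, hed, ⟨heu.1, fun k => hdf ((k ▸ ked).symm), kef.symm⟩, rfl⟩,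
        ⟨(toK B hd hu hed).mpr heu, (toK B hd hv hed).mpr kev⟩, fun y hy => ?_⟩
      obtain ⟨y, hyd, rfl⟩ := exists_of_mem hy.1.1
      have kyu := (toK B hd hu hyd).mp hy.1
      have kyv := (toK B hd hv hyd).mp hy.2
      have := htw _ ((toK B hu.1 kvu kyu).mpr kyv) (commute_pr kyu du hyd.2.2.symm)
      exact ⟨fun k => commute_pr hyd hed (commute_of_pr h htf hu.1 kyu heu
          (this.mp (commute_pr kyu kcu (commute_of_pr h htf hd hyd hcd k)))),
        fun k => commute_pr hyd hcd (commute_of_pr h htf hu.1 kyu kcu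
          (this.mpr (commute_pr kyu heu (commute_of_pr h htf hd hyd hed k))))⟩)
    (by
      rintro _ ⟨u, hu, huf, rfl⟩ _ ⟨v, hv, hvf, rfl⟩ hvu _ ⟨e, hed, hef, rfl⟩ _ ⟨e', hed', hef', rfl⟩ k k' htw
      have kvu := (toK B hd hu hv).mp hvu
      have keu := (toK B hd hu hed).mp k.1
      have kev := (toK B hd hv hed).mp k.2
      have keu' := (toK B hd hu hed').mp k'.1
      have kev' := (toK B hd hv hed').mp k'.2
      have du := perp_symm hd hu
      have fu := perp_symm hf huf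
      have := M22.line_unique (B.ctx u hu.1) (pr_mem kvu) ((toK B hu.1 kvu du).mpr (perp_symm hd hv))
        ((toK B hu.1 kvu fu).mpr (perp_symm hf hvf))
        (fun k => hdf (commute_of_pr h htf hu.1 du fu k))
        ((toK B hu.1 kvu keu).mpr kev) ((toK B hu.1 kvu keu').mpr kev')
        (commute_pr keu du hed.2.2.symm) (commute_pr keu fu hef.2.2.symm)
        (commute_pr keu' du hed'.2.2.symm) (commute_pr keu' fu hef'.2.2.symm) fun y hy hne hyc => by
          obtain ⟨y, hyu, rfl⟩ := exists_of_mem hy.1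
          have kyv := (toK B hu.1 kvu hyu).mp hy
          have hyd : y ∈ perp D d := ⟨hyu.1, fun q => hne (by subst q; rfl),
            (commute_of_pr h htf hu.1 hyu du hyc).symm⟩
          have := htw _ ⟨(toK B hd hu hyd).mpr hyu, (toK B hd hv hyd).mpr kyv⟩
          exact ⟨fun q => commute_pr hyu keu' (commute_of_pr h htf hd hyd hed'
              (this.mp (commute_pr hyd hed (commute_of_pr h htf hu.1 hyu keu q)))),
            fun q => commute_pr hyu keu (commute_of_pr h htf hd hyd hed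
              (this.mpr (commute_pr hyd hed' (commute_of_pr h htf hu.1 hyu keu' q))))⟩
      have e1 := pr_injective h htf hu.1 keu keu' this
      subst e1
      rfl)
    ⟨x, hx.1, hx.2, rfl⟩ (pr_mem hw) (fun k => hxw (commute_of_pr h htf hd hx.1 hw k))
  exact ⟨z, ⟨hz, hzf⟩, (commute_of_pr h htf hd hx.1 hz hzx.2.2).symm, commute_of_pr h htf hd hz hw hzw⟩

theorem point {d x : G} (hd : d ∈ D) (hx : x ∈ perp D d) {k : G} (hk : k ∈ PerpGroup D x)
    (hkd : Commute k d) : k ∈ PerpGroup D d := by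
  have h := B.set.cls
  have htf := B.set.tf
  have hd' := perp_symm hd hx
  let K : PerpQuot D x := QuotientGroup.mk (⟨k, hk⟩ : ↥(PerpGroup D x))
  have hK : K ∈ Subgroup.centralizer {pr D x d hd'} := Subgroup.mem_centralizer_singleton_iff.mpr
    (congrArg QuotientGroup.mk (show (⟨k, hk⟩ : ↥(PerpGroup D x)) * el hd' = el hd' * ⟨k, hk⟩ from
      Subtype.ext hkd.eq))
  rw [M22.centralizer_eq (B.ctx x hx.1) (pr_mem hd')] at hK
  have hle : PerpGroup (perpSet D x) (pr D x d hd') ≤
      ((PerpGroup D d).subgroupOf (PerpGroup D x)).map (QuotientGroup.mk' _) := by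
    refine (Subgroup.closure_le _).mpr ?_
    intro r hr
    obtain ⟨u, hu, rfl⟩ := exists_of_mem hr.1
    refine ⟨el hu, Subgroup.subset_closure (k := perp D d) ?_, rfl⟩
    exact ⟨hu.1, fun e => hr.2.1 (by subst e; rfl), commute_of_pr h htf hx.1 hd' hu hr.2.2⟩
  obtain ⟨k', hk', e⟩ := hle hK
  have hz := (QuotientGroup.eq_iff_div_mem).mp e.symm
  rw [centre B hx.1, Subgroup.mem_subgroupOf] at hz
  have hz' : k * (k' : G)⁻¹ ∈ PerpGroup D d := by
    have := (Subgroup.zpowers_le.mpr (Subgroup.subset_closure (k := perp D d) hx)) hz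
    simpa [div_eq_mul_inv] using this
  have := mul_mem hz' (show (k' : G) ∈ PerpGroup D d from hk')
  rwa [inv_mul_cancel_right] at this

theorem lift_conj {x p q : G} (hx : x ∈ D) (hp : p ∈ perp D x) (hq : q ∈ perp D x) :
    ∃ k ∈ PerpGroup D x, k * p * k⁻¹ = q := by
  obtain ⟨g, hg, e⟩ := transitive_perp B.set.hyp hx hp hq
  exact ⟨g, hg, e⟩

theorem lift_conj_fix {x y p q : G} (hx : x ∈ D) (hy : y ∈ perp D x) (hp : p ∈ perp D x)
    (hq : q ∈ perp D x) (hpy : p ∈ perp D y) (hqy : q ∈ perp D y) :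
    ∃ k ∈ PerpGroup D x, k ∈ PerpGroup D y ∧ k * p * k⁻¹ = q := by
  have h := B.set.cls
  obtain ⟨g, hg, hg'⟩ := transitive_perp (B.ctx x hx).set.hyp (pr_mem hy)
    ((toK B hx hy hp).mpr hpy) ((toK B hx hy hq).mpr hqy)
  obtain ⟨k, rfl⟩ := QuotientGroup.mk_surjective g
  have hm : (k : G) * p * (k : G)⁻¹ ∈ perp D x := perp_conj' h (commute_self k.2) hp
  have hm' : (k : G) * y * (k : G)⁻¹ ∈ perp D x := perp_conj' h (commute_self k.2) hy
  have key : ∀ u (hu : u ∈ perp D x) (hu' : (k : G) * u * (k : G)⁻¹ ∈ perp D x),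
      pr D x _ hu' = QuotientGroup.mk k * pr D x u hu * (QuotientGroup.mk k)⁻¹ := fun u hu hu' => by
    rw [← QuotientGroup.mk_inv, ← QuotientGroup.mk_mul, ← QuotientGroup.mk_mul]; rfl
  have hky : (k : G) * y * (k : G)⁻¹ = y := pr_injective h B.set.tf hx hm' hy (by
    rw [key y hy hm']
    exact conj_self_eq (commute_self hg))
  refine ⟨k, k.2, point B hy.1 (perp_symm hx hy) k.2 (mul_inv_eq_iff_eq_mul.mp hky), ?_⟩
  exact pr_injective h B.set.tf hx hm hq ((key p hp hm).trans hg')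

/-- The local data for the cover. -/
theorem cover : Cov.Cover D := by
  have h := B.set.cls
  have htf := B.set.tf
  refine ⟨h, fun a ha => self B ha, B.set.perp_ne, fun d hd x hx {k} hk hkd => point B hd hx hk hkd,
    fun x hx p hp q hq => lift_conj B hx hp hq,
    fun x hx y hy p hp q hq hpy hqy => lift_conj_fix B hx hy hp hq hpy hqy, ?_, ?_, ?_, ?_⟩
  · intro p hp q hq hpq
    by_cases hc : Commute p q
    · have hqp : q ∈ perp D p := ⟨hq, Ne.symm hpq, hc⟩
      obtain ⟨r, hr⟩ := (B.ctx p hp).set.perp_ne _ (pr_mem hqp)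
      obtain ⟨z, hz, rfl⟩ := exists_of_mem hr.1
      exact ⟨z, hz, (toK B hp hqp hz).mp hr⟩
    · exact B.meets p hp q hq hc
  · intro x hx p hp r hr hpr
    have C := B.ctx x hx
    have hne : (common (perpSet D x) (pr D x p hp) (pr D x r hr)).Nonempty := by
      by_cases hc : Commute p r
      · exact M22.common_nonempty C (pr_mem hp) ((toK B hx hp hr).mpr ⟨hr.1, Ne.symm hpr, hc⟩)
      · exact C.meets _ (pr_mem hp) _ (pr_mem hr) fun k => hc (commute_of_pr h htf hx hp hr k)
    obtain ⟨y, hy⟩ := hne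
    obtain ⟨y, hyx, rfl⟩ := exists_of_mem hy.1.1
    exact ⟨y, hyx, (toK B hx hp hyx).mp hy.1, (toK B hx hr hyx).mp hy.2⟩
  · intro p hp q hq hpq _ x hx y hy hxy
    by_cases hc : Commute p q
    · have hqp : q ∈ perp D p := ⟨hq, Ne.symm hpq, hc⟩
      have C := B.ctx p hp
      obtain ⟨r, hr, c1, c2⟩ := M22.pair_common C (pr_mem hqp) ((toK B hp hqp hx.1).mpr hx.2)
        ((toK B hp hqp hy.1).mpr hy.2) (fun k => hxy (commute_of_pr h htf hp hx.1 hy.1 k))
      obtain ⟨z, hz, rfl⟩ := exists_of_mem hr.1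
      exact ⟨z, ⟨hz, (toK B hp hqp hz).mp hr⟩, commute_of_pr h htf hp hz hx.1 c1,
        commute_of_pr h htf hp hz hy.1 c2⟩
    · exact z_lemma B hp hq hc hx hy.1 hxy
  · intro d hd f hf hdf x hx w hw hxw
    obtain ⟨z, hz, -, c⟩ := z_lemma B hd hf hdf hx hw hxw
    exact ⟨z, hz, c⟩

theorem centralizer_eq {d : G} (hd : d ∈ D) : Subgroup.centralizer ({d} : Set G) = PerpGroup D d :=
  Cov.centralizer_eq (cover B) hd

end M23

end Cfsg.Agent.Block.FischerTypes
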