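import Cfsg.Agent.Lib.Block.FischerTypes.M23Products

/-! The class of transpositions of type M(23) is the only one. -/

set_option autoImplicit false
set_option linter.style.haveILetI false
set_option linter.unusedSectionVars false

namespace Cfsg.Agent.Block.FischerTypes.M23

open Cfsg.Agent.Spor.ThreeTrans
open Cfsg.Agent.Block.FischerTypes.M22 (perp_symm)

variable {G : Type*} [Group G] [Finite G] {D : Set G} (B : Base D)
include B

/-- A short path next to two further commuting members. -/
theorem path_config (hne : D.Nonempty) : ∃ c q d e w : G, c ∈ D ∧ q ∈ perp D c ∧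
    (d ∈ common D c q ∧ e ∈ common D c q ∧ w ∈ common D c q) ∧
    d ≠ e ∧ Commute d e ∧ ¬ Commute d w ∧ ¬ Commute e w := by
  have htf := B.set.tf
  have h := B.set.cls
  obtain ⟨c, hc⟩ := hne
  have K := counts B c hc
  obtain ⟨q, hq⟩ := B.set.perp_ne c hc
  set Q := pr D c q hq
  have hQ : Q ∈ perpSet D c := pr_mem hq
  obtain ⟨u, hu⟩ : (perp (perpSet D c) Q).Nonempty :=
    Set.nonempty_of_ncard_ne_zero (by rw [K.perp693 Q hQ]; norm_num)
  obtain ⟨v, hv⟩ : (common (perpSet D c) Q u).Nonempty :=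
    Set.nonempty_of_ncard_ne_zero (by rw [K.common180 Q hQ u hu]; norm_num)
  obtain ⟨w, hw, hwu, hwv⟩ : ∃ w ∈ perp (perpSet D c) Q, ¬ Commute u w ∧ ¬ Commute v w := by
    by_contra hno
    push Not at hno
    have hsub : perp (perpSet D c) Q ⊆ insert u (insert v
        (common (perpSet D c) Q u ∪ common (perpSet D c) Q v)) := by
      intro w hw
      by_cases e : w = u
      · exact Or.inl e
      by_cases e' : w = v
      · exact Or.inr (Or.inl e')
      refine Or.inr (Or.inr ?_)
      by_cases k : Commute u w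
      · exact Or.inl ⟨hw, hw.1, e, k⟩
      · exact Or.inr ⟨hw, hw.1, e', hno w hw k⟩
    have h1 := Set.ncard_le_ncard hsub
    have h2 := Set.ncard_insert_le u (insert v (common (perpSet D c) Q u ∪ common (perpSet D c) Q v))
    have h3 := Set.ncard_insert_le v (common (perpSet D c) Q u ∪ common (perpSet D c) Q v)
    have h4 := Set.ncard_union_le (common (perpSet D c) Q u) (common (perpSet D c) Q v)
    rw [K.perp693 Q hQ] at h1
    rw [K.common180 Q hQ u hu, K.common180 Q hQ v hv.1] at h4
    omega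
  obtain ⟨d, hd, rfl⟩ := exists_of_mem hu.1
  obtain ⟨e, he, rfl⟩ := exists_of_mem hv.2.1
  obtain ⟨z, hz, rfl⟩ := exists_of_mem hw.1
  exact ⟨c, q, d, e, z, hc, hq,
    ⟨⟨hd, (toK B hc hq hd).mp hu⟩, ⟨he, (toK B hc hq he).mp hv.1⟩, ⟨hz, (toK B hc hq hz).mp hw⟩⟩,
    fun k => hv.2.2.1 (by subst k; rfl), commute_of_pr h htf hc hd he hv.2.2.2,
    fun k => hwu (commute_pr hd hz k), fun k => hwv (commute_pr he hz k)⟩

/-- Products of two or three commuting members do not form 3-transpositions. -/
theorem not_three (hne : D.Nonempty) {E : Set G} (hE : IsThreeTranspositionSet E) {m : ℕ} (h2 : 2 ≤ m)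
    (h3 : m ≤ 3) (hall : ∀ x, (∃ l, Fact' D m x l) → x ∈ E) : False := by
  have h := B.set.cls
  obtain ⟨c, q, d, e, w, hc, hq, ⟨hd, he, hw⟩, hde, kde, kdw, kew⟩ := path_config B hne
  have kcd : Commute c d := hd.1.2.2
  have kce : Commute c e := he.1.2.2
  have kcw : Commute c w := hw.1.2.2
  have kqd : Commute q d := hd.2.2.2
  have kqe : Commute q e := he.2.2.2
  have kqw : Commute q w := hw.2.2.2
  have kcq : Commute c q := hq.2.2
  obtain ⟨x, hx⟩ : ∃ x, x = d * e := ⟨_, rfl⟩
  obtain ⟨y, hy⟩ : ∃ y, y = q * w := ⟨_, rfl⟩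
  have hxy : (x * y) ^ 2 = 1 ∨ (x * y) ^ 3 = 1 := by
    interval_cases m
    · refine hE.2 x (hall x ⟨[d, e], by simp [hde], rfl, by simp [hd.1.1, he.1.1], ?_, by simp [hx]⟩) y
        (hall y ⟨[q, w], by simp [Ne.symm hw.2.2.1], rfl, by simp [hq.1, hw.1.1], ?_, by simp [hy]⟩)
      · simp only [List.mem_cons, List.not_mem_nil, or_false]
        rintro u (rfl | rfl) v (rfl | rfl)
        exacts [.refl _, kde, kde.symm, .refl _]
      · simp only [List.mem_cons, List.not_mem_nil, or_false]
        rintro u (rfl | rfl) v (rfl | rfl)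
        exacts [.refl _, kqw, kqw.symm, .refl _]
    · have := hE.2 (x * c) (hall _ ⟨[d, e, c], by simp [hde, hd.1.2.1, he.1.2.1], rfl,
        by simp [hd.1.1, he.1.1, hc], ?_, by simp [hx, mul_assoc]⟩) (y * c)
        (hall _ ⟨[q, w, c], by simp [Ne.symm hw.2.2.1, hq.2.1, hw.1.2.1], rfl,
          by simp [hq.1, hw.1.1, hc], ?_, by simp [hy, mul_assoc]⟩)
      · have e1 : x * c * (y * c) = x * y := by
          rw [mul_assoc x c, ← mul_assoc c y c, (show Commute c y from hy ▸ kcq.mul_right kcw).eq, mul_assoc y c c, mul_self h.1 hc,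
            mul_one]
        rwa [e1] at this
      · simp only [List.mem_cons, List.not_mem_nil, or_false]
        rintro u (rfl | rfl | rfl) v (rfl | rfl | rfl)
        exacts [.refl _, kde, kcd.symm, kde.symm, .refl _, kce.symm, kcd, kce, .refl _]
      · simp only [List.mem_cons, List.not_mem_nil, or_false]
        rintro u (rfl | rfl | rfl) v (rfl | rfl | rfl)
        exacts [.refl _, kqw, kcq.symm, kqw.symm, .refl _, kcw.symm, kcq, kcw, .refl _]
  have hxx : x * x = 1 := by rw [← pow_two, hx]; exact sq_of_commute h hd.1.1 he.1.1 kde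
  have hyy : y * y = 1 := by rw [← pow_two, hy]; exact sq_of_commute h hq.1 hw.1.1 kqw
  have hqx : Commute q x := hx ▸ kqd.mul_right kqe
  have hww := mul_self h.1 hw.1.1
  rcases hxy with k | k
  · have kxy : Commute x y := by
      show x * y = y * x
      rw [pow_two] at k
      rw [eq_inv_of_mul_eq_one_left k, mul_inv_rev, inv_eq_of_mul_eq_one_left hxx,
        inv_eq_of_mul_eq_one_left hyy]
    have kxw : Commute w x := by
      have := kxy.symm
      rw [hy] at this
      have h1 := hqx.mul_left this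
      rwa [mul_self_mul h.1 hq.1] at h1
    exact kdw ((commute_mul_iff h.1 hd.1.1 he.1.1 hw.1.1 hde kde).mp (hx ▸ kxw)).1.symm
  · have hbr : x * y * x = y * x * y := by
      have e1 : x * y * x * (y * x * y) = 1 := by
        rw [pow_succ, pow_succ, pow_one] at k
        simpa [mul_assoc] using k
      rw [eq_inv_of_mul_eq_one_left e1, mul_inv_rev, mul_inv_rev, inv_eq_of_mul_eq_one_left hxx,
        inv_eq_of_mul_eq_one_left hyy, mul_assoc]
    have h2 : q * (x * w * x) = w * x * w := by
      calc q * (x * w * x) = x * y * x := by rw [hy, ← mul_assoc, ← mul_assoc, ← mul_assoc, hqx.eq]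
        _ = y * x * y := hbr
        _ = q * w * x * (q * w) := by rw [hy]
        _ = q * q * (w * x * w) := by
            rw [← mul_assoc (q * w * x) q w, mul_assoc (q * w) x q, ← hqx.eq]
            simp only [mul_assoc]
            rw [← mul_assoc w q (x * w), ← kqw.eq, mul_assoc]
        _ = w * x * w := by rw [mul_self h.1 hq.1, one_mul]
    set f := w * d * w⁻¹ with hf
    set g := w * e * w⁻¹ with hg
    set u := x * w * x⁻¹ with hu
    have hu' : u = x * w * x := by rw [hu, inv_eq_of_mul_eq_one_left hxx]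
    have hfg : f * g = w * x * w := by rw [hf, hg, hx, inv_eq h.1 hw.1.1]; simp [mul_assoc, mul_self_mul h.1 hw.1.1]
    have kqu : Commute q u := (hqx.mul_right kqw).mul_right hqx.inv_right
    have hqu : q ≠ u := fun k' => hw.2.2.1 (by
      have e1 : x⁻¹ * q * x = w := by rw [k', hu]; simp [mul_assoc]
      rw [← e1, mul_assoc, hqx.eq, inv_mul_cancel_left])
    have hfg' : f ≠ g := fun k' => hde (mul_left_cancel (mul_right_cancel k'))
    rcases uniq2 h B.set.tf hq.1 (conj_mem h x hw.1.1) (conj_mem h w hd.1.1) (conj_mem h w he.1.1) hqu hfg'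
        kqu ((commute_conj_iff w d e).mpr kde) (show q * u = f * g by rw [hfg, ← h2, hu']) with k' | k'
    · refine hd.2.2.1 ?_
      have e1 : w⁻¹ * q * w = d := by rw [k']; simp [hf, mul_assoc]
      rw [← e1, mul_assoc, kqw.eq, inv_mul_cancel_left]
    · refine he.2.2.1 ?_
      have e1 : w⁻¹ * q * w = e := by rw [k']; simp [hg, mul_assoc]
      rw [← e1, mul_assoc, kqw.eq, inv_mul_cancel_left]

theorem unique_class (hne : D.Nonempty)
    (hA : ∀ x : G, orderOf x = 2 → ∃ m, 1 ≤ m ∧ m ≤ 3 ∧ ∃ l, Fact' D m x l)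
    {E : Set G} (hE : IsThreeTranspositionClass E) : E = D := by
  have h := B.set.cls
  obtain ⟨x, hx, hEx⟩ := hE.2.1
  obtain ⟨m, h1, h3, l, hl⟩ := hA x (hE.1.1 x hx)
  by_cases hm : m = 1
  · subst hm
    obtain ⟨t, rfl⟩ := List.length_eq_one_iff.mp hl.2.1
    have ht : t ∈ D := hl.2.2.1 t (by simp)
    have hxt : x = t := by simpa using hl.2.2.2.2.symm
    rw [hEx, hxt]
    ext y
    refine ⟨fun hy => ?_, fun hy => isConj_iff.mpr (transitive h ht hy)⟩
    obtain ⟨g, rfl⟩ := isConj_iff.mp hy
    exact conj_mem h g ht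
  · refine (not_three B hne hE.1 (show 2 ≤ m by omega) h3 fun y hy => ?_).elim
    rw [hEx]
    exact fact_conj B h1 h3 ⟨l, hl⟩ hy

end Cfsg.Agent.Block.FischerTypes.M23
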