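import Cfsg.Agent.Lib.Block.FischerTypes.M23Total
import Cfsg.Agent.Lib.Block.FischerTypes.M22Counts

/-! The order and the width of a group of type M(23). -/

set_option autoImplicit false
set_option linter.style.haveILetI false
set_option linter.unusedSectionVars false

namespace Cfsg.Agent.Block.FischerTypes

open Cfsg Cfsg.Agent.Spor.ThreeTrans

namespace M23

variable {G : Type*} [Group G] [Finite G] {D : Set G} (B : Base D)
include B

theorem quot_numbered {a : G} (ha : a ∈ D) : Numbered (perpSet D a) :=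
  M22.numbered_ctx (B.ctx a ha)

theorem counts : ∀ a ∈ D, M22.Counts (perpSet D a) := fun a ha =>
  M22.counts (B.ctx a ha)

theorem card_perpGroup {a : G} (ha : a ∈ D) :
    Nat.card ↥(PerpGroup D a) = 2 * 64561751654400 := by
  have h := Subgroup.card_eq_card_quotient_mul_card_subgroup (Subgroup.center ↥(PerpGroup D a))
  rw [h, show Nat.card (↥(PerpGroup D a) ⧸ Subgroup.center ↥(PerpGroup D a)) = 64561751654400 from
      M22.card_group (B.ctx a ha) (quot_numbered B ha), centre B ha,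
    Nat.card_congr (Subgroup.subgroupOfEquivOfLe (Subgroup.zpowers_le.mpr (self B ha))).toEquiv,
    Nat.card_zpowers, B.set.cls.1.1 a ha, mul_comm]

theorem card_group (hne : D.Nonempty) : Nat.card G = 31671 * (2 * 64561751654400) := by
  have hn := total B hne (counts B)
  obtain ⟨a, ha⟩ := hne
  rw [← M22.card_orbit a, M22.orbit_conj B.set.cls ha, hn, centralizer_eq B ha, card_perpGroup B ha]

theorem width (hne : D.Nonempty) : commutingWidth D = 23 := by
  have h := B.set.cls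
  have hw : ∀ a ∈ D, commutingWidth (perpSet D a) = 22 := fun a ha =>
    M22.width (B.ctx a ha) (quot_numbered B ha)
  have hbdd : ∀ {X : Type _} [Group X] [Finite X] (S : Set X),
      BddAbove {n : ℕ | ∃ E : Set X, E ⊆ S ∧ E.Finite ∧ (∀ a ∈ E, ∀ b ∈ E, Commute a b) ∧ E.ncard = n} :=
    fun S => ⟨S.ncard, by rintro n ⟨E, hE, -, -, rfl⟩; exact Set.ncard_le_ncard hE⟩
  obtain ⟨a, ha⟩ := hne
  refine le_antisymm ?_ ?_
  · refine csSup_le ⟨0, ∅, by simp, Set.finite_empty, by simp, by simp⟩ ?_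
    rintro n ⟨E, hE, -, hc, rfl⟩
    rcases E.eq_empty_or_nonempty with rfl | ⟨x, hx⟩
    · simp
    have hp : ∀ y ∈ E \ {x}, y ∈ perp D x := fun y hy => ⟨hE hy.1, hy.2, hc x hx y hy.1⟩
    let E' : Set (PerpQuot D x) := {q | ∃ (y : G) (hy : y ∈ E \ {x}), pr D x y (hp y hy) = q}
    have hcard : (E \ {x}).ncard = E'.ncard := Set.ncard_congr (fun y hy => pr D x y (hp y hy))
      (fun y hy => ⟨y, hy, rfl⟩)
      (fun y z hy hz e => pr_injective h B.set.tf (hE hx) (hp y hy) (hp z hz) e)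
      (fun q ⟨y, hy, e⟩ => ⟨y, hy, e⟩)
    have : E'.ncard ≤ 22 := hw x (hE hx) ▸ le_csSup (hbdd _) ⟨E', fun q ⟨y, hy, e⟩ => e ▸ pr_mem _,
      Set.toFinite _, fun q ⟨y, hy, e⟩ r ⟨z, hz, e'⟩ =>
        e ▸ e' ▸ commute_pr _ _ (hc y hy.1 z hz.1), rfl⟩
    rw [Set.ncard_sdiff_singleton_of_mem hx] at hcard
    omega
  · have hne' : {n : ℕ | ∃ E : Set (PerpQuot D a), E ⊆ perpSet D a ∧ E.Finite ∧
        (∀ x ∈ E, ∀ y ∈ E, Commute x y) ∧ E.ncard = n}.Nonempty :=
      ⟨0, ∅, by simp, Set.finite_empty, by simp, by simp⟩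
    obtain ⟨E', hE', -, hc', hn'⟩ := Nat.sSup_mem hne' (hbdd _)
    have hn : E'.ncard = 22 := hn'.trans (hw a ha)
    let E : Set G := {y | ∃ hy : y ∈ perp D a, pr D a y hy ∈ E'}
    have hcard : E.ncard = E'.ncard := Set.ncard_congr (fun y hy => pr D a y hy.1) (fun y hy => hy.2)
      (fun y z hy hz e => pr_injective h B.set.tf ha hy.1 hz.1 e) fun q hq => by
        obtain ⟨y, hy, rfl⟩ := exists_of_mem (hE' hq)
        exact ⟨y, ⟨hy, hq⟩, rfl⟩
    refine le_csSup (hbdd _) ⟨insert a E, ?_, Set.toFinite _, ?_, ?_⟩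
    · rintro y (rfl | hy)
      exacts [ha, hy.1.1]
    · rintro y (rfl | hy) z (rfl | hz)
      exacts [Commute.refl _, hz.1.2.2, hy.1.2.2.symm,
        commute_of_pr h B.set.tf ha hy.1 hz.1 (hc' _ hy.2 _ hz.2)]
    · rw [Set.ncard_insert_of_notMem (fun k => k.1.2.1 rfl) (Set.toFinite _), hcard, hn]

end M23

end Cfsg.Agent.Block.FischerTypes
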