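import Cfsg.Agent.Lib.Block.FischerTypes.M23Products
import Cfsg.Agent.Lib.Block.FischerTypes.M23Order
import Cfsg.Agent.Lib.Block.FischerTypes.M22Involutions

/-! Every involution in type M(23) is a product of at most three commuting transpositions. -/

set_option autoImplicit false
set_option linter.style.haveILetI false
set_option linter.unusedSectionVars false

namespace Cfsg.Agent.Block.FischerTypes.M23

open Cfsg.Agent.Spor.ThreeTrans

variable {G : Type*} [Group G] [Finite G] {D : Set G} (B : Base D)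
include B

theorem invol_fixed (hne : D.Nonempty) {x : G} (hx : x * x = 1) : ∃ d ∈ D, Commute x d := by
  classical
  have h := B.set.cls
  by_contra hno
  push Not at hno
  letI : Fintype ↥D := Fintype.ofFinite _
  let σ : Equiv.Perm ↥D :=
    ⟨fun u => ⟨x * u * x⁻¹, conj_mem h x u.2⟩, fun u => ⟨x⁻¹ * u * x, by simpa using conj_mem h x⁻¹ u.2⟩,
      fun u => Subtype.ext (by simp [mul_assoc]), fun u => Subtype.ext (by simp [mul_assoc])⟩
  have hσ : σ ^ 2 ^ 1 = 1 := Equiv.ext fun u => Subtype.ext (by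
    show x * (x * u * x⁻¹) * x⁻¹ = u
    rw [inv_eq_of_mul_eq_one_left hx, ← mul_assoc, ← mul_assoc, hx, one_mul, mul_assoc, hx, mul_one])
  haveI : Fact (Nat.Prime 2) := ⟨Nat.prime_two⟩
  have hsub : σ.supportᶜ = ∅ := by
    refine Finset.eq_empty_of_forall_notMem fun u hu => hno u u.2 ?_
    rw [Finset.mem_compl, Equiv.Perm.notMem_support] at hu
    exact mul_inv_eq_iff_eq_mul.mp (congrArg Subtype.val hu)
  have := Equiv.Perm.card_compl_support_modEq hσ
  rw [hsub, Finset.card_empty, ← Nat.card_eq_fintype_card, Nat.card_coe_set_eq, total B hne (counts B)] at this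
  exact absurd this (by decide)

/-- Every involution is a product of one, two or three commuting members. -/
theorem invol_fact (hne : D.Nonempty) {x : G} (hx : orderOf x = 2) :
    ∃ m, 1 ≤ m ∧ m ≤ 3 ∧ ∃ l, Fact' D m x l := by
  classical
  have h := B.set.cls
  have htf := B.set.tf
  have hxx : x * x = 1 := by rw [← pow_two, ← hx]; exact pow_orderOf_eq_one x
  have pos : ∀ {m : ℕ}, (∃ l, Fact' D m x l) → 1 ≤ m := fun {m} ⟨l, hl⟩ => by
    refine Nat.one_le_iff_ne_zero.mpr fun e => ?_
    subst e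
    have : x = 1 := by rw [← hl.2.2.2.2, List.eq_nil_of_length_eq_zero hl.2.1, List.prod_nil]
    rw [this, orderOf_one] at hx
    omega
  obtain ⟨d, hd, hxd⟩ := invol_fixed B hne hxx
  have hxP : x ∈ PerpGroup D d := by
    rw [← centralizer_eq B hd]
    exact Subgroup.mem_centralizer_singleton_iff.mpr hxd.eq
  obtain ⟨m, hm, l, hn, hlen, hlD, hlc, hlp⟩ := M22.involution_short (B.ctx d hd)
    (x := (QuotientGroup.mk ⟨x, hxP⟩ : PerpQuot D d))
    (by rw [← QuotientGroup.mk_mul]
        exact (congrArg _ (Subtype.ext hxx)).trans (QuotientGroup.mk_one _))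
  let φ : PerpQuot D d → G := fun q => if hq : q ∈ perpSet D d then (exists_of_mem hq).choose else 1
  have hφ : ∀ q ∈ perpSet D d, ∃ hu : φ q ∈ perp D d, pr D d (φ q) hu = q := fun q hq => by
    simp only [φ, dif_pos hq]
    exact (exists_of_mem hq).choose_spec
  have lift : ∀ l : List (PerpQuot D d), (∀ q ∈ l, q ∈ perpSet D d) → ∃ U : ↥(PerpGroup D d),
      (U : G) = (l.map φ).prod ∧ (QuotientGroup.mk U : PerpQuot D d) = l.prod := by
    intro l
    induction l with
    | nil => exact fun _ => ⟨1, rfl, rfl⟩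
    | cons q l ih =>
      intro hl
      obtain ⟨U, hU, hU'⟩ := ih fun r hr => hl r (List.mem_cons_of_mem _ hr)
      obtain ⟨hu, e⟩ := hφ q (hl q List.mem_cons_self)
      refine ⟨M22.el hu * U, by simp [hU], ?_⟩
      rw [QuotientGroup.mk_mul, hU', List.prod_cons]
      exact congrArg (· * l.prod) e
  obtain ⟨U, hU, hU'⟩ := lift l hlD
  have hμ : ∀ u ∈ l.map φ, u ∈ perp D d := fun u hu => by
    obtain ⟨q, hq, rfl⟩ := List.mem_map.mp hu
    exact (hφ q (hlD q hq)).1
  have hμc : ∀ u ∈ l.map φ, ∀ v ∈ l.map φ, Commute u v := fun u hu v hv => by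
    obtain ⟨q, hq, rfl⟩ := List.mem_map.mp hu
    obtain ⟨r, hr, rfl⟩ := List.mem_map.mp hv
    obtain ⟨ku, eq'⟩ := hφ q (hlD q hq)
    obtain ⟨kv, er⟩ := hφ r (hlD r hr)
    exact commute_of_pr h htf hd ku kv (by rw [eq', er]; exact hlc q hq r hr)
  have hμn : (l.map φ).Nodup := hn.map_on fun q hq r hr e => by
    obtain ⟨ku, eq'⟩ := hφ q (hlD q hq)
    obtain ⟨kv, er⟩ := hφ r (hlD r hr)
    rw [← eq', ← er]
    congr 1
  have hz : (⟨x, hxP⟩ * U⁻¹ : ↥(PerpGroup D d)) ∈ Subgroup.center ↥(PerpGroup D d) := by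
    rw [← QuotientGroup.eq_one_iff, QuotientGroup.mk_mul, QuotientGroup.mk_inv, hU', hlp, mul_inv_cancel]
  have hsq := prod_mul_prod h.1 _ (fun u hu => (hμ u hu).1) hμc
  have hlen' : (l.map φ).length = m := by rw [List.length_map, hlen]
  rcases centre_perp B hd
      (hxd.symm.mul_right (Commute.list_prod_right _ d fun u hu => (hμ u hu).2.2).inv_right)
      (fun y hy => by
        have := commute_of_center hz (Subgroup.subset_closure hy)
        rwa [Subgroup.coe_mul, Subgroup.coe_inv, hU] at this) with k | k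
  · have hf : Fact' D m x (l.map φ) :=
      ⟨hμn, hlen', fun u hu => (hμ u hu).1, hμc, (mul_inv_eq_one.mp k).symm⟩
    exact ⟨m, pos ⟨_, hf⟩, hm, _, hf⟩
  · have hdn : (d :: l.map φ).Nodup := List.nodup_cons.mpr ⟨fun k' => (hμ d k').2.1 rfl, hμn⟩
    have hf : Fact' D (m + 1) x (d :: l.map φ) := by
      refine ⟨hdn, by simp [hlen], fun u hu => (List.mem_cons.mp hu).elim (· ▸ hd) fun k' => (hμ u k').1,
        ?_, by rw [List.prod_cons]; exact (mul_inv_eq_iff_eq_mul.mp k).symm⟩
      intro u hu v hv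
      rcases List.mem_cons.mp hu with rfl | k1 <;> rcases List.mem_cons.mp hv with e | k2
      · rw [e]
      · exact (hμ v k2).2.2
      · rw [e]; exact (hμ u k1).2.2.symm
      · exact hμc u k1 v k2
    rcases Nat.lt_or_ge m 3 with k3 | k3
    · exact ⟨m + 1, by omega, by omega, _, hf⟩
    · obtain rfl : m = 3 := by omega
      obtain ⟨l', hl'⟩ := four_to_three B hf
      exact ⟨3, by omega, le_rfl, l', hl'⟩

end Cfsg.Agent.Block.FischerTypes.M23
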