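import Cfsg.Agent.Lib.Block.FischerTypes.M23Products
import Cfsg.Agent.Lib.Block.FischerTypes.M22Quasi
import Cfsg.Agent.Lib.Block.FischerTypes.U6Code.Planes

/-! The centraliser of a commuting pair in type M(23). -/

set_option autoImplicit false
set_option linter.style.haveILetI false
set_option linter.unusedSectionVars false

namespace Cfsg.Agent.Block.FischerTypes

open Cfsg Cfsg.Agent.Spor.ThreeTrans
open scoped commutatorElement

theorem M22.exists_off_hexad {G : Type*} [Group G] [Finite G] {D : Set G} (C : M22.Ctx D) {u : G}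
    (hu : u ∈ D) : ∃ p q r : G, p ∈ perp D u ∧ q ∈ common D u p ∧ r ∈ common D p q ∧ r ∈ perp D u ∧
      ¬ ∀ y ∈ common D p q, Commute y u ↔ Commute y r := by
  classical
  obtain ⟨M⟩ := M22.numbered_ctx C u hu
  have hp := U6Code.plane_w
  simp only [Bool.and_eq_true, List.all_eq_true] at hp
  have hm : ∀ c ∈ U6Code.planeList, U6Code.isPt c = true := fun c hc =>
    U6Code.mem_ptList.mp (List.mem_filter.mp (List.mem_filter.mp hc).1).1
  let E : Set G := M.pt '' (↑U6Code.planeList.toFinset : Set ℕ)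
  have hE : E.ncard = 21 := by
    rw [Set.InjOn.ncard_image, Set.ncard_coe_finset,
      List.toFinset_card_of_nodup (show U6Code.planeList.Nodup from (U6Code.Model.nodup_ptList.filter _).filter _),
      Nat.eq_of_beq_eq_true hp.1]
    exact fun c hc d hd => M.inj c d (hm c (List.mem_toFinset.mp hc)) (hm d (List.mem_toFinset.mp hd))
  have hEu : ∀ x ∈ E, x ∈ perp D u := by
    rintro _ ⟨c, hc, rfl⟩; exact M.mem c (hm c (List.mem_toFinset.mp hc))
  have hEc : ∀ x ∈ E, ∀ y ∈ E, Commute x y := by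
    rintro _ ⟨c, hc, rfl⟩ _ ⟨d, hd, rfl⟩
    have hc := List.mem_toFinset.mp hc
    have hd := List.mem_toFinset.mp hd
    exact (M.comm c d (hm c hc) (hm d hd)).mpr (hp.2 c hc d hd)
  obtain ⟨p, hpE⟩ := Set.nonempty_of_ncard_ne_zero (s := E) (by omega)
  obtain ⟨q, hqE, hqp⟩ := Set.exists_ne_of_one_lt_ncard (s := E) (by omega) p
  have hpu := hEu p hpE
  have hq : q ∈ common D u p := ⟨hEu q hqE, (hEu q hqE).1, hqp, hEc p hpE q hqE⟩
  have hcu : u ∈ common D p q := ⟨M22.perp_symm hu hpu, M22.perp_symm hu hq.1⟩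
  obtain ⟨T, -, hTl, hT, -, -⟩ := hexad C.set C.cen C.hex hpu.1 ⟨hq.2.1, hq.2.2.1, hq.2.2.2⟩ hcu
  obtain ⟨r, hrE, hr⟩ : ∃ r ∈ E, r ∉ ({p, q} : Set G) ∪ ↑T.toFinset := Set.not_subset.mp fun k => by
    have h1 := (Set.ncard_le_ncard k).trans (Set.ncard_union_le _ _)
    rw [Set.ncard_pair (Ne.symm hqp), Set.ncard_coe_finset] at h1
    have := List.toFinset_card_le T
    omega
  simp only [Set.mem_union, Set.mem_insert_iff, Set.mem_singleton_iff, List.coe_toFinset, Set.mem_ofPred_eq,
    not_or] at hr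
  have hrc : r ∈ common D p q :=
    ⟨⟨(hEu r hrE).1, hr.1.1, hEc p hpE r hrE⟩, ⟨(hEu r hrE).1, hr.1.2, hEc q hqE r hrE⟩⟩
  exact ⟨p, q, r, hpu, hq, hrc, hEu r hrE, fun k => hr.2 ((hT r).mpr ⟨hrc, k⟩)⟩

namespace M23

open Cfsg.Agent.Block.FischerTypes.M22 (el perp_symm)

variable {G : Type*} [Group G] [Finite G] {D : Set G} (B : Base D)
include B

theorem pair_facts {d e : G} (hd : d ∈ D) (he : e ∈ perp D d) :
    ∃ (π : ↥(Subgroup.centralizer ({d, e} : Set G)) →* PerpQuot D d),
      π.range = PerpGroup (perpSet D d) (pr D d e he) ∧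
      (∀ k, π k = 1 → (k : G) = 1 ∨ (k : G) = d) ∧
      ∀ (k : ↥(Subgroup.centralizer ({d, e} : Set G))) (hk : (k : G) ∈ perp D d), π k = pr D d k hk := by
  have h := B.set.cls
  let K := Subgroup.centralizer ({d, e} : Set G)
  have hle : K ≤ PerpGroup D d := by
    rw [← centralizer_eq B hd]
    exact Subgroup.centralizer_le (by simp)
  refine ⟨(QuotientGroup.mk' _).comp (Subgroup.inclusion hle), ?_, fun k hk => ?_, fun k hk => rfl⟩
  · rw [← M22.centralizer_eq (B.ctx d hd) (pr_mem he)]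
    ext q
    rw [Subgroup.mem_centralizer_singleton_iff]
    constructor
    · rintro ⟨k, rfl⟩
      have hk := Subgroup.mem_centralizer_iff.mp k.2 e (by simp)
      have : (Subgroup.inclusion hle k) * el he = el he * Subgroup.inclusion hle k := Subtype.ext hk.symm
      exact congrArg (QuotientGroup.mk' (Subgroup.center ↥(PerpGroup D d))) this
    · intro hq
      induction q using QuotientGroup.induction_on with
      | H g =>
        have hgd : Commute (g : G) d := commute_all (fun x hx => hx.2.2.symm) g.2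
        have hge : (g : G) * e * (g : G)⁻¹ ∈ perp D d := perp_conj' h hgd he
        have e1 : pr D d _ hge = pr D d e he := by
          show QuotientGroup.mk' _ (g * el he * g⁻¹) = _
          rw [map_mul, map_mul, map_inv]
          exact mul_inv_eq_iff_eq_mul.mpr hq
        have hc : Commute (g : G) e := mul_inv_eq_iff_eq_mul.mp (pr_injective h B.set.tf hd hge he e1)
        have hgK : (g : G) ∈ K := Subgroup.mem_centralizer_iff.mpr (by
          rintro z (rfl | rfl)
          exacts [hgd.symm.eq, hc.symm.eq])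
        exact ⟨⟨g, hgK⟩, rfl⟩
  · have hz := (QuotientGroup.eq_one_iff _).mp hk
    rw [centre B hd, Subgroup.mem_subgroupOf] at hz
    obtain ⟨n, hn⟩ := hz
    have hn' : d ^ n = (k : G) := hn
    rcases Int.even_or_odd' n with ⟨m, rfl | rfl⟩
    · left; rw [← hn', zpow_mul, zpow_ofNat, pow_two, mul_self h.1 hd, one_zpow]
    · right; rw [← hn', zpow_add, zpow_mul, zpow_ofNat, pow_two, mul_self h.1 hd, one_zpow, one_mul, zpow_one]

theorem pair_perfect {d e : G} (hd : d ∈ D) (he : e ∈ perp D d) :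
    commutator ↥(Subgroup.centralizer ({d, e} : Set G)) = ⊤ := by
  classical
  have h := B.set.cls
  have C := B.ctx d hd
  obtain ⟨π, hr, hk, hpi⟩ := pair_facts B hd he
  let K := Subgroup.centralizer ({d, e} : Set G)
  have inK : ∀ {x}, x ∈ perp D d → x ∈ perp D e → x ∈ K := fun {x} h1 h2 =>
    Subgroup.mem_centralizer_iff.mpr (by rintro z (rfl | rfl); exacts [h1.2.2.eq, h2.2.2.eq])
  have hdK : d ∈ K := Subgroup.mem_centralizer_iff.mpr (by
    rintro z (rfl | rfl); exacts [rfl, he.2.2.symm.eq])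
  let f := QuotientGroup.mk' (commutator ↥K)
  obtain ⟨p, q, r, hp, hq, hrpq, hru, hoff⟩ := M22.exists_off_hexad C (pr_mem he)
  obtain ⟨T, hTn, hTl, hT, hTc, hT1⟩ := hexad C.set C.cen C.hex hp.1 ⟨hq.2.1, hq.2.2.1, hq.2.2.2⟩ hrpq
  have hTu : ∀ x ∈ T, x ∈ perp (perpSet D d) (pr D d e he) := fun x hx => by
    obtain ⟨hx1, hx2⟩ := (hT x).mp hx
    have hu : pr D d e he ∈ common (perpSet D d) p q := ⟨perp_symm (pr_mem he) hp, perp_symm (pr_mem he) hq.1⟩
    refine ⟨hx1.1.1, fun k => hoff fun y hy => ?_, (hx2 _ hu).mp hru.2.2⟩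
    rw [← k]
    exact (hx2 y hy).symm
  obtain ⟨p, hp', rfl⟩ := exists_of_mem hp.1
  obtain ⟨q, hq', rfl⟩ := exists_of_mem hq.2.1
  have hpe : p ∈ perp D e := (toK B hd he hp').mp hp
  have hqe : q ∈ perp D e := (toK B hd he hq').mp hq.1
  let φ : PerpQuot D d → G := fun x => if hx : x ∈ perpSet D d then (exists_of_mem hx).choose else 1
  have hφ : ∀ x ∈ T, ∃ hu : φ x ∈ perp D d, pr D d (φ x) hu = x ∧ φ x ∈ perp D e := fun x hx => by
    obtain ⟨hu, hpx⟩ := (exists_of_mem ((hTu x hx).1)).choose_spec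
    simp only [φ, dif_pos (hTu x hx).1]
    exact ⟨hu, hpx, (toK B hd he hu).mp (by rw [hpx]; exact hTu x hx)⟩
  -- all members of the common perpendicular have one image
  have conjK : ∀ {u v : G}, u ∈ perp D d → u ∈ perp D e → ∀ hv : v ∈ perp D d, ∀ hv' : v ∈ perp D e,
      ∀ hu : u ∈ K, f ⟨u, hu⟩ = f ⟨v, inK hv hv'⟩ := by
    intro u v hu hu' hv hv' huK
    obtain ⟨g, hg, eg⟩ := M22.lift_conj C (pr_mem he) ((toK B hd he hu).mpr hu') ((toK B hd he hv).mpr hv')
    obtain ⟨k, hk'⟩ := (show g ∈ π.range by rw [hr]; exact hg)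
    have hkd : Commute (k : G) d := (Subgroup.mem_centralizer_iff.mp k.2 d (by simp)).symm
    have hw : (k : G) * u * (k : G)⁻¹ ∈ perp D d := perp_conj' h hkd hu
    have e1 : (k : G) * u * (k : G)⁻¹ = v := by
      refine pr_injective h B.set.tf hd hw hv ?_
      refine (hpi (k * ⟨u, huK⟩ * k⁻¹) hw).symm.trans ?_
      rw [map_mul, map_mul, map_inv, hk', hpi ⟨u, huK⟩ hu, eg]
    have e2 : (⟨v, inK hv hv'⟩ : ↥K) = k * ⟨u, huK⟩ * k⁻¹ := Subtype.ext e1.symm
    refine (QuotientGroup.eq_iff_div_mem).mpr ?_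
    rw [e2]
    have : (⟨u, huK⟩ : ↥K) / (k * ⟨u, huK⟩ * k⁻¹) = ⁅(⟨u, huK⟩ : ↥K), k⁆ := by
      rw [div_eq_mul_inv, commutatorElement_def]; simp [mul_assoc]
    rw [this]
    exact Subgroup.commutator_mem_commutator (Subgroup.mem_top _) (Subgroup.mem_top _)
  have hnd : (p :: q :: T.map φ).Nodup ∧ (∀ x ∈ p :: q :: T.map φ, x ∈ perp D d ∧ x ∈ perp D e) ∧
      (∀ x ∈ p :: q :: T.map φ, ∀ y ∈ p :: q :: T.map φ, Commute x y) := by
    have hTm : ∀ x ∈ T.map φ, ∃ hu : x ∈ perp D d, pr D d x hu ∈ T ∧ x ∈ perp D e := fun x hx => by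
      obtain ⟨y, hy, rfl⟩ := List.mem_map.mp hx
      obtain ⟨hu, e', k⟩ := hφ y hy
      exact ⟨hu, e'.symm ▸ hy, k⟩
    have hpq' : Commute p q := commute_of_pr h B.set.tf hd hp' hq' hq.2.2.2
    refine ⟨?_, ?_, ?_⟩
    · simp only [List.nodup_cons, List.mem_cons, not_or]
      refine ⟨⟨fun k => hq.2.2.1 (by subst k; rfl), fun k => ?_⟩, fun k => ?_, ?_⟩
      · obtain ⟨hu, k1, -⟩ := hTm p k
        exact ((hT _).mp k1).1.1.2.1 rfl
      · obtain ⟨hu, k1, -⟩ := hTm q k
        exact ((hT _).mp k1).1.2.2.1 rfl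
      · exact hTn.map_on fun x hx y hy k => by
          obtain ⟨hu, ex, -⟩ := hφ x hx
          obtain ⟨hv, ey, -⟩ := hφ y hy
          rw [← ex, ← ey]
          congr 1
    · simp only [List.mem_cons]
      rintro x (rfl | rfl | hx)
      · exact ⟨hp', hpe⟩
      · exact ⟨hq', hqe⟩
      · obtain ⟨hu, -, k⟩ := hTm x hx; exact ⟨hu, k⟩
    · have cp : ∀ x ∈ T.map φ, Commute p x ∧ Commute q x := fun x hx => by
        obtain ⟨hu, k1, -⟩ := hTm x hx
        exact ⟨commute_of_pr h B.set.tf hd hp' hu ((hT _).mp k1).1.1.2.2,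
          commute_of_pr h B.set.tf hd hq' hu ((hT _).mp k1).1.2.2.2⟩
      simp only [List.mem_cons]
      rintro x (rfl | rfl | hx) y (rfl | rfl | hy)
      exacts [.refl _, hpq', (cp y hy).1, hpq'.symm, .refl _, (cp y hy).2, (cp x hx).1.symm, (cp x hx).2.symm,
        by obtain ⟨hu, k1, -⟩ := hTm x hx
           obtain ⟨hv, k2, -⟩ := hTm y hy
           exact commute_of_pr h B.set.tf hd hu hv (hTc _ k1 _ k2)]
  obtain ⟨hn6, hm6, hc6⟩ := hnd
  have inK' : ∀ x ∈ p :: q :: T.map φ, x ∈ K := fun x hx => inK (hm6 x hx).1 (hm6 x hx).2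
  have lift : ∀ l : List G, (hl : ∀ x ∈ l, x ∈ p :: q :: T.map φ) →
      ∃ U : ↥K, (U : G) = l.prod ∧ π U = (l.map fun x => if hx : x ∈ perp D d then pr D d x hx else 1).prod ∧
        f U = f ⟨p, inK hp' hpe⟩ ^ l.length := by
    intro l
    induction l with
    | nil => exact fun _ => ⟨1, rfl, by simp, by simp⟩
    | cons x l ih =>
      intro hl
      have hx := hl x List.mem_cons_self
      obtain ⟨U, h1, h2, h3⟩ := ih fun y hy => hl y (List.mem_cons_of_mem _ hy)
      refine ⟨⟨x, inK' x hx⟩ * U, by simp [h1], ?_, ?_⟩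
      · rw [map_mul, h2, hpi ⟨x, inK' x hx⟩ (hm6 x hx).1, List.map_cons, List.prod_cons, dif_pos (hm6 x hx).1]
      · rw [map_mul, h3, conjK (hm6 x hx).1 (hm6 x hx).2 hp' hpe (inK' x hx), List.length_cons, pow_succ']
  obtain ⟨U, hU1, hU2, hU3⟩ := lift _ fun x hx => hx
  have hU0 : π U = 1 := by
    rw [hU2, List.map_cons, List.map_cons, dif_pos hp', dif_pos hq', List.map_map,
      List.map_congr_left (g := id) (fun x hx => by
        obtain ⟨hu, e', -⟩ := hφ x hx
        simp only [Function.comp_apply, dif_pos hu, e', id_eq]), List.map_id, List.prod_cons, List.prod_cons,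
      ← mul_assoc]
    exact hT1
  have hlen : (p :: q :: T.map φ).length = 6 := by simp [hTl]
  have hUd : (U : G) = d := (hk U hU0).resolve_left fun k =>
    six_ne B hn6 hlen (fun x hx => (hm6 x hx).1.1) hc6 (hU1.symm.trans k)
  have hfd : f ⟨d, hdK⟩ = 1 := by
    rw [show (⟨d, hdK⟩ : ↥K) = U from Subtype.ext hUd.symm, hU3, hlen, show (6 : ℕ) = 2 * 3 from rfl, pow_mul,
      pow_two, ← map_mul, show (⟨p, inK hp' hpe⟩ : ↥K) * ⟨p, inK hp' hpe⟩ = 1 from
        Subtype.ext (mul_self h.1 hp'.1), map_one, one_pow]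
  rw [eq_top_iff]
  intro k _
  have hmap : (commutator ↥K).map π = π.range := by
    rw [hr, commutator_def, Subgroup.map_commutator, ← MonoidHom.range_eq_map, hr]
    exact le_antisymm (Subgroup.commutator_le_self _) (by
      have := congrArg (Subgroup.map (PerpGroup (perpSet D d) (pr D d e he)).subtype) (M22.perfect C (pr_mem he))
      rw [commutator_def, Subgroup.map_commutator, ← MonoidHom.range_eq_map, Subgroup.range_subtype] at this
      exact this.ge)
  obtain ⟨c, hc, ec⟩ := (show π k ∈ (commutator ↥K).map π by rw [hmap]; exact ⟨k, rfl⟩)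
  rcases hk (k * c⁻¹) (by rw [map_mul, map_inv, ec, mul_inv_cancel]) with e' | e'
  · rw [show k = c from mul_inv_eq_one.mp (Subtype.ext e')]; exact hc
  · rw [show k = (⟨d, hdK⟩ : ↥K) * c from mul_inv_eq_iff_eq_mul.mp (Subtype.ext e')]
    exact mul_mem ((QuotientGroup.eq_one_iff _).mp hfd) hc

theorem pair_centre {d e : G} (hd : d ∈ D) (he : e ∈ perp D d) :
    (Subgroup.center ↥(Subgroup.centralizer ({d, e} : Set G))).map
      (Subgroup.centralizer ({d, e} : Set G)).subtype = Subgroup.closure ({d, e} : Set G) := by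
  have h := B.set.cls
  have C := B.ctx d hd
  obtain ⟨π, hr, hk, hpi⟩ := pair_facts B hd he
  let K := Subgroup.centralizer ({d, e} : Set G)
  apply le_antisymm
  · rintro _ ⟨z, hz, rfl⟩
    have hzP : π z ∈ PerpGroup (perpSet D d) (pr D d e he) := hr ▸ ⟨z, rfl⟩
    have hzc : (⟨π z, hzP⟩ : ↥(PerpGroup (perpSet D d) (pr D d e he))) ∈ Subgroup.center _ := by
      refine Subgroup.mem_center_iff.mpr fun g => Subtype.ext ?_
      obtain ⟨k, hk'⟩ := (show (g : PerpQuot D d) ∈ π.range by rw [hr]; exact g.2)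
      show (g : PerpQuot D d) * π z = π z * g
      rw [← hk', ← map_mul, ← map_mul, Subgroup.mem_center_iff.mp hz k]
    rw [C.centre _ (pr_mem he), Subgroup.mem_subgroupOf] at hzc
    obtain ⟨n, hn⟩ := hzc
    have hn' : pr D d e he ^ n = π z := hn
    have heK : e ∈ K := Subgroup.mem_centralizer_iff.mpr (by
      rintro w (rfl | rfl); exacts [he.2.2.eq, rfl])
    rcases hk (z * ((⟨e, heK⟩ : ↥K) ^ n)⁻¹) (by
      rw [map_mul, map_inv, map_zpow, hpi ⟨e, heK⟩ he, hn', mul_inv_cancel]) with k | k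
    · have : (z : G) = e ^ n := by
        have := mul_inv_eq_one.mp (show (z : G) * (e ^ n)⁻¹ = 1 by simpa using k)
        exact this
      show (z : G) ∈ _
      rw [this]
      exact zpow_mem (Subgroup.subset_closure (by simp)) n
    · have : (z : G) = d * e ^ n := mul_inv_eq_iff_eq_mul.mp (show (z : G) * (e ^ n)⁻¹ = d by simpa using k)
      show (z : G) ∈ _
      rw [this]
      exact mul_mem (Subgroup.subset_closure (by simp)) (zpow_mem (Subgroup.subset_closure (by simp)) n)
  · refine (Subgroup.closure_le _).mpr fun x hx => ?_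
    have hxK : x ∈ K := Subgroup.mem_centralizer_iff.mpr (by
      rintro w hw
      rcases hx with rfl | rfl <;> rcases hw with rfl | rfl
      exacts [rfl, he.2.2.symm.eq, he.2.2.eq, rfl])
    exact ⟨⟨x, hxK⟩, Subgroup.mem_center_iff.mpr fun k => Subtype.ext
      (Subgroup.mem_centralizer_iff.mp k.2 x hx).symm, rfl⟩

theorem pair_model {d e : G} (hd : d ∈ D) (he : e ∈ perp D d) :
    ∃ (F : Type) (_ : Field F) (_ : Fintype F), Fintype.card F = 4 ∧
      Nonempty (↥(Subgroup.centralizer ({d, e} : Set G)) ⧸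
        Subgroup.center ↥(Subgroup.centralizer ({d, e} : Set G)) ≃* PSU 6 F 2) := by
  have C := B.ctx d hd
  obtain ⟨F, i, j, h4, Φ, hsurj, -, -, -, -, hker⟩ := C.mdl _ (pr_mem he)
  obtain ⟨π, hr, hk, hpi⟩ := pair_facts B hd he
  let K := Subgroup.centralizer ({d, e} : Set G)
  let ρ : ↥K →* PSU 6 F 2 := Φ.comp (π.codRestrict _ fun k => hr ▸ ⟨k, rfl⟩)
  have hρ : Function.Surjective ρ := fun y => by
    obtain ⟨g, rfl⟩ := hsurj y
    obtain ⟨k, hk'⟩ := (show (g : PerpQuot D d) ∈ π.range by rw [hr]; exact g.2)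
    exact ⟨k, congrArg Φ (Subtype.ext hk')⟩
  refine ⟨F, i, j, h4, ⟨(QuotientGroup.quotientMulEquivOfEq ?_).trans
    (QuotientGroup.quotientKerEquivOfSurjective ρ hρ)⟩⟩
  haveI := (psu_six h4).1
  obtain ⟨-, x₀, y₀, hxy⟩ := psu_six h4
  have hbot : Subgroup.center (PSU 6 F 2) = ⊥ :=
    (Subgroup.Normal.eq_bot_or_eq_top inferInstance).resolve_right fun ht =>
      hxy (Subgroup.mem_center_iff.mp (ht ▸ Subgroup.mem_top x₀) y₀).symm
  apply le_antisymm
  · intro z hz
    rw [MonoidHom.mem_ker, ← Subgroup.mem_bot, ← hbot, Subgroup.mem_center_iff]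
    intro y
    obtain ⟨k, rfl⟩ := hρ y
    rw [← map_mul, ← map_mul, Subgroup.mem_center_iff.mp hz k]
  · intro z hz
    have hzc := hker _ hz
    refine Subgroup.mem_center_iff.mpr fun k => ?_
    have e1 : π (k * z * k⁻¹ * z⁻¹) = 1 := by
      have k1 := congrArg Subtype.val (Subgroup.mem_center_iff.mp hzc (π.codRestrict _ (fun k => hr ▸ ⟨k, rfl⟩) k))
      simp only [Subgroup.coe_mul, MonoidHom.codRestrict_apply] at k1
      rw [map_mul, map_mul, map_mul, map_inv, map_inv, k1]
      group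
    rcases hk _ e1 with e' | e'
    · exact mul_inv_eq_iff_eq_mul.mp (mul_inv_eq_one.mp (Subtype.ext e' : k * z * k⁻¹ * z⁻¹ = 1))
    · -- the commutator pairing with a perfect group is trivial
      exfalso
      let χ : ↥K → Prop := fun k => k * z * k⁻¹ * z⁻¹ = 1
      have hcases : ∀ k : ↥K, (k * z * k⁻¹ * z⁻¹ = 1) ∨ ((k * z * k⁻¹ * z⁻¹ : ↥K) : G) = d := fun k => by
        rcases hk (k * z * k⁻¹ * z⁻¹) (by
          have k1 := congrArg Subtype.val (Subgroup.mem_center_iff.mp hzc (π.codRestrict _ (fun k => hr ▸ ⟨k, rfl⟩) k))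
          simp only [Subgroup.coe_mul, MonoidHom.codRestrict_apply] at k1
          rw [map_mul, map_mul, map_mul, map_inv, map_inv, k1]
          group) with q | q
        · exact Or.inl (Subtype.ext q)
        · exact Or.inr q
      let g : ↥K →* ↥K :=
        { toFun := fun k => k * z * k⁻¹ * z⁻¹
          map_one' := by simp
          map_mul' := fun a b => by
            have cb : ∀ a : ↥K, Commute a (b * z * b⁻¹ * z⁻¹) := fun a => by
              rcases hcases b with q | q
              · rw [q]; exact Commute.one_right a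
              · exact Subtype.ext (by
                  show (a : G) * ((b * z * b⁻¹ * z⁻¹ : ↥K) : G) = ((b * z * b⁻¹ * z⁻¹ : ↥K) : G) * (a : G)
                  rw [q]; exact (Subgroup.mem_centralizer_iff.mp a.2 d (by simp)).symm)
            calc a * b * z * (a * b)⁻¹ * z⁻¹ = a * (b * z * b⁻¹ * z⁻¹) * (z * a⁻¹ * z⁻¹) := by group
              _ = (b * z * b⁻¹ * z⁻¹) * (a * (z * a⁻¹ * z⁻¹)) := by rw [(cb a).eq]; group
              _ = (a * (z * a⁻¹ * z⁻¹)) * (b * z * b⁻¹ * z⁻¹) := ((cb _).eq).symm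
              _ = a * z * a⁻¹ * z⁻¹ * (b * z * b⁻¹ * z⁻¹) := by group }
      have hg : commutator ↥K ≤ g.ker := by
        rw [commutator_def, Subgroup.commutator_le]
        intro a _ b _
        rw [MonoidHom.mem_ker, map_commutatorElement, commutatorElement_eq_one_iff_commute]
        rcases hcases b with q | q
        · show Commute (g a) (b * z * b⁻¹ * z⁻¹)
          rw [q]; exact Commute.one_right _
        · exact Subtype.ext (by
            show (g a : G) * ((b * z * b⁻¹ * z⁻¹ : ↥K) : G) = ((b * z * b⁻¹ * z⁻¹ : ↥K) : G) * (g a : G)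
            rw [q]; exact (Subgroup.mem_centralizer_iff.mp (g a).2 d (by simp)).symm)
      rw [pair_perfect B hd he] at hg
      have : g k = 1 := hg (Subgroup.mem_top k)
      have h2 := B.set.cls.1.1 d hd
      rw [show d = ((g k : ↥K) : G) from e'.symm, this, Subgroup.coe_one, orderOf_one] at h2
      omega

theorem pair_centraliser {d e : G} (hd : d ∈ D) (he : e ∈ perp D d) :
    Subgroup.centralizer ({d, e} : Set G) ≤ Subgroup.centralizer ({d * e} : Set G) ∧
    ((Subgroup.centralizer ({d, e} : Set G)).subgroupOf (Subgroup.centralizer ({d * e} : Set G))).index = 2 ∧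
    ∀ c ∈ Subgroup.centralizer ({d * e} : Set G),
      (∀ k ∈ Subgroup.centralizer ({d, e} : Set G), c * k * c⁻¹ * k⁻¹ ∈ Subgroup.closure ({d, e} : Set G)) →
      c ∈ Subgroup.closure ({d, e} : Set G) := by
  have h := B.set.cls
  let K := Subgroup.centralizer ({d, e} : Set G)
  let V := Subgroup.closure ({d, e} : Set G)
  have hKC : K ≤ Subgroup.centralizer ({d * e} : Set G) := fun k hk =>
    Subgroup.mem_centralizer_singleton_iff.mpr
      ((show Commute k d from (Subgroup.mem_centralizer_iff.mp hk d (by simp)).symm).mul_right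
        (Subgroup.mem_centralizer_iff.mp hk e (by simp)).symm).eq
  have f0 : Fact' D 2 (d * e) [d, e] := ⟨by simp [Ne.symm he.2.1], rfl, by simp [hd, he.1],
    by simp [he.2.2, he.2.2.symm], by simp⟩
  have mv : ∀ c ∈ Subgroup.centralizer ({d * e} : Set G),
      (c * d * c⁻¹ = d ∧ c * e * c⁻¹ = e) ∨ (c * d * c⁻¹ = e ∧ c * e * c⁻¹ = d) := by
    intro c hc
    have hce : c * (d * e) * c⁻¹ = d * e := conj_self_eq (Subgroup.mem_centralizer_singleton_iff.mp hc)
    have f1 : Fact' D 2 (d * e) [c * d * c⁻¹, c * e * c⁻¹] := by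
      refine ⟨by simp [Ne.symm he.2.1], rfl, by simp [conj_mem h c hd, conj_mem h c he.1], ?_, by
        simpa [mul_assoc] using hce⟩
      have k := (commute_conj_iff c d e).mpr he.2.2
      simp only [List.mem_cons, List.not_mem_nil, or_false]
      rintro x (rfl | rfl) y (rfl | rfl)
      exacts [.refl _, k, k.symm, .refl _]
    have hu := pair_unique h B.set.tf f1 f0
    have h1 := (hu (c * d * c⁻¹)).mp (by simp)
    have h2 := (hu (c * e * c⁻¹)).mp (by simp)
    have hne : c * d * c⁻¹ ≠ c * e * c⁻¹ := by simp [Ne.symm he.2.1]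
    simp only [List.mem_cons, List.not_mem_nil, or_false] at h1 h2
    rcases h1 with k1 | k1 <;> rcases h2 with k2 | k2
    · exact absurd (k1.trans k2.symm) hne
    · exact Or.inl ⟨k1, k2⟩
    · exact Or.inr ⟨k1, k2⟩
    · exact absurd (k1.trans k2.symm) hne
  have inK : ∀ {c : G}, c * d * c⁻¹ = d → c * e * c⁻¹ = e → c ∈ K := fun {c} k1 k2 =>
    Subgroup.mem_centralizer_iff.mpr (by
      rintro z (rfl | rfl)
      exacts [(mul_inv_eq_iff_eq_mul.mp k1).symm, (mul_inv_eq_iff_eq_mul.mp k2).symm])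
  obtain ⟨s, hs1, hs2⟩ := pair_conj B.set hd he he.1 (b' := d) ⟨hd, Ne.symm he.2.1, he.2.2.symm⟩
  have hsC : s ∈ Subgroup.centralizer ({d * e} : Set G) := by
    refine Subgroup.mem_centralizer_singleton_iff.mpr (mul_inv_eq_iff_eq_mul.mp ?_)
    rw [show s * (d * e) * s⁻¹ = (s * d * s⁻¹) * (s * e * s⁻¹) by simp [mul_assoc], hs1, hs2, he.2.2.eq]
  have hsK : s ∉ K := fun k => he.2.1 (by
    rw [← hs1]; exact conj_self_eq (Subgroup.mem_centralizer_iff.mp k d (by simp)).symm)
  refine ⟨hKC, ?_, fun c hc hV => ?_⟩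
  · rw [Subgroup.index_eq_two_iff_exists_notMem_and]
    refine ⟨⟨s, hsC⟩, hsK, fun b => ?_⟩
    rcases mv b b.2 with ⟨k1, k2⟩ | ⟨k1, k2⟩
    · exact Or.inr (inK k1 k2)
    · left
      show (b : G) * s ∈ K
      refine inK ?_ ?_
      · rw [show (b : G) * s * d * ((b : G) * s)⁻¹ = b * (s * d * s⁻¹) * (b : G)⁻¹ by simp [mul_assoc], hs1, k2]
      · rw [show (b : G) * s * e * ((b : G) * s)⁻¹ = b * (s * e * s⁻¹) * (b : G)⁻¹ by simp [mul_assoc], hs2, k1]
  · have hVK : ∀ v ∈ V, ∀ k ∈ K, Commute v k := fun v hv k hk => by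
      induction hv using Subgroup.closure_induction with
      | mem x hx => exact Subgroup.mem_centralizer_iff.mp hk x hx
      | one => exact Commute.one_left k
      | mul x y _ _ ihx ihy => exact ihx.mul_left ihy
      | inv x _ ih => exact ih.inv_left
    have hVleK : V ≤ K := by
      refine (Subgroup.closure_le _).mpr fun x hx => Subgroup.mem_centralizer_iff.mpr ?_
      rintro w hw
      rcases hx with rfl | rfl <;> rcases hw with rfl | rfl
      exacts [rfl, he.2.2.symm.eq, he.2.2.eq, rfl]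
    let g : ↥K →* ↥K :=
      { toFun := fun k => ⟨c * k * c⁻¹ * (k : G)⁻¹, hVleK (hV k k.2)⟩
        map_one' := Subtype.ext (by simp)
        map_mul' := fun a b => Subtype.ext (by
          show c * ((a : G) * b) * c⁻¹ * ((a : G) * b)⁻¹ = c * a * c⁻¹ * (a : G)⁻¹ * (c * b * c⁻¹ * (b : G)⁻¹)
          have k1 := hVK _ (hV b b.2) ((a : G)⁻¹) (inv_mem a.2)
          calc c * ((a : G) * b) * c⁻¹ * ((a : G) * b)⁻¹
              = c * a * c⁻¹ * ((c * b * c⁻¹ * (b : G)⁻¹) * (a : G)⁻¹) := by group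
            _ = c * a * c⁻¹ * ((a : G)⁻¹ * (c * b * c⁻¹ * (b : G)⁻¹)) := by rw [k1.eq]
            _ = _ := by group) }
    have hg : commutator ↥K ≤ g.ker := by
      rw [commutator_def, Subgroup.commutator_le]
      intro a _ b _
      rw [MonoidHom.mem_ker, map_commutatorElement, commutatorElement_eq_one_iff_commute]
      exact Subtype.ext (hVK _ (hV a a.2) _ (g b).2).eq
    rw [pair_perfect B hd he] at hg
    have hcent : ∀ k ∈ K, c * k * c⁻¹ = k := fun k hk => by
      have := congrArg Subtype.val (hg (Subgroup.mem_top (⟨k, hk⟩ : ↥K)))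
      exact mul_inv_eq_one.mp this
    have hdK : d ∈ K := hVleK (Subgroup.subset_closure (by simp))
    have heK : e ∈ K := hVleK (Subgroup.subset_closure (by simp))
    have hcK : c ∈ K := inK (hcent d hdK) (hcent e heK)
    have : c ∈ (Subgroup.center ↥K).map K.subtype := ⟨⟨c, hcK⟩, Subgroup.mem_center_iff.mpr fun k =>
      Subtype.ext (mul_inv_eq_iff_eq_mul.mp (hcent k k.2)).symm, rfl⟩
    rw [pair_centre B hd he] at this
    exact this

end M23

end Cfsg.Agent.Block.FischerTypes
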