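import Cfsg.Agent.Lib.Block.FischerTypes.Hexad
import Mathlib.GroupTheory.Perm.Cycle.Type

/-! Short products of pairwise commuting members. -/

set_option autoImplicit false
set_option linter.style.haveILetI false
set_option linter.unusedSectionVars false

namespace Cfsg.Agent.Block.FischerTypes

open Cfsg.Agent.Spor.ThreeTrans

variable {G : Type*} [Group G] [Finite G] {D : Set G}

theorem pr_list (a : G) (l : List G) (hl : ∀ x ∈ l, x ∈ perp D a) :
    ∃ (U : ↥(PerpGroup D a)) (m : List (PerpQuot D a)), (U : G) = l.prod ∧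
      (QuotientGroup.mk U : PerpQuot D a) = m.prod ∧
      List.Forall₂ (fun x q => ∃ hx : x ∈ perp D a, pr D a x hx = q) l m := by
  induction l with
  | nil => exact ⟨1, [], rfl, rfl, List.Forall₂.nil⟩
  | cons x l ih =>
    obtain ⟨U, m, hU, hU', hf⟩ := ih fun y hy => hl y (List.mem_cons_of_mem _ hy)
    have hx := hl x List.mem_cons_self
    exact ⟨⟨x, Subgroup.subset_closure hx⟩ * U, pr D a x hx :: m, by simp [hU],
      by rw [QuotientGroup.mk_mul, hU', List.prod_cons], List.Forall₂.cons ⟨hx, rfl⟩ hf⟩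

/-- A product of members of a perpendicular that is trivial or the centre is trivial below. -/
theorem pr_prod_one {a : G} (l : List G) (hl : ∀ x ∈ l, x ∈ perp D a) (hprod : l.prod = 1 ∨ l.prod = a) :
    ∃ m : List (PerpQuot D a), m.prod = 1 ∧
      List.Forall₂ (fun x q => ∃ hx : x ∈ perp D a, pr D a x hx = q) l m := by
  obtain ⟨U, m, hU, hU', hf⟩ := pr_list a l hl
  refine ⟨m, ?_, hf⟩
  rw [← hU', QuotientGroup.eq_one_iff, Subgroup.mem_center_iff]
  intro g
  apply Subtype.ext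
  show (g : G) * U = U * g
  rcases hprod with e | e <;> rw [hU, e]
  · simp
  · exact (commute_all (fun x hx => hx.2.2.symm) g.2).eq

theorem fwd (h : IsThreeTranspositionClass D) (htf : TwinFree D) {a : G} (ha : a ∈ D) {l : List G}
    {m : List (PerpQuot D a)}
    (hf : List.Forall₂ (fun x q => ∃ hx : x ∈ perp D a, pr D a x hx = q) l m) :
    m.length = l.length ∧ (∀ q ∈ m, ∃ x ∈ l, ∃ hx : x ∈ perp D a, pr D a x hx = q) ∧ (l.Nodup → m.Nodup) := by
  induction hf with
  | nil => simp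
  | @cons x q l m hxq _ ih =>
    obtain ⟨hl, hmem, hnd⟩ := ih
    refine ⟨by simp [hl], ?_, fun hn => ?_⟩
    · intro r hr
      rcases List.mem_cons.mp hr with rfl | hr
      · exact ⟨x, List.mem_cons_self, hxq⟩
      · obtain ⟨y, hy, hy'⟩ := hmem r hr
        exact ⟨y, List.mem_cons_of_mem _ hy, hy'⟩
    · refine List.nodup_cons.mpr ⟨fun hq => ?_, hnd (List.nodup_cons.mp hn).2⟩
      obtain ⟨y, hy, hy', e⟩ := hmem q hq
      obtain ⟨hx, rfl⟩ := hxq
      exact (List.nodup_cons.mp hn).1 (pr_injective h htf ha hx hy' e.symm ▸ hy)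

/-- Descending one level. -/
theorem descend (h : IsThreeTranspositionClass D) (htf : TwinFree D) {a : G} {l : List G}
    (hn : (a :: l).Nodup) (hD : ∀ x ∈ a :: l, x ∈ D) (hc : ∀ x ∈ a :: l, ∀ y ∈ a :: l, Commute x y)
    (hp : (a :: l).prod = 1) :
    ∃ m : List (PerpQuot D a), m.length = l.length ∧ m.Nodup ∧ (∀ q ∈ m, q ∈ perpSet D a) ∧
      (∀ q ∈ m, ∀ r ∈ m, Commute q r) ∧ m.prod = 1 := by
  have ha := hD a List.mem_cons_self
  have hl : ∀ x ∈ l, x ∈ perp D a := fun x hx => ⟨hD x (List.mem_cons_of_mem _ hx),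
    fun e => (List.nodup_cons.mp hn).1 (e ▸ hx), hc a List.mem_cons_self x (List.mem_cons_of_mem _ hx)⟩
  rw [List.prod_cons] at hp
  obtain ⟨m, hm, hf⟩ := pr_prod_one l hl
    (Or.inr (by rw [eq_inv_of_mul_eq_one_right hp, inv_eq h.1 ha]))
  obtain ⟨hlen, hmem, hnd⟩ := fwd h htf ha hf
  refine ⟨m, hlen, hnd (List.nodup_cons.mp hn).2, fun q hq => ?_, fun q hq r hr => ?_, hm⟩
  · obtain ⟨x, -, hx, rfl⟩ := hmem q hq
    exact pr_mem hx
  · obtain ⟨x, hxl, hx, rfl⟩ := hmem q hq
    obtain ⟨y, hyl, hy, rfl⟩ := hmem r hr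
    exact commute_pr hx hy (hc x (List.mem_cons_of_mem _ hxl) y (List.mem_cons_of_mem _ hyl))

theorem three_ne (h : IsThreeTranspositionClass D) (htf : TwinFree D) {l : List G} (hn : l.Nodup)
    (hlen : l.length = 3) (hD : ∀ x ∈ l, x ∈ D) (hc : ∀ x ∈ l, ∀ y ∈ l, Commute x y) :
    l.prod ≠ 1 := by
  intro hp
  obtain ⟨a, b, c, rfl⟩ := List.length_eq_three.mp hlen
  have e : a * (b * c) = 1 := by simpa using hp
  simp only [List.nodup_cons, List.mem_cons, List.not_mem_nil, or_false, not_or, List.nodup_nil,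
    not_false_eq_true, and_true] at hn
  obtain ⟨⟨hab, hac⟩, hbc⟩ := hn
  have hb : b ∈ perp D a := ⟨hD b (by simp), Ne.symm hab, hc a (by simp) b (by simp)⟩
  have hc' : c ∈ perp D a := ⟨hD c (by simp), Ne.symm hac, hc a (by simp) c (by simp)⟩
  obtain ⟨m, hm, hf⟩ := pr_prod_one (D := D) (a := a) [b, c] (by simp [hb, hc'])
    (Or.inr (by simpa [inv_eq h.1 (hD a (by simp))] using eq_inv_of_mul_eq_one_right e))
  cases hf with
  | cons hq hf => cases hf with
    | cons hq' hf =>
      cases hf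
      obtain ⟨h1, rfl⟩ := hq
      obtain ⟨h2, rfl⟩ := hq'
      have e2 : pr D a c h2 * pr D a c h2 = 1 := by
        show QuotientGroup.mk _ * QuotientGroup.mk _ = (1 : PerpQuot D a)
        rw [← QuotientGroup.mk_mul, ← QuotientGroup.mk_one]
        exact congrArg QuotientGroup.mk (Subtype.ext (mul_self h.1 hc'.1))
      simp only [List.prod_cons, List.prod_nil, mul_one] at hm
      exact hbc (pr_injective h htf (hD a (by simp)) h1 h2
        ((eq_inv_of_mul_eq_one_left hm).trans (inv_eq_of_mul_eq_one_left e2)))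

theorem four_ne (S : Setting D) {l : List G} (hn : l.Nodup) (hlen : l.length = 4)
    (hD : ∀ x ∈ l, x ∈ D) (hc : ∀ x ∈ l, ∀ y ∈ l, Commute x y) : l.prod ≠ 1 := by
  intro hp
  match l, hlen with
  | a :: rest, hlen =>
    obtain ⟨m, hl, hm, hm', hmc, hm1⟩ := descend S.cls S.tf hn hD hc hp
    have ha := hD a List.mem_cons_self
    exact three_ne (S.qcls ha) (S.qtf ha) hm (by simpa [hl] using hlen) hm' hmc hm1

/-- An element of order two permuting an odd set fixes a member. -/
theorem fixed_member (h : IsThreeTranspositionClass D) (hodd : ¬ 2 ∣ D.ncard) {x : G} (hx : x ^ 2 = 1) :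
    ∃ d ∈ D, Commute x d := by
  classical
  haveI : Fact (Nat.Prime 2) := ⟨Nat.prime_two⟩
  have hxi : x⁻¹ = x := inv_eq_of_mul_eq_one_left (by rwa [← pow_two])
  let f : ↥D → ↥D := fun u => ⟨x * u * x⁻¹, conj_mem h x u.2⟩
  have hf : Function.Involutive f := fun u => Subtype.ext (by
    show x * (x * u * x⁻¹) * x⁻¹ = u
    rw [hxi, pow_two] at *
    simp only [mul_assoc, hx, mul_one]
    rw [← mul_assoc, hx, one_mul])
  haveI := Fintype.ofFinite ↥D
  obtain ⟨u, hu⟩ := Equiv.Perm.exists_fixed_point_of_prime (p := 2) (n := 1) (α := ↥D)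
    (by rwa [← Nat.card_eq_fintype_card, Nat.card_coe_set_eq]) (σ := hf.toPerm f)
    (Equiv.ext fun u => by
      rw [pow_one, pow_two]
      show f (f u) = u
      exact hf u)
  exact ⟨u, u.2, mul_inv_eq_iff_eq_mul.mp (congrArg Subtype.val hu)⟩

end Cfsg.Agent.Block.FischerTypes
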