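import Cfsg.Agent.Lib.Block.FischerTypes.M23Order
import Cfsg.Agent.Lib.Block.FischerTypes.Products
import Cfsg.Agent.Lib.Block.FischerTypes.M22Triples

/-! Products of commuting transpositions in type M(23). -/

set_option autoImplicit false
set_option linter.style.haveILetI false
set_option linter.unusedSectionVars false

namespace Cfsg.Agent.Block.FischerTypes.M23

open Cfsg.Agent.Spor.ThreeTrans
open Cfsg.Agent.Block.FischerTypes.M22 (perp_symm)

variable {G : Type*} [Group G] [Finite G] {D : Set G} (B : Base D)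
include B

theorem five_ne {l : List G} (hn : l.Nodup) (hlen : l.length = 5) (hD : ∀ x ∈ l, x ∈ D)
    (hc : ∀ x ∈ l, ∀ y ∈ l, Commute x y) : l.prod ≠ 1 := by
  intro hp
  match l, hlen with
  | a :: rest, hlen =>
    obtain ⟨m, hl, hm, hm', hmc, hm1⟩ := descend B.set.cls B.set.tf hn hD hc hp
    exact four_ne (B.ctx a (hD a List.mem_cons_self)).set hm (by simpa [hl] using hlen) hm' hmc hm1

theorem six_ne {l : List G} (hn : l.Nodup) (hlen : l.length = 6) (hD : ∀ x ∈ l, x ∈ D)
    (hc : ∀ x ∈ l, ∀ y ∈ l, Commute x y) : l.prod ≠ 1 := by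
  intro hp
  match l, hlen with
  | a :: rest, hlen =>
    obtain ⟨m, hl, hm, hm', hmc, hm1⟩ := descend B.set.cls B.set.tf hn hD hc hp
    exact M22.no_five (B.ctx a (hD a List.mem_cons_self)) hm (by simpa [hl] using hlen) hm' hmc hm1

/-- Four commuting members have the product of three. -/
theorem four_to_three {j : G} {l : List G} (hl : Fact' D 4 j l) : ∃ l' : List G, Fact' D 3 j l' := by
  classical
  have h := B.set.cls
  have htf := B.set.tf
  obtain ⟨hn, hlen, hD, hc, hp⟩ := hl
  match l, hlen with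
  | [a, b, c, e], _ =>
    simp only [List.nodup_cons, List.mem_cons, List.not_mem_nil, or_false, not_or, List.nodup_nil,
      not_false_eq_true, and_true] at hn
    obtain ⟨⟨hab, hac, hae⟩, ⟨hbc, hbe⟩, hce⟩ := hn
    have ha := hD a (by simp)
    have hb : b ∈ perp D a := ⟨hD b (by simp), Ne.symm hab, hc a (by simp) b (by simp)⟩
    have hc' : c ∈ perp D a := ⟨hD c (by simp), Ne.symm hac, hc a (by simp) c (by simp)⟩
    have he' : e ∈ perp D a := ⟨hD e (by simp), Ne.symm hae, hc a (by simp) e (by simp)⟩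
    have kbc : c ∈ perp D b := ⟨hc'.1, Ne.symm hbc, hc b (by simp) c (by simp)⟩
    have kbe : e ∈ perp D b := ⟨he'.1, Ne.symm hbe, hc b (by simp) e (by simp)⟩
    have kce : e ∈ perp D c := ⟨he'.1, Ne.symm hce, hc c (by simp) e (by simp)⟩
    have C := B.ctx a ha
    have hq := (toK B ha hb hc').mpr kbc
    have hr : pr D a e he' ∈ common (perpSet D a) (pr D a b hb) (pr D a c hc') :=
      ⟨(toK B ha hb he').mpr kbe, (toK B ha hc' he').mpr kce⟩
    obtain ⟨T, hTn, hTlen, hT, hTc, hT1⟩ := hexad C.set C.cen C.hex (pr_mem hb) hq hr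
    have heT : pr D a e he' ∈ T := (hT _).mpr ⟨hr, fun _ _ => Iff.rfl⟩
    obtain ⟨qx, qy, qz, hR⟩ := List.length_eq_three.mp
      (show (T.erase (pr D a e he')).length = 3 by rw [List.length_erase_of_mem heT, hTlen])
    have hperm : T.Perm [pr D a e he', qx, qy, qz] := hR ▸ List.perm_cons_erase heT
    have hn4 := hperm.nodup_iff.mp hTn
    rw [hperm.prod_eq' (List.pairwise_of_forall_mem_list hTc)] at hT1
    have getq : ∀ q ∈ [qx, qy, qz], ∃ (u : G) (hu : u ∈ perp D a), pr D a u hu = q ∧
        u ∈ perp D b ∧ u ∈ perp D c := by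
      intro q hq
      have hm := ((hT q).mp (hperm.symm.subset (List.mem_cons_of_mem _ hq))).1
      obtain ⟨u, hu, rfl⟩ := exists_of_mem hm.1.1
      exact ⟨u, hu, rfl, (toK B ha hb hu).mp hm.1, (toK B ha hc' hu).mp hm.2⟩
    obtain ⟨x, hx, rfl, xb, xc⟩ := getq qx (by simp)
    obtain ⟨y, hy, rfl, yb, yc⟩ := getq qy (by simp)
    obtain ⟨z, hz, rfl, zb, zc⟩ := getq qz (by simp)
    simp only [List.nodup_cons, List.mem_cons, List.not_mem_nil, or_false, not_or, List.nodup_nil,
      not_false_eq_true, and_true] at hn4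
    obtain ⟨⟨nex, ney, nez⟩, ⟨nxy, nxz⟩, nyz⟩ := hn4
    have dne : ∀ {u v : G} (hu : u ∈ perp D a) (hv : v ∈ perp D a), pr D a u hu ≠ pr D a v hv → u ≠ v :=
      fun hu hv k e => k (by subst e; rfl)
    have dcm : ∀ {u v : G} (hu : u ∈ perp D a) (hv : v ∈ perp D a), pr D a u hu ∈ T → pr D a v hv ∈ T →
        Commute u v := fun hu hv k k' => commute_of_pr h htf ha hu hv (hTc _ k _ k')
    have tx : pr D a x hx ∈ T := hperm.symm.subset (by simp)
    have ty : pr D a y hy ∈ T := hperm.symm.subset (by simp)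
    have tz : pr D a z hz ∈ T := hperm.symm.subset (by simp)
    have hall : ∀ u ∈ [b, c, e, x, y, z], ∀ v ∈ [b, c, e, x, y, z], Commute u v := by
      simp only [List.mem_cons, List.not_mem_nil, or_false]
      rintro u (rfl | rfl | rfl | rfl | rfl | rfl) v (rfl | rfl | rfl | rfl | rfl | rfl)
      exacts [.refl _, kbc.2.2, kbe.2.2, xb.2.2, yb.2.2, zb.2.2,
        kbc.2.2.symm, .refl _, kce.2.2, xc.2.2, yc.2.2, zc.2.2,
        kbe.2.2.symm, kce.2.2.symm, .refl _, dcm he' hx heT tx, dcm he' hy heT ty, dcm he' hz heT tz,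
        xb.2.2.symm, xc.2.2.symm, dcm hx he' tx heT, .refl _, dcm hx hy tx ty, dcm hx hz tx tz,
        yb.2.2.symm, yc.2.2.symm, dcm hy he' ty heT, dcm hy hx ty tx, .refl _, dcm hy hz ty tz,
        zb.2.2.symm, zc.2.2.symm, dcm hz he' tz heT, dcm hz hx tz tx, dcm hz hy tz ty, .refl _]
    have hmem : ∀ u ∈ [b, c, e, x, y, z], u ∈ perp D a := by simp [hb, hc', he', hx, hy, hz]
    let el : ∀ {u : G}, u ∈ perp D a → ↥(PerpGroup D a) := fun {u} hu => ⟨u, Subgroup.subset_closure hu⟩
    let U := el hb * (el hc' * (el he' * (el hx * (el hy * el hz))))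
    have hU : (QuotientGroup.mk U : PerpQuot D a) = 1 := by
      rw [← hT1]
      simp only [U, el, QuotientGroup.mk_mul, List.prod_cons, List.prod_nil, mul_one, mul_assoc]
    have hUc := (QuotientGroup.eq_one_iff _).mp hU
    rcases centre_perp B ha (Commute.list_prod_right [b, c, e, x, y, z] a fun u hu => (hmem u hu).2.2)
        (fun w hw => (show [b, c, e, x, y, z].prod = (U : G) by simp [U, el]) ▸
          commute_of_center hUc (Subgroup.subset_closure hw)) with k | k
    · refine absurd k (six_ne B ?_ rfl (fun u hu => (hmem u hu).1) hall)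
      simp [hbc, hbe, hce, Ne.symm xb.2.1, Ne.symm yb.2.1, Ne.symm zb.2.1, Ne.symm xc.2.1, Ne.symm yc.2.1,
        Ne.symm zc.2.1, dne he' hx nex, dne he' hy ney, dne he' hz nez, dne hx hy nxy, dne hx hz nxz,
        dne hy hz nyz]
    · refine ⟨[x, y, z], by simp [dne hx hy nxy, dne hx hz nxz, dne hy hz nyz], rfl,
        by simp [hx.1, hy.1, hz.1], fun u hu v hv => hall u ?_ v ?_, ?_⟩
      · simp only [List.mem_cons] at hu ⊢; tauto
      · simp only [List.mem_cons] at hv ⊢; tauto
      · have hsq := prod_mul_prod h.1 [x, y, z] (by simp [hx.1, hy.1, hz.1])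
          (fun u hu v hv => hall u (by simp only [List.mem_cons] at hu ⊢; tauto) v
            (by simp only [List.mem_cons] at hv ⊢; tauto))
        have k' : [b, c, e].prod * [x, y, z].prod = a := by
          rw [← k]; simp [mul_assoc]
        have k'' : [b, c, e].prod = a * [x, y, z].prod := by
          conv_rhs => rw [← k']
          rw [mul_assoc, hsq, mul_one]
        rw [← hp, List.prod_cons (l := [b, c, e]), k'', mul_self_mul h.1 ha]

/-- The group is transitive on ordered commuting triples. -/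
theorem trans_three {a b c a' b' c' : G} (ha : a ∈ D) (hb : b ∈ perp D a) (hc : c ∈ common D a b)
    (ha' : a' ∈ D) (hb' : b' ∈ perp D a') (hc' : c' ∈ common D a' b') :
    ∃ g : G, g * a * g⁻¹ = a' ∧ g * b * g⁻¹ = b' ∧ g * c * g⁻¹ = c' := by
  have h := B.set.cls
  obtain ⟨g, e1, e2⟩ := pair_conj B.set ha hb ha' hb'
  have h1 : g * c * g⁻¹ ∈ perp D a' := by rw [← e1]; exact (conj_mem_perp h g a).mpr hc.1
  have h2 : g * c * g⁻¹ ∈ perp D b' := by rw [← e2]; exact (conj_mem_perp h g b).mpr hc.2
  obtain ⟨k, k1, k2, e3⟩ := lift_conj_fix B ha' hb' h1 hc'.1 h2 hc'.2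
  refine ⟨k * g, ?_, ?_, ?_⟩
  · rw [show k * g * a * (k * g)⁻¹ = k * (g * a * g⁻¹) * k⁻¹ by simp [mul_assoc], e1,
      conj_self_eq (M22.commute_self k1)]
  · rw [show k * g * b * (k * g)⁻¹ = k * (g * b * g⁻¹) * k⁻¹ by simp [mul_assoc], e2,
      conj_self_eq (M22.commute_self k2)]
  · rw [show k * g * c * (k * g)⁻¹ = k * (g * c * g⁻¹) * k⁻¹ by simp [mul_assoc], e3]

theorem fact_conj {m : ℕ} (h1 : 1 ≤ m) (h3 : m ≤ 3) {x y : G} (hx : ∃ l, Fact' D m x l)
    (hy : ∃ l, Fact' D m y l) : IsConj x y := by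
  obtain ⟨l, hn, hlen, hD, hc, rfl⟩ := hx
  obtain ⟨l', hn', hlen', hD', hc', rfl⟩ := hy
  refine isConj_iff.mpr ?_
  interval_cases m
  · obtain ⟨a, rfl⟩ := List.length_eq_one_iff.mp hlen
    obtain ⟨a', rfl⟩ := List.length_eq_one_iff.mp hlen'
    obtain ⟨g, hg⟩ := transitive B.set.cls (hD a (by simp)) (hD' a' (by simp))
    exact ⟨g, by simpa using hg⟩
  · obtain ⟨a, b, rfl⟩ := List.length_eq_two.mp hlen
    obtain ⟨a', b', rfl⟩ := List.length_eq_two.mp hlen'
    simp only [List.nodup_cons, List.mem_cons, List.not_mem_nil, or_false, not_false_eq_true,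
      List.nodup_nil, and_true] at hn hn'
    obtain ⟨g, e1, e2⟩ := pair_conj B.set (hD a (by simp))
      (⟨hD b (by simp), Ne.symm hn, hc a (by simp) b (by simp)⟩ : b ∈ perp D a) (hD' a' (by simp))
      (⟨hD' b' (by simp), Ne.symm hn', hc' a' (by simp) b' (by simp)⟩ : b' ∈ perp D a')
    refine ⟨g, ?_⟩
    subst e1 e2
    simp [mul_assoc]
  · obtain ⟨a, b, c, rfl⟩ := List.length_eq_three.mp hlen
    obtain ⟨a', b', c', rfl⟩ := List.length_eq_three.mp hlen'
    obtain ⟨ha, hb, hc₁⟩ := (M22.fact_iff B.set.cls).mp ⟨hn, hlen, hD, hc, rfl⟩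
    obtain ⟨ha', hb', hc₁'⟩ := (M22.fact_iff B.set.cls).mp ⟨hn', hlen', hD', hc', rfl⟩
    obtain ⟨g, e1, e2, e3⟩ := trans_three B ha hb hc₁ ha' hb' hc₁'
    exact ⟨g, by subst e1 e2 e3; simp [mul_assoc]⟩

theorem exists_triple (hne : D.Nonempty) : ∃ a b c, a ∈ D ∧ b ∈ perp D a ∧ c ∈ common D a b := by
  obtain ⟨a, ha⟩ := hne
  obtain ⟨b, hb⟩ := B.set.perp_ne a ha
  obtain ⟨q, hq⟩ := (B.ctx a ha).set.perp_ne _ (pr_mem hb)
  obtain ⟨c, hc, rfl⟩ := exists_of_mem hq.1
  exact ⟨a, b, c, ha, hb, hc, (toK B ha hb hc).mp hq⟩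

theorem fact_exists (hne : D.Nonempty) {m : ℕ} (h1 : 1 ≤ m) (h3 : m ≤ 3) :
    ∃ x : G, orderOf x = 2 ∧ ∃ l, Fact' D m x l := by
  have h := B.set.cls
  haveI : Fact (Nat.Prime 2) := ⟨Nat.prime_two⟩
  obtain ⟨a, b, c, ha, hb, hc⟩ := exists_triple B hne
  have hF : Fact' D 3 [a, b, c].prod [a, b, c] := (M22.fact_iff h).mpr ⟨ha, hb, hc⟩
  interval_cases m
  · exact ⟨a, h.1.1 a ha, [a], List.nodup_singleton a, rfl, by simp [ha], by simp, by simp⟩
  · refine ⟨a * b, orderOf_eq_prime (sq_of_commute h ha hb.1 hb.2.2) fun e => hb.2.1 ?_, [a, b],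
      by simp [Ne.symm hb.2.1], rfl, by simp [ha, hb.1], ?_, by simp⟩
    · rw [eq_inv_of_mul_eq_one_right e, inv_eq h.1 ha]
    · simp only [List.mem_cons, List.not_mem_nil, or_false]
      rintro x (rfl | rfl) y (rfl | rfl)
      exacts [.refl _, hb.2.2, hb.2.2.symm, .refl _]
  · refine ⟨_, orderOf_eq_prime ?_ (three_ne h B.set.tf hF.1 rfl hF.2.2.1 hF.2.2.2.1), _, hF⟩
    rw [pow_two]
    exact prod_mul_prod h.1 _ hF.2.2.1 hF.2.2.2.1

/-- The number of factors is determined. -/
theorem fact_unique_lt {m m' : ℕ} (h1 : 1 ≤ m) (hlt : m < m') (h3 : m' ≤ 3) {x : G} {l l' : List G}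
    (hl : Fact' D m x l) (hl' : Fact' D m' x l') : False := by
  classical
  have h := B.set.cls
  have htf := B.set.tf
  obtain ⟨hn, hlen, hD, hc, rfl⟩ := hl
  obtain ⟨hn', hlen', hD', hc', he⟩ := hl'
  have one2 : ∀ {t a b : G}, t ∈ D → a ∈ D → b ∈ D → a ≠ b → Commute a b → t = a * b → False := by
    intro t a b ht ha hb hab kab e
    have hta : Commute a t := e ▸ (Commute.refl a).mul_right kab
    have htb : Commute b t := e ▸ kab.symm.mul_right (Commute.refl b)
    have hne1 : t ≠ a := fun k => ne_one h.1 hb (by rw [k] at e; exact mul_eq_left.mp e.symm)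
    have hne2 : t ≠ b := fun k => ne_one h.1 ha (by rw [k] at e; exact mul_eq_right.mp e.symm)
    refine three_ne h htf (l := [t, a, b]) (by simp [hne1, hne2, hab]) rfl (by simp [ht, ha, hb]) ?_ ?_
    · simp only [List.mem_cons, List.not_mem_nil, or_false]
      rintro u (rfl | rfl | rfl) v (rfl | rfl | rfl)
      exacts [.refl _, hta.symm, htb.symm, hta, .refl _, kab, htb, kab.symm, .refl _]
    · simp only [List.prod_cons, List.prod_nil, mul_one, ← e, mul_self h.1 ht]
  interval_cases m' <;> interval_cases m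
  · obtain ⟨t, rfl⟩ := List.length_eq_one_iff.mp hlen
    obtain ⟨a, b, rfl⟩ := List.length_eq_two.mp hlen'
    simp at hn'
    exact one2 (hD t (by simp)) (hD' a (by simp)) (hD' b (by simp)) hn' (hc' a (by simp) b (by simp))
      (by simpa using he.symm)
  · obtain ⟨t, rfl⟩ := List.length_eq_one_iff.mp hlen
    obtain ⟨a, b, c, rfl⟩ := List.length_eq_three.mp hlen'
    have ht := hD t (by simp)
    have e : t = a * (b * c) := by simpa using he.symm
    by_cases hin : t ∈ [a, b, c]
    · have hperm := List.perm_cons_erase hin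
      rw [hperm.prod_eq' (List.pairwise_of_forall_mem_list hc'), List.prod_cons] at he
      have h1' : ([a, b, c].erase t).prod = 1 := by simpa using he
      obtain ⟨u, v, huv⟩ := List.length_eq_two.mp
        (show ([a, b, c].erase t).length = 2 by rw [List.length_erase_of_mem hin]; rfl)
      rw [huv] at h1'
      have hu : u ∈ D := hD' u (List.mem_of_mem_erase (b := t) (by rw [huv]; simp))
      have hv : v ∈ D := hD' v (List.mem_of_mem_erase (b := t) (by rw [huv]; simp))
      have hne : u ≠ v := by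
        have := hn'.erase t
        rw [huv] at this
        simpa using this
      simp only [List.prod_cons, List.prod_nil, mul_one] at h1'
      exact hne ((eq_inv_of_mul_eq_one_left h1').trans (inv_eq h.1 hv))
    · have hct : ∀ u ∈ [a, b, c], Commute u t := fun u hu => by
        rw [show t = [a, b, c].prod by simpa using he.symm]
        exact Commute.list_prod_right _ u fun v hv => hc' u hu v hv
      refine four_ne B.set (l := [t, a, b, c]) (List.nodup_cons.mpr ⟨hin, hn'⟩) rfl
        (fun u hu => ?_) ?_ ?_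
      · rcases List.mem_cons.mp hu with rfl | hu
        exacts [ht, hD' u hu]
      · intro u hu v hv
        have split : ∀ {w}, w ∈ [t, a, b, c] → w = t ∨ w ∈ [a, b, c] := fun hw => List.mem_cons.mp hw
        rcases split hu with k | k <;> rcases split hv with k' | k'
        exacts [k ▸ k' ▸ .refl _, k ▸ (hct v k').symm, k' ▸ hct u k, hc' u k v k']
      · simp only [List.prod_cons, List.prod_nil, mul_one] at *
        rw [← e, mul_self h.1 ht]
  · obtain ⟨d, e, rfl⟩ := List.length_eq_two.mp hlen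
    obtain ⟨a, b, c, rfl⟩ := List.length_eq_three.mp hlen'
    have hde : d ≠ e := by simpa using hn
    have hd := hD d (by simp)
    have hee := hD e (by simp)
    have kde := hc d (by simp) e (by simp)
    have hx : [a, b, c].prod = d * e := by simpa using he
    have key : ∀ u ∈ [a, b, c], Commute u (d * e) := fun u hu => by
      rw [← hx]; exact Commute.list_prod_right _ u fun v hv => hc' u hu v hv
    have hnot : ∀ u ∈ [a, b, c], u ≠ d ∧ u ≠ e := by
      intro u hu
      have hperm := List.perm_cons_erase hu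
      have hx' := hx
      rw [hperm.prod_eq' (List.pairwise_of_forall_mem_list hc'), List.prod_cons] at hx'
      obtain ⟨v, w, hvw⟩ := List.length_eq_two.mp
        (show ([a, b, c].erase u).length = 2 by rw [List.length_erase_of_mem hu]; rfl)
      have hv : v ∈ [a, b, c] := List.mem_of_mem_erase (b := u) (by rw [hvw]; simp)
      have hw : w ∈ [a, b, c] := List.mem_of_mem_erase (b := u) (by rw [hvw]; simp)
      have hne : v ≠ w := by
        have := hn'.erase u
        rw [hvw] at this
        simpa using this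
      rw [hvw] at hx'
      simp only [List.prod_cons, List.prod_nil, mul_one] at hx'
      refine ⟨fun k => ?_, fun k => ?_⟩
      · rw [k] at hx'
        exact one2 hee (hD' v hv) (hD' w hw) hne (hc' v hv w hw) (mul_left_cancel hx').symm
      · rw [k, kde.eq] at hx'
        exact one2 hd (hD' v hv) (hD' w hw) hne (hc' v hv w hw) (mul_left_cancel hx').symm
    have hboth : ∀ u ∈ [a, b, c], Commute u d ∧ Commute u e := fun u hu =>
      (commute_mul_iff h.1 hd hee (hD' u hu) hde kde).mp (key u hu)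
    refine five_ne B (l := [d, e, a, b, c]) ?_ rfl (fun u hu => ?_) ?_ ?_
    · refine List.nodup_cons.mpr ⟨fun k => ?_, List.nodup_cons.mpr ⟨fun k => (hnot e k).2 rfl, hn'⟩⟩
      rcases List.mem_cons.mp k with k | k
      exacts [hde k, (hnot d k).1 rfl]
    · rcases List.mem_cons.mp hu with rfl | hu
      · exact hd
      rcases List.mem_cons.mp hu with rfl | hu
      exacts [hee, hD' u hu]
    · have split : ∀ {w}, w ∈ [d, e, a, b, c] → w = d ∨ w = e ∨ w ∈ [a, b, c] := fun {w} hw => by
        rcases List.mem_cons.mp hw with k | hw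
        · exact Or.inl k
        · exact Or.inr (List.mem_cons.mp hw)
      intro u hu v hv
      rcases split hu with k | k | k <;> rcases split hv with k' | k' | k'
      · rw [k, k']
      · rw [k, k']; exact kde
      · rw [k]; exact (hboth v k').1.symm
      · rw [k, k']; exact kde.symm
      · rw [k, k']
      · rw [k]; exact (hboth v k').2.symm
      · rw [k']; exact (hboth u k).1
      · rw [k']; exact (hboth u k).2
      · exact hc' u k v k'
    · rw [List.prod_cons, List.prod_cons, hx, ← mul_assoc, ← pow_two]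
      exact sq_of_commute h hd hee kde

theorem fact_unique {m m' : ℕ} (h1 : 1 ≤ m) (h3 : m ≤ 3) (h1' : 1 ≤ m') (h3' : m' ≤ 3) {x : G}
    {l l' : List G} (hl : Fact' D m x l) (hl' : Fact' D m' x l') : m = m' := by
  rcases Nat.lt_trichotomy m m' with k | k | k
  · exact (fact_unique_lt B h1 k h3' hl hl').elim
  · exact k
  · exact (fact_unique_lt B h1' k h3 hl' hl).elim

end Cfsg.Agent.Block.FischerTypes.M23
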