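import Cfsg.Agent.Lib.Block.FischerTypes.M23Centralizer

/-! Simplicity and quasisimplicity in type M(23); the width in terms of the perpendicular quotient. -/

set_option autoImplicit false
set_option linter.style.haveILetI false
set_option linter.unusedSectionVars false

namespace Cfsg.Agent.Block.FischerTypes.M23

open Cfsg.Agent.Spor.ThreeTrans
open scoped commutatorElement
open Cfsg.Agent.Block.FischerTypes.M22 (el)

variable {G : Type*} [Group G] [Finite G] {D : Set G} (B : Base D)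
include B

theorem hasModel {a : G} (ha : a ∈ D) : ∀ x ∈ perpSet D a, HasModel (perpSet D a) x := fun x hx => by
  obtain ⟨F, _, _, h4, Φ, hsurj, hmem, hlift, hinj, hcom, hker⟩ := (B.ctx a ha).mdl x hx
  refine ⟨F, _, _, h4, ⟨(QuotientGroup.quotientMulEquivOfEq ?_).trans
    (QuotientGroup.quotientKerEquivOfSurjective Φ hsurj)⟩⟩
  refine le_antisymm (fun z hz => ?_) fun z hz => hker z hz
  haveI := (psu_six h4).1
  obtain ⟨-, x₀, y₀, hxy⟩ := psu_six h4
  have hz' : Φ z ∈ Subgroup.center (PSU 6 F 2) := Subgroup.mem_center_iff.mpr fun g => by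
    obtain ⟨g, rfl⟩ := hsurj g
    rw [← map_mul, ← map_mul, Subgroup.mem_center_iff.mp hz g]
  have hbot : Subgroup.center (PSU 6 F 2) = ⊥ :=
    (Subgroup.Normal.eq_bot_or_eq_top inferInstance).resolve_right fun ht =>
      hxy (Subgroup.mem_center_iff.mp (ht ▸ Subgroup.mem_top x₀) y₀).symm
  rw [hbot, Subgroup.mem_bot] at hz'
  exact hz'

theorem quot_simple {a : G} (ha : a ∈ D) : IsSimpleGroup (PerpQuot D a) := by
  obtain ⟨u, hu⟩ := B.set.perp_ne a ha
  obtain ⟨p, hp⟩ := (B.ctx a ha).set.perp_ne _ (pr_mem hu)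
  exact M22.simple (B.ctx a ha) (hasModel B ha) ⟨_, pr_mem hu, p, hp.1, Ne.symm hp.2.1⟩

theorem simple (hne : D.Nonempty) : IsSimpleGroup G := by
  have h := B.set.cls
  obtain ⟨a, ha⟩ := hne
  obtain ⟨b, hb⟩ := B.set.perp_ne a ha
  haveI : Nontrivial G := ⟨⟨a, b, Ne.symm hb.2.1⟩⟩
  refine ⟨fun N hN => ?_⟩
  by_cases hsep : ∀ d ∈ D, ∀ e ∈ D, d * e ∈ N → d = e
  · exact Or.inl (eq_bot_of_separated h B.cen N hsep)
  right
  push Not at hsep
  obtain ⟨p, hp, q, hq, hpq, hpq'⟩ := hsep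
  have hall := all_cong B.set B.meets N hp hq hpq' hpq
  let f := QuotientGroup.mk' N
  have hconst : ∀ x ∈ D, f x = f a := fun x hx => by
    rw [← inv_eq h.1 hx]
    refine (QuotientGroup.mk'_eq_mk' N).mpr ⟨_, hall x hx a ha, ?_⟩
    rw [← mul_assoc, inv_mul_cancel, one_mul]
  obtain ⟨m, hlen, hm, hme⟩ := six B ha
  have e1 := map_prod_const f m fun x hx => hconst x (hm x hx).1
  rw [hme, hlen] at e1
  have e2 : f a ^ 2 = 1 := by rw [pow_two, ← map_mul, mul_self h.1 ha, map_one]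
  have hs : f a = 1 := by rw [e1, show (6 : ℕ) = 2 * 3 from rfl, pow_mul, e2, one_pow]
  have hle : Subgroup.closure D ≤ N := (Subgroup.closure_le _).mpr fun x hx =>
    (QuotientGroup.eq_one_iff x).mp ((hconst x hx).trans hs)
  rw [h.2.2, top_le_iff] at hle
  exact hle

theorem quasisimple {a : G} (ha : a ∈ D) : IsQuasisimple ↥(PerpGroup D a) := by
  haveI := quot_simple B ha
  refine ⟨?_, quot_simple B ha⟩
  rw [Group.isPerfect_def]
  have h := B.set.cls
  obtain ⟨u₀, hu₀⟩ := B.set.perp_ne a ha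
  let f := QuotientGroup.mk' (commutator ↥(PerpGroup D a))
  have hconst : ∀ x (hx : x ∈ perp D a), f (el hx) = f (el hu₀) := fun x hx => by
    obtain ⟨g, hg, e'⟩ := lift_conj B ha hu₀ hx
    have e'' : el hx = ⟨g, hg⟩ * el hu₀ * (⟨g, hg⟩ : ↥(PerpGroup D a))⁻¹ := Subtype.ext e'.symm
    refine (QuotientGroup.eq_iff_div_mem).mpr ?_
    rw [e'', div_eq_mul_inv]
    exact Subgroup.commutator_mem_commutator (Subgroup.mem_top _) (Subgroup.mem_top _)
  have lift : ∀ l : List G, (hl : ∀ x ∈ l, x ∈ perp D a) → ∀ hp : l.prod ∈ PerpGroup D a,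
      f ⟨l.prod, hp⟩ = f (el hu₀) ^ l.length := by
    intro l
    induction l with
    | nil =>
      exact fun _ hp => by
        rw [show (⟨_, hp⟩ : ↥(PerpGroup D a)) = 1 from Subtype.ext rfl, map_one, List.length_nil, pow_zero]
    | cons x l ih =>
      intro hl hp
      have hx := hl x List.mem_cons_self
      have hl' := fun y hy => hl y (List.mem_cons_of_mem _ hy)
      rw [show (⟨_, hp⟩ : ↥(PerpGroup D a)) = el hx *
        ⟨l.prod, list_prod_mem fun y hy => Subgroup.subset_closure (hl' y hy)⟩ from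
          Subtype.ext List.prod_cons, map_mul, ih hl' _, hconst x hx, List.length_cons, pow_succ']
  obtain ⟨m, hlen, hm, hme⟩ := six B ha
  have e1 := lift m hm ((show m.prod ∈ PerpGroup D a by rw [hme]; exact self B ha))
  have e2 : f (el hu₀) ^ 2 = 1 := by
    rw [pow_two, ← map_mul, show el hu₀ * el hu₀ = 1 from Subtype.ext (mul_self h.1 hu₀.1), map_one]
  rw [hlen, show (6 : ℕ) = 2 * 3 from rfl, pow_mul, e2, one_pow] at e1
  have hz : Subgroup.center ↥(PerpGroup D a) ≤ commutator ↥(PerpGroup D a) := by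
    intro z hz
    rw [centre B ha, Subgroup.mem_subgroupOf] at hz
    obtain ⟨n, hn⟩ := hz
    rw [show z = (⟨a, self B ha⟩ : ↥(PerpGroup D a)) ^ n from Subtype.ext (by simpa using hn.symm)]
    refine Subgroup.zpow_mem _ ?_ n
    have : (⟨m.prod, (show m.prod ∈ PerpGroup D a by rw [hme]; exact self B ha)⟩ : ↥(PerpGroup D a)) = ⟨a, self B ha⟩ := Subtype.ext hme
    rw [← this]
    exact (QuotientGroup.eq_one_iff _).mp e1
  have hperf : ⁅(⊤ : Subgroup (PerpQuot D a)), ⊤⁆ = ⊤ :=
    (Subgroup.Normal.eq_bot_or_eq_top inferInstance).resolve_left fun hb => by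
      obtain ⟨F, _, _, h4, Φ, hsurj, hmem, hlift, hinj, hcom, hker⟩ := (B.ctx a ha).mdl _ (pr_mem hu₀)
      obtain ⟨-, x₀, y₀, hxy⟩ := psu_six h4
      obtain ⟨x, rfl⟩ := hsurj x₀
      obtain ⟨y, rfl⟩ := hsurj y₀
      have hxy' : ⁅(x : PerpQuot D a), (y : PerpQuot D a)⁆ ∈ (⊥ : Subgroup (PerpQuot D a)) :=
        hb ▸ Subgroup.commutator_mem_commutator (Subgroup.mem_top _) (Subgroup.mem_top _)
      rw [Subgroup.mem_bot, commutatorElement_eq_one_iff_commute] at hxy'
      exact hxy ((show Commute x y from Subtype.ext hxy'.eq).map Φ)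
  rw [eq_top_iff]
  intro g _
  have hg : QuotientGroup.mk' (Subgroup.center ↥(PerpGroup D a)) g ∈
      (commutator ↥(PerpGroup D a)).map (QuotientGroup.mk' _) := by
    rw [commutator_def, Subgroup.map_commutator,
      Subgroup.map_top_of_surjective _ (QuotientGroup.mk'_surjective _), hperf]
    exact Subgroup.mem_top _
  obtain ⟨k, hk, e⟩ := hg
  have := mul_mem (hz (QuotientGroup.eq_iff_div_mem.mp e.symm)) hk
  rwa [div_mul_cancel] at this

end Cfsg.Agent.Block.FischerTypes.M23
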