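import Cfsg.Agent.Lib.Block.FischerTypes.M23Count
import Cfsg.Agent.Lib.Block.FischerTypes.Local

/-! The 31671 transpositions of a group of type M(23). -/

set_option autoImplicit false
set_option linter.style.haveILetI false
set_option linter.unusedSectionVars false

namespace Cfsg.Agent.Block.FischerTypes

open Cfsg.Agent.Spor.ThreeTrans

theorem double_count_const {X : Type*} [Group X] [Finite X] {A B : Set X} {k l : ℕ}
    (hA : ∀ a ∈ A, {b ∈ B | Commute a b}.ncard = k)
    (hB : ∀ b ∈ B, {a ∈ A | Commute a b}.ncard = l) : A.ncard * k = B.ncard * l := by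
  have := double_count A B
  rw [Finset.sum_congr rfl (fun a ha => hA a (by simpa using ha)),
    Finset.sum_congr rfl (fun b hb => hB b (by simpa using hb)), Finset.sum_const, Finset.sum_const,
    smul_eq_mul, smul_eq_mul, ← Set.ncard_eq_toFinset_card A A.toFinite,
    ← Set.ncard_eq_toFinset_card B B.toFinite] at this
  exact this

namespace M23

open Cfsg.Agent.Block.FischerTypes.M22 (perp_symm)

variable {G : Type*} [Group G] [Finite G] {D : Set G} (B : Base D)
include B

theorem common_conj {d f : G} {l : G} (hl : l ∈ Subgroup.closure (common D d f)) {x : G}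
    (hx : x ∈ common D d f) : l * x * l⁻¹ ∈ common D d f := by
  have hc : ∀ a, (∀ u ∈ common D d f, Commute a u) → Commute l a := by
    intro a ha
    have hle : Subgroup.closure (common D d f) ≤ Subgroup.centralizer ({a} : Set G) :=
      (Subgroup.closure_le _).mpr fun u hu =>
        Subgroup.mem_centralizer_singleton_iff.mpr (ha u hu).symm.eq
    exact Subgroup.mem_centralizer_singleton_iff.mp (hle hl)
  exact ⟨perp_conj' B.set.cls (hc d fun u hu => hu.1.2.2) hx.1,
    perp_conj' B.set.cls (hc f fun u hu => hu.2.2.2) hx.2⟩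

theorem local_apart (hK : ∀ a ∈ D, M22.Counts (perpSet D a)) {d f x a b : G} (hd : d ∈ D)
    (hf : f ∈ D) (hdf : ¬ Commute d f) (hx : x ∈ common D d f) (ha : a ∈ common D d f)
    (hb : b ∈ common D d f) (hxa : ¬ Commute x a) (hxb : ¬ Commute x b) :
    ∃ l ∈ Subgroup.closure (common D d f), l * x * l⁻¹ = x ∧ l * a * l⁻¹ = b := by
  refine local_transitive_apart B.set.cls (fun u hu => hu.1.1) (fun l hl u hu => common_conj B hl hu)
    (fun u hu v hv => common_trans B hK hd hf hdf hu hv)
    (fun u hu v hv => sep_common B hK hd hf hdf hu hv) (fun u hu v hv k => ?_)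
    (fun u hu v hv k => z_lemma B hd hf hdf hu hv.1 k) hx ha hb hxa hxb
  obtain ⟨z, hz, kz⟩ := sep_apart B hK hd hf hdf hu hv k
  exact ⟨z, hz.1, hz.2.2.1, hz.2.2.2.symm, kz⟩

theorem nu_const (hK : ∀ a ∈ D, M22.Counts (perpSet D a)) {d f x a b : G} (hd : d ∈ D)
    (hf : f ∈ D) (hdf : ¬ Commute d f) (hx : x ∈ common D d f) (ha : a ∈ common D d f)
    (hb : b ∈ common D d f) (hxa : ¬ Commute x a) (hxb : ¬ Commute x b) :
    {z ∈ common D d f ∩ perp D x | Commute z a}.ncard =
      {z ∈ common D d f ∩ perp D x | Commute z b}.ncard := by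
  obtain ⟨l, hl, e1, e2⟩ := local_apart B hK hd hf hdf hx ha hb hxa hxb
  have hlx : Commute l x := mul_inv_eq_iff_eq_mul.mp e1
  refine Set.ncard_congr (fun z _ => l * z * l⁻¹) (fun z hz => ⟨⟨common_conj B hl hz.1.1,
    perp_conj' B.set.cls hlx hz.1.2⟩, ?_⟩) (fun u v _ _ e => by simpa using e) fun z hz => ?_
  · rw [← e2]; exact (commute_conj_iff l z a).mpr hz.2
  · refine ⟨l⁻¹ * z * l, ⟨⟨?_, ?_⟩, ?_⟩, by simp [mul_assoc]⟩
    · simpa using common_conj B (inv_mem hl) hz.1.1
    · simpa using perp_conj' B.set.cls hlx.inv_left hz.1.2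
    · rw [← commute_conj_iff l, e2]
      simpa [mul_assoc] using hz.2

theorem total (hne : D.Nonempty) (hK : ∀ a ∈ D, M22.Counts (perpSet D a)) : D.ncard = 31671 := by
  classical
  have h := B.set.cls
  obtain ⟨d, hd⟩ := hne
  obtain ⟨p₀, hp₀, q₀, hq₀, hpq⟩ := B.set.hyp.nc
  obtain ⟨f, hf, hdf⟩ : ∃ f ∈ D, ¬ Commute d f := by
    obtain ⟨g, rfl⟩ := transitive h hp₀ hd
    exact ⟨g * q₀ * g⁻¹, conj_mem h g hq₀, fun k => hpq ((commute_conj_iff g p₀ q₀).mp k)⟩
  obtain ⟨x, hx⟩ := B.meets d hd f hf hdf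
  set S := common D d f with hS
  set A := {y ∈ S | ¬ Commute x y} with hA
  set T := S ∩ perp D x with hT
  have h126 : T.ncard = 126 := card_T B hK hd hf hdf hx
  have h80 : ∀ z ∈ T, {y ∈ A | Commute z y}.ncard = 80 := fun z hz =>
    card_Z B hK hd hf hdf hx hz.1 hz.2
  obtain ⟨z₀, hz₀⟩ : T.Nonempty := Set.nonempty_of_ncard_ne_zero (by omega)
  obtain ⟨y₀, hy₀, -⟩ : {y ∈ A | Commute z₀ y}.Nonempty :=
    Set.nonempty_of_ncard_ne_zero (by rw [h80 z₀ hz₀]; omega)
  set ν := {z ∈ T | Commute z y₀}.ncard with hν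
  have hνle : ν ≤ 126 := h126 ▸ Set.ncard_le_ncard (Set.sep_subset _ _) (Set.toFinite _)
  have hmν : 126 * 80 = A.ncard * ν := h126 ▸ double_count_const h80 fun y hy =>
    nu_const B hK hd hf hdf hx hy.1 hy₀.1 hy.2 hy₀.2
  have hμ : S.ncard = 127 + A.ncard := by
    have e : S = insert x T ∪ A := by
      ext u
      constructor
      · intro hu
        by_cases k : Commute x u
        · by_cases e : u = x
          · exact Or.inl (Or.inl e)
          · exact Or.inl (Or.inr ⟨hu, hu.1.1, e, k⟩)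
        · exact Or.inr ⟨hu, k⟩
      · rintro ((e | hu) | hu)
        exacts [e ▸ hx, hu.1, hu.1]
    rw [e, Set.ncard_union_eq (Set.disjoint_left.mpr ?_) (Set.toFinite _) (Set.toFinite _),
      Set.ncard_insert_of_notMem (fun k => k.2.2.1 rfl) (Set.toFinite _), h126]
    rintro u (e | hu) ⟨-, k⟩
    exacts [k (e ▸ Commute.refl x), k hu.2.2.2]
  have hperp : (perp D d).ncard = 3510 := card_perp B hd (hK d hd)
  have h2816 : ∀ b ∈ perp D d, {a ∈ apart D d | Commute b a}.ncard = 2816 := by
    intro b hb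
    have hdb := perp_symm hd hb
    have hb' : (perp D b).ncard = 3510 := card_perp B hb.1 (hK b hb.1)
    have hc : (common D d b).ncard = 693 := card_common B hd hb (hK d hd)
    have e : perp D b = insert d (common D d b) ∪ {a ∈ apart D d | Commute b a} := by
      ext u
      constructor
      · intro hu
        by_cases k : Commute u d
        · by_cases e : u = d
          · exact Or.inl (Or.inl e)
          · exact Or.inl (Or.inr ⟨⟨hu.1, e, k.symm⟩, hu⟩)
        · exact Or.inr ⟨⟨hu.1, k⟩, hu.2.2⟩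
      · rintro ((e | hu) | ⟨hu, k⟩)
        exacts [e ▸ hdb, hu.2, ⟨hu.1, fun e => hu.2 (e ▸ hb.2.2.symm), k⟩]
    rw [e, Set.ncard_union_eq (Set.disjoint_left.mpr ?_) (Set.toFinite _) (Set.toFinite _),
      Set.ncard_insert_of_notMem (fun k => k.1.2.1 rfl) (Set.toFinite _), hc] at hb'
    · omega
    · rintro u (e | hu) ⟨⟨-, k⟩, -⟩
      exacts [k (e ▸ Commute.refl d), k hu.1.2.2.symm]
  have hcommon : ∀ a ∈ apart D d, {b ∈ perp D d | Commute b a}.ncard = S.ncard := by
    intro a ha
    obtain ⟨g, e1, e2⟩ := apart_pair_conj B.set hd hf hdf hd ha.1 fun k => ha.2 k.symm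
    have hgd : Commute g d := mul_inv_eq_iff_eq_mul.mp e1
    symm
    refine Set.ncard_congr (fun u _ => g * u * g⁻¹) (fun u hu => ⟨perp_conj' h hgd hu.1, ?_⟩)
      (fun u v _ _ e => by simpa using e) fun u hu => ?_
    · rw [← e2]; exact (commute_conj_iff g u f).mpr hu.2.2.2.symm
    · have hu' : g⁻¹ * u * g ∈ perp D d := by simpa using perp_conj' h hgd.inv_left hu.1
      have kf : Commute f (g⁻¹ * u * g) := by
        rw [← commute_conj_iff g, e2]
        simpa [mul_assoc] using hu.2.symm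
      exact ⟨g⁻¹ * u * g, ⟨hu', hu'.1, fun e => hdf (e ▸ hu'.2.2), kf⟩, by simp [mul_assoc]⟩
  have hcount : 3510 * 2816 = (apart D d).ncard * S.ncard := hperp ▸ double_count_const h2816 hcommon
  have hm : A.ncard = 224 := by
    set_option maxRecDepth 8000 in
    have key : ∀ k ∈ Finset.range 127, 10080 % k = 0 →
        (3510 * 2816) % (127 + 10080 / k) = 0 → 10080 / k = 224 := by decide
    have hν0 : 0 < ν := by
      rcases Nat.eq_zero_or_pos ν with e | e
      · rw [e] at hmν; omega
      · exact e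
    have hdiv : 10080 / ν = A.ncard := by
      rw [show 10080 = A.ncard * ν by omega, Nat.mul_div_cancel _ hν0]
    rw [← hdiv]
    refine key ν (Finset.mem_range.mpr (by omega)) ?_ ?_
    · rw [show 10080 = A.ncard * ν by omega, Nat.mul_mod_left]
    · rw [hdiv, ← hμ, hcount, Nat.mul_mod_left]
  have hapart : (apart D d).ncard = 28160 := by rw [hμ, hm] at hcount; omega
  have e : D = insert d (perp D d) ∪ apart D d := by
    ext u
    constructor
    · intro hu
      by_cases k : Commute u d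
      · by_cases e : u = d
        · exact Or.inl (Or.inl e)
        · exact Or.inl (Or.inr ⟨hu, e, k.symm⟩)
      · exact Or.inr ⟨hu, k⟩
    · rintro ((e | hu) | hu)
      exacts [e ▸ hd, hu.1, hu.1]
  rw [e, Set.ncard_union_eq (Set.disjoint_left.mpr ?_) (Set.toFinite _) (Set.toFinite _),
    Set.ncard_insert_of_notMem (fun k => k.2.1 rfl) (Set.toFinite _), hperp, hapart]
  rintro u (e | hu) ⟨-, k⟩
  exacts [k (e ▸ Commute.refl d), k hu.2.2.symm]

end M23

end Cfsg.Agent.Block.FischerTypes
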