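import Cfsg.Agent.Lib.Block.FischerTypes.M23Centralizer

/-! Twins and three-congruent pairs of a class die two levels down; transporting the types. -/

set_option autoImplicit false
set_option linter.style.haveILetI false
set_option linter.unusedSectionVars false

namespace Cfsg.Agent.Block.FischerTypes

open Cfsg Cfsg.Agent.Spor.ThreeTrans

section Below

variable {K : Type*} [Group K] [Finite K] {E : Set K}

/-- Distinct commuting images come from commuting members. -/
theorem commute_of_image (h : IsThreeTranspositionClass E) {a u v : K} (hu : u ∈ perp E a)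
    (hv : v ∈ perp E a) (hc : Commute (pr E a u hu) (pr E a v hv))
    (hne : pr E a u hu ≠ pr E a v hv) : Commute u v := by
  by_contra hnc
  apply hne
  set U : ↥(PerpGroup E a) := ⟨u, Subgroup.subset_closure hu⟩
  set V : ↥(PerpGroup E a) := ⟨v, Subgroup.subset_closure hv⟩
  have hUU : U * U = 1 := Subtype.ext (mul_self h.1 hu.1)
  have hVV : V * V = 1 := Subtype.ext (mul_self h.1 hv.1)
  have h3 : (U * V) ^ 3 = 1 := Subtype.ext (by
    simpa [U, V] using pow_three_of_not_commute h hu.1 hv.1 hnc)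
  set π := QuotientGroup.mk' (Subgroup.center ↥(PerpGroup E a))
  have h2 : (π U * π V) ^ 2 = 1 := by
    have hc' : Commute (π U) (π V) := hc
    rw [hc'.mul_pow, pow_two, pow_two, ← map_mul, hUU, ← map_mul, hVV, map_one, mul_one]
  have h3' : (π U * π V) ^ 3 = 1 := by rw [← map_mul, ← map_pow, h3, map_one]
  rw [pow_succ, h2, one_mul] at h3'
  show π U = π V
  rw [eq_inv_of_mul_eq_one_left h3', ← map_inv, inv_eq_of_mul_eq_one_left hVV]

/-- A core element becomes central two levels down. -/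
theorem central_below (p : ℕ) [Fact p.Prime] {x : K} {q : PerpQuot E x}
    (hs : IsSimpleGroup (PerpQuot (perpSet E x) q))
    (hnc : ∃ s t : PerpQuot (perpSet E x) q, ¬ Commute s t) {n : K} (hn : n ∈ PerpGroup E x)
    (hn' : n ∈ pCore p K)
    (hnq : (QuotientGroup.mk (⟨n, hn⟩ : ↥(PerpGroup E x)) : PerpQuot E x) ∈
      PerpGroup (perpSet E x) q)
    {P : PerpQuot E x} (hP : P ∈ perp (perpSet E x) q) :
    Commute P (QuotientGroup.mk (⟨n, hn⟩ : ↥(PerpGroup E x))) := by
  haveI := Transfer.pCore_normal' p K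
  haveI := Transfer.pCore_normal' p (PerpQuot E x)
  set H := PerpGroup E x
  set N := (pCore p K).subgroupOf H
  have hNp : IsPGroup p ↥(N.map (QuotientGroup.mk' (Subgroup.center ↥H))) :=
    ((Transfer.pCore_isPGroup p K).comap_of_injective H.subtype Subtype.val_injective).map _
  have h1 : (QuotientGroup.mk (⟨n, hn⟩ : ↥H) : PerpQuot E x) ∈ pCore p (PerpQuot E x) :=
    Transfer.le_pCore (Subgroup.Normal.map inferInstance _ (QuotientGroup.mk'_surjective _)) hNp
      ⟨⟨n, hn⟩, hn', rfl⟩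
  set H₂ := PerpGroup (perpSet E x) q
  set N₂ := (pCore p (PerpQuot E x)).subgroupOf H₂
  have hNp₂ : IsPGroup p ↥(N₂.map (QuotientGroup.mk' (Subgroup.center ↥H₂))) :=
    ((Transfer.pCore_isPGroup p (PerpQuot E x)).comap_of_injective H₂.subtype
      Subtype.val_injective).map _
  have hbot : N₂.map (QuotientGroup.mk' (Subgroup.center ↥H₂)) ≤ ⊥ :=
    pCore_eq_bot_of_simple p hs hnc ▸
      Transfer.le_pCore (Subgroup.Normal.map inferInstance _ (QuotientGroup.mk'_surjective _)) hNp₂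
  have hz := (QuotientGroup.eq_one_iff _).mp (Subgroup.mem_bot.mp
    (hbot ⟨⟨_, hnq⟩, h1, rfl⟩))
  exact commute_of_center hz (Subgroup.subset_closure hP)

/-- A simple group two levels down forbids twins. -/
theorem twinFree_below (h : IsThreeTranspositionClass E) {x : K} (hx : x ∈ E) {q : PerpQuot E x}
    (hq : q ∈ perpSet E x) (hs : IsSimpleGroup (PerpQuot (perpSet E x) q))
    (hnc : ∃ s t : PerpQuot (perpSet E x) q, ¬ Commute s t) : TwinFree E := by
  haveI : Fact (Nat.Prime 2) := ⟨Nat.prime_two⟩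
  obtain ⟨P, hP, Y, hY, hPY⟩ := exists_perp_noncommute hnc
  obtain ⟨p, hp, rfl⟩ := exists_of_mem hP.1
  obtain ⟨y, hy, rfl⟩ := exists_of_mem hY.1
  obtain ⟨f, hf, rfl⟩ := exists_of_mem hq
  have hpy : ¬ Commute p y := fun k => hPY (commute_pr hp hy k)
  intro a b hab
  by_contra hne
  obtain ⟨g, hg⟩ := transitive h hab.1 hp.1
  have htw := (isSys_perpTwo h).inv g hab
  rw [hg] at htw
  set p' := g * b * g⁻¹
  have hne' : p ≠ p' := fun e => hne (by rw [← hg] at e; simpa [p'] using e)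
  have hpp' : Commute p p' := perpTwo_commute htw
  have hp' : p' ∈ perp E x := by
    refine ⟨htw.2.1, fun e => hpy ((htw.2.2 y hy.1).mpr (e.symm ▸ hy.2.2)), ?_⟩
    exact ((htw.2.2 x hx).mp hp.2.2.symm).symm
  have hfp : Commute f p := commute_of_image h hf hp hP.2.2 (Ne.symm hP.2.1)
  have hfp' : Commute f p' := ((htw.2.2 f hf.1).mp hfp.symm).symm
  have hQ : pr E x p' hp' ∈ perp (perpSet E x) (pr E x f hf) := by
    refine ⟨pr_mem hp', fun e => hpy ?_, commute_pr hf hp' hfp'⟩
    have k := commute_of_image h hy hp' (e ▸ hY.2.2.symm) (e ▸ hY.2.1)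
    exact (htw.2.2 y hy.1).mpr k.symm
  have hn : p * p' ∈ PerpGroup E x :=
    mul_mem (Subgroup.subset_closure hp) (Subgroup.subset_closure hp')
  have hc := central_below 2 hs hnc hn (mul_mem_core_two h htw)
    (show pr E x p hp * pr E x p' hp' ∈ PerpGroup (perpSet E x) (pr E x f hf) from
      mul_mem (Subgroup.subset_closure hP) (Subgroup.subset_closure hQ)) hY
  set Ye : ↥(PerpGroup E x) := ⟨y, Subgroup.subset_closure hy⟩
  set Ne' : ↥(PerpGroup E x) := ⟨p * p', hn⟩
  have hzc : Ye * Ne' * Ye⁻¹ * Ne'⁻¹ ∈ Subgroup.center ↥(PerpGroup E x) := by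
    rw [← QuotientGroup.eq_one_iff]
    have hc' : Commute (QuotientGroup.mk Ye : PerpQuot E x) (QuotientGroup.mk Ne') := hc
    simp only [QuotientGroup.mk_mul, QuotientGroup.mk_inv, hc'.eq]
    group
  have k1 : Commute p (y * (p * p') * y⁻¹ * (p * p')⁻¹) :=
    commute_of_center hzc (Subgroup.subset_closure hp)
  have k2 : Commute p (p * p') := (Commute.refl p).mul_right hpp'
  have k3 : Commute p ((y * p * y) * (y * p' * y)) := by
    have := k1.mul_right k2
    rw [inv_mul_cancel_right, inv_eq h.1 hy.1] at this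
    simpa [mul_assoc, mul_self_mul h.1 hy.1] using this
  have k4 := ((commute_mul_iff h.1 (conj'_mem h hy.1 hp.1) (conj'_mem h hy.1 hp'.1) hp.1
    (fun e => hne' (by simpa using e))
    (by
      have := (commute_conj_iff y p p').mpr hpp'
      rwa [inv_eq h.1 hy.1] at this)).mp k3).1
  apply hpy
  rw [← braid h.1 hp.1 hy.1 hpy] at k4
  have e : p * (p * y * p) = p * y * p * p := k4.eq
  rw [mul_assoc (p * y) p p, mul_self h.1 hp.1, mul_one, mul_assoc p y p,
    mul_self_mul h.1 hp.1] at e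
  exact e.symm

/-- A simple group two levels down forbids a three-core. -/
theorem core_three_below (h : IsThreeTranspositionClass E) (hcen : Subgroup.center K = ⊥)
    (htf : TwinFree E) {x : K} (hx : x ∈ E) {q : PerpQuot E x}
    (hq : q ∈ perpSet E x) (hs : IsSimpleGroup (PerpQuot (perpSet E x) q))
    (hnc : ∃ s t : PerpQuot (perpSet E x) q, ¬ Commute s t) : pCore 3 K = ⊥ := by
  haveI : Fact (Nat.Prime 3) := ⟨Nat.prime_three⟩
  haveI := Transfer.pCore_normal' 3 K
  refine eq_bot_of_separated h hcen _ fun a ha b hb hab => ?_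
  by_contra hne
  obtain ⟨P, hP, -, -, -⟩ := exists_perp_noncommute hnc
  obtain ⟨p, hp, rfl⟩ := exists_of_mem hP.1
  obtain ⟨f, hf, rfl⟩ := exists_of_mem hq
  obtain ⟨g, hg⟩ := transitive h ha hp.1
  set p' := g * b * g⁻¹
  have hab' : p * p' ∈ pCore 3 K := by
    rw [← hg]
    simpa [p', mul_assoc] using Subgroup.Normal.conj_mem inferInstance _ hab g
  have hne' : p ≠ p' := fun e => hne (by rw [← hg] at e; simpa [p'] using e)
  have hp'E : p' ∈ E := conj_mem h g hb
  have hpp' : ¬ Commute p p' := fun k => hne' (eq_of_commute_core h hp.1 hp'E hab' k)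
  have hset := (perpThree_of_core h hp.1 hp'E hab').2.2
  have hfp : Commute f p := commute_of_pr h htf hx hf hp hP.2.2
  have hx' : x ∈ {z | z ∈ E ∧ z ≠ p' ∧ Commute p' z} :=
    (Set.ext_iff.mp hset x).mp ⟨hx, Ne.symm hp.2.1, hp.2.2.symm⟩
  have hf' : f ∈ {z | z ∈ E ∧ z ≠ p' ∧ Commute p' z} :=
    (Set.ext_iff.mp hset f).mp ⟨hf.1, fun e => hP.2.1 (by subst e; rfl), hfp.symm⟩
  have hp' : p' ∈ perp E x := ⟨hp'E, Ne.symm hx'.2.1, hx'.2.2.symm⟩
  have hQ : pr E x p' hp' ∈ perp (perpSet E x) (pr E x f hf) :=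
    ⟨pr_mem hp', fun e => hf'.2.1 (pr_injective h htf hx hp' hf e).symm,
      commute_pr hf hp' hf'.2.2.symm⟩
  have hn : p * p' ∈ PerpGroup E x :=
    mul_mem (Subgroup.subset_closure hp) (Subgroup.subset_closure hp')
  have hc : Commute (pr E x p hp) (pr E x p hp * pr E x p' hp') :=
    central_below 3 hs hnc hn hab'
      (show pr E x p hp * pr E x p' hp' ∈ PerpGroup (perpSet E x) (pr E x f hf) from
        mul_mem (Subgroup.subset_closure hP) (Subgroup.subset_closure hQ)) hP
  refine hpp' (commute_of_pr h htf hx hp hp' ?_)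
  have e := hc.eq
  rw [mul_assoc (pr E x p hp) (pr E x p' hp') (pr E x p hp)] at e
  exact mul_left_cancel e

end Below

section Map

variable {X Y : Type*} [Group X] [Group Y]

/-- An isomorphism carries a generated group modulo its centre. -/
theorem closureQuot_map (τ : X ≃* Y) (S : Set X) {T : Set Y} (hT : τ '' S = T) :
    Nonempty ((↥(Subgroup.closure S) ⧸ Subgroup.center ↥(Subgroup.closure S)) ≃*
      (↥(Subgroup.closure T) ⧸ Subgroup.center ↥(Subgroup.closure T))) := by
  have em : (Subgroup.closure S).map τ.toMonoidHom = Subgroup.closure T := by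
    rw [MonoidHom.map_closure, ← hT]; rfl
  let σ₀ : ↥(Subgroup.closure S) ≃* ↥(Subgroup.closure T) :=
    ((Subgroup.closure S).equivMapOfInjective _ τ.injective).trans (MulEquiv.subgroupCongr em)
  refine ⟨QuotientGroup.congr _ _ σ₀ ?_⟩
  ext x
  simp only [Subgroup.mem_map, MulEquiv.coe_toMonoidHom]
  constructor
  · rintro ⟨y, hy, rfl⟩
    exact Subgroup.mem_center_iff.mpr fun z => by
      simpa using congrArg σ₀ (Subgroup.mem_center_iff.mp hy (σ₀.symm z))
  · intro hx
    refine ⟨σ₀.symm x, Subgroup.mem_center_iff.mpr fun z => ?_, σ₀.apply_symm_apply x⟩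
    simpa using congrArg σ₀.symm (Subgroup.mem_center_iff.mp hx (σ₀ z))

theorem image_common (τ : X ≃* Y) (E : Set X) (d c : X) :
    τ '' (perp E d ∩ perp E c) = perp (τ '' E) (τ d) ∩ perp (τ '' E) (τ c) := by
  rw [perp_image, perp_image, Set.image_inter τ.injective]

/-- Type M(22) is carried by isomorphisms. -/
theorem m22_map (τ : X ≃* Y) {E : Set X} (h : IsOfTypeM22 X E) : IsOfTypeM22 Y (τ '' E) := by
  obtain ⟨hc, d, hd, c, hc', hdc, ⟨F, iF, iT, hF, ⟨e⟩⟩, c₃, h3, Q, hQ, hμ, ⟨f⟩⟩ := h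
  obtain ⟨σ, -⟩ := quot_map τ E d
  obtain ⟨ρ⟩ := closureQuot_map τ _ (image_common τ E d c)
  exact ⟨center_bot_map τ hc, τ d, ⟨d, hd, rfl⟩, τ c, ⟨c, hc', rfl⟩,
    fun k => hdc (by simpa using k.map τ.symm), ⟨F, iF, iT, hF, ⟨σ.symm.trans e⟩⟩,
    c₃, h3, Q, hQ, hμ, ⟨ρ.symm.trans f⟩⟩

/-- Type M(23) is carried by isomorphisms. -/
theorem m23_map (τ : X ≃* Y) {E : Set X} (h : IsOfTypeM23 X E) : IsOfTypeM23 Y (τ '' E) := by
  obtain ⟨hc, d, hd, c, hc', hdc, h22, c₃, h3, Q, hQ, hμ, ⟨f⟩⟩ := h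
  obtain ⟨σ, hσ⟩ := quot_map τ E d
  obtain ⟨ρ⟩ := closureQuot_map τ _ (image_common τ E d c)
  have h22' : IsOfTypeM22 (PerpQuot E d) (perpSet E d) := h22
  refine ⟨center_bot_map τ hc, τ d, ⟨d, hd, rfl⟩, τ c, ⟨c, hc', rfl⟩,
    fun k => hdc (by simpa using k.map τ.symm), ?_, c₃, h3, Q, hQ, hμ, ⟨ρ.symm.trans f⟩⟩
  show IsOfTypeM22 (PerpQuot (τ '' E) (τ d)) (perpSet (τ '' E) (τ d))
  rw [← hσ]
  exact m22_map σ h22'

end Map

end Cfsg.Agent.Block.FischerTypes
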