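import Cfsg.Agent.Lib.Block.FischerTypes.M24Frame

/-! Twenty-four pairwise commuting members in type M(24) and their octads. -/

set_option autoImplicit false
set_option linter.style.haveILetI false
set_option linter.unusedSectionVars false

namespace Cfsg.Agent.Block.FischerTypes.Quad45

/-- A point is determined by itself with its neighbours. -/
theorem twin {i j : Pt} (h : ∀ k, (i = k ∨ Adj i k) ↔ (j = k ∨ Adj j k)) : i = j := by
  by_contra hne
  have hij : Adj i j := ((h j).mpr (Or.inl rfl)).resolve_left hne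
  obtain ⟨q, hq1, hq2⟩ := exists_off hij (mem_line.mpr (Or.inl rfl))
  rcases (h q).mp (Or.inr hq1) with e | e
  · exact hq2 (mem_line.mpr (Or.inr (Or.inl e.symm)))
  · exact hq2 (mem_line.mpr (Or.inr (Or.inr ⟨hq1, e⟩)))

/-- A clique of five points is a line. -/
theorem clique_line (I : Finset Pt) (hI : ∀ u ∈ I, ∀ v ∈ I, u ≠ v → Adj u v) (h5 : 5 ≤ I.card) :
    ∃ i j, Adj i j ∧ I = line i j := by
  obtain ⟨i, hi, j, hj, hne⟩ := Finset.one_lt_card.mp (show 1 < I.card by omega)
  have hij := hI i hi j hj hne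
  refine ⟨i, j, hij, Finset.eq_of_subset_of_card_le (fun k hk => mem_line.mpr ?_) (by rw [card_line hij]; omega)⟩
  by_cases e1 : k = i
  · exact Or.inl e1
  by_cases e2 : k = j
  · exact Or.inr (Or.inl e2)
  exact Or.inr (Or.inr ⟨hI i hi k hk (Ne.symm e1), hI j hj k hk (Ne.symm e2)⟩)

end Cfsg.Agent.Block.FischerTypes.Quad45

namespace Cfsg.Agent.Block.FischerTypes.M24

open Cfsg Cfsg.Agent.Spor.ThreeTrans
open Cfsg.Agent.Block.FischerTypes.M22 (perp_symm commute_self)
open Quad45 (Pt Adj line)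

variable {G : Type*} [Group G] [Finite G] {D : Set G}

section

variable {d e b c : G} {idx : G → Pt} (F : Frame D d e b c idx)
include F

theorem Frame.fibre (i : Pt) : ∃ l : List G, l.Nodup ∧ l.length = 4 ∧
    CList D 8 (d :: e :: b :: c :: l) ∧ (d :: e :: b :: c :: l).prod = 1 ∧
    ∀ u, u ∈ l ↔ u ∈ four D d e b c ∧ idx u = i := by
  obtain ⟨l, h8, h1, hl⟩ := F.octad i
  refine ⟨l, h8.tail.tail.tail.tail.1, ?_, h8, h1, hl⟩
  exact h8.tail.tail.tail.tail.2.1

theorem Frame.surj (i : Pt) : ∃ u ∈ four D d e b c, idx u = i := by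
  obtain ⟨l, -, h4, -, -, hl⟩ := F.fibre i
  obtain ⟨u, hu⟩ := List.exists_mem_of_length_pos (show 0 < l.length by omega)
  exact ⟨u, (hl u).mp hu⟩

theorem Frame.twin {u v : G} (hu : u ∈ four D d e b c) (hv : v ∈ four D d e b c)
    (h : ∀ w ∈ four D d e b c, (Commute u w ↔ Commute v w)) : idx u = idx v :=
  Quad45.twin fun k => by
    obtain ⟨w, hw, rfl⟩ := F.surj k
    rw [← F.comm u hu w hw, ← F.comm v hv w hw]
    exact h w hw

theorem Frame.twin' {u v : G} (hu : u ∈ four D d e b c) (hv : v ∈ four D d e b c) (h : idx u = idx v) :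
    ∀ w ∈ four D d e b c, (Commute u w ↔ Commute v w) := fun w hw => by
  rw [F.comm u hu w hw, F.comm v hv w hw, h]

end

theorem mem_four {d e b c u : G} (hu : u ∈ four D d e b c) :
    u ∈ D ∧ ∀ a ∈ [d, e, b, c], u ≠ a ∧ Commute a u := by
  refine ⟨hu.1.1.1.1, ?_⟩
  simp only [List.mem_cons, List.not_mem_nil, or_false]
  rintro a (rfl | rfl | rfl | rfl)
  exacts [⟨hu.1.1.1.2.1, hu.1.1.1.2.2⟩, ⟨hu.1.1.2.2.1, hu.1.1.2.2.2⟩, ⟨hu.1.2.2.1, hu.1.2.2.2⟩,
    ⟨hu.2.2.1, hu.2.2.2⟩]

theorem four_of {d e b c u : G} (hu : u ∈ D) (h : ∀ a ∈ [d, e, b, c], u ≠ a ∧ Commute a u) :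
    u ∈ four D d e b c :=
  ⟨⟨⟨⟨hu, h d (by simp)⟩, ⟨hu, h e (by simp)⟩⟩, ⟨hu, h b (by simp)⟩⟩, ⟨hu, h c (by simp)⟩⟩

/-- Twenty-four pairwise commuting members. -/
structure Basis (D : Set G) (E : Finset G) : Prop where
  sub : ∀ u ∈ E, u ∈ D
  comm : ∀ u ∈ E, ∀ v ∈ E, Commute u v
  card : E.card = 24

/-- Eight members of a basis with product one. -/
structure Oct (D : Set G) (E : Finset G) (S : List G) : Prop where
  clist : CList D 8 S
  prod : S.prod = 1
  mem : ∀ u ∈ S, u ∈ E

/-- Four members of a basis, with the line formed by the classes of the others. -/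
structure Chart (D : Set G) (E : Finset G) (a b c f : G) (idx : G → Pt) (i j : Pt) : Prop where
  frame : Frame D a b c f idx
  adj : Adj i j
  out : ∀ v ∈ E, v ∉ [a, b, c, f] → v ∈ four D a b c f ∧ idx v ∈ line i j
  inE : ∀ v ∈ four D a b c f, idx v ∈ line i j → v ∈ E
  four_mem : ∀ v ∈ [a, b, c, f], v ∈ E

variable (B : Base D)
include B

theorem Basis.chart {E : Finset G} (hE : Basis D E) {a b c f : G} (hn : [a, b, c, f].Nodup)
    (hm : ∀ v ∈ [a, b, c, f], v ∈ E) : ∃ idx i j, Chart D E a b c f idx i j := by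
  classical
  obtain ⟨a', b', c', f', e, ha, hb, hc, hf⟩ := four_parts (D := D) (l := [a, b, c, f])
    ⟨hn, rfl, fun v hv => hE.sub v (hm v hv), fun u hu v hv => hE.comm u (hm u hu) v (hm v hv)⟩
  simp only [List.cons.injEq, and_true] at e
  obtain ⟨rfl, rfl, rfl, rfl⟩ := e
  obtain ⟨idx, F⟩ := exists_frame B ha hb hc hf
  set T := E \ [a, b, c, f].toFinset
  have hT : ∀ v ∈ T, v ∈ four D a b c f := fun v hv => by
    obtain ⟨hv1, hv2⟩ := Finset.mem_sdiff.mp hv
    exact four_of (hE.sub v hv1) fun y hy =>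
      ⟨fun k => hv2 (List.mem_toFinset.mpr (k ▸ hy)), hE.comm y (hm y hy) v hv1⟩
  have hTc : T.card = 20 := by
    rw [Finset.card_sdiff_of_subset (fun v hv => hm v (List.mem_toFinset.mp hv)), hE.card,
      List.toFinset_card_of_nodup hn]
    rfl
  have fib : ∀ p, (T.filter fun v => idx v = p).card ≤ 4 := fun p => by
    obtain ⟨l, hln, hl4, -, -, hl⟩ := F.fibre p
    rw [← hl4, ← List.toFinset_card_of_nodup hln]
    refine Finset.card_le_card fun v hv => List.mem_toFinset.mpr ((hl v).mpr ?_)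
    obtain ⟨h1, h2⟩ := Finset.mem_filter.mp hv
    exact ⟨hT v h1, h2⟩
  have hsum := Finset.card_eq_sum_card_image idx T
  have h5 : 5 ≤ (T.image idx).card := by
    have := Finset.sum_le_sum (s := T.image idx) fun p _ => fib p
    rw [← hsum, hTc, Finset.sum_const, smul_eq_mul] at this
    omega
  obtain ⟨i, j, hij, hI⟩ := Quad45.clique_line (T.image idx) (fun p hp q hq hne => by
    obtain ⟨u, hu, rfl⟩ := Finset.mem_image.mp hp
    obtain ⟨v, hv, rfl⟩ := Finset.mem_image.mp hq
    exact ((F.comm u (hT u hu) v (hT v hv)).mp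
      (hE.comm u (Finset.mem_sdiff.mp hu).1 v (Finset.mem_sdiff.mp hv).1)).resolve_left hne) h5
  refine ⟨idx, i, j, F, hij, fun v hv hv' => ?_, fun v hv hvL => ?_, hm⟩
  · have : v ∈ T := Finset.mem_sdiff.mpr ⟨hv, fun k => hv' (List.mem_toFinset.mp k)⟩
    exact ⟨hT v this, hI ▸ Finset.mem_image_of_mem _ this⟩
  · rw [← hI] at hvL
    have hfull : (T.filter fun w => idx w = idx v).card = 4 := by
      have hle := fib (idx v)
      have hL5 : (T.image idx).card = 5 := by rw [hI, Quad45.card_line hij]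
      have h1 := Finset.add_sum_erase (T.image idx) (fun p => (T.filter fun w => idx w = p).card) hvL
      have h2 := Finset.sum_le_sum (s := (T.image idx).erase (idx v)) fun p _ => fib p
      rw [Finset.sum_const, Finset.card_erase_of_mem hvL, hL5, smul_eq_mul] at h2
      omega
    obtain ⟨l, hln, hl4, -, -, hl⟩ := F.fibre (idx v)
    have e : (T.filter fun w => idx w = idx v) = l.toFinset := by
      refine Finset.eq_of_subset_of_card_le (fun w hw => List.mem_toFinset.mpr ((hl w).mpr ?_))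
        (by rw [hfull, List.toFinset_card_of_nodup hln, hl4])
      obtain ⟨h1, h2⟩ := Finset.mem_filter.mp hw
      exact ⟨hT w h1, h2⟩
    have : v ∈ T.filter fun w => idx w = idx v := e ▸ List.mem_toFinset.mpr ((hl v).mpr ⟨hv, rfl⟩)
    exact (Finset.mem_sdiff.mp (Finset.mem_filter.mp this).1).1

theorem Chart.octad {E : Finset G} {a b c f : G} {idx : G → Pt} {i j : Pt}
    (C : Chart D E a b c f idx i j) {p : Pt} (hp : p ∈ line i j) :
    ∃ l : List G, l.length = 4 ∧ Oct D E (a :: b :: c :: f :: l) ∧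
      ∀ u, u ∈ l ↔ u ∈ four D a b c f ∧ idx u = p := by
  obtain ⟨l, -, h4, h8, h1, hl⟩ := C.frame.fibre p
  refine ⟨l, h4, ⟨h8, h1, fun u hu => ?_⟩, hl⟩
  rcases List.mem_append.mp (show u ∈ [a, b, c, f] ++ l from hu) with k | k
  · exact C.four_mem u k
  · obtain ⟨k1, k2⟩ := (hl u).mp k
    exact C.inE u k1 (k2 ▸ hp)

set_option maxHeartbeats 1000000 in
/-- Octads of a basis meet evenly. -/
theorem Chart.even_meet {E : Finset G} (hE : Basis D E) {a b c f : G} {idx : G → Pt} {i j : Pt}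
    (C : Chart D E a b c f idx i j) {p : Pt} (hp : p ∈ line i j) {S : List G} (hS : Oct D E S)
    [DecidableEq G] : Even (S.countP fun v => decide (v ∈ [a, b, c, f] ∨ idx v = p)) := by
  classical
  have h := B.set.cls
  have F := C.frame
  obtain ⟨r, hpr, hr⟩ := Quad45.exists_off C.adj hp
  obtain ⟨w, hw, hwr⟩ := F.surj r
  -- the states
  let P : G → Prop := fun u => u ∈ four D a b c f ∧ Adj p (idx u) ∧ idx u ∉ line i j
  let A : Pt → Prop := fun k => k = r ∨ Adj k r
  have fix : ∀ v ∈ E, (v ∈ [a, b, c, f] ∨ idx v = p) → ∀ u, P u → Commute v u := fun v hv hT u hu => by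
    by_cases k : v ∈ [a, b, c, f]
    · exact ((mem_four hu.1).2 v k).2
    · exact (F.comm v (C.out v hv k).1 u hu.1).mpr (Or.inr (hT.resolve_left k ▸ hu.2.1))
  have move : ∀ v ∈ E, ¬(v ∈ [a, b, c, f] ∨ idx v = p) → ∀ u, P u →
      P (v * u * v⁻¹) ∧ (A (idx (v * u * v⁻¹)) ↔ ¬ A (idx u)) := by
    intro v hv hT u hu
    push Not at hT
    obtain ⟨hv4, hvL⟩ := C.out v hv hT.1
    have hqp : Adj p (idx v) := (Quad45.line_spec C.adj).1 p hp _ hvL (Ne.symm hT.2)
    have napart : ∀ k, Adj p k → k ∉ line i j → ¬ Adj k (idx v) ∧ k ≠ idx v := fun k hk hk' =>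
      ⟨fun e => hk' (Quad45.mem_of_two C.adj hp hvL (Ne.symm hT.2) (Quad45.symm hk) e), fun e => hk' (e ▸ hvL)⟩
    have hvu : ¬ Commute v u := fun k => by
      rcases (F.comm u hu.1 v hv4).mp k.symm with e | e
      · exact (napart _ hu.2.1 hu.2.2).2 e
      · exact (napart _ hu.2.1 hu.2.2).1 e
    set u' := v * u * v⁻¹
    have hu'4 : u' ∈ four D a b c f := four_of (conj_mem h v hu.1.1.1.1.1) fun y hy => by
      obtain ⟨k1, k2⟩ := (mem_four hu.1).2 y hy
      obtain ⟨-, k3⟩ := (mem_four hv4).2 y hy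
      refine ⟨fun e => k1 ?_, (k3.mul_right k2).mul_right k3.inv_right⟩
      have : u = v⁻¹ * u' * v := by simp [u', mul_assoc]
      rw [this, e, mul_assoc, k3.eq, inv_mul_cancel_left]
    have hnv : ¬ Commute u' v := fun k => hvu (by
      have := (k.symm).map (MulAut.conj v⁻¹).toMonoidHom
      simpa [u', MulAut.conj_apply, mul_assoc] using this)
    have hnu : ¬ Commute u u' := fun k => hvu (by
      have e : u' = u * v * u⁻¹ := by
        simp only [u', inv_eq h.1 (hE.sub v hv), inv_eq h.1 hu.1.1.1.1.1]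
        exact braid h.1 (hE.sub v hv) hu.1.1.1.1.1 hvu
      have := k.map (MulAut.conj u⁻¹).toMonoidHom
      simp only [e, MulEquiv.coe_toMonoidHom, MulAut.conj_apply] at this
      simpa [mul_assoc] using this.symm)
    obtain ⟨x, hx4, hx⟩ := F.surj p
    have hu'p : Commute x u' := by
      have hxv : Commute x v := (F.comm x hx4 v hv4).mpr (Or.inr (hx ▸ hqp))
      have hxu : Commute x u := (F.comm x hx4 u hu.1).mpr (Or.inr (hx ▸ hu.2.1))
      exact (hxv.mul_right hxu).mul_right hxv.inv_right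
    have hadj : Adj p (idx u') := by
      rcases (F.comm x hx4 u' hu'4).mp hu'p with e | e
      · exfalso
        exact hnv ((F.comm u' hu'4 v hv4).mpr (Or.inr (by rw [← e, hx]; exact hqp)))
      · exact hx ▸ e
    have hoff : idx u' ∉ line i j := fun k => hnv ((F.comm u' hu'4 v hv4).mpr (by
      by_cases e : idx u' = idx v
      · exact Or.inl e
      · exact Or.inr ((Quad45.line_spec C.adj).1 _ k _ hvL e)))
    refine ⟨⟨hu'4, hadj, hoff⟩, ?_⟩
    obtain ⟨hne, hnadj⟩ : idx u ≠ idx u' ∧ ¬ Adj (idx u) (idx u') := by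
      have := mt (F.comm u hu.1 u' hu'4).mpr hnu
      push Not at this
      exact this
    constructor
    · intro ha' ha
      rcases ha with e | e <;> rcases ha' with e' | e'
      · exact hne (e.trans e'.symm)
      · exact hnadj (e ▸ Quad45.symm e')
      · exact hnadj (e' ▸ e)
      · have m1 : idx u ∈ line p r := Quad45.mem_line.mpr (Or.inr (Or.inr ⟨hu.2.1, Quad45.symm e⟩))
        have m2 : idx u' ∈ line p r := Quad45.mem_line.mpr (Or.inr (Or.inr ⟨hadj, Quad45.symm e'⟩))
        exact hnadj ((Quad45.line_spec hpr).1 _ m1 _ m2 hne)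
    · intro ha
      by_contra ha'
      simp only [A, not_or] at ha ha'
      obtain ⟨f1, f2⟩ := napart _ hu.2.1 hu.2.2
      obtain ⟨g1, g2⟩ := napart _ hadj hoff
      obtain ⟨r1, r2⟩ := napart r hpr hr
      rcases Quad45.four hu.2.1 hadj hpr hqp hne ha.1 f2 ha'.1 g2 r2 with k | k | k | k | k | k
      exacts [hnadj k, ha.2 k, f1 k, ha'.2 k, g1 k, r1 k]
  obtain ⟨T, hTdef⟩ : ∃ T : G → Bool, T = fun v => decide (v ∈ [a, b, c, f] ∨ idx v = p) := ⟨_, rfl⟩
  rw [← hTdef]
  have hTt : ∀ v, T v = true ↔ (v ∈ [a, b, c, f] ∨ idx v = p) := fun v => by rw [hTdef]; exact decide_eq_true_iff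
  have key : ∀ l : List G, (∀ v ∈ l, v ∈ E) → ∀ u, P u → P (l.prod * u * l.prod⁻¹) ∧
      (A (idx (l.prod * u * l.prod⁻¹)) ↔ (A (idx u) ↔ Even (l.countP fun v => !T v))) := by
    intro l
    induction l with
    | nil => intro _ u hu; simpa using hu
    | cons v l ih =>
      intro hl u hu
      obtain ⟨h1, h2⟩ := ih (fun y hy => hl y (List.mem_cons_of_mem _ hy)) u hu
      have hv := hl v List.mem_cons_self
      have e : (v :: l).prod * u * (v :: l).prod⁻¹ = v * (l.prod * u * l.prod⁻¹) * v⁻¹ := by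
        simp [mul_assoc]
      rw [e]
      by_cases hT : T v = true
      · have hb : ¬ (fun v => !T v) v = true := by simp [hT]
        rw [List.countP_cons_of_neg (p := fun v => !T v) hb, conj_self_eq (fix v hv ((hTt v).mp hT) _ h1)]
        exact ⟨h1, h2⟩
      · obtain ⟨k1, k2⟩ := move v hv (fun k => hT ((hTt v).mpr k)) _ h1
        refine ⟨k1, ?_⟩
        have hb : (fun v => !T v) v = true := by simp [Bool.eq_false_iff.mpr hT]
        refine k2.trans ((not_congr h2).trans ?_)
        rw [List.countP_cons, if_pos hb, Nat.even_add_one]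
        generalize A (idx u) = P₁
        generalize Even (List.countP (fun v => !T v) l) = P₂
        by_cases hP : P₁ <;> simp [hP]
  have hw' : P w := ⟨hw, hwr ▸ hpr, hwr ▸ hr⟩
  have := (key S hS.mem w hw').2
  rw [hS.prod, one_mul, inv_one, mul_one] at this
  have heven : Even (S.countP fun v => !T v) := (this.mp (Or.inl hwr)).mp (Or.inl hwr)
  have hlen := List.length_eq_countP_add_countP T (l := S)
  rw [hS.clist.2.1] at hlen
  have e : S.countP (fun v => !T v) = S.countP (fun v => decide ¬T v = true) :=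
    List.countP_congr fun v _ => by cases T v <;> simp
  rw [Nat.even_iff] at heven ⊢
  omega

end Cfsg.Agent.Block.FischerTypes.M24
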