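import Cfsg.Agent.Lib.Block.FischerTypes.M24Total

/-! With 3240 common perpendiculars the pair group of type M(24) is as large as it should be. -/

set_option autoImplicit false
set_option linter.style.haveILetI false
set_option linter.unusedSectionVars false

namespace Cfsg.Agent.Block.FischerTypes.M24

open Cfsg Cfsg.Agent.Spor.ThreeTrans
open Cfsg.Agent.Block.FischerTypes.M22 (perp_symm commute_self el)

variable {G : Type*} [Group G] [Finite G] {D : Set G} (B : Base D)
include B

/-- An apart pair with 3240 common perpendiculars has a large pair group. -/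
theorem seed_bound {d f : G} (hd : d ∈ D) (hf : f ∈ D) (hdf : ¬ Commute d f)
    (h0 : (common D d f).ncard = 3240) :
    6 * 4952179814400 ≤
      Nat.card (↥(Subgroup.closure (common D d f)) ⧸ Subgroup.center ↥(Subgroup.closure (common D d f))) := by
  classical
  have h := B.set.cls
  set S := common D d f
  set L := Subgroup.closure S
  have hmem : ∀ x ∈ S, x ∈ L := fun x hx => Subgroup.subset_closure hx
  have hcomL : ∀ a, (∀ u ∈ S, Commute a u) → ∀ l ∈ L, Commute l a := by
    intro a ha l hl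
    have hle : L ≤ Subgroup.centralizer ({a} : Set G) := (Subgroup.closure_le _).mpr fun u hu =>
      Subgroup.mem_centralizer_singleton_iff.mpr (ha u hu).symm.eq
    exact Subgroup.mem_centralizer_singleton_iff.mp (hle hl)
  have hld : ∀ l ∈ L, Commute l d := hcomL d fun u hu => hu.1.2.2
  have hlf : ∀ l ∈ L, Commute l f := hcomL f fun u hu => hu.2.2.2
  have hconj : ∀ l ∈ L, ∀ x ∈ S, l * x * l⁻¹ ∈ S := fun l hl x hx =>
    ⟨perp_conj' h (hld l hl) hx.1, perp_conj' h (hlf l hl) hx.2⟩
  obtain ⟨x, hx⟩ := B.meets d hd f hf hdf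
  have hd' := perp_symm hd hx.1
  have hf' := perp_symm hf hx.2
  have happ : ¬ Commute (pr D x d hd') (pr D x f hf') := fun k =>
    hdf (commute_of_pr h B.set.tf hx.1.1 _ _ k)
  -- every member of the set fails to commute with more than half of it
  have hnum : ∀ y ∈ S, {u ∈ S | ¬ Commute y u}.ncard = 2888 := by
    intro y hy
    have hd'' := perp_symm hd hy.1
    have hf'' := perp_symm hf hy.2
    have h351 : (S ∩ perp D y).ncard = 351 := by
      rw [show S ∩ perp D y = common D y d ∩ perp D f by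
          ext u; simp only [S, Set.mem_inter_iff]; tauto, card_common_three B hy.1.1 hd'' hf'']
      exact M23.mu (B.sub y hy.1.1) (pr_mem _) (pr_mem _)
        fun k => hdf (commute_of_pr h B.set.tf hy.1.1 _ _ k)
    have e : S = insert y (S ∩ perp D y) ∪ {u ∈ S | ¬ Commute y u} := by
      ext u
      constructor
      · intro hu
        by_cases k : Commute y u
        · by_cases e : u = y
          · exact Or.inl (Or.inl e)
          · exact Or.inl (Or.inr ⟨hu, hu.1.1, e, k⟩)
        · exact Or.inr ⟨hu, k⟩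
      · rintro ((e | hu) | hu)
        exacts [e ▸ hy, hu.1, hu.1]
    have hc := congrArg Set.ncard e
    rw [h0, Set.ncard_union_eq (Set.disjoint_left.mpr ?_) (Set.toFinite _) (Set.toFinite _),
      Set.ncard_insert_of_notMem (fun k => k.2.2.1 rfl) (Set.toFinite _), h351] at hc
    · omega
    · rintro u (e | hu) ⟨-, k⟩
      exacts [k (e ▸ Commute.refl y), k hu.2.2.2]
  let O : Set G := {y | ∃ l ∈ L, l * x * l⁻¹ = y}
  have hO : O = S := by
    refine Set.Subset.antisymm (fun y ⟨l, hl, e⟩ => e ▸ hconj l hl x hx) fun y hy => ?_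
    have step : ∀ {a b}, a ∈ S → b ∈ S → ¬ Commute a b → ∃ l ∈ L, l * a * l⁻¹ = b := by
      intro a b ha hb hab
      refine ⟨a * b, mul_mem (hmem a ha) (hmem b hb), ?_⟩
      rw [mul_inv_rev, inv_eq h.1 ha.1.1, inv_eq h.1 hb.1.1, braid h.1 ha.1.1 hb.1.1 hab]
      simp [mul_assoc, mul_self h.1 ha.1.1, mul_self_mul h.1 hb.1.1]
    obtain ⟨u, hu1, hu2⟩ : ({u ∈ S | ¬ Commute x u} ∩ {u ∈ S | ¬ Commute y u}).Nonempty := by
      by_contra hno
      have hd2 : Disjoint {u ∈ S | ¬ Commute x u} {u ∈ S | ¬ Commute y u} :=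
        Set.disjoint_iff_inter_eq_empty.mpr (Set.not_nonempty_iff_eq_empty.mp hno)
      have := Set.ncard_le_ncard (s := {u ∈ S | ¬ Commute x u} ∪ {u ∈ S | ¬ Commute y u}) (t := S)
        (Set.union_subset (Set.sep_subset _ _) (Set.sep_subset _ _)) (Set.toFinite _)
      rw [Set.ncard_union_eq hd2 (Set.toFinite _) (Set.toFinite _), hnum x hx, hnum y hy, h0] at this
      omega
    obtain ⟨l, hl, e1⟩ := step hx hu1.1 hu1.2
    obtain ⟨m, hm, e2⟩ := step hu1.1 hy fun k => hu2.2 k.symm
    exact ⟨m * l, mul_mem hm hl, by rw [← e2, ← e1]; simp [mul_assoc]⟩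
  let Cx : Subgroup G := L ⊓ Subgroup.centralizer ({x} : Set G)
  have hCx : Cx ≤ PerpGroup D x := fun k hk =>
    point B hx.1.1 (perp_symm hd hx.1) ((Subgroup.closure_mono Set.inter_subset_left) hk.1)
      (Subgroup.mem_centralizer_singleton_iff.mp hk.2)
  let φ : ↥Cx →* PerpQuot D x := (QuotientGroup.mk' _).comp (Subgroup.inclusion hCx)
  have hφ : ∀ k : ↥Cx, φ k = QuotientGroup.mk (⟨k, hCx k.2⟩ : ↥(PerpGroup D x)) := fun k => rfl
  have hker : ∀ k, φ k = 1 → (k : G) ∈ Subgroup.zpowers x := fun k hk => by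
    have := (QuotientGroup.eq_one_iff _).mp hk
    rw [centre B hx.1.1, Subgroup.mem_subgroupOf] at this
    exact this
  obtain ⟨hgrp, hcen⟩ := M23.pair_group (B.sub x hx.1.1) (B.typ x hx.1.1) (pr_mem hd') (pr_mem hf') happ
  have hran : Subgroup.closure (common (perpSet D x) (pr D x d hd') (pr D x f hf')) ≤ φ.range := by
    refine (Subgroup.closure_le _).mpr fun q hq => ?_
    obtain ⟨u, hu, rfl⟩ := exists_of_mem hq.1.1
    have h1 := (toK B hx.1.1 hd' hu).mp hq.1
    have h2 := (toK B hx.1.1 hf' hu).mp hq.2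
    have huL : u ∈ Cx := ⟨hmem u ⟨h1, h2⟩, Subgroup.mem_centralizer_singleton_iff.mpr hu.2.2.symm.eq⟩
    exact ⟨⟨u, huL⟩, hφ _⟩
  have hlow : 2 * 4585351680 ≤ Nat.card ↥Cx := by
    have h1 := Subgroup.card_eq_card_quotient_mul_card_subgroup φ.ker
    rw [Nat.card_congr (QuotientGroup.quotientKerEquivRange φ).toEquiv] at h1
    have h3 : 4585351680 ≤ Nat.card φ.range := by
      rw [← M23.card_pair (B.sub x hx.1.1) (pr_mem hd') (pr_mem hf') happ, ← hgrp]
      exact Nat.card_le_card_of_injective _ (Subgroup.inclusion_injective hran)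
    have hxC : x ∈ Cx := ⟨hmem x hx, Subgroup.mem_centralizer_singleton_iff.mpr rfl⟩
    have hk0 : φ ⟨x, hxC⟩ = 1 := by
      rw [hφ, QuotientGroup.eq_one_iff, centre B hx.1.1, Subgroup.mem_subgroupOf]
      exact Subgroup.mem_zpowers x
    haveI : Nontrivial φ.ker := ⟨⟨⟨⟨x, hxC⟩, hk0⟩, 1, fun e =>
      ne_one h.1 hx.1.1 (by simpa using congrArg (fun k : φ.ker => ((k : ↥Cx) : G)) e)⟩⟩
    have h2 : 2 ≤ Nat.card φ.ker := Finite.one_lt_card
    rw [h1, mul_comm]
    exact Nat.mul_le_mul h3 h2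
  -- trivial centre
  have hZ : Subgroup.center ↥L = ⊥ := by
    refine (Subgroup.eq_bot_iff_forall _).mpr fun z hz => ?_
    have hzS : ∀ u ∈ S, Commute u (z : G) := fun u hu =>
      congrArg Subtype.val (Subgroup.mem_center_iff.mp hz ⟨u, hmem u hu⟩)
    have hzC : (z : G) ∈ Cx := ⟨z.2, Subgroup.mem_centralizer_singleton_iff.mpr (hzS x hx).symm.eq⟩
    have hz1 : φ ⟨z, hzC⟩ = 1 := by
      have hm : φ ⟨z, hzC⟩ ∈ Subgroup.closure (common (perpSet D x) (pr D x d hd') (pr D x f hf')) := by
        rw [hgrp]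
        refine Subgroup.mem_inf.mpr ⟨Subgroup.mem_centralizer_singleton_iff.mpr ?_,
          Subgroup.mem_centralizer_singleton_iff.mpr ?_⟩
        · exact congrArg QuotientGroup.mk (show Subgroup.inclusion hCx ⟨z, hzC⟩ * el hd' =
            el hd' * Subgroup.inclusion hCx ⟨z, hzC⟩ from Subtype.ext (hld z z.2).eq)
        · exact congrArg QuotientGroup.mk (show Subgroup.inclusion hCx ⟨z, hzC⟩ * el hf' =
            el hf' * Subgroup.inclusion hCx ⟨z, hzC⟩ from Subtype.ext (hlf z z.2).eq)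
      have hzc : (⟨_, hm⟩ : ↥(Subgroup.closure (common (perpSet D x) (pr D x d hd')
          (pr D x f hf')))) ∈ Subgroup.center _ := by
        refine Subgroup.mem_center_iff.mpr fun g => Subtype.ext ?_
        obtain ⟨k, hk⟩ : (g : PerpQuot D x) ∈ φ.range := hran g.2
        show (g : PerpQuot D x) * φ ⟨z, hzC⟩ = φ ⟨z, hzC⟩ * g
        rw [← hk, ← map_mul, ← map_mul]
        refine congrArg φ (Subtype.ext ?_)
        exact (hcomL (z : G) (fun u hu => (hzS u hu).symm) k k.2.1).eq
      rw [hcen, Subgroup.mem_bot] at hzc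
      exact congrArg Subtype.val hzc
    obtain ⟨n, hn⟩ := hker _ hz1
    have hn' : x ^ n = (z : G) := hn
    obtain ⟨y, hy, hxy⟩ : {u ∈ S | ¬ Commute x u}.Nonempty :=
      Set.nonempty_of_ncard_ne_zero (by rw [hnum x hx]; norm_num)
    rcases Int.even_or_odd n with ⟨m, rfl⟩ | ⟨m, rfl⟩
    · apply Subtype.ext
      rw [← two_mul, zpow_mul, zpow_two, mul_self h.1 hx.1.1, one_zpow] at hn'
      exact hn'.symm
    · rw [zpow_add, zpow_mul, zpow_two, mul_self h.1 hx.1.1, one_zpow, one_mul, zpow_one] at hn'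
      have := hzS y hy
      rw [← hn'] at this
      exact absurd this.symm hxy
  have horb := orbit_card L x (O := O) (fun g hg => ⟨g, hg, rfl⟩) fun y hy => hy
  rw [hO, h0] at horb
  have hq := Subgroup.card_eq_card_quotient_mul_card_subgroup (Subgroup.center ↥L)
  rw [hZ, Subgroup.card_bot, mul_one] at hq
  rw [hZ, ← hq, ← horb]
  exact le_trans (by norm_num) (Nat.mul_le_mul le_rfl hlow)

end Cfsg.Agent.Block.FischerTypes.M24
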