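import Cfsg.Agent.Lib.Block.FischerTypes.M24Total

/-! Centralisers of transpositions, the order and the width in type M(24). -/

set_option autoImplicit false
set_option linter.style.haveILetI false
set_option linter.unusedSectionVars false

namespace Cfsg.Agent.Block.FischerTypes.M24

open Cfsg Cfsg.Agent.Spor.ThreeTrans
open Cfsg.Agent.Block.FischerTypes.M22 (perp_symm)

variable {G : Type*} [Group G] [Finite G] {D : Set G} (B : Base D)
include B

theorem common_ne {p q : G} (hp : p ∈ D) (hq : q ∈ D) (hpq : p ≠ q) : (common D p q).Nonempty := by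
  by_cases hc : Commute p q
  · have hqp : q ∈ perp D p := ⟨hq, Ne.symm hpq, hc⟩
    obtain ⟨r, hr⟩ := (B.sub p hp).set.perp_ne _ (pr_mem hqp)
    obtain ⟨z, hz, rfl⟩ := exists_of_mem hr.1
    exact ⟨z, hz, (toK B hp hqp hz).mp hr⟩
  · exact B.meets p hp q hq hc

theorem tri {x p r : G} (hx : x ∈ D) (hp : p ∈ perp D x) (hr : r ∈ perp D x) (hpr : p ≠ r) :
    ∃ y, y ∈ perp D x ∧ y ∈ perp D p ∧ y ∈ perp D r := by
  have C := B.sub x hx
  have hne : (common (perpSet D x) (pr D x p hp) (pr D x r hr)).Nonempty := by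
    by_cases hc : Commute p r
    · refine Set.nonempty_of_ncard_ne_zero ?_
      rw [M23.card_common C (pr_mem hp) ((toK B hx hp hr).mpr ⟨hr.1, Ne.symm hpr, hc⟩)
        (M23.counts C _ (pr_mem hp))]
      norm_num
    · exact C.meets _ (pr_mem hp) _ (pr_mem hr) fun k =>
        hc (commute_of_pr B.set.cls B.set.tf hx hp hr k)
  obtain ⟨y, hy⟩ := hne
  obtain ⟨y, hyx, rfl⟩ := exists_of_mem hy.1.1
  exact ⟨y, hyx, (toK B hx hp hyx).mp hy.1, (toK B hx hr hyx).mp hy.2⟩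

theorem diam {p q x y : G} (hp : p ∈ D) (hq : q ∈ D) (hpq : p ≠ q) (hc : Commute p q)
    (hx : x ∈ common D p q) (hy : y ∈ common D p q) (hxy : ¬ Commute x y) :
    ∃ z ∈ common D p q, Commute z x ∧ Commute z y := by
  have h := B.set.cls
  have htf := B.set.tf
  have hqp : q ∈ perp D p := ⟨hq, Ne.symm hpq, hc⟩
  have hx' := (toK B hp hqp hx.1).mpr hx.2
  have hy' := (toK B hp hqp hy.1).mpr hy.2
  have KB := B.sub p hp
  obtain ⟨r, hr⟩ := ((KB.ctx _ (pr_mem hqp))).meets _ (pr_mem hx') _ (pr_mem hy')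
    fun k => hxy (commute_of_pr h htf hp hx.1 hy.1
      (commute_of_pr KB.set.cls KB.set.tf (pr_mem hqp) hx' hy' k))
  obtain ⟨w, hw, rfl⟩ := exists_of_mem hr.1.1
  obtain ⟨z, hz, rfl⟩ := exists_of_mem hw.1
  have hzq := (toK B hp hqp hz).mp hw
  exact ⟨z, ⟨hz, hzq⟩,
    (commute_of_pr h htf hp hx.1 hz (commute_of_pr KB.set.cls KB.set.tf (pr_mem hqp) hx' hw hr.1.2.2)).symm,
    (commute_of_pr h htf hp hy.1 hz (commute_of_pr KB.set.cls KB.set.tf (pr_mem hqp) hy' hw hr.2.2.2)).symm⟩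

/-- The local data for the cover. -/
theorem cover : Cov.Cover D :=
  ⟨B.set.cls, fun _ ha => self B ha, B.set.perp_ne,
    fun _ hd _ hx _ hk hkd => point B hd hx hk hkd,
    fun _ hx _ hp _ hq => lift_conj B hx hp hq,
    fun _ hx _ hy _ hp _ hq hpy hqy => lift_conj_fix B hx hy hp hq hpy hqy,
    fun _ hp _ hq hpq => common_ne B hp hq hpq,
    fun _ hx _ hp _ hr hpr => tri B hx hp hr hpr,
    fun _ hp _ hq hpq hc _ hx _ hy hxy => diam B hp hq hpq hc hx hy hxy,
    fun _ hd _ hf hdf _ _ _ hw _ => exists_near B hd hf hdf hw⟩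

theorem centralizer_eq {d : G} (hd : d ∈ D) :
    Subgroup.centralizer ({d} : Set G) = PerpGroup D d :=
  Cov.centralizer_eq (cover B) hd

theorem card_quot {a : G} (ha : a ∈ D) :
    Nat.card (PerpQuot D a) = 31671 * (2 * 64561751654400) :=
  M23.card_group (B.sub a ha) ((B.set.perp_ne a ha).elim fun _ hu => ⟨_, pr_mem hu⟩)

theorem card_perpGroup {a : G} (ha : a ∈ D) :
    Nat.card ↥(PerpGroup D a) = 2 * (31671 * (2 * 64561751654400)) := by
  have h := Subgroup.card_eq_card_quotient_mul_card_subgroup (Subgroup.center ↥(PerpGroup D a))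
  rw [h, show Nat.card (↥(PerpGroup D a) ⧸ Subgroup.center ↥(PerpGroup D a)) =
      31671 * (2 * 64561751654400) from card_quot B ha, centre B ha,
    Nat.card_congr (Subgroup.subgroupOfEquivOfLe (Subgroup.zpowers_le.mpr (self B ha))).toEquiv,
    Nat.card_zpowers, B.set.cls.1.1 a ha, mul_comm]

theorem card_group (hne : D.Nonempty) :
    Nat.card G = 306936 * (2 * (31671 * (2 * 64561751654400))) := by
  have hn := total B hne
  obtain ⟨a, ha⟩ := hne
  rw [← M22.card_orbit a, M22.orbit_conj B.set.cls ha, hn, centralizer_eq B ha, card_perpGroup B ha]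

theorem width (hne : D.Nonempty) : commutingWidth D = 24 := by
  have h := B.set.cls
  have hw : ∀ a ∈ D, commutingWidth (perpSet D a) = 23 := fun a ha =>
    M23.width (B.sub a ha) ((B.set.perp_ne a ha).elim fun _ hu => ⟨_, pr_mem hu⟩)
  have hbdd : ∀ {X : Type _} [Group X] [Finite X] (S : Set X),
      BddAbove {n : ℕ | ∃ E : Set X, E ⊆ S ∧ E.Finite ∧ (∀ a ∈ E, ∀ b ∈ E, Commute a b) ∧ E.ncard = n} :=
    fun S => ⟨S.ncard, by rintro n ⟨E, hE, -, -, rfl⟩; exact Set.ncard_le_ncard hE⟩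
  obtain ⟨a, ha⟩ := hne
  refine le_antisymm ?_ ?_
  · refine csSup_le ⟨0, ∅, by simp, Set.finite_empty, by simp, by simp⟩ ?_
    rintro n ⟨E, hE, -, hc, rfl⟩
    rcases E.eq_empty_or_nonempty with rfl | ⟨x, hx⟩
    · simp
    have hp : ∀ y ∈ E \ {x}, y ∈ perp D x := fun y hy => ⟨hE hy.1, hy.2, hc x hx y hy.1⟩
    let E' : Set (PerpQuot D x) := {q | ∃ (y : G) (hy : y ∈ E \ {x}), pr D x y (hp y hy) = q}
    have hcard : (E \ {x}).ncard = E'.ncard := Set.ncard_congr (fun y hy => pr D x y (hp y hy))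
      (fun y hy => ⟨y, hy, rfl⟩)
      (fun y z hy hz e => pr_injective h B.set.tf (hE hx) (hp y hy) (hp z hz) e)
      (fun q ⟨y, hy, e⟩ => ⟨y, hy, e⟩)
    have : E'.ncard ≤ 23 := hw x (hE hx) ▸ le_csSup (hbdd _) ⟨E', fun q ⟨y, hy, e⟩ => e ▸ pr_mem _,
      Set.toFinite _, fun q ⟨y, hy, e⟩ r ⟨z, hz, e'⟩ =>
        e ▸ e' ▸ commute_pr _ _ (hc y hy.1 z hz.1), rfl⟩
    rw [Set.ncard_sdiff_singleton_of_mem hx] at hcard
    omega
  · have hne' : {n : ℕ | ∃ E : Set (PerpQuot D a), E ⊆ perpSet D a ∧ E.Finite ∧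
        (∀ x ∈ E, ∀ y ∈ E, Commute x y) ∧ E.ncard = n}.Nonempty :=
      ⟨0, ∅, by simp, Set.finite_empty, by simp, by simp⟩
    obtain ⟨E', hE', -, hc', hn'⟩ := Nat.sSup_mem hne' (hbdd _)
    have hn : E'.ncard = 23 := hn'.trans (hw a ha)
    let E : Set G := {y | ∃ hy : y ∈ perp D a, pr D a y hy ∈ E'}
    have hcard : E.ncard = E'.ncard := Set.ncard_congr (fun y hy => pr D a y hy.1) (fun y hy => hy.2)
      (fun y z hy hz e => pr_injective h B.set.tf ha hy.1 hz.1 e) fun q hq => by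
        obtain ⟨y, hy, rfl⟩ := exists_of_mem (hE' hq)
        exact ⟨y, ⟨hy, hq⟩, rfl⟩
    refine le_csSup (hbdd _) ⟨insert a E, ?_, Set.toFinite _, ?_, ?_⟩
    · rintro y (rfl | hy)
      exacts [ha, hy.1.1]
    · rintro y (rfl | hy) z (rfl | hz)
      exacts [Commute.refl _, hz.1.2.2, hy.1.2.2.symm,
        commute_of_pr h B.set.tf ha hy.1 hz.1 (hc' _ hy.2 _ hz.2)]
    · rw [Set.ncard_insert_of_notMem (fun k => k.1.2.1 rfl) (Set.toFinite _), hcard, hn]

end Cfsg.Agent.Block.FischerTypes.M24
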