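import Cfsg.Agent.Lib.Block.FischerTypes.M24Products
import Cfsg.Agent.Lib.Block.FischerTypes.M23Class

/-! The class of transpositions of type M(24) is the only one. -/

set_option autoImplicit false
set_option linter.style.haveILetI false
set_option linter.unusedSectionVars false

namespace Cfsg.Agent.Block.FischerTypes.M24

open Cfsg.Agent.Spor.ThreeTrans
open Cfsg.Agent.Block.FischerTypes.M22 (perp_symm)

variable {G : Type*} [Group G] [Finite G] {D : Set G} (B : Base D)
include B

/-- Two commuting members next to a short path. -/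
theorem path_config (hne : D.Nonempty) : ∃ a c q d e w : G, a ∈ D ∧ c ∈ perp D a ∧ q ∈ common D a c ∧
    (d ∈ tri3 D a c q ∧ e ∈ tri3 D a c q ∧ w ∈ tri3 D a c q) ∧
    d ≠ e ∧ Commute d e ∧ ¬ Commute d w ∧ ¬ Commute e w := by
  have htf := B.set.tf
  have h := B.set.cls
  obtain ⟨a, ha⟩ := hne
  obtain ⟨u, hu⟩ := B.set.perp_ne a ha
  obtain ⟨C, Q, d', e', w', hC, hQ, ⟨hd', he', hw'⟩, hne', kde, kdw, kew⟩ :=
    M23.path_config (B.sub a ha) ⟨_, pr_mem hu⟩
  obtain ⟨c, hc, rfl⟩ := exists_of_mem hC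
  obtain ⟨q, hq, rfl⟩ := exists_of_mem hQ.1
  obtain ⟨d, hd, rfl⟩ := exists_of_mem hd'.1.1
  obtain ⟨e, he, rfl⟩ := exists_of_mem he'.1.1
  obtain ⟨w, hw, rfl⟩ := exists_of_mem hw'.1.1
  refine ⟨a, c, q, d, e, w, ha, hc, ⟨hq, (toK B ha hc hq).mp hQ⟩,
    ⟨⟨⟨hd, (toK B ha hc hd).mp hd'.1⟩, (toK B ha hq hd).mp hd'.2⟩,
      ⟨⟨he, (toK B ha hc he).mp he'.1⟩, (toK B ha hq he).mp he'.2⟩,
      ⟨⟨hw, (toK B ha hc hw).mp hw'.1⟩, (toK B ha hq hw).mp hw'.2⟩⟩,
    fun k => hne' (by subst k; rfl), commute_of_pr h htf ha hd he kde,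
    fun k => kdw (commute_pr hd hw k), fun k => kew (commute_pr he hw k)⟩

/-- Products of two to four commuting members do not form 3-transpositions. -/
theorem not_three (hne : D.Nonempty) {E : Set G} (hE : IsThreeTranspositionSet E) {m : ℕ} (h2 : 2 ≤ m)
    (h4 : m ≤ 4) (hall : ∀ x, (∃ l, Fact' D m x l) → x ∈ E) : False := by
  have h := B.set.cls
  obtain ⟨a, c, q, d, e, w, ha, hc, hqq, ⟨hd3, he3, hw3⟩, hde, kde, kdw, kew⟩ := path_config B hne
  have hd : d ∈ common D c q := ⟨hd3.1.2, hd3.2⟩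
  have he : e ∈ common D c q := ⟨he3.1.2, he3.2⟩
  have hw : w ∈ common D c q := ⟨hw3.1.2, hw3.2⟩
  have hq : q ∈ perp D c := hqq.2
  have kqd : Commute q d := hd.2.2.2
  have kqe : Commute q e := he.2.2.2
  have kqw : Commute q w := hw.2.2.2
  obtain ⟨x, hx⟩ : ∃ x, x = d * e := ⟨_, rfl⟩
  obtain ⟨y, hy⟩ : ∃ y, y = q * w := ⟨_, rfl⟩
  have hxy : (x * y) ^ 2 = 1 ∨ (x * y) ^ 3 = 1 := by
    set X := ([c, a] : List G).take (m - 2) with hXdef
    have hsub : List.Sublist X [c, a] := List.take_sublist _ _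
    have hXl : X.length = m - 2 := by simp [hXdef]; omega
    have hXn : X.Nodup := (List.nodup_cons.mpr ⟨by simpa using hc.2.1, List.nodup_singleton _⟩).sublist hsub
    have hXD : ∀ u ∈ X, u ∈ D := fun u hu => by
      have := hsub.subset hu
      simp only [List.mem_cons, List.not_mem_nil, or_false] at this
      rcases this with rfl | rfl
      exacts [hc.1, ha]
    have hXc : ∀ u ∈ X, ∀ v ∈ X, Commute u v := fun u hu v hv => by
      have h1 := hsub.subset hu
      have h2 := hsub.subset hv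
      simp only [List.mem_cons, List.not_mem_nil, or_false] at h1 h2
      rcases h1 with rfl | rfl <;> rcases h2 with rfl | rfl
      exacts [.refl _, hc.2.2.symm, hc.2.2, .refl _]
    have near : ∀ p, p ∈ perp D a → p ∈ perp D c → ∀ u ∈ X, u ≠ p ∧ Commute p u := fun p hp hp' u hu => by
      have := hsub.subset hu
      simp only [List.mem_cons, List.not_mem_nil, or_false] at this
      rcases this with rfl | rfl
      exacts [⟨Ne.symm hp'.2.1, hp'.2.2.symm⟩, ⟨Ne.symm hp.2.1, hp.2.2.symm⟩]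
    have mk : ∀ p r, p ∈ perp D a → p ∈ perp D c → r ∈ perp D a → r ∈ perp D c → p ≠ r → Commute p r →
        (p * r) * X.prod ∈ E := fun p r hp hp' hr hr' hne' k => by
      obtain ⟨c1, c2, c3, c4⟩ := CList.cons (CList.cons (k := m - 2) ⟨hXn, hXl, hXD, hXc⟩ hr.1
        (fun u hu => ⟨hXD u hu, (near r hr hr' u hu).1, (near r hr hr' u hu).2⟩)) hp.1 (fun u hu => by
          rcases List.mem_cons.mp hu with rfl | hu
          · exact ⟨hr.1, Ne.symm hne', k⟩
          · exact ⟨hXD u hu, (near p hp hp' u hu).1, (near p hp hp' u hu).2⟩)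
      exact hall _ ⟨p :: r :: X, c1, by rw [c2]; omega, c3, c4, by simp [mul_assoc]⟩
    have hx' := mk d e hd3.1.1 hd.1 he3.1.1 he.1 hde kde
    have hy' := mk q w hqq.1 hq hw3.1.1 hw.1 (Ne.symm hw.2.2.1) kqw
    rw [← hx] at hx'
    rw [← hy] at hy'
    have := hE.2 _ hx' _ hy'
    have kX : Commute X.prod y := (Commute.list_prod_left X y fun u hu =>
      hy ▸ ((near q hqq.1 hq u hu).2.symm.mul_right (near w hw3.1.1 hw.1 u hu).2.symm))
    have e1 : x * X.prod * (y * X.prod) = x * y := by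
      rw [mul_assoc x, ← mul_assoc X.prod y, kX.eq, mul_assoc y, prod_mul_prod h.1 _ hXD hXc, mul_one]
    rwa [e1] at this
  have hxx : x * x = 1 := by rw [← pow_two, hx]; exact sq_of_commute h hd.1.1 he.1.1 kde
  have hyy : y * y = 1 := by rw [← pow_two, hy]; exact sq_of_commute h hq.1 hw.1.1 kqw
  have hqx : Commute q x := hx ▸ kqd.mul_right kqe
  have hww := mul_self h.1 hw.1.1
  rcases hxy with k | k
  · have kxy : Commute x y := by
      show x * y = y * x
      rw [pow_two] at k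
      rw [eq_inv_of_mul_eq_one_left k, mul_inv_rev, inv_eq_of_mul_eq_one_left hxx,
        inv_eq_of_mul_eq_one_left hyy]
    have kxw : Commute w x := by
      have := kxy.symm
      rw [hy] at this
      have h1 := hqx.mul_left this
      rwa [mul_self_mul h.1 hq.1] at h1
    exact kdw ((commute_mul_iff h.1 hd.1.1 he.1.1 hw.1.1 hde kde).mp (hx ▸ kxw)).1.symm
  · have hbr : x * y * x = y * x * y := by
      have e1 : x * y * x * (y * x * y) = 1 := by
        rw [pow_succ, pow_succ, pow_one] at k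
        simpa [mul_assoc] using k
      rw [eq_inv_of_mul_eq_one_left e1, mul_inv_rev, mul_inv_rev, inv_eq_of_mul_eq_one_left hxx,
        inv_eq_of_mul_eq_one_left hyy, mul_assoc]
    have h2 : q * (x * w * x) = w * x * w := by
      calc q * (x * w * x) = x * y * x := by rw [hy, ← mul_assoc, ← mul_assoc, ← mul_assoc, hqx.eq]
        _ = y * x * y := hbr
        _ = q * w * x * (q * w) := by rw [hy]
        _ = q * q * (w * x * w) := by
            rw [← mul_assoc (q * w * x) q w, mul_assoc (q * w) x q, ← hqx.eq]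
            simp only [mul_assoc]
            rw [← mul_assoc w q (x * w), ← kqw.eq, mul_assoc]
        _ = w * x * w := by rw [mul_self h.1 hq.1, one_mul]
    set f := w * d * w⁻¹ with hf
    set g := w * e * w⁻¹ with hg
    set u := x * w * x⁻¹ with hu
    have hu' : u = x * w * x := by rw [hu, inv_eq_of_mul_eq_one_left hxx]
    have hfg : f * g = w * x * w := by rw [hf, hg, hx, inv_eq h.1 hw.1.1]; simp [mul_assoc, mul_self_mul h.1 hw.1.1]
    have kqu : Commute q u := (hqx.mul_right kqw).mul_right hqx.inv_right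
    have hqu : q ≠ u := fun k' => hw.2.2.1 (by
      have e1 : x⁻¹ * q * x = w := by rw [k', hu]; simp [mul_assoc]
      rw [← e1, mul_assoc, hqx.eq, inv_mul_cancel_left])
    have hfg' : f ≠ g := fun k' => hde (mul_left_cancel (mul_right_cancel k'))
    rcases uniq2 h B.set.tf hq.1 (conj_mem h x hw.1.1) (conj_mem h w hd.1.1) (conj_mem h w he.1.1) hqu hfg'
        kqu ((commute_conj_iff w d e).mpr kde) (show q * u = f * g by rw [hfg, ← h2, hu']) with k' | k'
    · refine hd.2.2.1 ?_
      have e1 : w⁻¹ * q * w = d := by rw [k']; simp [hf, mul_assoc]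
      rw [← e1, mul_assoc, kqw.eq, inv_mul_cancel_left]
    · refine he.2.2.1 ?_
      have e1 : w⁻¹ * q * w = e := by rw [k']; simp [hg, mul_assoc]
      rw [← e1, mul_assoc, kqw.eq, inv_mul_cancel_left]

theorem unique_class (hne : D.Nonempty)
    (hA : ∀ x : G, orderOf x = 2 → ∃ m, 1 ≤ m ∧ m ≤ 4 ∧ ∃ l, Fact' D m x l)
    {E : Set G} (hE : IsThreeTranspositionClass E) : E = D := by
  have h := B.set.cls
  obtain ⟨x, hx, hEx⟩ := hE.2.1
  obtain ⟨m, h1, h4, l, hl⟩ := hA x (hE.1.1 x hx)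
  by_cases hm : m = 1
  · subst hm
    obtain ⟨t, rfl⟩ := List.length_eq_one_iff.mp hl.2.1
    have ht : t ∈ D := hl.2.2.1 t (by simp)
    have hxt : x = t := by simpa using hl.2.2.2.2.symm
    rw [hEx, hxt]
    ext y
    refine ⟨fun hy => ?_, fun hy => isConj_iff.mpr (transitive h ht hy)⟩
    obtain ⟨g, rfl⟩ := isConj_iff.mp hy
    exact conj_mem h g ht
  · refine (not_three B hne hE.1 (show 2 ≤ m by omega) h4 fun y hy => ?_).elim
    rw [hEx]
    exact fact_conj B h1 h4 ⟨l, hl⟩ hy

end Cfsg.Agent.Block.FischerTypes.M24
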