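import Cfsg.Agent.Lib.Block.FischerTypes.M24Invol

/-! Involutions in type M(24): one fixed member, and the decomposition into at most four. -/

set_option autoImplicit false
set_option linter.style.haveILetI false
set_option linter.unusedSectionVars false

open scoped Classical

namespace Cfsg.Agent.Block.FischerTypes.M24

open Cfsg Cfsg.Agent.Spor.ThreeTrans
open Quad45 (Pt Adj line Near)

variable {G : Type*} [Group G] [Finite G] {D : Set G}

set_option maxHeartbeats 1000000 in
/-- Every involution commutes with a member. -/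
theorem invol_fixed (B : Base D) (hne : D.Nonempty) {x : G} (hx : x * x = 1) : ∃ d ∈ D, Commute x d := by
  by_contra hno
  push Not at hno
  obtain ⟨E, Y⟩ := exists_sys B ⟨hx, hno⟩ hne
  letI := Y.basis.commGroup
  refine Y.not_all fun u v w hu hv hw huv hwN => ?_
  by_contra hnf
  -- a moved class
  obtain ⟨idx, i, j, τ, C, N, hτ, hL, hT⟩ := Y.pair hu hv huv
  have hout : ∀ a ∈ E, ¬ InN x [u, v] a → a ∈ four D u (sw x u) v (sw x v) ∧ idx a ∈ line i j :=
    fun a ha k => C.out a ha (mt (hT a).mp k)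
  obtain ⟨hw4, hwL⟩ := hout w hw hwN
  have hmv : τ (idx w) ≠ idx w := fun hfix => by
    obtain ⟨f, hf, -, hwf, hfE, hQ, -⟩ := Y.fixed_quad hu hv C hτ hw4 hwL hfix
    refine hnf ⟨f, hfE, fun ⟨y, hy, k⟩ => ?_, hQ.prod⟩
    simp only [List.mem_cons, List.not_mem_nil, or_false] at hy
    rcases hy with rfl | rfl | rfl
    · exact ((mem_four hf).2 f ((hT f).mpr ⟨y, by simp, k⟩)).1 rfl
    · exact ((mem_four hf).2 f ((hT f).mpr ⟨y, by simp, k⟩)).1 rfl
    · exact hwf k
  clear hnf
  obtain ⟨J, h4, hO, hJm⟩ := C.octad B hwL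
  have hJ : ∀ r ∈ J, sw x r ∉ J := fun r hr k => by
    obtain ⟨h1, h2⟩ := (hJm r).mp hr
    have := ((hJm _).mp k).2
    rw [hτ r h1, h2] at this
    exact hmv this
  obtain ⟨R, S, T, U, rfl, -, -, -, -⟩ := four_parts (hO.clist.tail.tail.tail.tail)
  have six := Y.six hO hJ
  have hnJ : [R, S, T, U].Nodup := hO.clist.tail.tail.tail.tail.1
  simp only [List.nodup_cons, List.mem_cons, List.not_mem_nil, or_false, not_or, List.nodup_nil, and_true] at hnJ
  obtain ⟨⟨nRS, nRT, nRU⟩, ⟨nST, nSU⟩, ⟨nTU, -⟩⟩ := hnJ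
  have hO' : Oct D E (v :: sw x v :: u :: sw x u :: [R, S, T, U]) := by
    have hp : (v :: sw x v :: u :: sw x u :: [R, S, T, U]).Perm (u :: sw x u :: v :: sw x v :: [R, S, T, U]) :=
      (List.perm_append_comm (l₁ := [v, sw x v]) (l₂ := [u, sw x u])).append_right [R, S, T, U]
    refine ⟨⟨hp.nodup_iff.mpr hO.clist.1, hp.length_eq.trans hO.clist.2.1,
      fun a ha => hO.clist.2.2.1 a (hp.mem_iff.mp ha),
      fun a ha b hb => hO.clist.2.2.2 a (hp.mem_iff.mp ha) b (hp.mem_iff.mp hb)⟩, ?_,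
      fun a ha => hO.mem a (hp.mem_iff.mp ha)⟩
    rw [hp.prod_eq' (List.pairwise_of_forall_mem_list fun a ha b hb =>
      hO.clist.2.2.2 a (hp.mem_iff.mp ha) b (hp.mem_iff.mp hb)), hO.prod]
  have hRE : R ∈ E := hO.mem R (by simp)
  have hSE : S ∈ E := hO.mem S (by simp)
  have hTE : T ∈ E := hO.mem T (by simp)
  have hUE : U ∈ E := hO.mem U (by simp)
  have hJp := (Y.j_prod hO).2
  simp only [List.map_cons, List.map_nil, List.prod_cons, List.prod_nil, mul_one] at hJp
  have pe : ∀ {a b c z : G}, Quad D x E [a, b, c, z] → gn E x z = gn E x a * gn E x b * gn E x c :=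
    fun {a b c z} h => by
      have h' := h.prod
      simp only [List.map_cons, List.map_nil, List.prod_cons, List.prod_nil, mul_one] at h'
      rw [← mul_assoc, ← mul_assoc] at h'
      exact ((eq_inv_of_mul_eq_one_left h').trans (inv_eq_of_mul_eq_one_left (Y.gn_sq z))).symm
  have other : ∀ {a b c d : ↥(Clo E)}, a * a = 1 → b * b = 1 → a * (b * (c * d)) = 1 → c * d = a * b :=
    fun {a b c d} ha hb h => by
      calc c * d = c * d * ((a * a) * (b * b)) := by rw [ha, hb, mul_one, mul_one]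
        _ = a * (b * (c * d)) * (a * b) := by ac_rfl
        _ = a * b := by rw [h, one_mul]
  have eTU : gn E x T * gn E x U = gn E x R * gn E x S := other (Y.gn_sq _) (Y.gn_sq _) hJp
  have eSU : gn E x S * gn E x U = gn E x R * gn E x T :=
    other (Y.gn_sq _) (Y.gn_sq _) (by rw [← hJp]; ac_rfl)
  have eST : gn E x S * gn E x T = gn E x R * gn E x U :=
    other (Y.gn_sq _) (Y.gn_sq _) (by rw [← hJp]; ac_rfl)
  have last : ∀ {a b c z z' : G}, Quad D x E [a, b, c, z] → z' ∈ E → gn E x z = gn E x z' →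
      Quad D x E [a, b, c, z'] := fun {a b c z z'} h hz' e => by
    have k : Same x z z' := Y.gn_inj (h.mem z (by simp)) hz' e
    refine Y.quad_congr h (fun y hy => ?_) (by simp [e]) fun y => ?_
    · simp only [List.mem_cons, List.not_mem_nil, or_false] at hy
      rcases hy with rfl | rfl | rfl | rfl
      exacts [h.mem _ (by simp), h.mem _ (by simp), h.mem _ (by simp), hz']
    · simp only [InN, List.mem_cons, List.not_mem_nil, or_false, exists_eq_or_imp, exists_eq_left]
      exact or_congr Iff.rfl (or_congr Iff.rfl (or_congr Iff.rfl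
        ⟨fun k' => Y.same_trans k k', fun k' => Y.same_trans (Y.same_symm k) k'⟩))
  have twice : ∀ {a R' S' T' U' z z' : G}, Quad D x E [a, R', S', z] → Quad D x E [a, T', U', z'] →
      gn E x T' * gn E x U' = gn E x R' * gn E x S' → Quad D x E [a, T', U', z] :=
    fun {a R' S' T' U' z z'} h h' e => last h' (h.mem z (by simp)) (by rw [pe h, pe h', mul_assoc, e, mul_assoc])
  obtain ⟨z1, hz1, q1, o1⟩ := Y.partner hO hJ (R := R) (S := S) (by simp) (by simp) nRS
  obtain ⟨z2, hz2, q2, o2⟩ := Y.partner hO hJ (R := R) (S := T) (by simp) (by simp) nRT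
  obtain ⟨z3, hz3, q3, o3⟩ := Y.partner hO hJ (R := R) (S := U) (by simp) (by simp) nRU
  obtain ⟨_, -, p1, -⟩ := Y.partner hO hJ (R := T) (S := U) (by simp) (by simp) nTU
  obtain ⟨_, -, p2, -⟩ := Y.partner hO hJ (R := S) (S := U) (by simp) (by simp) nSU
  obtain ⟨_, -, p3, -⟩ := Y.partner hO hJ (R := S) (S := T) (by simp) (by simp) nST
  have q1' := twice q1 p1 eTU
  have q2' := twice q2 p2 eSU
  have q3' := twice q3 p3 eST
  obtain ⟨m1, hm1, r1, n1⟩ := Y.partner hO' hJ (R := R) (S := S) (by simp) (by simp) nRS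
  obtain ⟨m2, hm2, r2, n2⟩ := Y.partner hO' hJ (R := R) (S := T) (by simp) (by simp) nRT
  obtain ⟨m3, hm3, r3, n3⟩ := Y.partner hO' hJ (R := R) (S := U) (by simp) (by simp) nRU
  obtain ⟨_, -, s1, -⟩ := Y.partner hO' hJ (R := T) (S := U) (by simp) (by simp) nTU
  obtain ⟨_, -, s2, -⟩ := Y.partner hO' hJ (R := S) (S := U) (by simp) (by simp) nSU
  obtain ⟨_, -, s3, -⟩ := Y.partner hO' hJ (R := S) (S := T) (by simp) (by simp) nST
  have r1' := twice r1 s1 eTU
  have r2' := twice r2 s2 eSU
  have r3' := twice r3 s3 eST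
  have middle : ∀ {z m A : G}, Quad D x E [u, R, A, z] → Quad D x E [v, R, A, m] →
      (∀ y ∈ [R, S, T, U] ++ [u, v], ¬ Same x y z) → Quad D x E [u, v, z, m] :=
    fun {z m A} h h' ho => by
      have hz : z ∈ E := h.mem z (by simp)
      obtain ⟨hz4, hzL⟩ := hout z hz fun ⟨y, hy, k⟩ => ho y (List.mem_append_right _ hy) k
      have hfix : τ (idx z) = idx z := by
        by_contra hne
        have hz1' : idx z ≠ idx w := fun e =>
          ho z (List.mem_append_left _ ((hJm z).mpr ⟨hz4, e⟩)) (Or.inl rfl)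
        have hz2' : idx z ≠ τ (idx w) := fun e => by
          have hs : sw x z ∈ four D u (sw x u) v (sw x v) :=
            (hout _ (Y.inv z hz) fun ⟨y, hy, k⟩ =>
              ho y (List.mem_append_right _ hy) (Y.same_trans k (Or.inr (Y.fr.sw_sw z).symm))).1
          exact ho (sw x z) (List.mem_append_left _ ((hJm _).mpr ⟨hs, by rw [hτ z hz4, e, N.invol]⟩))
            (Or.inr (Y.fr.sw_sw z).symm)
        have h3 := Quad45.line_fixed N C.adj hL
        have hsub : ((line i j).filter fun q => τ q = q) ⊆ line i j \ {idx w, τ (idx w), idx z} := by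
          intro q hq
          obtain ⟨hqL, hqf⟩ := Finset.mem_filter.mp hq
          refine Finset.mem_sdiff.mpr ⟨hqL, fun k => ?_⟩
          simp only [Finset.mem_insert, Finset.mem_singleton] at k
          rcases k with rfl | rfl | rfl
          exacts [hmv hqf, hmv (by rw [N.invol] at hqf; exact hqf.symm), hne hqf]
        have h2 := Finset.card_le_card hsub
        rw [Finset.card_sdiff_of_subset (by
          intro q hq
          simp only [Finset.mem_insert, Finset.mem_singleton] at hq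
          rcases hq with rfl | rfl | rfl
          exacts [hwL, hL _ hwL, hzL]), Quad45.card_line C.adj,
          Finset.card_eq_three.mpr ⟨_, _, _, Ne.symm hmv, Ne.symm hz1', Ne.symm hz2', rfl⟩] at h2
        omega
      obtain ⟨f, -, -, -, hfE, hQ, -⟩ := Y.fixed_quad hu hv C hτ hz4 hzL hfix
      refine last hQ (h'.mem m (by simp)) ?_
      rw [pe hQ, pe h', pe h]
      calc gn E x u * gn E x v * (gn E x u * gn E x R * gn E x A)
          = gn E x v * gn E x R * gn E x A * (gn E x u * gn E x u) := by ac_rfl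
        _ = _ := by rw [Y.gn_sq, mul_one]
  have hzz : ∀ {z z' a A A' : G}, Quad D x E [a, R, A, z] → Quad D x E [a, R, A', z'] → A ∈ E → A' ∈ E →
      ¬ Same x A A' → ¬ Same x z z' := fun {z z' a A A'} h h' hA hA' hne k => by
    have e := Y.gn_same k
    rw [pe h, pe h'] at e
    exact hne (Y.gn_inj hA hA' (mul_left_cancel e).symm)
  have hzm : ∀ {z m A A' : G}, Quad D x E [u, R, A, z] → Quad D x E [v, R, A', m] → A ∈ [R, S, T, U] →
      A' ∈ [R, S, T, U] → ¬ Same x z m := fun {z m A A'} h h' hA hA' k => by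
    have e := Y.gn_same k
    rw [pe h, pe h'] at e
    by_cases hAA : A = A'
    · rw [hAA] at e
      exact huv (Y.gn_inj hu hv (mul_right_cancel (mul_right_cancel e)).symm)
    · refine Y.no_pair hO hJ hA hA' hAA ?_
      calc gn E x A * gn E x A' = gn E x A * gn E x A' *
            ((gn E x v * gn E x R * gn E x A') * (gn E x v * gn E x R * gn E x A')) := by
            rw [← pe h', Y.gn_sq, mul_one]
        _ = gn E x A * gn E x A' * ((gn E x v * gn E x R * gn E x A') * (gn E x u * gn E x R * gn E x A)) := by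
            rw [e]
        _ = gn E x u * gn E x v * ((gn E x R * gn E x R) * (gn E x A * gn E x A) * (gn E x A' * gn E x A')) := by
            ac_rfl
        _ = _ := by rw [Y.gn_sq, Y.gn_sq, Y.gn_sq, mul_one, mul_one, mul_one]
  have six' : ∀ a b : G, a ∈ [R, S, T, U] → b ∈ [R, S, T, U] → a ≠ b → ¬ Same x a b := fun a b ha hb hne => by
    rintro (e | e)
    exacts [hne e.symm, hJ a ha (e ▸ hb)]
  have dST := six' S T (by simp) (by simp) nST
  have dSU := six' S U (by simp) (by simp) nSU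
  have dTU := six' T U (by simp) (by simp) nTU
  have memz : ∀ {y z : G}, y ∈ [R, S, T, U] ++ [u, v] → (∀ y ∈ [R, S, T, U] ++ [v, u], ¬ Same x y z) →
      ¬ Same x y z := fun {y z} hy ho => ho y (by
    simp only [List.mem_append, List.mem_cons, List.not_mem_nil, or_false] at hy ⊢
    rcases hy with k | k | k
    exacts [Or.inl k, Or.inr (Or.inr k), Or.inr (Or.inl k)])
  have pw : (([R, S, T, U] ++ [u, v]) ++ ([z1, z2, z3] ++ [m1, m2, m3])).Pairwise fun p q => ¬ Same x p q := by
    refine List.pairwise_append.mpr ⟨six, List.pairwise_append.mpr ⟨?_, ?_, ?_⟩, ?_⟩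
    · simp only [List.pairwise_cons, List.mem_cons, List.not_mem_nil, or_false, forall_eq_or_imp, forall_eq,
        false_imp_iff, implies_true, List.Pairwise.nil, and_true]
      exact ⟨⟨hzz q1 q2 hSE hTE dST, hzz q1 q3 hSE hUE dSU⟩, hzz q2 q3 hTE hUE dTU⟩
    · simp only [List.pairwise_cons, List.mem_cons, List.not_mem_nil, or_false, forall_eq_or_imp, forall_eq,
        false_imp_iff, implies_true, List.Pairwise.nil, and_true]
      exact ⟨⟨hzz r1 r2 hSE hTE dST, hzz r1 r3 hSE hUE dSU⟩, hzz r2 r3 hTE hUE dTU⟩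
    · simp only [List.mem_cons, List.not_mem_nil, or_false, forall_eq_or_imp, forall_eq]
      exact ⟨⟨hzm q1 r1 (by simp) (by simp), hzm q1 r2 (by simp) (by simp), hzm q1 r3 (by simp) (by simp)⟩,
        ⟨hzm q2 r1 (by simp) (by simp), hzm q2 r2 (by simp) (by simp), hzm q2 r3 (by simp) (by simp)⟩,
        hzm q3 r1 (by simp) (by simp), hzm q3 r2 (by simp) (by simp), hzm q3 r3 (by simp) (by simp)⟩
    · intro y hy z hz
      simp only [List.cons_append, List.nil_append, List.mem_cons, List.not_mem_nil, or_false] at hz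
      rcases hz with rfl | rfl | rfl | rfl | rfl | rfl
      exacts [o1 y hy, o2 y hy, o3 y hy, memz hy n1, memz hy n2, memz hy n3]
  let y : Fin 12 → G := ![R, S, T, U, u, z1, z2, z3, v, m1, m2, m3]
  have hy : ∀ k, y k ∈ E := by
    intro k; fin_cases k <;> assumption
  have hne : ∀ k l : Fin 12, k ≠ l → ¬ Same x (y k) (y l) := by
    have pw' : ([0, 1, 2, 3, 4, 8, 5, 6, 7, 9, 10, 11] : List (Fin 12)).Pairwise
        fun k l => ¬ Same x (y k) (y l) := by
      refine (List.pairwise_map (f := y) (R := fun p q => ¬ Same x p q)).mp ?_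
      exact pw
    have hall : ∀ k : Fin 12, k ∈ ([0, 1, 2, 3, 4, 8, 5, 6, 7, 9, 10, 11] : List (Fin 12)) := by decide
    haveI : Std.Symm fun k l => ¬ Same x (y k) (y l) := ⟨fun k l h h' => h (Y.same_symm h')⟩
    exact fun k l hkl => pw'.forall (hall k) (hall l) hkl
  have hq : ∀ q ∈ NodeCode.quads, Quad D x E (q.map y) := by
    intro q hq
    simp only [NodeCode.quads, List.mem_cons, List.not_mem_nil, or_false] at hq
    rcases hq with rfl | rfl | rfl | rfl | rfl | rfl | rfl | rfl | rfl | rfl | rfl | rfl | rfl | rfl | rfl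
    exacts [middle q1 r1 o1, middle q2 r2 o2, middle q3 r3 o3, q1, q1', r1, r1', q2, q2', r2, r2', q3, q3',
      r3, r3']
  -- the octad through five nodes
  have dne : ∀ k l : Fin 12, k ≠ l → y k ≠ y l := fun k l h e => hne k l h (Or.inl e.symm)
  obtain ⟨idx', i', j', C'⟩ := Y.basis.chart B (a := y 0) (b := y 1) (c := y 4) (f := y 5) (by
    have e : [y 0, y 1, y 4, y 5] = ([0, 1, 4, 5] : List (Fin 12)).map y := rfl
    rw [e]
    exact List.Nodup.map (fun k l e => by by_contra h; exact dne k l h e) (by decide))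
    (fun a ha => by
      simp only [List.mem_cons, List.not_mem_nil, or_false] at ha
      rcases ha with e | e | e | e <;> rw [e] <;> exact hy _)
  obtain ⟨hv4, hvL⟩ := C'.out (y 8) (hy 8) (by
    simp only [List.mem_cons, List.not_mem_nil, or_false, not_or]
    exact ⟨dne _ _ (by decide), dne _ _ (by decide), dne _ _ (by decide), dne _ _ (by decide)⟩)
  obtain ⟨l, -, hS, hl⟩ := C'.octad B hvL
  refine Y.twelve_absurd y hy hne hq hS fun k hk => ⟨y k, ?_, Or.inl rfl⟩
  simp only [NodeCode.five, List.mem_cons, List.not_mem_nil, or_false] at hk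
  rcases hk with rfl | rfl | rfl | rfl | rfl
  · simp
  · simp
  · simp
  · simp
  · simp [(hl _).mpr ⟨hv4, rfl⟩]

/-- Every involution is a product of one to four commuting members. -/
theorem invol_fact (B : Base D) (hne : D.Nonempty) {x : G} (hx : orderOf x = 2) :
    ∃ m, 1 ≤ m ∧ m ≤ 4 ∧ ∃ l, Fact' D m x l := by
  haveI : Fact (Nat.Prime 2) := ⟨Nat.prime_two⟩
  have h := B.set.cls
  have htf := B.set.tf
  have hxx : x * x = 1 := by rw [← pow_two, ← hx]; exact pow_orderOf_eq_one x
  have pos : ∀ {m : ℕ}, (∃ l, Fact' D m x l) → 1 ≤ m := fun {m} ⟨l, hl⟩ => by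
    refine Nat.one_le_iff_ne_zero.mpr fun e => ?_
    subst e
    have : x = 1 := by rw [← hl.2.2.2.2, List.eq_nil_of_length_eq_zero hl.2.1, List.prod_nil]
    rw [this, orderOf_one] at hx
    omega
  obtain ⟨d, hd, hxd⟩ := invol_fixed B hne hxx
  have hxP : x ∈ PerpGroup D d := by
    rw [← centralizer_eq B hd]
    exact Subgroup.mem_centralizer_singleton_iff.mpr hxd.eq
  obtain ⟨m, hm, l, hn, hlen, hlD, hlc, hlp⟩ :
      ∃ m ≤ 3, ∃ l, Fact' (perpSet D d) m (QuotientGroup.mk ⟨x, hxP⟩ : PerpQuot D d) l := by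
    by_cases h1 : (QuotientGroup.mk ⟨x, hxP⟩ : PerpQuot D d) = 1
    · exact ⟨0, by omega, [], List.nodup_nil, rfl, by simp, by simp, h1.symm⟩
    · obtain ⟨u, hu⟩ := B.set.perp_ne d hd
      obtain ⟨m, -, hm, hl⟩ := M23.invol_fact (B.sub d hd) ⟨_, pr_mem hu⟩ (orderOf_eq_prime (p := 2) (by
        rw [pow_two, ← QuotientGroup.mk_mul]
        exact (congrArg _ (Subtype.ext hxx)).trans (QuotientGroup.mk_one _)) h1)
      exact ⟨m, hm, hl⟩
  let φ : PerpQuot D d → G := fun q => if hq : q ∈ perpSet D d then (exists_of_mem hq).choose else 1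
  have hφ : ∀ q ∈ perpSet D d, ∃ hu : φ q ∈ perp D d, pr D d (φ q) hu = q := fun q hq => by
    simp only [φ, dif_pos hq]
    exact (exists_of_mem hq).choose_spec
  have lift : ∀ l : List (PerpQuot D d), (∀ q ∈ l, q ∈ perpSet D d) → ∃ U : ↥(PerpGroup D d),
      (U : G) = (l.map φ).prod ∧ (QuotientGroup.mk U : PerpQuot D d) = l.prod := by
    intro l
    induction l with
    | nil => exact fun _ => ⟨1, rfl, rfl⟩
    | cons q l ih =>
      intro hl
      obtain ⟨U, hU, hU'⟩ := ih fun r hr => hl r (List.mem_cons_of_mem _ hr)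
      obtain ⟨hu, e⟩ := hφ q (hl q List.mem_cons_self)
      refine ⟨M22.el hu * U, by simp [hU], ?_⟩
      rw [QuotientGroup.mk_mul, hU', List.prod_cons]
      exact congrArg (· * l.prod) e
  obtain ⟨U, hU, hU'⟩ := lift l hlD
  have hμ : ∀ u ∈ l.map φ, u ∈ perp D d := fun u hu => by
    obtain ⟨q, hq, rfl⟩ := List.mem_map.mp hu
    exact (hφ q (hlD q hq)).1
  have hμc : ∀ u ∈ l.map φ, ∀ v ∈ l.map φ, Commute u v := fun u hu v hv => by
    obtain ⟨q, hq, rfl⟩ := List.mem_map.mp hu
    obtain ⟨r, hr, rfl⟩ := List.mem_map.mp hv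
    obtain ⟨ku, eq'⟩ := hφ q (hlD q hq)
    obtain ⟨kv, er⟩ := hφ r (hlD r hr)
    exact commute_of_pr h htf hd ku kv (by rw [eq', er]; exact hlc q hq r hr)
  have hμn : (l.map φ).Nodup := hn.map_on fun q hq r hr e => by
    obtain ⟨ku, eq'⟩ := hφ q (hlD q hq)
    obtain ⟨kv, er⟩ := hφ r (hlD r hr)
    rw [← eq', ← er]
    congr 1
  have hz : (⟨x, hxP⟩ * U⁻¹ : ↥(PerpGroup D d)) ∈ Subgroup.center ↥(PerpGroup D d) := by
    rw [← QuotientGroup.eq_one_iff, QuotientGroup.mk_mul, QuotientGroup.mk_inv, hU', hlp, mul_inv_cancel]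
  have hlen' : (l.map φ).length = m := by rw [List.length_map, hlen]
  rcases centre_perp B hd
      (hxd.symm.mul_right (Commute.list_prod_right _ d fun u hu => (hμ u hu).2.2).inv_right)
      (fun y hy => by
        have := commute_of_center hz (Subgroup.subset_closure hy)
        rwa [Subgroup.coe_mul, Subgroup.coe_inv, hU] at this) with k | k
  · have hf : Fact' D m x (l.map φ) :=
      ⟨hμn, hlen', fun u hu => (hμ u hu).1, hμc, (mul_inv_eq_one.mp k).symm⟩
    exact ⟨m, pos ⟨_, hf⟩, by omega, _, hf⟩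
  · obtain ⟨c1, c2, c3, c4⟩ := CList.cons (k := m) ⟨hμn, hlen', fun u hu => (hμ u hu).1, hμc⟩ hd hμ
    exact ⟨m + 1, by omega, by omega, _, c1, c2, c3, c4,
      by rw [List.prod_cons]; exact (mul_inv_eq_iff_eq_mul.mp k).symm⟩

end Cfsg.Agent.Block.FischerTypes.M24
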