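import Cfsg.Agent.Lib.Block.FischerTypes.U6Code.GQ
import Mathlib.LinearAlgebra.Matrix.Charpoly.Coeff
import Mathlib.GroupTheory.Perm.Cycle.Type

/-! Involutions of the quadrangle on 45 points moving every point to a neighbour. -/

set_option autoImplicit false
set_option linter.style.haveILetI false
set_option linter.unusedSectionVars false

namespace Cfsg.Agent.Block.FischerTypes.Quad45

open U6Code

/-- The points. -/
abbrev Pt := Fin 45

/-- Adjacency. -/
abbrev Adj (i j : Pt) : Prop := qAdj i j = true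

/-- The line through two adjacent points. -/
def line (i j : Pt) : Finset Pt := insert i (insert j (Finset.univ.filter fun k => Adj i k ∧ Adj j k))

theorem mem_line {i j k : Pt} : k ∈ line i j ↔ k = i ∨ k = j ∨ (Adj i k ∧ Adj j k) := by
  simp [line]

theorem basic (i : Pt) : ¬ Adj i i ∧ ((List.range 45).filter (qAdj i)).length = 12 ∧
    ∀ j : Pt, (Adj i j → Adj j i) ∧ (i ≠ j → (qCom i j).length = 3) := by
  have h := List.all_eq_true.mp q_basic i (List.mem_range.mpr i.2)
  simp only [Bool.and_eq_true, Bool.not_eq_true', List.all_eq_true, List.mem_range, beq_iff_eq,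
    Bool.or_eq_true] at h
  refine ⟨fun k => by rw [Adj, h.1.1] at k; exact Bool.noConfusion k, Nat.eq_of_beq_eq_true h.1.2,
    fun j => ?_⟩
  obtain ⟨h1, h2⟩ := h.2 j j.2
  refine ⟨fun k => by rw [Adj] at k ⊢; rw [← h1, k], fun hne => ?_⟩
  rcases h2 with h2 | h2
  · exact absurd (Fin.ext (Nat.eq_of_beq_eq_true h2)) hne
  · exact Nat.eq_of_beq_eq_true h2

theorem irrefl (i : Pt) : ¬ Adj i i := (basic i).1

theorem symm {i j : Pt} (h : Adj i j) : Adj j i := ((basic i).2.2 j).1 h

theorem ne_of_adj {i j : Pt} (h : Adj i j) : i ≠ j := fun e => irrefl j (e ▸ h)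

theorem card_range_filter (p : ℕ → Bool) :
    (Finset.univ.filter fun k : Pt => p k = true).card = ((List.range 45).filter p).length := by
  rw [← List.toFinset_card_of_nodup (List.nodup_range.filter p),
    ← Finset.card_image_of_injective _ Fin.val_injective]
  congr 1
  ext k
  simp only [Finset.mem_image, Finset.mem_filter, Finset.mem_univ, true_and, List.mem_toFinset,
    List.mem_filter, List.mem_range]
  exact ⟨fun ⟨a, ha, e⟩ => e ▸ ⟨a.2, ha⟩, fun ⟨hk, hp⟩ => ⟨⟨k, hk⟩, hp, rfl⟩⟩

theorem deg (i : Pt) : (Finset.univ.filter fun k => Adj i k).card = 12 :=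
  (card_range_filter (qAdj i)).trans (basic i).2.1

theorem com {i j : Pt} (hne : i ≠ j) : (Finset.univ.filter fun k => Adj i k ∧ Adj j k).card = 3 := by
  rw [← ((basic i).2.2 j).2 hne, qCom, ← card_range_filter]
  congr 1
  ext k
  simp [Adj]

theorem card_line {i j : Pt} (h : Adj i j) : (line i j).card = 5 := by
  rw [line, Finset.card_insert_of_notMem, Finset.card_insert_of_notMem, com (ne_of_adj h)]
  · simp only [Finset.mem_filter, not_and]
    exact fun _ _ => irrefl j
  · simp only [Finset.mem_insert, Finset.mem_filter, not_or, not_and]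
    exact ⟨ne_of_adj h, fun _ k => absurd k (irrefl i)⟩

theorem line_spec {i j : Pt} (h : Adj i j) :
    (∀ u ∈ line i j, ∀ v ∈ line i j, u ≠ v → Adj u v) ∧
      ∀ r, r ∉ line i j → ((line i j).filter fun q => Adj r q).card = 1 := by
  have hc := List.all_eq_true.mp (List.all_eq_true.mp q_line i (List.mem_range.mpr i.2)) j
    (List.mem_range.mpr j.2)
  simp only [show qAdj i j = true from h, Bool.not_true, Bool.false_or, Bool.and_eq_true,
    List.all_eq_true, List.mem_range, Bool.or_eq_true] at hc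
  obtain ⟨h1, h2⟩ := hc
  have inC : ∀ k : Pt, Adj i k → Adj j k → (k : ℕ) ∈ qCom i j := fun k a b => by
    rw [qCom, List.mem_filter, Bool.and_eq_true]
    exact ⟨List.mem_range.mpr k.2, a, b⟩
  constructor
  · intro u hu v hv hne
    rcases mem_line.mp hu with rfl | rfl | ⟨a, b⟩ <;> rcases mem_line.mp hv with rfl | rfl | ⟨a', b'⟩
    exacts [absurd rfl hne, h, a', symm h, absurd rfl hne, b', symm a, symm b,
      (h1 u (inC u a b) v (inC v a' b')).resolve_left fun k => hne (Fin.ext (Nat.eq_of_beq_eq_true k))]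
  · intro r hr
    set L := (i : ℕ) :: (j : ℕ) :: qCom i j
    have hmem : ∀ k : Pt, (k : ℕ) ∈ L ↔ k ∈ line i j := fun k => by
      simp only [L, List.mem_cons, mem_line, Fin.val_inj]
      refine or_congr Iff.rfl (or_congr Iff.rfl ⟨fun k' => ?_, fun k' => inC k k'.1 k'.2⟩)
      rw [qCom, List.mem_filter, Bool.and_eq_true] at k'
      exact k'.2
    have hlt : ∀ n ∈ L, n < 45 := fun n hn => by
      simp only [L, List.mem_cons] at hn
      rcases hn with rfl | rfl | hn
      exacts [i.2, j.2, List.mem_range.mp (List.mem_filter.mp hn).1]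
    rcases h2 r r.2 with k | k
    · exact absurd ((hmem r).mp (List.contains_iff_mem.mp k)) hr
    · have k' := Nat.eq_of_beq_eq_true k
      have hnd : L.Nodup := by
        have hq : (qCom i j).Nodup := List.nodup_range.filter _
        refine List.nodup_cons.mpr ⟨fun hk => ?_, List.nodup_cons.mpr ⟨fun hk => ?_, hq⟩⟩
        · rcases List.mem_cons.mp hk with e | e
          · exact ne_of_adj h (Fin.ext e)
          · rw [qCom, List.mem_filter, Bool.and_eq_true] at e; exact irrefl i e.2.1
        · rw [qCom, List.mem_filter, Bool.and_eq_true] at hk; exact irrefl j hk.2.2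
      rw [← k', ← List.toFinset_card_of_nodup (hnd.filter _), ← Finset.card_image_of_injective _ Fin.val_injective]
      congr 1
      ext n
      simp only [Finset.mem_image, Finset.mem_filter, List.mem_toFinset, List.mem_filter]
      exact ⟨fun ⟨a, ⟨ha, har⟩, e⟩ => e ▸ ⟨(hmem a).mpr ha, har⟩,
        fun ⟨hn, hnr⟩ => ⟨⟨n, hlt n hn⟩, ⟨(hmem ⟨n, hlt n hn⟩).mp hn, hnr⟩, rfl⟩⟩

/-- A point adjacent to two points of a line is on it. -/
theorem mem_of_two {i j r u v : Pt} (h : Adj i j) (hu : u ∈ line i j) (hv : v ∈ line i j) (hne : u ≠ v)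
    (hru : Adj r u) (hrv : Adj r v) : r ∈ line i j := by
  by_contra hr
  have := (line_spec h).2 r hr
  rw [Finset.card_eq_one] at this
  obtain ⟨q, hq⟩ := this
  have e1 : u ∈ ({q} : Finset Pt) := hq ▸ Finset.mem_filter.mpr ⟨hu, hru⟩
  have e2 : v ∈ ({q} : Finset Pt) := hq ▸ Finset.mem_filter.mpr ⟨hv, hrv⟩
  rw [Finset.mem_singleton] at e1 e2
  exact hne (e1.trans e2.symm)

theorem line_eq {i j u v : Pt} (h : Adj i j) (hu : u ∈ line i j) (hv : v ∈ line i j) (hne : u ≠ v) :
    line u v = line i j := by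
  refine Finset.eq_of_subset_of_card_le (fun k hk => ?_) ?_
  · rcases mem_line.mp hk with rfl | rfl | ⟨a, b⟩
    exacts [hu, hv, mem_of_two h hu hv hne (symm a) (symm b)]
  · rw [card_line h, card_line ((line_spec h).1 u hu v hv hne)]

/-- A further line through a point. -/
theorem exists_off {i j s : Pt} (h : Adj i j) (hs : s ∈ line i j) : ∃ q, Adj s q ∧ q ∉ line i j := by
  by_contra hno
  push Not at hno
  have := Finset.card_le_card (show (Finset.univ.filter fun k => Adj s k) ⊆ line i j from
    fun k hk => hno k (Finset.mem_filter.mp hk).2)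
  rw [deg, card_line h] at this
  omega

/-- Four neighbours of a point are not pairwise apart. -/
theorem four {p a b c d : Pt} (ha : Adj p a) (hb : Adj p b) (hc : Adj p c) (hd : Adj p d)
    (hab : a ≠ b) (hac : a ≠ c) (had : a ≠ d) (hbc : b ≠ c) (hbd : b ≠ d) (hcd : c ≠ d) :
    Adj a b ∨ Adj a c ∨ Adj a d ∨ Adj b c ∨ Adj b d ∨ Adj c d := by
  have mem : ∀ {q : Pt}, Adj p q → (q : ℕ) ∈ (List.range 45).filter (qAdj p) := fun {q} hq =>
    List.mem_filter.mpr ⟨List.mem_range.mpr q.2, hq⟩
  have ne' : ∀ {u v : Pt}, u ≠ v → ¬ Nat.beq (u : ℕ) v = true := fun hne k =>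
    hne (Fin.ext (Nat.eq_of_beq_eq_true k))
  have h := List.all_eq_true.mp q_four p (List.mem_range.mpr p.2)
  simp only [List.all_eq_true, Bool.or_eq_true] at h
  rcases h a (mem ha) b (mem hb) with (k | k) | k
  · exact absurd k (ne' hab)
  · exact Or.inl k
  rcases k c (mem hc) with (((k | k) | k) | k) | k
  · exact absurd k (ne' hac)
  · exact Or.inr (Or.inl k)
  · exact absurd k (ne' hbc)
  · exact Or.inr (Or.inr (Or.inr (Or.inl k)))
  rcases k d (mem hd) with ((((k | k) | k) | k) | k) | k
  · exact absurd k (ne' had)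
  · exact Or.inr (Or.inr (Or.inl k))
  · exact absurd k (ne' hbd)
  · exact Or.inr (Or.inr (Or.inr (Or.inr (Or.inl k))))
  · exact absurd k (ne' hcd)
  · exact Or.inr (Or.inr (Or.inr (Or.inr (Or.inr k))))

/-- Involutory automorphisms taking each point to itself or a neighbour. -/
structure Near (τ : Equiv.Perm Pt) : Prop where
  invol : ∀ q, τ (τ q) = q
  aut : ∀ i j, Adj i j → Adj (τ i) (τ j)
  near : ∀ q, τ q ≠ q → Adj q (τ q)

variable {τ : Equiv.Perm Pt} (N : Near τ)
include N

theorem odd_fixed (L : Finset Pt) (hL : ∀ q ∈ L, τ q ∈ L) (h5 : L.card = 5) :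
    (L.filter fun q => τ q = q).card % 2 = 1 := by
  classical
  haveI : Fact (Nat.Prime 2) := ⟨Nat.prime_two⟩
  let σ : Equiv.Perm ↥L := ⟨fun q => ⟨τ q, hL q q.2⟩, fun q => ⟨τ q, hL q q.2⟩,
    fun q => Subtype.ext (N.invol q), fun q => Subtype.ext (N.invol q)⟩
  have hσ : σ ^ 2 ^ 1 = 1 := Equiv.ext fun q => Subtype.ext (N.invol q)
  have h := Equiv.Perm.card_compl_support_modEq hσ
  rw [Fintype.card_coe, h5] at h
  have e : σ.supportᶜ.card = (L.filter fun q => τ q = q).card := by
    refine Finset.card_bij (fun q _ => (q : Pt)) (fun q hq => ?_) (fun _ _ _ _ e => Subtype.ext e) fun b hb => ?_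
    · rw [Finset.mem_compl, Equiv.Perm.notMem_support] at hq
      exact Finset.mem_filter.mpr ⟨q.2, congrArg Subtype.val hq⟩
    · obtain ⟨hb1, hb2⟩ := Finset.mem_filter.mp hb
      exact ⟨⟨b, hb1⟩, by rw [Finset.mem_compl, Equiv.Perm.notMem_support]; exact Subtype.ext hb2, rfl⟩
  rw [e] at h
  exact h

/-- A line through a fixed point is invariant. -/
theorem invariant {i j : Pt} (h : Adj i j) {r : Pt} (hr : r ∈ line i j) (hfr : τ r = r) :
    ∀ y ∈ line i j, τ y ∈ line i j := fun y hy => by
  by_cases hy' : τ y = y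
  · rwa [hy']
  have hyr : y ≠ r := fun e => hy' (e ▸ hfr)
  have h1 : Adj r (τ y) := by
    have := N.aut r y ((line_spec h).1 r hr y hy (Ne.symm hyr))
    rwa [hfr] at this
  exact mem_of_two h hr hy (Ne.symm hyr) (symm h1) (symm (N.near y hy'))

theorem moved_near {q : Pt} (hq : τ q ≠ q) : ∃ t, τ t = t ∧ Adj q t := by
  classical
  have h := N.near q hq
  have hinv : ∀ y ∈ line q (τ q), τ y ∈ line q (τ q) := fun y hy => by
    rcases mem_line.mp hy with rfl | rfl | ⟨a, b⟩
    · exact mem_line.mpr (Or.inr (Or.inl rfl))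
    · exact mem_line.mpr (Or.inl (N.invol q))
    · refine mem_line.mpr (Or.inr (Or.inr ⟨?_, N.aut _ _ a⟩))
      have := N.aut _ _ b
      rwa [N.invol] at this
  have hodd := odd_fixed N _ hinv (card_line h)
  obtain ⟨t, ht⟩ := Finset.card_pos.mp (show 0 < ((line q (τ q)).filter fun y => τ y = y).card by omega)
  obtain ⟨ht1, ht2⟩ := Finset.mem_filter.mp ht
  exact ⟨t, ht2, (line_spec h).1 q (mem_line.mpr (Or.inl rfl)) t ht1 fun e => hq (e ▸ ht2)⟩

/-- The adjacency matrix modulo three squares to zero, so the moved points number a multiple of three. -/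
theorem moved_three : (Finset.univ.filter fun q => τ q ≠ q).card % 3 = 0 := by
  classical
  let A : Matrix Pt Pt (ZMod 3) := Matrix.of fun i j => if Adj i j then 1 else 0
  let P : Matrix Pt Pt (ZMod 3) := Matrix.of fun i j => if τ i = j then 1 else 0
  have hAA : A * A = 0 := by
    ext i j
    rw [Matrix.mul_apply, Matrix.zero_apply]
    simp only [A, Matrix.of_apply, mul_ite, mul_one, mul_zero, ← ite_and]
    rw [Finset.sum_boole]
    have e : (Finset.univ.filter fun k => Adj k j ∧ Adj i k) = Finset.univ.filter fun k => Adj i k ∧ Adj j k := by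
      ext k; simp only [Finset.mem_filter, Finset.mem_univ, true_and]
      exact ⟨fun k' => ⟨k'.2, symm k'.1⟩, fun k' => ⟨symm k'.2, k'.1⟩⟩
    rw [e]
    by_cases hij : i = j
    · subst hij
      simp only [and_self, deg]
      rfl
    · rw [com hij]; rfl
  have hcomm : A * P = P * A := by
    ext i j
    rw [Matrix.mul_apply, Matrix.mul_apply]
    simp only [A, P, Matrix.of_apply, ite_mul, one_mul, zero_mul, mul_ite, mul_one, mul_zero]
    rw [Finset.sum_eq_single (τ j) (fun k _ hk => if_neg fun e => hk (by rw [← e, N.invol]))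
        (fun k => absurd (Finset.mem_univ _) k), if_pos (N.invol j),
      Finset.sum_eq_single (τ i) (fun k _ hk => by simp [Ne.symm hk]) (fun k => absurd (Finset.mem_univ _) k),
      if_pos rfl]
    refine if_congr ⟨fun k => ?_, fun k => ?_⟩ rfl rfl
    · have := N.aut _ _ k; rwa [N.invol] at this
    · have := N.aut _ _ k; rwa [N.invol] at this
  have hnil : IsNilpotent (A * P) := ⟨2, by
    rw [pow_two, mul_assoc, ← mul_assoc P A, ← hcomm, ← mul_assoc A, ← mul_assoc A A, hAA]; simp⟩
  have htr := (Matrix.isNilpotent_trace_of_isNilpotent hnil).eq_zero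
  have hd : ∀ i, (A * P) i i = if τ i ≠ i then 1 else 0 := fun i => by
    rw [Matrix.mul_apply]
    simp only [A, P, Matrix.of_apply, mul_ite, mul_one, mul_zero]
    rw [Finset.sum_eq_single (τ i) (fun k _ hk => if_neg fun e => hk (by rw [← e, N.invol]))
      (fun k => absurd (Finset.mem_univ _) k), if_pos (N.invol i)]
    by_cases hi : τ i = i
    · rw [if_neg (show ¬ Adj i (τ i) by rw [hi]; exact irrefl i), if_neg (by simp [hi])]
    · rw [if_pos (N.near i hi), if_pos hi]
  simp only [Matrix.trace, Matrix.diag, hd, Finset.sum_boole] at htr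
  rw [ZMod.natCast_eq_zero_iff] at htr
  exact Nat.mod_eq_zero_of_dvd htr

/-- Every invariant line has at least three fixed points. -/
theorem line_fixed {i j : Pt} (h : Adj i j) (hL : ∀ q ∈ line i j, τ q ∈ line i j) :
    3 ≤ ((line i j).filter fun q => τ q = q).card := by
  classical
  by_contra hlt
  have hodd := odd_fixed N _ hL (card_line h)
  obtain ⟨p, hp⟩ := Finset.card_eq_one.mp
    (show ((line i j).filter fun q => τ q = q).card = 1 by omega)
  obtain ⟨hpL, hpf⟩ := Finset.mem_filter.mp (hp.symm ▸ Finset.mem_singleton_self p)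
  have hnear : ∀ r, τ r = r → r ≠ p → Adj r p := by
    intro r hr hrp
    have hrL : r ∉ line i j := fun k => hrp (Finset.mem_singleton.mp (hp ▸ Finset.mem_filter.mpr ⟨k, hr⟩))
    obtain ⟨q, hq⟩ := Finset.card_eq_one.mp ((line_spec h).2 r hrL)
    obtain ⟨hqL, hrq⟩ := Finset.mem_filter.mp (hq.symm ▸ Finset.mem_singleton_self q)
    have hτq : Adj r (τ q) := by have := N.aut _ _ hrq; rwa [hr] at this
    have e : τ q = q := Finset.mem_singleton.mp (hq ▸ Finset.mem_filter.mpr ⟨hL q hqL, hτq⟩)
    have : q = p := Finset.mem_singleton.mp (hp ▸ Finset.mem_filter.mpr ⟨hqL, e⟩)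
    exact this ▸ hrq
  have hclique : ∀ r r', τ r = r → τ r' = r' → r ≠ p → r' ≠ p → r ≠ r' → Adj r r' := by
    intro r r' hr hr' hrp hr'p hne
    by_contra hno
    have hrP := hnear r hr hrp
    obtain ⟨s, hrs, hs⟩ := exists_off hrP (mem_line.mpr (Or.inl rfl))
    have hM := invariant N hrs (mem_line.mpr (Or.inl rfl)) hr
    have hr'M : r' ∉ line r s := fun k => hno ((line_spec hrs).1 r (mem_line.mpr (Or.inl rfl)) r' k hne)
    obtain ⟨t, ht⟩ := Finset.card_eq_one.mp ((line_spec hrs).2 r' hr'M)
    obtain ⟨htM, hr't⟩ := Finset.mem_filter.mp (ht.symm ▸ Finset.mem_singleton_self t)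
    have hτt : Adj r' (τ t) := by have := N.aut _ _ hr't; rwa [hr'] at this
    have htf : τ t = t := Finset.mem_singleton.mp (ht ▸ Finset.mem_filter.mpr ⟨hM t htM, hτt⟩)
    have htr : t ≠ r := fun e => hno (symm (e ▸ hr't))
    have htL : t ∈ line r p := by
      by_cases htp : t = p
      · exact mem_line.mpr (Or.inr (Or.inl htp))
      · exact mem_line.mpr (Or.inr (Or.inr ⟨(line_spec hrs).1 r (mem_line.mpr (Or.inl rfl)) t htM
          (Ne.symm htr), symm (hnear t htf htp)⟩))
    have e1 := line_eq hrP (mem_line.mpr (Or.inl rfl)) htL (Ne.symm htr)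
    have e2 := line_eq hrs (mem_line.mpr (Or.inl rfl)) htM (Ne.symm htr)
    exact hs (e1 ▸ e2.symm ▸ mem_line.mpr (Or.inr (Or.inl rfl)))
  by_cases hone : ∃ r, τ r = r ∧ r ≠ p
  · obtain ⟨r, hr, hrp⟩ := hone
    have hpr := hnear r hr hrp
    have hF : ∀ t, τ t = t → t ∈ line r p := fun t ht => by
      by_cases e : t = p
      · exact mem_line.mpr (Or.inr (Or.inl e))
      by_cases e' : t = r
      · exact mem_line.mpr (Or.inl e')
      exact mem_line.mpr (Or.inr (Or.inr ⟨hclique r t hr ht hrp e (Ne.symm e'), symm (hnear t ht e)⟩))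
    have hall : ∀ s ∈ line r p, τ s = s := by
      intro s hs
      by_contra hsm
      obtain ⟨q, hsq, hq⟩ := exists_off hpr hs
      obtain ⟨t, ht, hqt⟩ := moved_near N (q := q) fun k => hq (hF q k)
      exact hq (mem_of_two hpr hs (hF t ht) (fun e => hsm (e ▸ ht)) (symm hsq) hqt)
    have e : (Finset.univ.filter fun q => τ q ≠ q) = (line r p)ᶜ := by
      ext q
      simp only [Finset.mem_filter, Finset.mem_univ, true_and, Finset.mem_compl]
      exact ⟨fun k k' => k (hall q k'), fun k k' => k (hF q k')⟩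
    have := moved_three N
    rw [e, Finset.card_compl, card_line hpr] at this
    simp at this
  · push Not at hone
    have hsub : (Finset.univ : Finset Pt) ⊆ insert p (Finset.univ.filter fun k => Adj p k) := fun q _ => by
      by_cases e : q = p
      · rw [e]; exact Finset.mem_insert_self _ _
      obtain ⟨t, ht, hqt⟩ := moved_near N (q := q) fun k => e (hone q k)
      rw [hone t ht] at hqt
      exact Finset.mem_insert_of_mem (Finset.mem_filter.mpr ⟨Finset.mem_univ _, symm hqt⟩)
    have := (Finset.card_le_card hsub).trans (Finset.card_insert_le _ _)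
    rw [deg, Finset.card_univ, Fintype.card_fin] at this
    omega

end Cfsg.Agent.Block.FischerTypes.Quad45
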