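import Cfsg.Agent.Lib.Block.FischerTypes.M24Products
import Cfsg.Agent.Lib.Block.FischerTypes.Quadrangle
import Cfsg.Agent.Lib.Block.FischerTypes.U6Code.Local

/-! The members commuting with four commuting members in type M(24). -/

set_option autoImplicit false
set_option linter.style.haveILetI false
set_option linter.unusedSectionVars false

namespace Cfsg.Agent.Block.FischerTypes.M24

open Cfsg Cfsg.Agent.Spor.ThreeTrans
open Cfsg.Agent.Block.FischerTypes.M22 (perp_symm commute_self el)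

variable {G : Type*} [Group G] [Finite G] {D : Set G}

/-- Members commuting with four. -/
abbrev four (D : Set G) (d e b c : G) : Set G := tri3 D d e b ∩ perp D c

/-- The 45 classes of twins among them, with their relations. -/
structure Frame (D : Set G) (d e b c : G) (idx : G → Quad45.Pt) : Prop where
  comm : ∀ u ∈ four D d e b c, ∀ v ∈ four D d e b c,
    (Commute u v ↔ idx u = idx v ∨ Quad45.Adj (idx u) (idx v))
  octad : ∀ i, ∃ l : List G, CList D 8 (d :: e :: b :: c :: l) ∧ (d :: e :: b :: c :: l).prod = 1 ∧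
    ∀ u, u ∈ l ↔ u ∈ four D d e b c ∧ idx u = i

variable (B : Base D)
include B

theorem exists_frame {d e b c : G} (hd : d ∈ D) (he : e ∈ perp D d) (hb : b ∈ common D d e)
    (hc : c ∈ tri3 D d e b) : ∃ idx, Frame D d e b c idx := by
  classical
  open U6Code in
  open U6Code.Model in
  have h := B.set.cls
  have htf := B.set.tf
  have KB := B.sub d hd
  set eK := pr D d e he
  have heK : eK ∈ perpSet D d := pr_mem he
  have C := KB.ctx eK heK
  have hb1 := (toK B hd he hb.1).mpr hb.2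
  have hc1 := (toK B hd he hc.1.1).mpr hc.1.2
  set E2 := perpSet (perpSet D d) eK
  set b2 := pr (perpSet D d) eK _ hb1
  set c2 := pr (perpSet D d) eK _ hc1
  have hbc2 : c2 ∈ perp E2 b2 :=
    (M23.toK KB heK hb1 hc1).mpr ((toK B hd hb.1 hc.1.1).mpr hc.2)
  obtain ⟨N₀⟩ := M22.numbered_ctx C b2 (pr_mem hb1)
  obtain ⟨N, hN0⟩ := N₀.exists_base C.set.cls hbc2
  -- the images two levels down
  have im : ∀ u ∈ four D d e b c, ∃ (h1 : u ∈ perp D d) (h2 : pr D d u h1 ∈ perp (perpSet D d) eK),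
      pr (perpSet D d) eK _ h2 ∈ perp E2 b2 ∧ pr (perpSet D d) eK _ h2 ∈ perp E2 c2 := fun u hu =>
    ⟨hu.1.1.1, (toK B hd he hu.1.1.1).mpr hu.1.1.2,
      (M23.toK KB heK hb1 _).mpr ((toK B hd hb.1 hu.1.1.1).mpr hu.1.2),
      (M23.toK KB heK hc1 _).mpr ((toK B hd hc.1.1 hu.1.1.1).mpr hu.2)⟩
  have ex : ∀ u, ∃ k : ℕ, u ∈ four D d e b c → k ∈ qPts ∧
      ∀ (h1 : u ∈ perp D d) (h2 : pr D d u h1 ∈ perp (perpSet D d) eK), N.pt k = pr (perpSet D d) eK _ h2 := by
    intro u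
    by_cases hu : u ∈ four D d e b c
    · obtain ⟨h1, h2, h3, h4⟩ := im u hu
      obtain ⟨k, hk, ek⟩ := N.surj _ h3
      refine ⟨k, fun _ => ⟨?_, fun _ _ => ek⟩⟩
      have hadj : adj b0 k = true := (N.comm _ _ pt_b0 hk).mp (by rw [hN0, ek]; exact h4.2.2)
      have hne : k ≠ b0 := fun e' => h4.2.1 (by rw [← ek, e', hN0])
      have hp := lines_p
      simp only [Bool.and_eq_true, List.all_eq_true, List.any_eq_true] at hp
      obtain ⟨l, hl, hkl⟩ := hp.2 k (by
        rw [List.mem_filter, hadj]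
        exact ⟨mem_ptList.mpr hk, by simpa using (Bool.eq_false_iff.mpr fun e' => hne (Nat.eq_of_beq_eq_true e') : Nat.beq k b0 = false)⟩)
      have hh := qPts_ok
      simp only [Bool.and_eq_true, List.all_eq_true] at hh
      obtain ⟨hh1, hh2⟩ := hh.1.2 l hl
      rw [List.contains_iff_mem] at hkl
      match l, hkl with
      | a :: t, hkl =>
        rcases List.mem_cons.mp hkl with e' | e'
        · exact absurd (e'.trans (Nat.eq_of_beq_eq_true hh1)) hne
        · exact List.mem_flatten.mpr ⟨t, List.mem_map.mpr ⟨_, hl, rfl⟩, e'⟩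
    · exact ⟨0, fun k => absurd k hu⟩
  choose code hcode using ex
  have hq : ∀ k ∈ qPts, isPt k = true ∧ adj b0 k = true ∧ k ≠ b0 ∧ qIdx k < 45 := fun k hk => by
    have hh := qPts_ok
    simp only [Bool.and_eq_true, List.all_eq_true] at hh
    obtain ⟨⟨⟨h1, h2⟩, h3⟩, h4⟩ := hh.1.1 k hk
    exact ⟨h1, h2, fun e' => by simp [e'] at h3, by simpa [Nat.blt_eq] using h4⟩
  let idx : G → Quad45.Pt := fun u => ⟨qIdx (code u) % 45, Nat.mod_lt _ (by norm_num)⟩
  have idx_val : ∀ u ∈ four D d e b c, (idx u : ℕ) = qIdx (code u) := fun u hu =>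
    Nat.mod_eq_of_lt (hq _ (hcode u hu).1).2.2.2
  have hinj : ∀ u ∈ four D d e b c, ∀ v ∈ four D d e b c, code u = code v → u = v := fun u hu v hv e' => by
    obtain ⟨h1, h2, -⟩ := im u hu
    obtain ⟨h1', h2', -⟩ := im v hv
    have := ((hcode u hu).2 h1 h2).symm.trans ((congrArg N.pt e').trans ((hcode v hv).2 h1' h2'))
    exact pr_injective h htf hd h1 h1' (pr_injective KB.set.cls KB.set.tf heK h2 h2' this)
  have hcomm : ∀ u ∈ four D d e b c, ∀ v ∈ four D d e b c,
      (Commute u v ↔ idx u = idx v ∨ Quad45.Adj (idx u) (idx v)) := fun u hu v hv => by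
    obtain ⟨h1, h2, -⟩ := im u hu
    obtain ⟨h1', h2', -⟩ := im v hv
    obtain ⟨cu, eu⟩ := hcode u hu
    obtain ⟨cv, ev⟩ := hcode v hv
    have k : Commute u v ↔ adj (code u) (code v) = true := by
      rw [← N.comm _ _ (hq _ cu).1 (hq _ cv).1, eu h1 h2, ev h1' h2']
      exact ⟨fun k => commute_pr h2 h2' (commute_pr h1 h1' k),
        fun k => commute_of_pr h htf hd h1 h1' (commute_of_pr KB.set.cls KB.set.tf heK h2 h2' k)⟩
    have a := List.all_eq_true.mp (List.all_eq_true.mp qAdj_ok _ cu) _ cv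
    rw [beq_iff_eq] at a
    rw [k, a, Bool.or_eq_true, ← Fin.val_inj, Quad45.Adj, idx_val u hu, idx_val v hv]
    exact or_congr ⟨Nat.eq_of_beq_eq_true, fun e' => by rw [e']; exact Nat.beq_refl _⟩ Iff.rfl
  have hsurj : ∀ i, ∃ u ∈ four D d e b c, idx u = i := fun i => by
    have hh := qPts_ok
    simp only [Bool.and_eq_true, List.all_eq_true, List.mem_range] at hh
    obtain ⟨k, hk⟩ := List.exists_mem_of_ne_nil (qPts.filter fun x => Nat.beq (qIdx x) i) fun e' => by
      have := hh.2 i i.2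
      rw [e'] at this
      simp at this
    obtain ⟨hk1, hk2⟩ := List.mem_filter.mp hk
    obtain ⟨hpt, hadj, hne, -⟩ := hq k hk1
    have h3 := N.mem k hpt
    obtain ⟨q, h2, e2⟩ := exists_of_mem h3.1
    obtain ⟨u, h1, rfl⟩ := exists_of_mem h2.1
    have h4 : pr (perpSet D d) eK _ h2 ∈ perp E2 c2 := ⟨pr_mem h2,
      fun e' => hne (N.inj _ _ hpt pt_b0 (e2.symm.trans (e'.trans hN0.symm))),
      by rw [e2, ← hN0]; exact ((N.comm _ _ pt_b0 hpt).mpr hadj)⟩
    have hu : u ∈ four D d e b c :=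
      ⟨⟨⟨h1, (toK B hd he h1).mp h2⟩, (toK B hd hb.1 h1).mp ((M23.toK KB heK hb1 h2).mp (e2 ▸ h3))⟩,
        (toK B hd hc.1.1 h1).mp ((M23.toK KB heK hc1 h2).mp h4)⟩
    obtain ⟨cu, eu⟩ := hcode u hu
    have : code u = k := N.inj _ _ (hq _ cu).1 hpt ((eu h1 h2).trans e2)
    exact ⟨u, hu, Fin.ext (by rw [idx_val u hu, this]; exact Nat.eq_of_beq_eq_true hk2)⟩
  refine ⟨idx, hcomm, fun i => ?_⟩
  obtain ⟨u, hu, rfl⟩ := hsurj i
  obtain ⟨h1, h2, h3, h4⟩ := im u hu
  obtain ⟨T, hT, hT1, hTmem⟩ := M22.hexad_list C (pr_mem hb1) hbc2 (c := pr (perpSet D d) eK _ h2) ⟨h3, h4⟩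
  obtain ⟨m, hm, hmp, hmψ, hmprod⟩ := relation_succ KB.set heK
    (fun z => M23.centre_perp KB heK) (fun l => M23.no_six KB) hT hT1
  have hL7 := CList.cons hm heK hmp
  have h71 : (eK :: m).prod = 1 := by rw [List.prod_cons, hmprod, mul_self KB.set.cls.1 heK]
  obtain ⟨n, hn, hnp, hnψ, hnprod⟩ := relation_succ B.set hd
    (fun z => centre_perp B hd) (fun l => no_seven B) hL7 h71
  obtain ⟨mb, m1, rfl, hmb, hm1⟩ := List.map_eq_cons_iff.mp hmψ
  obtain ⟨mc, m2, rfl, hmc, hm2⟩ := List.map_eq_cons_iff.mp hm1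
  obtain ⟨e', n1, rfl, he', hn1⟩ := List.map_eq_cons_iff.mp hnψ
  obtain ⟨b', n2, rfl, hb', hn2⟩ := List.map_eq_cons_iff.mp hn1
  obtain ⟨c', n3, rfl, hc', hn3⟩ := List.map_eq_cons_iff.mp hn2
  have q1 : mb = pr D d b hb.1 := psi_inj KB.set heK (hmp mb List.mem_cons_self) hb1 (by rw [hmb, psi_eq hb1])
  have q2 : mc = pr D d c hc.1.1 := psi_inj KB.set heK (hmp mc (by simp)) hc1 (by rw [hmc, psi_eq hc1])
  subst q1 q2
  have r0 : e' = e := psi_inj B.set hd (hnp e' (by simp)) he (by rw [he', psi_eq he])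
  have r1 : b' = b := psi_inj B.set hd (hnp b' (by simp)) hb.1 (by rw [hb', psi_eq hb.1])
  have r2 : c' = c := psi_inj B.set hd (hnp c' (by simp)) hc.1.1 (by rw [hc', psi_eq hc.1.1])
  subst r0 r1 r2
  have h8 : CList D 8 (d :: e' :: b' :: c' :: n3) := CList.cons hn hd hnp
  refine ⟨n3, h8, by rw [List.prod_cons, hnprod, mul_self h.1 hd], fun w => ?_⟩
  have t0 := h8.tail
  have t1 := t0.tail
  have t2 := t1.tail
  have inS : w ∈ n3 → w ∈ four D d e' b' c' := fun hw =>
    ⟨⟨⟨h8.head (by simp [hw]), t0.head (by simp [hw])⟩, t1.head (by simp [hw])⟩, t2.head hw⟩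
  have key : ∀ w ∈ four D d e' b' c', (w ∈ n3 ↔ idx w = idx u) := by
    intro w hw
    obtain ⟨g1, g2, g3, g4⟩ := im w hw
    have s1 : w ∈ n3 ↔ pr D d w g1 ∈ m2 := by
      rw [← hn3, List.mem_map]
      constructor
      · exact fun k => ⟨w, k, psi_eq g1⟩
      · rintro ⟨z, hz, ez⟩
        have : z = w := psi_inj B.set hd (hnp z (by simp [hz])) g1 (ez.trans (psi_eq g1).symm)
        exact this ▸ hz
    have s2 : pr D d w g1 ∈ m2 ↔ pr (perpSet D d) eK _ g2 ∈ m2.map (psi (perpSet D d) eK) := by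
      rw [List.mem_map]
      constructor
      · exact fun k => ⟨_, k, psi_eq g2⟩
      · rintro ⟨z, hz, ez⟩
        have : z = pr D d w g1 := psi_inj KB.set heK (hmp z (by simp [hz])) g2 (ez.trans (psi_eq g2).symm)
        exact this ▸ hz
    rw [s1, s2, hm2, hTmem]
    constructor
    · rintro ⟨-, tw⟩
      by_contra hne
      -- a point separating two different classes
      obtain ⟨k, hk⟩ : ∃ k, ¬ ((idx u = k ∨ Quad45.Adj (idx u) k) ↔ (idx w = k ∨ Quad45.Adj (idx w) k)) := by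
        by_cases ha : Quad45.Adj (idx u) (idx w)
        · obtain ⟨q, hq1, hq2⟩ := Quad45.exists_off ha (Quad45.mem_line.mpr (Or.inl rfl))
          refine ⟨q, fun k => ?_⟩
          rcases k.mp (Or.inr hq1) with e' | e'
          · exact hq2 (Quad45.mem_line.mpr (Or.inr (Or.inl e'.symm)))
          · exact hq2 (Quad45.mem_line.mpr (Or.inr (Or.inr ⟨hq1, e'⟩)))
        · exact ⟨idx u, fun k => (k.mp (Or.inl rfl)).elim (fun e' => hne e') fun e' => ha (Quad45.symm e')⟩
      apply hk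
      obtain ⟨y, hy, rfl⟩ := hsurj k
      obtain ⟨y1, y2, y3, y4⟩ := im y hy
      have t := tw (pr (perpSet D d) eK _ y2) ⟨y3, y4⟩
      have cu : ∀ z (hz : z ∈ four D d e' b' c') (z1 : z ∈ perp D d) (z2 : pr D d z z1 ∈ perp (perpSet D d) eK),
          Commute (pr (perpSet D d) eK _ y2) (pr (perpSet D d) eK _ z2) ↔
            (idx z = idx y ∨ Quad45.Adj (idx z) (idx y)) := fun z hz z1 z2 => by
        rw [← hcomm z hz y hy]
        exact ⟨fun k => (commute_of_pr h htf hd y1 z1 (commute_of_pr KB.set.cls KB.set.tf heK y2 z2 k)).symm,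
          fun k => commute_pr y2 z2 (commute_pr y1 z1 k.symm)⟩
      rw [cu u hu h1 h2, cu w hw g1 g2] at t
      exact t
    · intro ew
      refine ⟨⟨g3, g4⟩, fun y hy => ?_⟩
      obtain ⟨q, hq2, rfl⟩ := exists_of_mem hy.1.1
      obtain ⟨z, z1, rfl⟩ := exists_of_mem hq2.1
      have hz : z ∈ four D d e' b' c' :=
        ⟨⟨⟨z1, (toK B hd he z1).mp hq2⟩, (toK B hd hb.1 z1).mp ((M23.toK KB heK hb1 hq2).mp hy.1)⟩,
          (toK B hd hc.1.1 z1).mp ((M23.toK KB heK hc1 hq2).mp hy.2)⟩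
      have cu : ∀ v (hv : v ∈ four D d e' b' c') (v1 : v ∈ perp D d) (v2 : pr D d v v1 ∈ perp (perpSet D d) eK),
          Commute (pr (perpSet D d) eK _ hq2) (pr (perpSet D d) eK _ v2) ↔
            (idx z = idx v ∨ Quad45.Adj (idx z) (idx v)) := fun v hv v1 v2 => by
        rw [← hcomm z hz v hv]
        exact ⟨fun k => commute_of_pr h htf hd z1 v1 (commute_of_pr KB.set.cls KB.set.tf heK hq2 v2 k),
          fun k => commute_pr hq2 v2 (commute_pr z1 v1 k)⟩
      rw [cu u hu h1 h2, cu w hw g1 g2, ew]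
  exact ⟨fun hw => ⟨inS hw, (key w (inS hw)).mp hw⟩, fun hw => (key w hw.1).mpr hw.2⟩

end Cfsg.Agent.Block.FischerTypes.M24
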