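import Cfsg.Agent.Lib.Block.FischerTypes.M24Parity

/-! The derived group in type M(24) is simple of index two. -/

set_option autoImplicit false
set_option linter.style.haveILetI false
set_option linter.unusedSectionVars false

namespace Cfsg.Agent.Block.FischerTypes.M24

open Cfsg Cfsg.Agent.Spor.ThreeTrans

variable {G : Type*} [Group G] [Finite G] {D : Set G} (B : Base D)
include B

theorem ne_self {a : G} (ha : a ∈ D) : ∃ b ∈ D, b ≠ a := by
  obtain ⟨c, hc, hac⟩ := B.apart_ne a ha
  exact ⟨c, hc, fun e => hac (e ▸ Commute.refl a)⟩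

/-- A nontrivial normal subgroup contains the derived group. -/
theorem commutator_le (N : Subgroup G) [N.Normal] (hN : N ≠ ⊥) : commutator G ≤ N := by
  have h := B.set.cls
  by_cases hsep : ∀ d ∈ D, ∀ e ∈ D, d * e ∈ N → d = e
  · exact absurd (eq_bot_of_separated h B.cen N hsep) hN
  push Not at hsep
  obtain ⟨p, hp, q, hq, hpq, hpq'⟩ := hsep
  have hall := all_cong B.set B.meets N hp hq hpq' hpq
  let f := QuotientGroup.mk' N
  have hconst : ∀ x ∈ D, f x = f p := fun x hx => by
    rw [← inv_eq h.1 hx]
    refine (QuotientGroup.mk'_eq_mk' N).mpr ⟨_, hall x hx p hp, ?_⟩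
    rw [← mul_assoc, inv_mul_cancel, one_mul]
  have hgen : ∀ g : G, f g ∈ Subgroup.zpowers (f p) := fun g => by
    have : Subgroup.closure D ≤ (Subgroup.zpowers (f p)).comap f := (Subgroup.closure_le _).mpr fun x hx => by
      show f x ∈ Subgroup.zpowers (f p)
      rw [hconst x hx]
      exact Subgroup.mem_zpowers _
    exact this (h.2.2 ▸ Subgroup.mem_top g)
  rw [commutator_def, Subgroup.commutator_le]
  intro g _ k _
  rw [← QuotientGroup.ker_mk' N, MonoidHom.mem_ker, map_commutatorElement,
    commutatorElement_eq_one_iff_commute]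
  obtain ⟨i, hi⟩ := hgen g
  obtain ⟨j, hj⟩ := hgen k
  show Commute (f g) (f k)
  rw [← hi, ← hj]
  exact (Commute.refl (f p)).zpow_zpow i j

/-- The derived group has index two. -/
theorem commutator_index (hne : D.Nonempty) : (commutator G).index = 2 := by
  have h := B.set.cls
  obtain ⟨χ, hχ⟩ := parity_exists B
  obtain ⟨a, ha⟩ := hne
  let f := QuotientGroup.mk' (commutator G)
  have hconst : ∀ x ∈ D, f x = f a := fun x hx => by
    obtain ⟨g, rfl⟩ := transitive h ha hx
    rw [map_mul, map_mul, map_inv]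
    exact mul_inv_eq_iff_eq_mul.mpr ((Abelianization.commGroup (G := G)).mul_comm (f g) (f a))
  have htop : Subgroup.zpowers (f a) = ⊤ := eq_top_iff.mpr fun g _ => by
    obtain ⟨g, rfl⟩ := QuotientGroup.mk'_surjective _ g
    have : Subgroup.closure D ≤ (Subgroup.zpowers (f a)).comap f := (Subgroup.closure_le _).mpr fun x hx => by
      show f x ∈ Subgroup.zpowers (f a)
      rw [hconst x hx]
      exact Subgroup.mem_zpowers _
    exact this (h.2.2 ▸ Subgroup.mem_top g)
  have hne1 : f a ≠ 1 := fun k => by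
    have hle : commutator G ≤ χ.ker := Abelianization.commutator_subset_ker χ
    have := hle ((QuotientGroup.eq_one_iff a).mp k)
    rw [MonoidHom.mem_ker, hχ a ha] at this
    exact absurd this (by decide)
  haveI : Fact (Nat.Prime 2) := ⟨Nat.prime_two⟩
  rw [Subgroup.index_eq_card, ← Subgroup.card_top, ← htop, Nat.card_zpowers]
  exact orderOf_eq_prime (by rw [pow_two, ← map_mul, mul_self h.1 ha, map_one]) hne1

theorem commutator_card (hne : D.Nonempty) :
    Nat.card ↥(commutator G) = 1255205709190661721292800 := by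
  have h1 := (commutator G).index_mul_card
  rw [commutator_index B hne, card_group B hne] at h1
  omega

/-- The derived group is simple. -/
theorem commutator_simple (hne : D.Nonempty) : IsSimpleGroup ↥(commutator G) := by
  classical
  have h := B.set.cls
  have hidx := commutator_index B hne
  have hcard := commutator_card B hne
  obtain ⟨χ, hχ⟩ := parity_exists B
  obtain ⟨a, ha⟩ := hne
  set K := commutator G with hK
  have haK : a ∉ K := fun k => by
    have := (Abelianization.commutator_subset_ker χ) k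
    rw [MonoidHom.mem_ker, hχ a ha] at this
    exact absurd this (by decide)
  haveI : Nontrivial ↥K := Finite.one_lt_card_iff_nontrivial.mp (by rw [hcard]; norm_num)
  refine ⟨fun M hM => ?_⟩
  by_cases hMbot : M = ⊥
  · exact Or.inl hMbot
  right
  let M1 := M.map K.subtype
  let M2 := M1.map (MulAut.conj a).toMonoidHom
  have hM1K : M1 ≤ K := Subgroup.map_subtype_le M
  have hn1 : ∀ g ∈ K, ∀ m ∈ M1, g * m * g⁻¹ ∈ M1 := by
    rintro g hg _ ⟨m, hm, rfl⟩
    exact ⟨⟨g, hg⟩ * m * ⟨g, hg⟩⁻¹, hM.conj_mem m hm _, rfl⟩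
  have haa : a⁻¹ = a := inv_eq h.1 ha
  have hmem2 : ∀ {m : G}, m ∈ M2 ↔ a * m * a ∈ M1 := by
    intro m
    constructor
    · rintro ⟨m', hm', rfl⟩
      simpa [haa, mul_assoc, mul_self_mul h.1 ha, mul_self h.1 ha] using hm'
    · intro hm
      exact ⟨a * m * a, hm, by simp [haa, mul_assoc, mul_self_mul h.1 ha, mul_self h.1 ha]⟩
  have hM2K : M2 ≤ K := fun m hm => by
    have := (inferInstance : K.Normal).conj_mem _ (hM1K (hmem2.mp hm)) a
    simpa [haa, mul_assoc, mul_self_mul h.1 ha, mul_self h.1 ha] using this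
  have hn2 : ∀ g ∈ K, ∀ m ∈ M2, g * m * g⁻¹ ∈ M2 := fun g hg m hm => by
    have hg' : a * g * a ∈ K := by
      have := (inferInstance : K.Normal).conj_mem _ hg a
      rwa [haa] at this
    have := hn1 _ hg' _ (hmem2.mp hm)
    refine hmem2.mpr ?_
    simpa [haa, mul_assoc, mul_self_mul h.1 ha, mul_self h.1 ha] using this
  have hsplit : ∀ g : G, g ∈ K ∨ a * g ∈ K := fun g => by
    by_cases hg : g ∈ K
    · exact Or.inl hg
    · exact Or.inr (by rw [Subgroup.mul_mem_iff_of_index_two hidx]; simp [haK, hg])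
  have hnormal : ∀ T : Subgroup G, (∀ g ∈ K, ∀ m ∈ T, g * m * g⁻¹ ∈ T) → (∀ m ∈ T, a * m * a ∈ T) →
      T.Normal := fun T hT hTa => ⟨fun m hm g => by
    rcases hsplit g with hg | hg
    · exact hT g hg m hm
    · have := hTa _ (hT _ hg m hm)
      simpa [haa, mul_assoc, mul_self_mul h.1 ha, mul_self h.1 ha] using this⟩
  have hswap : ∀ m, (a * m * a ∈ M1 ↔ m ∈ M2) ∧ (a * m * a ∈ M2 ↔ m ∈ M1) := fun m =>
    ⟨hmem2.symm, by rw [hmem2]; simp [mul_assoc, mul_self_mul h.1 ha, mul_self h.1 ha]⟩
  haveI hIn : (M1 ⊓ M2).Normal := hnormal _ (fun g hg m hm => ⟨hn1 g hg m hm.1, hn2 g hg m hm.2⟩)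
    fun m hm => ⟨(hswap m).1.mpr hm.2, (hswap m).2.mpr hm.1⟩
  have hM1bot : M1 ≠ ⊥ := fun e => hMbot ((Subgroup.map_eq_bot_iff_of_injective M K.subtype_injective).mp e)
  by_cases hI : M1 ⊓ M2 = ⊥
  · exfalso
    have hc : ∀ x ∈ M1, ∀ y ∈ M2, Commute x y := fun x hx y hy => by
      rw [← commutatorElement_eq_one_iff_commute, ← Subgroup.mem_bot, ← hI, commutatorElement_def]
      refine Subgroup.mem_inf.mpr ⟨?_, mul_mem (hn2 x (hM1K hx) y hy) (inv_mem hy)⟩
      have := mul_mem hx (hn1 y (hM2K hy) _ (inv_mem hx))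
      simpa [mul_assoc] using this
    have hc' : ∀ (x : ↥M1) (y : ↥M2), Commute (M1.subtype x) (M2.subtype y) := fun x y => hc x x.2 y y.2
    let φ : ↥M1 × ↥M2 →* G := MonoidHom.noncommCoprod M1.subtype M2.subtype hc'
    have hφ : Function.Injective φ := by
      refine (injective_iff_map_eq_one φ).mpr fun p hp => ?_
      obtain ⟨⟨x, hx⟩, y, hy⟩ := p
      have hp' : x * y = 1 := hp
      have hx1 : x ∈ M1 ⊓ M2 := Subgroup.mem_inf.mpr ⟨hx, by rw [eq_inv_of_mul_eq_one_left hp']; exact inv_mem hy⟩
      rw [hI, Subgroup.mem_bot] at hx1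
      rw [hx1, one_mul] at hp'
      exact Prod.ext (Subtype.ext hx1) (Subtype.ext hp')
    haveI hsn : (M1 ⊔ M2).Normal := by
      refine hnormal _ (fun g hg m hm => ?_) fun m hm => ?_
      · have hle : M1 ⊔ M2 ≤ (M1 ⊔ M2).comap (MulAut.conj g).toMonoidHom :=
          sup_le (fun x hx => Subgroup.mem_sup_left (hn1 g hg x hx))
            (fun x hx => Subgroup.mem_sup_right (hn2 g hg x hx))
        exact hle hm
      · have hle : M1 ⊔ M2 ≤ (M1 ⊔ M2).comap (MulAut.conj a).toMonoidHom := by
          refine sup_le (fun x hx => ?_) fun x hx => ?_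
          · show a * x * a⁻¹ ∈ M1 ⊔ M2
            rw [haa]; exact Subgroup.mem_sup_right ((hswap x).2.mpr hx)
          · show a * x * a⁻¹ ∈ M1 ⊔ M2
            rw [haa]; exact Subgroup.mem_sup_left ((hswap x).1.mpr hx)
        have := hle hm
        rwa [Subgroup.mem_comap, MulEquiv.coe_toMonoidHom, MulAut.conj_apply, haa] at this
    have heq : M1 ⊔ M2 = K := le_antisymm (sup_le hM1K hM2K)
      (commutator_le B _ fun e => hM1bot (le_bot_iff.mp (e ▸ le_sup_left)))
    have h2 : Nat.card ↥M2 = Nat.card ↥M1 :=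
      (Nat.card_congr (M1.equivMapOfInjective _ (MulAut.conj a).injective).toEquiv).symm
    have hr : φ.range = K := by
      simp only [φ]
      rw [MonoidHom.noncommCoprod_range, Subgroup.range_subtype, Subgroup.range_subtype, heq]
    have hcK : Nat.card ↥M1 * Nat.card ↥M1 = 1255205709190661721292800 := by
      rw [← hcard, ← hr, ← Nat.card_congr (MonoidHom.ofInjective hφ).toEquiv, Nat.card_prod, h2]
    rcases Nat.lt_or_ge (Nat.card ↥M1) 1120359633864 with k | k
    · have := Nat.mul_le_mul (Nat.le_of_lt_succ k) (Nat.le_of_lt_succ k)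
      omega
    · have := Nat.mul_le_mul k k
      omega
  · have := commutator_le B _ hI
    exact eq_top_iff.mpr fun g _ => by
      obtain ⟨m, hm, e⟩ := (this g.2).1
      rwa [show g = m from Subtype.ext e.symm]

/-- The derived group is perfect. -/
theorem commutator_perfect (hne : D.Nonempty) : ⁅commutator G, commutator G⁆ = commutator G := by
  haveI := commutator_simple B hne
  refine le_antisymm (Subgroup.commutator_le_self _) ?_
  refine commutator_le B _ fun e => ?_
  haveI : IsMulCommutative ↥(commutator G) := ⟨⟨fun p q => Subtype.ext (by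
    have := Subgroup.commutator_mem_commutator p.2 q.2
    rw [e, Subgroup.mem_bot, commutatorElement_eq_one_iff_commute] at this
    exact this.eq)⟩⟩
  have hp := Group.is_simple_iff_prime_card.mp (commutator_simple B hne)
  rw [commutator_card B hne] at hp
  norm_num at hp

/-- The layer is the derived group. -/
theorem layer_eq (hne : D.Nonempty) : Cfsg.layer G = commutator G := by
  have hs := commutator_simple B hne
  have hperf : ⁅(⊤ : Subgroup ↥(commutator G)), (⊤ : Subgroup ↥(commutator G))⁆ = ⊤ := by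
    refine Subgroup.map_injective (commutator G).subtype_injective ?_
    rw [Subgroup.map_commutator, ← MonoidHom.range_eq_map, Subgroup.range_subtype]
    exact commutator_perfect B hne
  refine le_antisymm (sSup_le fun L hL => ?_) (le_sSup ⟨Subgroup.Normal.isSubnormal inferInstance, ?_, ?_⟩)
  · have h1 : ⁅L, L⁆ = L := by
      have := congrArg (Subgroup.map L.subtype) (Group.isPerfect_def.mp hL.2.1)
      rwa [commutator_def, Subgroup.map_commutator, ← MonoidHom.range_eq_map, Subgroup.range_subtype] at this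
    exact h1.symm.le.trans ((commutator_def G).symm ▸ Subgroup.commutator_mono le_top le_top)
  · rw [Group.isPerfect_def, commutator_def]
    exact hperf
  · have hc : Subgroup.center ↥(commutator G) = ⊥ :=
      ((inferInstance : (Subgroup.center ↥(commutator G)).Normal).eq_bot_or_eq_top).resolve_right fun e => by
        have h2 : ⁅(⊤ : Subgroup ↥(commutator G)), (⊤ : Subgroup ↥(commutator G))⁆ = ⊥ := by
          refine (Subgroup.eq_bot_iff_forall _).mpr fun g hg => ?_
          refine (Subgroup.commutator_le.mpr fun p _ q _ => ?_) hg |> Subgroup.mem_bot.mp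
          rw [Subgroup.mem_bot, commutatorElement_eq_one_iff_commute]
          exact (Subgroup.mem_center_iff.mp (e ▸ Subgroup.mem_top q) p)
        exact top_ne_bot (hperf.symm.trans h2)
    exact (MulEquiv.isSimpleGroup_congr ((QuotientGroup.quotientMulEquivOfEq hc).trans
      QuotientGroup.quotientBot)).mpr hs

end Cfsg.Agent.Block.FischerTypes.M24
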