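import Cfsg.Agent.Lib.Block.FischerTypes.M24Sys
import Cfsg.Agent.Lib.Block.FischerTypes.M23Invol

/-! Every involution in type M(24) commutes with a member, and is a product of at most four of them. -/

set_option autoImplicit false
set_option linter.style.haveILetI false
set_option linter.unusedSectionVars false

open scoped Classical

namespace Cfsg.Agent.Block.FischerTypes.M24

open Cfsg Cfsg.Agent.Spor.ThreeTrans
open Quad45 (Pt Adj line Near)

variable {G : Type*} [Group G] [Finite G] {D : Set G}

section sys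

variable {x : G} {E : Finset G} (Y : Sys D x E)
include Y

theorem Sys.j_prod {u v : G} {J : List G} (hO : Oct D E (u :: sw x u :: v :: sw x v :: J)) :
    gn E x u * gn E x v * (J.map (emb E)).prod = 1 ∧ (J.map (gn E x)).prod = 1 := by
  letI := Y.basis.commGroup
  have h := Y.map_one hO.mem hO.prod
  have h' := Y.map_sw hO.mem h
  simp only [List.map_cons, List.prod_cons, Y.fr.sw_sw] at h h'
  have h1 : gn E x u * gn E x v * (J.map (emb E)).prod = 1 := by
    rw [← h]; simp only [gn, mul_assoc]
  have h2 : gn E x u * gn E x v * ((J.map (sw x)).map (emb E)).prod = 1 := by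
    rw [← h']; simp only [gn, mul_assoc, mul_left_comm]
  refine ⟨h1, ?_⟩
  have e : (J.map (gn E x)).prod = (J.map (emb E)).prod * ((J.map (sw x)).map (emb E)).prod := by
    rw [List.map_map]; exact List.prod_map_mul
  rw [e, eq_inv_of_mul_eq_one_right h1, eq_inv_of_mul_eq_one_right h2, ← mul_inv_rev, mul_mul_mul_comm, Y.gn_sq,
    Y.gn_sq, mul_one, inv_one]

/-- The pairs of `u`, `v` and four members are different. -/
theorem Sys.six {u v : G} {J : List G} (hO : Oct D E (u :: sw x u :: v :: sw x v :: J))
    (hJ : ∀ r ∈ J, sw x r ∉ J) : (J ++ [u, v]).Pairwise fun p q => ¬ Same x p q := by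
  obtain ⟨n1, n2, n3, n4, n5⟩ : u ∉ sw x u :: v :: sw x v :: J ∧ sw x u ∉ v :: sw x v :: J ∧
      v ∉ sw x v :: J ∧ sw x v ∉ J ∧ J.Nodup := by
    simpa only [List.nodup_cons] using hO.clist.1
  simp only [List.mem_cons, not_or] at n1 n2 n3
  refine List.pairwise_append.mpr ⟨n5.imp_of_mem fun {p q} hp hq hne k => ?_, ?_, fun p hp q hq k => ?_⟩
  · rcases k with e | e
    · exact hne e.symm
    · exact hJ p hp (e ▸ hq)
  · simp only [List.pairwise_cons, List.mem_singleton, List.not_mem_nil, false_imp_iff, implies_true,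
      List.Pairwise.nil, and_true, forall_eq]
    rintro (e | e)
    · exact n1.2.1 e.symm
    · exact n2.1 e.symm
  · simp only [List.mem_cons, List.not_mem_nil, or_false] at hq
    rcases k with e | e
    · rcases hq with rfl | rfl
      · exact n1.2.2.2 (e ▸ hp)
      · exact n3.2 (e ▸ hp)
    · have e' : sw x q = p := by rw [e, Y.fr.sw_sw]
      rcases hq with rfl | rfl
      · exact n2.2.2 (e' ▸ hp)
      · exact n4 (e' ▸ hp)

theorem Sys.no_pair {u v : G} {J : List G} (hO : Oct D E (u :: sw x u :: v :: sw x v :: J))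
    (hJ : ∀ r ∈ J, sw x r ∉ J) {a b : G} (ha : a ∈ J) (hb : b ∈ J) (hab : a ≠ b) :
    gn E x a * gn E x b ≠ gn E x u * gn E x v := by
  letI := Y.basis.commGroup
  intro e
  have hn : J.Nodup := hO.clist.tail.tail.tail.tail.1
  have h4 : J.length = 4 := hO.clist.tail.tail.tail.tail.2.1
  have hm : ∀ r ∈ J, r ∈ E := fun r hr => hO.mem r (by simp [hr])
  have hbe : b ∈ J.erase a := (List.mem_erase_of_ne (Ne.symm hab)).mpr hb
  have hp := (List.perm_cons_erase ha).trans ((List.perm_cons_erase hbe).cons a)
  obtain ⟨t, w, htw⟩ := List.length_eq_two.mp (show ((J.erase a).erase b).length = 2 by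
    rw [List.length_erase_of_mem hbe, List.length_erase_of_mem ha, h4])
  rw [htw] at hp
  have h1 := (Y.j_prod hO).1
  rw [← e, (hp.map _).prod_eq] at h1
  simp only [List.map_cons, List.map_nil, List.prod_cons, List.prod_nil, mul_one, gn] at h1
  have ht : t ∈ J := hp.mem_iff.mpr (by simp)
  have hw : w ∈ J := hp.mem_iff.mpr (by simp)
  have hn' := hp.nodup_iff.mp hn
  simp only [List.nodup_cons, List.mem_cons, List.not_mem_nil, or_false, not_or, List.nodup_nil] at hn'
  refine Y.rel_ne (l := [sw x a, sw x b, t, w]) ?_ ?_ (by simp) ?_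
  · simp only [List.nodup_cons, List.mem_cons, List.not_mem_nil, or_false, not_or, List.nodup_nil]
    exact ⟨⟨fun k => hab ((sw x).injective k), fun k => hJ a ha (k ▸ ht), fun k => hJ a ha (k ▸ hw)⟩,
      ⟨fun k => hJ b hb (k ▸ ht), fun k => hJ b hb (k ▸ hw)⟩, hn'.2.2.1, not_false, trivial⟩
  · simp [hm t ht, hm w hw, Y.inv a (hm a ha), Y.inv b (hm b hb), -MulAut.conj_apply]
  · simp only [List.map_cons, List.map_nil, List.prod_cons, List.prod_nil, mul_one]
    have : emb E (sw x a) * (emb E (sw x b) * (emb E t * emb E w)) * (emb E a * emb E a) *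
        (emb E b * emb E b) = 1 := by
      rw [← h1]; simp only [mul_comm, mul_left_comm, mul_assoc]
    simpa [Y.emb_sq, -MulAut.conj_apply] using this

set_option maxHeartbeats 1000000 in
/-- The fourth pair of `u` and two of the four. -/
theorem Sys.partner {u v : G} {J : List G} (hO : Oct D E (u :: sw x u :: v :: sw x v :: J))
    (hJ : ∀ r ∈ J, sw x r ∉ J) {R S : G} (hR : R ∈ J) (hS : S ∈ J) (hRS : R ≠ S) :
    ∃ z ∈ E, Quad D x E [u, R, S, z] ∧ ∀ y ∈ J ++ [u, v], ¬ Same x y z := by
  letI := Y.basis.commGroup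
  have hu : u ∈ E := hO.mem u (by simp)
  have hv : v ∈ E := hO.mem v (by simp)
  have hm : ∀ r ∈ J, r ∈ E := fun r hr => hO.mem r (by simp [hr])
  have hn : J.Nodup := hO.clist.tail.tail.tail.tail.1
  have h4 : J.length = 4 := hO.clist.tail.tail.tail.tail.2.1
  have h6 := Y.six hO hJ
  rw [List.pairwise_append] at h6
  obtain ⟨hJJ, huv, hJu⟩ := h6
  have huv' : ¬ Same x u v := by simpa using huv
  have huR : ∀ r ∈ J, ¬ Same x u r := fun r hr k => hJu r hr u (by simp) (Y.same_symm k)
  obtain ⟨idx, i, j, τ, C, N, hτ, hL, hT⟩ := Y.pair hu (hm R hR) (huR R hR)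
  set J' := J.toFinset.erase R
  have hJ'4 : ∀ s ∈ J', s ∈ four D u (sw x u) R (sw x R) ∧ idx s ∈ line i j := fun s hs => by
    obtain ⟨hsR, hs'⟩ := Finset.mem_erase.mp hs
    rw [List.mem_toFinset] at hs'
    refine C.out s (hm s hs') fun k' => ?_
    obtain ⟨y, hy, k⟩ := (hT s).mp k' 
    simp only [List.mem_cons, List.not_mem_nil, or_false] at hy
    rcases hy with rfl | rfl
    · exact huR s hs' k
    · rcases k with e | e
      exacts [hsR e, hJ y hR (e ▸ hs')]
  set Fx := (line i j).filter fun q => τ q = q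
  have hsub : Fx ⊆ J'.image idx := by
    intro p hp
    obtain ⟨hpL, hpf⟩ := Finset.mem_filter.mp hp
    obtain ⟨w, hw, rfl⟩ := C.frame.surj p
    obtain ⟨f, hf, hfi, hwf, hfE, hQ, hall⟩ := Y.fixed_quad hu (hm R hR) C hτ hw hpL hpf
    by_contra hno
    have notin : ∀ s ∈ J, InN x [u, R, w, f] s ↔ s = R := by
      intro s hs
      refine ⟨fun k => ?_, fun e => ⟨R, by simp, Or.inl e⟩⟩
      by_contra hne
      have hs' : s ∈ J' := Finset.mem_erase.mpr ⟨hne, List.mem_toFinset.mpr hs⟩
      refine hno (Finset.mem_image.mpr ⟨s, hs', ?_⟩)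
      obtain ⟨y, hy, hys⟩ := k
      simp only [List.mem_cons, List.not_mem_nil, or_false] at hy
      rcases hy with rfl | rfl | rfl | rfl
      · exact absurd hys (huR s hs)
      · rcases hys with e | e
        exacts [absurd e hne, absurd (e ▸ hs) (hJ y hR)]
      · rcases hys with e | e
        · rw [e]
        · rw [e, hτ _ hw, hpf]
      · rcases hys with e | e
        · rw [e, hfi]
        · rw [e, hτ _ hf, hfi, hpf]
    have hc : J.countP (fun y => decide (InN x [u, R, w, f] y)) = 1 := by
      rw [show J.countP (fun y => decide (InN x [u, R, w, f] y)) = J.countP (fun y => y == R) from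
        List.countP_congr fun y hy => by simp [notin y hy]]
      exact List.count_eq_one_of_mem hn hR
    have hev := hQ.even _ hO
    have e1 : InN x [u, R, w, f] u := ⟨u, by simp, Or.inl rfl⟩
    have e2 : InN x [u, R, w, f] (sw x u) := ⟨u, by simp, Or.inr rfl⟩
    have e3 : InN x [u, R, w, f] (sw x v) ↔ InN x [u, R, w, f] v := by
      constructor <;> rintro ⟨y, hy, k⟩ <;> refine ⟨y, hy, ?_⟩
      · exact Y.same_trans k (Or.inr (Y.fr.sw_sw v).symm)
      · exact Y.same_trans k (Or.inr rfl)
    simp only [List.countP_cons, hc, decide_eq_true e1, decide_eq_true e2, if_true] at hev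
    by_cases k : InN x [u, R, w, f] v
    · simp only [decide_eq_true k, decide_eq_true (e3.mpr k), if_true] at hev
      exact absurd hev (by decide)
    · simp only [decide_eq_false k, decide_eq_false (mt e3.mp k), Bool.false_eq_true, if_false] at hev
      exact absurd hev (by decide)
  have hJ'c : J'.card = 3 := by
    rw [Finset.card_erase_of_mem (List.mem_toFinset.mpr hR), List.toFinset_card_of_nodup hn, h4]
  have h3 : 3 ≤ Fx.card := Quad45.line_fixed N C.adj hL
  have hle : (J'.image idx).card ≤ 3 := hJ'c ▸ Finset.card_image_le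
  have heq : Fx = J'.image idx := Finset.eq_of_subset_of_card_le hsub (by omega)
  have hinj : Set.InjOn idx ↑J' := Finset.card_image_iff.mp (by rw [← heq] at hle ⊢; omega)
  have hS' : S ∈ J' := Finset.mem_erase.mpr ⟨Ne.symm hRS, List.mem_toFinset.mpr hS⟩
  obtain ⟨hS4, hSL⟩ := hJ'4 S hS'
  have hSf : τ (idx S) = idx S :=
    (Finset.mem_filter.mp (show idx S ∈ Fx from heq ▸ Finset.mem_image_of_mem _ hS')).2
  obtain ⟨z, hz4, hzi, hSz, hzE, hQ, -⟩ := Y.fixed_quad hu (hm R hR) C hτ hS4 hSL hSf
  refine ⟨z, hzE, hQ, fun y hy k => ?_⟩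
  have hz4' : z ∉ [u, sw x u, R, sw x R] := fun k' => ((mem_four hz4).2 z k').1 rfl
  rcases List.mem_append.mp hy with hy | hy
  · by_cases hyR : y = R
    · exact hz4' ((hT z).mpr ⟨R, by simp, hyR ▸ k⟩)
    have hy' : y ∈ J' := Finset.mem_erase.mpr ⟨hyR, List.mem_toFinset.mpr hy⟩
    have hi : idx y = idx S := by
      rcases k with e | e
      · rw [← e, hzi]
      · rw [show y = sw x z by rw [e, Y.fr.sw_sw], hτ z hz4, hzi, hSf]
    exact hSz (hinj hy' hS' hi ▸ k)
  · simp only [List.mem_cons, List.not_mem_nil, or_false] at hy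
    rcases hy with rfl | rfl
    · exact hz4' ((hT z).mpr ⟨y, by simp, k⟩)
    · have hp := hQ.prod
      simp only [List.map_cons, List.map_nil, List.prod_cons, List.prod_nil, mul_one, Y.gn_same k] at hp
      refine Y.no_pair hO hJ hR hS hRS ?_
      calc gn E x R * gn E x S = gn E x R * gn E x S * ((gn E x u * gn E x u) * (gn E x y * gn E x y)) := by
            rw [Y.gn_sq, Y.gn_sq, mul_one, mul_one]
        _ = gn E x u * (gn E x R * (gn E x S * gn E x y)) * (gn E x u * gn E x y) := by ac_rfl
        _ = _ := by rw [hp, one_mul]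

/-- The ordered pairs of different nodes. -/
theorem Sys.card_pairs {T : Finset G} (hT : ∀ a ∈ T, a ∈ E ∧ sw x a ∈ T) :
    ((T ×ˢ T).filter fun p => ¬ Same x p.1 p.2).card = T.card * (T.card - 2) := by
  rw [Finset.card_eq_sum_card_fiberwise (f := Prod.fst) (t := T)
    (fun p hp => (Finset.mem_product.mp (Finset.mem_filter.mp hp).1).1)]
  refine (Finset.sum_congr rfl fun a ha => ?_).trans (by rw [Finset.sum_const, smul_eq_mul])
  obtain ⟨hE, hs⟩ := hT a ha
  have e : ({a, sw x a} : Finset G).card = 2 := Finset.card_pair (Ne.symm (Y.ne hE))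
  rw [← e, ← Finset.card_sdiff_of_subset (by
    intro y hy
    simp only [Finset.mem_insert, Finset.mem_singleton] at hy
    rcases hy with rfl | rfl <;> assumption)]
  refine Finset.card_bij (fun p _ => p.2) (fun p hp => ?_) (fun p hp q hq k => ?_) fun b hb => ?_
  · obtain ⟨hp', h1⟩ := Finset.mem_filter.mp hp
    obtain ⟨hp2, h2⟩ := Finset.mem_filter.mp hp'
    refine Finset.mem_sdiff.mpr ⟨(Finset.mem_product.mp hp2).2, fun k => h2 ?_⟩
    simpa [Same, h1, -MulAut.conj_apply] using k
  · exact Prod.ext ((Finset.mem_filter.mp hp).2.trans (Finset.mem_filter.mp hq).2.symm) k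
  · obtain ⟨h1, h2⟩ := Finset.mem_sdiff.mp hb
    exact ⟨(a, b), Finset.mem_filter.mpr ⟨Finset.mem_filter.mpr ⟨Finset.mem_product.mpr ⟨ha, h1⟩,
      fun k => h2 (by simpa [Same, -MulAut.conj_apply] using k)⟩, rfl⟩, rfl⟩

/-- Some three pairs have no fourth with product one. -/
theorem Sys.not_all (H : ∀ u v w : G, u ∈ E → v ∈ E → w ∈ E → ¬ Same x u v → ¬ InN x [u, v] w →
    ∃ f ∈ E, ¬ InN x [u, v, w] f ∧ ([u, v, w, f].map (gn E x)).prod = 1) : False := by
  letI := Y.basis.commGroup
  obtain ⟨u, hu⟩ := Finset.card_pos.mp (show 0 < E.card by rw [Y.basis.card]; norm_num)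
  set X := E.filter fun a => ¬ Same x u a with hXdef
  have hX : ∀ a, a ∈ X ↔ a ∈ E ∧ ¬ Same x u a := fun a => Finset.mem_filter
  have hXc : X.card = 22 := by
    have e : X = E \ {u, sw x u} := by ext a; simp [hX, Same, -MulAut.conj_apply]
    rw [e, Finset.card_sdiff_of_subset (by
      intro y hy
      simp only [Finset.mem_insert, Finset.mem_singleton] at hy
      rcases hy with rfl | rfl
      exacts [hu, Y.inv _ hu]), Finset.card_pair (Ne.symm (Y.ne hu)), Y.basis.card]
  have hXs : ∀ a ∈ X, a ∈ E ∧ sw x a ∈ X := fun a ha => by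
    obtain ⟨h1, h2⟩ := (hX a).mp ha
    exact ⟨h1, (hX _).mpr ⟨Y.inv a h1, fun k => h2 (Y.same_trans k (Or.inr (Y.fr.sw_sw a).symm))⟩⟩
  set P := (X ×ˢ X).filter fun p => ¬ Same x p.1 p.2 with hPdef
  have hP : ∀ p, p ∈ P ↔ p.1 ∈ X ∧ p.2 ∈ X ∧ ¬ Same x p.1 p.2 := fun p => by
    rw [hPdef, Finset.mem_filter, Finset.mem_product, and_assoc]
  have ex : ∀ p : G × G, ∃ f, p ∈ P → f ∈ E ∧ ¬ InN x [u, p.1, p.2] f ∧
      ([u, p.1, p.2, f].map (gn E x)).prod = 1 := fun p => by
    by_cases hp : p ∈ P
    · obtain ⟨h1, h2, h3⟩ := (hP p).mp hp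
      obtain ⟨a1, a2⟩ := (hX _).mp h1
      obtain ⟨b1, b2⟩ := (hX _).mp h2
      obtain ⟨f, hf⟩ := H u p.1 p.2 hu a1 b1 a2 (by
        rintro ⟨y, hy, k⟩
        simp only [List.mem_cons, List.not_mem_nil, or_false] at hy
        rcases hy with rfl | rfl
        exacts [b2 k, h3 k])
      exact ⟨f, fun _ => hf⟩
    · exact ⟨1, fun k => absurd k hp⟩
  choose fn hfn using ex
  let t : G × G → Finset G := fun p => E.filter fun a => InN x [p.1, p.2, fn p] a
  have tmem : ∀ p ∈ P, ∀ a, a ∈ t p ↔ InN x [p.1, p.2, fn p] a := fun p hp a => by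
    obtain ⟨h1, h2, -⟩ := (hP p).mp hp
    refine ⟨fun k => (Finset.mem_filter.mp k).2, fun k => Finset.mem_filter.mpr ⟨Y.inN_mem ?_ k, k⟩⟩
    simp [((hX _).mp h1).1, ((hX _).mp h2).1, (hfn p hp).1]
  have pw : ∀ p ∈ P, [p.1, p.2, fn p].Pairwise fun a b => ¬ Same x a b := fun p hp => by
    obtain ⟨-, -, h3⟩ := (hP p).mp hp
    have hf := (hfn p hp).2.1
    simp only [InN, List.mem_cons, List.not_mem_nil, or_false, exists_eq_or_imp, exists_eq_left, not_or] at hf
    simp [h3, hf.2.1, hf.2.2]
  have tX : ∀ p ∈ P, ∀ a ∈ t p, a ∈ X := fun p hp a ha => by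
    obtain ⟨h1, h2, -⟩ := (hP p).mp hp
    obtain ⟨y, hy, k⟩ := (tmem p hp a).mp ha
    refine (hX a).mpr ⟨(Finset.mem_filter.mp ha).1, fun k' => ?_⟩
    have k'' := Y.same_trans k' (Y.same_symm k)
    simp only [List.mem_cons, List.not_mem_nil, or_false] at hy
    rcases hy with rfl | rfl | rfl
    exacts [((hX _).mp h1).2 k'', ((hX _).mp h2).2 k'', (hfn p hp).2.1 ⟨u, by simp, k''⟩]
  have tcard : ∀ p ∈ P, (t p).card = 6 := fun p hp => by
    obtain ⟨h1, h2, -⟩ := (hP p).mp hp
    have hmemE : ∀ a ∈ [p.1, p.2, fn p], a ∈ E := by simp [((hX _).mp h1).1, ((hX _).mp h2).1, (hfn p hp).1]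
    have e : t p = ([p.1, p.2, fn p].toFinset).biUnion fun a => {a, sw x a} := by
      ext a
      rw [tmem p hp, Finset.mem_biUnion]
      simp [InN, Same, -MulAut.conj_apply]
    rw [e, Finset.card_biUnion, Finset.sum_congr rfl fun a ha => Finset.card_pair
      (Ne.symm (Y.ne (hmemE a (List.mem_toFinset.mp ha)))), Finset.sum_const, smul_eq_mul,
      List.toFinset_card_of_nodup ((pw p hp).imp fun {a b} k e => k (Or.inl e.symm))]
    · rfl
    · intro a ha b hb hab
      refine Finset.disjoint_left.mpr fun z hza hzb => ?_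
      simp only [Finset.mem_insert, Finset.mem_singleton] at hza hzb
      have hS' : Same x a b := Y.same_trans (v := z) hza (Y.same_symm hzb)
      haveI : Std.Symm fun a b => ¬ Same x a b := ⟨fun a b k k' => k (Y.same_symm k')⟩
      exact (pw p hp).forall (List.mem_toFinset.mp ha) (List.mem_toFinset.mp hb) hab hS'
  have fib : ∀ T ∈ P.image t, (P.filter fun q => t q = T).card = 24 := by
    intro T hT
    obtain ⟨p, hp, rfl⟩ := Finset.mem_image.mp hT
    have e : (P.filter fun q => t q = t p) = ((t p) ×ˢ (t p)).filter fun q => ¬ Same x q.1 q.2 := by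
      ext ⟨a, b⟩
      simp only [Finset.mem_filter, Finset.mem_product]
      constructor
      · rintro ⟨hq, hqt⟩
        rw [← hqt, tmem _ hq, tmem _ hq]
        exact ⟨⟨⟨a, by simp, Or.inl rfl⟩, ⟨b, by simp, Or.inl rfl⟩⟩, ((hP _).mp hq).2.2⟩
      · rintro ⟨⟨ha, hb⟩, hab⟩
        have hq : (a, b) ∈ P := (hP _).mpr ⟨tX p hp a ha, tX p hp b hb, hab⟩
        refine ⟨hq, ?_⟩
        obtain ⟨a0, ha0, ka⟩ := (tmem p hp a).mp ha
        obtain ⟨b0, hb0, kb⟩ := (tmem p hp b).mp hb
        have hne : a0 ≠ b0 := fun e => hab (Y.same_trans (Y.same_symm (e ▸ ka)) kb)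
        have hb0' : b0 ∈ [p.1, p.2, fn p].erase a0 := (List.mem_erase_of_ne (Ne.symm hne)).mpr hb0
        have hperm := (List.perm_cons_erase ha0).trans ((List.perm_cons_erase hb0').cons a0)
        obtain ⟨y, hy⟩ := List.length_eq_one_iff.mp (show (([p.1, p.2, fn p].erase a0).erase b0).length = 1 by
          rw [List.length_erase_of_mem hb0', List.length_erase_of_mem ha0]; rfl)
        rw [hy] at hperm
        have hyE : y ∈ E := Y.inN_mem (l := [p.1, p.2, fn p])
          (by simp [((hX _).mp ((hP p).mp hp).1).1, ((hX _).mp ((hP p).mp hp).2.1).1, (hfn p hp).1])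
          ⟨y, hperm.mem_iff.mpr (by simp), Or.inl rfl⟩
        have h1 := (hfn (a, b) hq).2.2
        have h2 := (hfn p hp).2.2
        rw [List.map_cons, List.prod_cons, (hperm.map _).prod_eq] at h2
        simp only [List.map_cons, List.map_nil, List.prod_cons, List.prod_nil, mul_one, Y.gn_same ka,
          Y.gn_same kb] at h1 h2
        have ky : Same x (fn (a, b)) y :=
          Y.gn_inj (hfn (a, b) hq).1 hyE (mul_left_cancel (mul_left_cancel (mul_left_cancel (h1.trans h2.symm))))
        ext z
        rw [tmem _ hq, tmem p hp]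
        constructor
        · rintro ⟨w, hw, k⟩
          simp only [List.mem_cons, List.not_mem_nil, or_false] at hw
          rcases hw with rfl | rfl | rfl
          · exact ⟨a0, hperm.mem_iff.mpr (by simp), Y.same_trans ka k⟩
          · exact ⟨b0, hperm.mem_iff.mpr (by simp), Y.same_trans kb k⟩
          · exact ⟨y, hperm.mem_iff.mpr (by simp), Y.same_trans (Y.same_symm ky) k⟩
        · rintro ⟨w, hw, k⟩
          have hw' := hperm.mem_iff.mp hw
          simp only [List.mem_cons, List.not_mem_nil, or_false] at hw'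
          rcases hw' with rfl | rfl | rfl
          · exact ⟨a, by simp, Y.same_trans (Y.same_symm ka) k⟩
          · exact ⟨b, by simp, Y.same_trans (Y.same_symm kb) k⟩
          · exact ⟨fn (a, b), by simp, Y.same_trans ky k⟩
    rw [e, Y.card_pairs (fun a ha => ⟨(Finset.mem_filter.mp ha).1, ?_⟩), tcard p hp]
    obtain ⟨y, hy, k⟩ := (tmem p hp a).mp ha
    exact (tmem p hp _).mpr ⟨y, hy, Y.same_trans k (Or.inr rfl)⟩
  have := Finset.card_eq_sum_card_image t P
  rw [hPdef, Y.card_pairs hXs, hXc, ← hPdef, Finset.sum_congr rfl fib, Finset.sum_const, smul_eq_mul] at this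
  omega

/-- The twelve pairs admit no octad through five of them. -/
theorem Sys.twelve_absurd (y : Fin 12 → G) (hy : ∀ i, y i ∈ E) (hne : ∀ i j, i ≠ j → ¬ Same x (y i) (y j))
    (hq : ∀ q ∈ NodeCode.quads, Quad D x E (q.map y)) {S : List G} (hS : Oct D E S)
    (hfive : ∀ i ∈ NodeCode.five, ∃ v ∈ S, Same x (y i) v) : False := by
  letI := Y.basis.commGroup
  have uniq : ∀ {i j : Fin 12} {v : G}, Same x (y i) v → Same x (y j) v → i = j := fun {i j v} k k' => by
    by_contra e
    exact hne i j e (Y.same_trans k (Y.same_symm k'))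
  have cover : ∀ v ∈ E, ∃ i, Same x (y i) v := by
    have hc : (Finset.univ.image fun p : Fin 12 × Bool => cond p.2 (y p.1) (sw x (y p.1))).card = 24 := by
      rw [Finset.card_image_of_injective]
      · rfl
      · rintro ⟨i, a⟩ ⟨j, b⟩ e
        have s : ∀ (k : Fin 12) (c : Bool), Same x (y k) (cond c (y k) (sw x (y k))) := fun k c => by
          cases c
          exacts [Or.inr rfl, Or.inl rfl]
        have e' : cond a (y i) (sw x (y i)) = cond b (y j) (sw x (y j)) := e
        obtain rfl : i = j := uniq (s i a) (by rw [e']; exact s j b)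
        cases a <;> cases b
        exacts [rfl, absurd e (Y.ne (hy i)), absurd e (Ne.symm (Y.ne (hy i))), rfl]
    have heq := Finset.eq_of_subset_of_card_le (t := E)
      (s := Finset.univ.image fun p : Fin 12 × Bool => cond p.2 (y p.1) (sw x (y p.1))) (fun v hv => by
      obtain ⟨⟨i, a⟩, -, rfl⟩ := Finset.mem_image.mp hv
      cases a
      exacts [Y.inv _ (hy i), hy i]) (by rw [Y.basis.card, hc])
    intro v hv
    rw [← heq, Finset.mem_image] at hv
    obtain ⟨⟨i, a⟩, -, rfl⟩ := hv
    cases a
    exacts [⟨i, Or.inr rfl⟩, ⟨i, Or.inl rfl⟩]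
  let c : Fin 12 → List G → ℕ := fun i l => l.countP fun v => decide (Same x (y i) v)
  let g : Fin 12 → ↥(Clo E) := fun i => gn E x (y i)
  have total : ∀ l : List G, (∀ v ∈ l, v ∈ E) →
      (l.map (gn E x)).prod = ∏ i, g i ^ c i l ∧ l.length = ∑ i, c i l := by
    intro l
    induction l with
    | nil => intro _; simp [c]
    | cons v l ih =>
      intro hl
      obtain ⟨i₀, k₀⟩ := cover v (hl v List.mem_cons_self)
      obtain ⟨h1, h2⟩ := ih fun w hw => hl w (List.mem_cons_of_mem _ hw)
      have hc : ∀ i, c i (v :: l) = c i l + if i = i₀ then 1 else 0 := fun i => by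
        simp only [c, List.countP_cons, decide_eq_true_eq]
        congr 1
        exact if_congr ⟨fun k => uniq k k₀, fun e => e ▸ k₀⟩ rfl rfl
      constructor
      · simp only [hc, pow_add, Finset.prod_mul_distrib, pow_ite, pow_one, pow_zero,
          Finset.prod_ite_eq', Finset.mem_univ, if_true, List.map_cons, List.prod_cons, h1, Y.gn_same k₀]
        exact mul_comm _ _
      · simp only [hc, Finset.sum_add_distrib, Finset.sum_ite_eq', Finset.mem_univ, if_true,
          List.length_cons, h2]
  have le2 : ∀ i, c i S ≤ 2 := fun i => by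
    rw [show c i S = (S.filter fun v => decide (Same x (y i) v)).length from List.countP_eq_length_filter,
      ← List.toFinset_card_of_nodup (hS.clist.1.filter _)]
    refine (Finset.card_le_card fun v hv => ?_).trans (Finset.card_le_two (a := y i) (b := sw x (y i)))
    have h := of_decide_eq_true (List.mem_filter.mp (List.mem_toFinset.mp hv)).2
    simpa [Same, -MulAut.conj_apply] using h
  obtain ⟨h1, h2⟩ := total S hS.mem
  set W := Finset.univ.filter fun i => c i S = 1 with hWdef
  have hWm : ∀ i, i ∈ W ↔ c i S = 1 := fun i => by simp [hWdef]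
  refine NodeCode.node_code g (fun i => Y.gn_sq _) (fun q hqq => ?_) (fun l hl a b => ?_) W ?_ (fun q hqq => ?_) ?_
  · simpa [List.map_map, g, Function.comp_def] using (hq q hqq).prod
  · have := Y.gn_ne (l := l.map y) (fun v hv => by obtain ⟨i, -, rfl⟩ := List.mem_map.mp hv; exact hy i)
      (List.pairwise_map.mpr (hl.imp fun {i j} k => hne i j k)) (by simpa using a) (by simpa using b)
    simpa [List.map_map, g, Function.comp_def] using this
  · have hS1 : (S.map (gn E x)).prod = 1 := by
      have e := Y.map_one hS.mem hS.prod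
      rw [show (S.map (gn E x)).prod = (S.map (emb E)).prod * (S.map (fun v => emb E (sw x v))).prod from
        List.prod_map_mul, e, one_mul]
      simpa [List.map_map, Function.comp_def] using Y.map_sw hS.mem e
    rw [← hS1, h1, hWdef, Finset.prod_filter]
    refine Finset.prod_congr rfl fun i _ => ?_
    have := le2 i
    interval_cases hh : c i S <;> simp [g, Y.gn_sq, pow_two]
  · have cnt : ∀ q : List (Fin 12), q.Nodup →
        S.countP (fun v => decide (InN x (q.map y) v)) = (q.map fun i => c i S).sum := by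
      intro q
      induction q with
      | nil => simp [InN]
      | cons i q ih =>
        intro hn
        obtain ⟨hi, hn'⟩ := List.nodup_cons.mp hn
        rw [List.map_cons (f := fun i => c i S), List.sum_cons, ← ih hn']
        have : ∀ l : List G, l.countP (fun v => decide (InN x ((i :: q).map y) v)) =
            c i l + l.countP (fun v => decide (InN x (q.map y) v)) := by
          intro l
          induction l with
          | nil => simp [c]
          | cons v l ihl =>
            simp only [c, List.countP_cons, decide_eq_true_eq] at ihl ⊢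
            rw [ihl]
            by_cases k : Same x (y i) v
            · have k' : ¬ InN x (q.map y) v := fun ⟨w, hw, kw⟩ => by
                obtain ⟨j, hj, rfl⟩ := List.mem_map.mp hw
                exact hi (uniq k kw ▸ hj)
              rw [if_pos (show InN x ((i :: q).map y) v from ⟨y i, by simp, k⟩), if_pos k, if_neg k']
              omega
            · have e : InN x ((i :: q).map y) v ↔ InN x (q.map y) v := by
                simp [InN, k]
              rw [if_congr e rfl rfl, if_neg k]
              omega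
        exact this S
    have hnd : q.Nodup := by revert q; decide
    have hev := (hq q hqq).even S hS
    rw [cnt q hnd, Nat.even_iff] at hev
    rw [← hev]
    clear hev hqq hnd
    induction q with
    | nil => rfl
    | cons i q ih =>
      rw [List.map_cons, List.sum_cons, Nat.add_mod, ← ih, List.filter_cons]
      have := le2 i
      by_cases k : i ∈ W
      · simp only [k, decide_true, if_true, List.length_cons, (hWm i).mp k]
        omega
      · have : c i S = 0 ∨ c i S = 2 := by
          have := mt (hWm i).mpr k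
          omega
        simp only [k, decide_false, Bool.false_eq_true, if_false]
        rcases this with e | e <;> rw [e] <;> omega
  · have hn5 : NodeCode.five.Nodup := by decide
    rw [← List.toFinset_card_of_nodup (hn5.filter _), hS.clist.2.1.symm, h2, Finset.card_eq_sum_ones W,
      Finset.card_eq_sum_ones (List.toFinset _), Finset.mul_sum]
    simp only [mul_one]
    refine le_trans (add_le_add (Finset.sum_le_sum (g := fun i => c i S) fun i hi => ?_)
      (Finset.sum_le_sum (g := fun i => c i S) fun i hi => ((hWm i).mp hi).ge)) ?_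
    · obtain ⟨k1, k2⟩ := List.mem_filter.mp (List.mem_toFinset.mp hi)
      simp only [Bool.not_eq_true', decide_eq_false_iff_not, hWm] at k2
      obtain ⟨v, hv, kv⟩ := hfive i k1
      have : 0 < c i S := List.countP_pos_iff.mpr ⟨v, hv, decide_eq_true kv⟩
      omega
    · rw [← Finset.sum_union]
      · exact Finset.sum_le_univ_sum_of_nonneg fun _ => Nat.zero_le _
      · refine Finset.disjoint_left.mpr fun i k k' => ?_
        have := (List.mem_filter.mp (List.mem_toFinset.mp k)).2
        simp [k'] at this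

end sys

end Cfsg.Agent.Block.FischerTypes.M24
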