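import Cfsg.Agent.Lib.Block.FischerTypes.M24Relations
import Cfsg.Agent.Lib.Spor.ReflectionIndexThree
import Cfsg.Agent.Lib.Classical.OrthNondegCount

/-! Counting tools for type M(24): orbits, apart pairs, and the group of a pair one level down. -/

set_option autoImplicit false
set_option linter.style.haveILetI false
set_option linter.unusedSectionVars false

namespace Cfsg.Agent.Block.FischerTypes

open Cfsg Cfsg.Agent.Spor.ThreeTrans
open Cfsg.Agent.Block.FischerTypes.M22 (perp_symm commute_self)

section Refl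

open Matrix

variable {n : ℕ} {Q : QuadraticForm (ZMod 3) (Fin n → ZMod 3)}

/-- A central element of a reflection group is a sign. -/
theorem center_sign (hn : 5 ≤ n) (hQ : (QuadraticMap.polarBilin Q).Nondegenerate) {c : ZMod 3}
    (hc : c ≠ 0) {z : ↥(reflectionSubgroup (⇑Q) c)}
    (hz : z ∈ Subgroup.center ↥(reflectionSubgroup (⇑Q) c)) :
    ∃ σ : ZMod 3, (σ = 1 ∨ σ = -1) ∧ ∀ x : Fin n → ZMod 3,
      (((z : ↥(isometryGroup (ZMod 3) (⇑Q))) : GL (Fin n) (ZMod 3)) : Matrix (Fin n) (Fin n) (ZMod 3)) *ᵥ x = σ • x := by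
  classical
  set M := (((z : ↥(isometryGroup (ZMod 3) (⇑Q))) : GL (Fin n) (ZMod 3)) : Matrix (Fin n) (Fin n) (ZMod 3)) with hM
  have hpres : ∀ u, Q (M *ᵥ u) = Q u := Classical.mem_isometryGroup.1 (z : ↥(isometryGroup (ZMod 3) (⇑Q))).2
  have hpol : ∀ u v, QuadraticMap.polar ⇑Q (M *ᵥ u) (M *ᵥ v) = QuadraticMap.polar ⇑Q u v := fun u v => by
    simp only [QuadraticMap.polar, ← Matrix.mulVec_add, hpres]
  have two : ∀ c : ZMod 3, c ≠ 0 → c + c ≠ 0 := by decide
  have signs : ∀ t c : ZMod 3, c ≠ 0 → t * t * c = c → t = 1 ∨ t = -1 := by decide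
  have eig : ∀ v, Q v = c → M *ᵥ v = v ∨ M *ᵥ v = -v := by
    intro v hv
    have hv0 : Q v ≠ 0 := hv ▸ hc
    let r := Classical.mkIsometry (Q := ⇑Q) (reflectionMatrix ⇑Q v)
      (by rw [Classical.det_reflection Q hv0]; decide) (Classical.reflection_preserves Q hv0)
    have hr : r ∈ reflectionsOfNorm (⇑Q) c := ⟨v, hv, rfl⟩
    let R : ↥(reflectionSubgroup (⇑Q) c) := ⟨r, Subgroup.subset_closure hr⟩
    have hcm := Subgroup.mem_center_iff.mp hz R
    have hRz : reflectionMatrix ⇑Q v * M = M * reflectionMatrix ⇑Q v :=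
      congrArg (fun w : ↥(reflectionSubgroup (⇑Q) c) =>
        (((w : ↥(isometryGroup (ZMod 3) (⇑Q))) : GL (Fin n) (ZMod 3)) : Matrix (Fin n) (Fin n) (ZMod 3))) hcm
    have h1 := congrArg (fun N => N *ᵥ v) hRz
    simp only [← Matrix.mulVec_mulVec, Classical.reflectionMatrix_mulVec, QuadraticMap.polar_self, hv,
      two_smul, Matrix.mulVec_sub, Matrix.mulVec_smul] at h1
    set w := M *ᵥ v with hw
    set β := c⁻¹ * QuadraticMap.polar ⇑Q v w
    have h2 : β • v = (c⁻¹ * (c + c)) • w := by
      have := sub_right_injective h1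
      exact this
    have hk : c⁻¹ * (c + c) ≠ 0 := mul_ne_zero (inv_ne_zero hc) (two c hc)
    have h3 : w = ((c⁻¹ * (c + c))⁻¹ * β) • v := by
      rw [← smul_smul, h2, smul_smul, inv_mul_cancel₀ hk, one_smul]
    have h4 := hpres v
    rw [← hw, h3, QuadraticMap.map_smul, hv, smul_eq_mul] at h4
    rcases signs _ c hc h4 with e | e <;> rw [e] at h3
    · exact Or.inl (by rw [h3, one_smul])
    · exact Or.inr (by rw [h3, neg_one_smul])
  have hu0 : ∃ u, Q u = c := by
    obtain ⟨w, hw, -⟩ := Spor.ReflThree.exists_norm_perp hQ hc (k := 0) (by omega) Fin.elim0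
      (fun i => i.elim0) (fun i => i.elim0)
    exact ⟨w, hw⟩
  have hlink : ∀ u v, Q u = c → Q v = c → QuadraticMap.polar ⇑Q u v ≠ 0 → M *ᵥ u = u → M *ᵥ v = v := by
    intro u v hu hv hb eu
    refine (eig v hv).resolve_right fun ev => hb ?_
    have := hpol u v
    rw [eu, ev, QuadraticMap.polar_neg_right] at this
    have key : ∀ t : ZMod 3, -t = t → t = 0 := by decide
    exact key _ this
  have hall : ∀ u v, Q u = c → Q v = c → M *ᵥ u = u → M *ᵥ v = v := by
    intro u v hu hv eu
    by_cases hb : QuadraticMap.polar ⇑Q u v = 0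
    · refine (eig v hv).resolve_right fun ev => ?_
      have hu0' : Q u ≠ 0 := hu ▸ hc
      have hv0' : Q v ≠ 0 := hv ▸ hc
      obtain ⟨t, ht, hp⟩ := Spor.ReflThree.exists_norm_perp hQ hc (k := 2) (by omega) ![u, v]
        (fun i => by fin_cases i <;> assumption) (fun i j hij => by
          have hB' : QuadraticMap.polar ⇑Q v u = 0 := by rw [QuadraticMap.polar_comm]; exact hb
          fin_cases i <;> fin_cases j <;> first | exact absurd rfl hij | exact hb | exact hB')
      obtain ⟨t', ht', hp'⟩ := Spor.ReflThree.exists_norm_perp hQ hc (k := 3) (by omega) ![u, v, t]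
        (fun i => by fin_cases i <;> first | assumption | exact ht ▸ hc) (fun i j hij => by
          have p1 : QuadraticMap.polar ⇑Q v u = 0 := by rw [QuadraticMap.polar_comm]; exact hb
          have p2 : QuadraticMap.polar ⇑Q u t = 0 := hp 0
          have p3 : QuadraticMap.polar ⇑Q v t = 0 := hp 1
          have p4 : QuadraticMap.polar ⇑Q t u = 0 := by rw [QuadraticMap.polar_comm]; exact p2
          have p5 : QuadraticMap.polar ⇑Q t v = 0 := by rw [QuadraticMap.polar_comm]; exact p3
          fin_cases i <;> fin_cases j <;>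
            first | exact absurd rfl hij | exact hb | exact p1 | exact p2 | exact p3 | exact p4 | exact p5)
      have q2 : QuadraticMap.polar ⇑Q u t = 0 := hp 0
      have q3 : QuadraticMap.polar ⇑Q v t = 0 := hp 1
      have r2 : QuadraticMap.polar ⇑Q u t' = 0 := hp' 0
      have r3 : QuadraticMap.polar ⇑Q v t' = 0 := hp' 1
      have r4 : QuadraticMap.polar ⇑Q t t' = 0 := hp' 2
      set w := u + v + t + t'
      have hw : Q w = c := by
        simp only [w, QuadraticMap.map_add ⇑Q, QuadraticMap.polar_add_left, hu, hv, ht, ht', hb, q2, q3,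
          r2, r3, r4]
        exact (by decide : ∀ c : ZMod 3, c + c + 0 + c + (0 + 0) + c + (0 + 0 + 0) = c) c
      have huw : QuadraticMap.polar ⇑Q u w ≠ 0 := by
        simp only [w, QuadraticMap.polar_add_right, QuadraticMap.polar_self, hu, hb, q2, r2, two_smul, add_zero]
        exact two c hc
      have hvw : QuadraticMap.polar ⇑Q w v ≠ 0 := by
        rw [QuadraticMap.polar_comm]
        simp only [w, QuadraticMap.polar_add_right, QuadraticMap.polar_self, hv,
          QuadraticMap.polar_comm ⇑Q v u, hb, q3, r3, two_smul, add_zero, zero_add]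
        exact two c hc
      have := hlink w v hw hv hvw (hlink u w hu hw huw eu)
      rw [ev] at this
      have h6 := congrArg (QuadraticMap.polar ⇑Q v) this
      rw [QuadraticMap.polar_neg_right, QuadraticMap.polar_self, hv, two_smul] at h6
      exact two c hc ((by decide : ∀ t : ZMod 3, -t = t → t = 0) _ h6)
    · exact hlink u v hu hv hb eu
  obtain ⟨u, hu⟩ := hu0
  obtain ⟨σ, hσ, hσv⟩ : ∃ σ : ZMod 3, (σ = 1 ∨ σ = -1) ∧ ∀ v, Q v = c → M *ᵥ v = σ • v := by
    rcases eig u hu with eu | eu
    · exact ⟨1, Or.inl rfl, fun v hv => by rw [one_smul]; exact hall u v hu hv eu⟩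
    · refine ⟨-1, Or.inr rfl, fun v hv => ?_⟩
      rw [neg_one_smul]
      refine (eig v hv).resolve_left fun ev => ?_
      have h6 := congrArg (QuadraticMap.polar ⇑Q u) ((hall v u hv hu ev).symm.trans eu)
      rw [QuadraticMap.polar_neg_right, QuadraticMap.polar_self, hu, two_smul] at h6
      exact two c hc ((by decide : ∀ t : ZMod 3, t = -t → t = 0) _ h6)
  refine ⟨σ, hσ, fun x => ?_⟩
  by_contra hne
  set r := M *ᵥ x - σ • x with hr
  have hr0 : r ≠ 0 := fun e => hne (sub_eq_zero.mp e)
  have hperp : ∀ v, Q v = c → QuadraticMap.polar ⇑Q v r = 0 := fun v hv => by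
    have h7 := hpol v x
    rw [hσv v hv, QuadraticMap.polar_smul_left, smul_eq_mul] at h7
    have hs : σ * σ = 1 := by rcases hσ with e | e <;> rw [e] <;> decide
    rw [hr, sub_eq_add_neg, ← neg_smul, QuadraticMap.polar_add_right, QuadraticMap.polar_smul_right,
      smul_eq_mul, ← h7, show QuadraticMap.polar ⇑Q v (M *ᵥ x) + -σ * (σ * QuadraticMap.polar ⇑Q v (M *ᵥ x)) =
        (1 - σ * σ) * QuadraticMap.polar ⇑Q v (M *ᵥ x) by ring, hs, sub_self, zero_mul]
  obtain ⟨s, hus, hrs⟩ := Spor.ReflThree.exists_partner hQ hc hu (hperp u hu) hr0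
  have hsr : QuadraticMap.polar ⇑Q s r = 1 := by rw [QuadraticMap.polar_comm]; exact hrs
  by_cases h0 : Q s = 0
  · have hv : Q (u + s) = c := by rw [QuadraticMap.map_add ⇑Q, hu, h0, hus, add_zero, add_zero]
    have h8 := hperp _ hv
    rw [QuadraticMap.polar_add_left, hperp u hu, hsr, zero_add] at h8
    exact one_ne_zero h8
  by_cases h1 : Q s = c
  · exact one_ne_zero (hsr.symm.trans (hperp s h1))
  obtain ⟨t, ht, hp⟩ := Spor.ReflThree.exists_norm_perp hQ hc (k := 2) (by omega) ![u, s]
    (fun i => by fin_cases i <;> first | exact hu ▸ hc | exact h0) (fun i j hij => by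
      have hB' : QuadraticMap.polar ⇑Q s u = 0 := by rw [QuadraticMap.polar_comm]; exact hus
      fin_cases i <;> fin_cases j <;> first | exact absurd rfl hij | exact hus | exact hB')
  have r1 : QuadraticMap.polar ⇑Q u t = 0 := hp 0
  have r2 : QuadraticMap.polar ⇑Q s t = 0 := hp 1
  have hv : Q (u + s + t) = c := by
    simp only [QuadraticMap.map_add ⇑Q, QuadraticMap.polar_add_left, hu, ht, hus, r1, r2]
    exact (by decide : ∀ c q : ZMod 3, c ≠ 0 → q ≠ 0 → q ≠ c → c + q + 0 + c + (0 + 0) = c) c _ hc h0 h1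
  have h8 := hperp _ hv
  rw [QuadraticMap.polar_add_left, QuadraticMap.polar_add_left, hperp u hu, hsr, hperp t ht,
    zero_add, add_zero] at h8
  exact one_ne_zero h8

/-- The projective reflection group in dimension seven is at least this large. -/
theorem refl_seven_card {X : Type*} [Group X] [Finite X] {μ c : ZMod 3} (hc : c ≠ 0)
    (h : IsProjReflectionGroupModThree X 7 μ c) : 4585351680 ≤ Nat.card X := by
  classical
  obtain ⟨Q, hQ, -, ⟨e⟩⟩ := h
  rw [Nat.card_congr e.toEquiv]
  set R := reflectionSubgroup (⇑Q) c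
  have hiso : Nat.card (isometryGroup (ZMod 3) ⇑Q) = 18341406720 := by
    have h1 := OrthNondegCount.isoCard_odd (Q := Q) (by decide : (2 : ZMod 3) ≠ 0) (m := 3)
      (by rw [Module.finrank_fin_fun]) hQ
    rw [← Classical.natCard_isometryGroup Q, ZMod.card] at h1
    simp only [Finset.prod_range_succ, Finset.prod_range_zero] at h1
    simp only [Nat.cast_ofNat, Nat.reduceMul, Nat.reduceAdd, Nat.reducePow, Int.reducePow, Int.reduceSub,
      Int.reduceMul, one_mul] at h1
    exact_mod_cast h1
  have hR : Nat.card ↥R = 9170703360 := by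
    have h1 := R.index_mul_card
    rw [Spor.ReflThree.reflection_index (by norm_num) hQ hc, hiso] at h1
    omega
  have hZ : Nat.card ↥(Subgroup.center ↥R) ≤ 2 := by
    have hs : ∀ z : ↥(Subgroup.center ↥R), ∃ σ : ZMod 3, (σ = 1 ∨ σ = -1) ∧ ∀ x : Fin 7 → ZMod 3,
        ((((z : ↥R) : ↥(isometryGroup (ZMod 3) (⇑Q))) : GL (Fin 7) (ZMod 3)) :
          Matrix (Fin 7) (Fin 7) (ZMod 3)) *ᵥ x = σ • x :=
      fun z => center_sign (by norm_num) hQ hc z.2
    choose σ hσ hσx using hs
    let f : ↥(Subgroup.center ↥R) → Bool := fun z => decide (σ z = 1)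
    have hf : Function.Injective f := by
      intro z w e
      have es : σ z = σ w := by
        simp only [f, decide_eq_decide] at e
        rcases hσ z with k | k
        · rw [k, e.mp k]
        · rcases hσ w with k' | k'
          · rw [e.mpr k', k']
          · rw [k, k']
      apply Subtype.ext
      apply Subtype.ext
      apply Subtype.ext
      apply Units.ext
      refine Matrix.ext_of_mulVec_single fun i => ?_
      rw [hσx z, hσx w, es]
    have := Nat.card_le_card_of_injective f hf
    simpa using this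
  have h2 := Subgroup.card_eq_card_quotient_mul_card_subgroup (Subgroup.center ↥R)
  rw [hR] at h2
  nlinarith

end Refl

section Count

variable {G : Type*} [Group G] [Finite G] {D : Set G}

/-- Orbit and stabiliser for conjugation by a subgroup. -/
theorem orbit_card (C : Subgroup G) (x : G) {O : Set G} (hsub : ∀ g ∈ C, g * x * g⁻¹ ∈ O)
    (htr : ∀ y ∈ O, ∃ g ∈ C, g * x * g⁻¹ = y) :
    O.ncard * Nat.card ↥(C ⊓ Subgroup.centralizer ({x} : Set G) : Subgroup G) = Nat.card ↥C := by
  set Z := (Subgroup.centralizer ({x} : Set G)).subgroupOf C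
  have key : ∀ a b : ↥C, a⁻¹ * b ∈ Z ↔ (a : G) * x * (a : G)⁻¹ = b * x * (b : G)⁻¹ := by
    intro a b
    rw [Subgroup.mem_subgroupOf, Subgroup.mem_centralizer_singleton_iff]
    push_cast
    constructor
    · intro e
      calc (a : G) * x * (a : G)⁻¹ = a * (x * ((a : G)⁻¹ * b)) * (b : G)⁻¹ := by group
        _ = b * x * (b : G)⁻¹ := by rw [← e]; group
    · intro e
      calc (a : G)⁻¹ * b * x = (a : G)⁻¹ * ((b : G) * x * (b : G)⁻¹) * b := by group
        _ = x * ((a : G)⁻¹ * b) := by rw [← e]; group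
  let f : ↥C ⧸ Z → ↥O := fun q => Quotient.liftOn' q (fun a => (⟨_, hsub a a.2⟩ : ↥O))
    fun a b hab => Subtype.ext ((key a b).mp (QuotientGroup.leftRel_apply.mp hab))
  have hf : Function.Bijective f := by
    constructor
    · intro p q
      induction p using QuotientGroup.induction_on with
      | H a =>
        induction q using QuotientGroup.induction_on with
        | H b => exact fun e => QuotientGroup.eq.mpr ((key a b).mpr (congrArg Subtype.val e))
    · rintro ⟨y, hy⟩
      obtain ⟨g, hg, e⟩ := htr y hy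
      exact ⟨QuotientGroup.mk ⟨g, hg⟩, Subtype.ext e⟩
  have h := Subgroup.card_eq_card_quotient_mul_card_subgroup Z
  rw [Nat.card_congr (Equiv.ofBijective f hf), Nat.card_coe_set_eq] at h
  have hZ : Nat.card ↥Z = Nat.card ↥(C ⊓ Subgroup.centralizer ({x} : Set G) : Subgroup G) := by
    rw [inf_comm, ← Subgroup.subgroupOf_map_subtype,
      ← Nat.card_congr (Z.equivMapOfInjective C.subtype C.subtype_injective).toEquiv]
  rw [hZ] at h
  exact h.symm

theorem split_class {d : G} (hd : d ∈ D) : D.ncard = 1 + (perp D d).ncard + (apart D d).ncard := by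
  have e : D = insert d (perp D d) ∪ apart D d := by
    ext u
    constructor
    · intro hu
      by_cases k : Commute u d
      · by_cases e : u = d
        · exact Or.inl (Or.inl e)
        · exact Or.inl (Or.inr ⟨hu, e, k.symm⟩)
      · exact Or.inr ⟨hu, k⟩
    · rintro ((e | hu) | hu)
      exacts [e ▸ hd, hu.1, hu.1]
  conv_lhs => rw [e]
  rw [Set.ncard_union_eq (Set.disjoint_left.mpr ?_) (Set.toFinite _) (Set.toFinite _),
    Set.ncard_insert_of_notMem (fun k => k.2.1 rfl) (Set.toFinite _)]
  · omega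
  · rintro u (e | hu) ⟨-, k⟩
    exacts [k (e ▸ Commute.refl d), k hu.2.2.symm]

/-- Counting edges between the two suborbits. -/
theorem apart_count (S : Setting D) {d f : G} (hd : d ∈ D) (hf : f ∈ D) (hdf : ¬ Commute d f)
    {p c : ℕ} (hp : ∀ b ∈ D, (perp D b).ncard = p)
    (hc : ∀ b ∈ perp D d, (common D d b).ncard = c) :
    p * (p - 1 - c) = (apart D d).ncard * (common D d f).ncard := by
  have h := S.cls
  have h1 : ∀ b ∈ perp D d, {a ∈ apart D d | Commute b a}.ncard = p - 1 - c := by
    intro b hb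
    have hdb := perp_symm hd hb
    have hb' := hp b hb.1
    have e : perp D b = insert d (common D d b) ∪ {a ∈ apart D d | Commute b a} := by
      ext u
      constructor
      · intro hu
        by_cases k : Commute u d
        · by_cases e : u = d
          · exact Or.inl (Or.inl e)
          · exact Or.inl (Or.inr ⟨⟨hu.1, e, k.symm⟩, hu⟩)
        · exact Or.inr ⟨⟨hu.1, k⟩, hu.2.2⟩
      · rintro ((e | hu) | ⟨hu, k⟩)
        exacts [e ▸ hdb, hu.2, ⟨hu.1, fun e => hu.2 (e ▸ hb.2.2.symm), k⟩]
    rw [e, Set.ncard_union_eq (Set.disjoint_left.mpr ?_) (Set.toFinite _) (Set.toFinite _),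
      Set.ncard_insert_of_notMem (fun k => k.1.2.1 rfl) (Set.toFinite _), hc b hb] at hb'
    · omega
    · rintro u (e | hu) ⟨⟨-, k⟩, -⟩
      exacts [k (e ▸ Commute.refl d), k hu.1.2.2.symm]
  have h2 : ∀ a ∈ apart D d, {b ∈ perp D d | Commute b a}.ncard = (common D d f).ncard := by
    intro a ha
    obtain ⟨g, e1, e2⟩ := apart_pair_conj S hd hf hdf hd ha.1 fun k => ha.2 k.symm
    have hgd : Commute g d := mul_inv_eq_iff_eq_mul.mp e1
    symm
    refine Set.ncard_congr (fun u _ => g * u * g⁻¹) (fun u hu => ⟨perp_conj' h hgd hu.1, ?_⟩)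
      (fun u v _ _ e => by simpa using e) fun u hu => ?_
    · rw [← e2]; exact (commute_conj_iff g u f).mpr hu.2.2.2.symm
    · have hu' : g⁻¹ * u * g ∈ perp D d := by simpa using perp_conj' h hgd.inv_left hu.1
      have kf : Commute f (g⁻¹ * u * g) := by
        rw [← commute_conj_iff g, e2]
        simpa [mul_assoc] using hu.2.symm
      exact ⟨g⁻¹ * u * g, ⟨hu', hu'.1, fun e => hdf (e ▸ hu'.2.2), kf⟩, by simp [mul_assoc]⟩
  rw [← hp d hd]
  nth_rewrite 2 [hp d hd]
  exact double_count_const h1 h2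

namespace M23

variable (B : Base D)
include B

theorem apart_card {d : G} (hd : d ∈ D) : (apart D d).ncard = 28160 := by
  have h := split_class (D := D) hd
  rw [total B ⟨d, hd⟩ (counts B), card_perp B hd (counts B d hd)] at h
  omega

/-- The common perpendicular of an apart pair has 351 members. -/
theorem mu {d f : G} (hd : d ∈ D) (hf : f ∈ D) (hdf : ¬ Commute d f) :
    (common D d f).ncard = 351 := by
  have h := apart_count B.set hd hf hdf (fun b hb => card_perp B hb (counts B b hb))
    (fun b hb => card_common B hd hb (counts B d hd))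
  rw [apart_card B hd] at h
  omega

/-- The order of the centraliser of an apart pair. -/
theorem card_pair {d f : G} (hd : d ∈ D) (hf : f ∈ D) (hdf : ¬ Commute d f) :
    Nat.card ↥(Subgroup.centralizer ({d} : Set G) ⊓ Subgroup.centralizer ({f} : Set G) : Subgroup G) =
      4585351680 := by
  have h := B.set.cls
  have h1 := orbit_card (Subgroup.centralizer ({d} : Set G)) f (O := apart D d)
    (fun g hg => apart_conj h (Subgroup.mem_centralizer_singleton_iff.mp hg) ⟨hf, fun k => hdf k.symm⟩)
    (fun y hy => by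
      obtain ⟨g, hg, e⟩ := transitive_apart B.set.hyp hd ⟨hf, fun k => hdf k.symm⟩ hy
      exact ⟨g, Subgroup.mem_centralizer_singleton_iff.mpr (localGroup_commute hg).eq, e⟩)
  rw [apart_card B hd, centralizer_eq B hd, card_perpGroup B hd] at h1
  rw [centralizer_eq B hd]
  omega

/-- The group generated by the common perpendicular of an apart pair is the whole centraliser. -/
theorem pair_group (h23 : IsOfTypeM23 G D) {d f : G} (hd : d ∈ D) (hf : f ∈ D) (hdf : ¬ Commute d f) :
    Subgroup.closure (common D d f) =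
      Subgroup.centralizer ({d} : Set G) ⊓ Subgroup.centralizer ({f} : Set G) ∧
    Subgroup.center ↥(Subgroup.closure (common D d f)) = ⊥ := by
  have h := B.set.cls
  obtain ⟨-, d₀, hd₀, c₀, hc₀, hdc, -, c₃, hc₃, hrefl⟩ := h23
  obtain ⟨g, rfl, rfl⟩ := apart_pair_conj B.set hd₀ hc₀ hdc hd hf hdf
  have hle : Subgroup.closure (common D (g * d₀ * g⁻¹) (g * c₀ * g⁻¹)) ≤
      Subgroup.centralizer ({g * d₀ * g⁻¹} : Set G) ⊓ Subgroup.centralizer ({g * c₀ * g⁻¹} : Set G) :=
    (Subgroup.closure_le _).mpr fun u hu =>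
      ⟨Subgroup.mem_centralizer_singleton_iff.mpr hu.1.2.2.symm.eq,
        Subgroup.mem_centralizer_singleton_iff.mpr hu.2.2.2.symm.eq⟩
  have him : (MulAut.conj g) '' common D d₀ c₀ = common D (g * d₀ * g⁻¹) (g * c₀ * g⁻¹) := by
    rw [Set.image_inter (MulAut.conj g).injective]
    show (fun e => g * e * g⁻¹) '' perp D d₀ ∩ (fun e => g * e * g⁻¹) '' perp D c₀ = _
    rw [← perp_conj h, ← perp_conj h]
  obtain ⟨ρ⟩ := closureQuot_map (MulAut.conj g) (common D d₀ c₀) him
  set L := Subgroup.closure (common D (g * d₀ * g⁻¹) (g * c₀ * g⁻¹))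
  have hq : 4585351680 ≤ Nat.card (↥L ⧸ Subgroup.center ↥L) := by
    rw [← Nat.card_congr ρ.toEquiv]
    exact refl_seven_card hc₃ hrefl
  have hmul := Subgroup.card_eq_card_quotient_mul_card_subgroup (Subgroup.center ↥L)
  have hpos : 0 < Nat.card ↥(Subgroup.center ↥L) := Nat.card_pos
  have hcard : Nat.card ↥L ≤ 4585351680 :=
    card_pair B (conj_mem h g hd₀) (conj_mem h g hc₀)
      (fun k => hdc ((commute_conj_iff g d₀ c₀).mp k)) ▸
      Nat.card_le_card_of_injective _ (Subgroup.inclusion_injective hle)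
  refine ⟨Subgroup.eq_of_le_of_card_ge hle ?_, Subgroup.eq_bot_of_card_le _ ?_⟩
  · rw [card_pair B (conj_mem h g hd₀) (conj_mem h g hc₀) (fun k => hdc ((commute_conj_iff g d₀ c₀).mp k))]
    nlinarith
  · nlinarith

end M23

end Count

end Cfsg.Agent.Block.FischerTypes
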