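import Cfsg.Agent.Lib.Transfer.Cores
import Cfsg.Agent.S1325

/-! A self-centralising normal quasisimple subgroup is the generalised Fitting subgroup. -/

set_option autoImplicit false
set_option linter.style.haveILetI false
set_option linter.unusedSectionVars false

namespace Cfsg.Agent.Block.FischerTypes

open scoped commutatorElement

variable {X : Type*} [Group X] [Finite X]

theorem gfitting_eq_of_quasisimple (K : Subgroup X) [hn : K.Normal] (hq : Cfsg.IsQuasisimple ↥K)
    (hC : Subgroup.centralizer (K : Set X) ≤ K) : Cfsg.generalizedFittingSubgroup X = K := by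
  obtain ⟨hperf, hs⟩ := id hq
  have hperf' : commutator ↥K = ⊤ := Group.isPerfect_def.mp hperf
  set F := Cfsg.fittingSubgroup X with hFdef
  haveI hFn : F.Normal := Transfer.fittingSubgroup_normal' X
  haveI hFnil : Group.IsNilpotent ↥F := Transfer.fittingSubgroup_isNilpotent
  set M := (F ⊓ K).subgroupOf K with hMdef
  haveI hMn : M.Normal := (Subgroup.normal_inf_normal F K).subgroupOf K
  have hMsol : Group.IsSolvable ↥M := by
    haveI : Group.IsNilpotent ↥((F ⊓ K).subgroupOf F) := inferInstance
    haveI : Group.IsNilpotent ↥(F ⊓ K : Subgroup X) :=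
      Group.nilpotent_of_mulEquiv (Subgroup.subgroupOfEquivOfLe (inf_le_left : F ⊓ K ≤ F))
    haveI : Group.IsNilpotent ↥M :=
      Group.nilpotent_of_mulEquiv (Subgroup.subgroupOfEquivOfLe (inf_le_right : F ⊓ K ≤ K)).symm
    infer_instance
  haveI := hs
  have hMZ : M ≤ Subgroup.center ↥K := by
    set q := QuotientGroup.mk' (Subgroup.center ↥K)
    haveI : (M.map q).Normal := hMn.map q (QuotientGroup.mk'_surjective _)
    rcases (inferInstance : (M.map q).Normal).eq_bot_or_eq_top with e | e
    · rwa [Subgroup.map_eq_bot_iff, QuotientGroup.ker_mk'] at e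
    · exfalso
      haveI : Group.IsSolvable ↥(M.map q) :=
        Group.isSolvable_of_surjective (f := q.subgroupMap M) (q.subgroupMap_surjective M)
      haveI : Group.IsSolvable ↥(⊤ : Subgroup (↥K ⧸ Subgroup.center ↥K)) := e ▸ ‹Group.IsSolvable ↥(M.map q)›
      haveI : Group.IsSolvable (↥K ⧸ Subgroup.center ↥K) :=
        Group.isSolvable_of_surjective (f := (Subgroup.topEquiv : (⊤ : Subgroup (↥K ⧸ Subgroup.center ↥K)) ≃* _).toMonoidHom)
          (MulEquiv.surjective _)
      have hcomm := IsSimpleGroup.comm_iff_isSolvable.mpr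
        (inferInstance : Group.IsSolvable (↥K ⧸ Subgroup.center ↥K))
      have h2 : (commutator ↥K).map q = ⊥ := by
        rw [commutator_def, Subgroup.map_commutator, eq_bot_iff, Subgroup.commutator_le]
        intro a _ b _
        rw [Subgroup.mem_bot, commutatorElement_eq_one_iff_mul_comm]
        exact hcomm a b
      rw [hperf', ← MonoidHom.range_eq_map, MonoidHom.range_eq_top.mpr (QuotientGroup.mk'_surjective _)] at h2
      exact top_ne_bot h2
  have hFK : ⁅F, K⁆ ≤ Subgroup.centralizer (K : Set X) := by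
    refine (Subgroup.commutator_le_inf F K).trans fun m hm => Subgroup.mem_centralizer_iff.mpr fun k hk => ?_
    have := Subgroup.mem_center_iff.mp (hMZ (show (⟨m, hm.2⟩ : ↥K) ∈ M from hm)) ⟨k, hk⟩
    exact congrArg Subtype.val this
  have h1 : ⁅⁅F, K⁆, K⁆ = ⊥ := Subgroup.commutator_eq_bot_iff_le_centralizer.mpr hFK
  have h2 : ⁅⁅K, F⁆, K⁆ = ⊥ := by rwa [Subgroup.commutator_comm K F]
  have h3 := Subgroup.commutator_commutator_eq_bot_of_rotate (H₁ := K) (H₂ := K) (H₃ := F) h2 h1
  have hKK : ⁅K, K⁆ = K := by
    have := congrArg (Subgroup.map K.subtype) hperf'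
    rwa [commutator_def, Subgroup.map_commutator, ← MonoidHom.range_eq_map, Subgroup.range_subtype] at this
  rw [hKK, Subgroup.commutator_comm, Subgroup.commutator_eq_bot_iff_le_centralizer] at h3
  refine le_antisymm (Cfsg.Agent.S1325.result K (h3.trans hC) hC) ?_
  exact le_trans (le_sSup (show Cfsg.IsComponent K from ⟨hn.isSubnormal, hq⟩)) le_sup_left

end Cfsg.Agent.Block.FischerTypes
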