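import Cfsg.Agent.Lib.Block.FischerTypes.M24Products
import Cfsg.Agent.Lib.Block.FischerTypes.QuasiNormal
import Cfsg.Agent.Lib.Fus.M22U.Iso
import Cfsg.Agent.Lib.Fus.Fi22Out.Main

/-! The centraliser of a commuting pair in type M(24). -/

set_option autoImplicit false
set_option linter.style.haveILetI false
set_option linter.unusedSectionVars false

namespace Cfsg.Agent.Block.FischerTypes.M24

open Cfsg Cfsg.Agent.Spor.ThreeTrans
open Cfsg.Agent.Block.FischerTypes.M22 (perp_symm commute_self el)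
open scoped commutatorElement

variable {G : Type*} [Group G] [Finite G] {D : Set G} (B : Base D) {d e : G}
include B

theorem mem_pair {g : G} (hgd : Commute g d) (hge : Commute g e) :
    g ∈ Subgroup.centralizer ({d, e} : Set G) := Subgroup.mem_centralizer_iff.mpr (by
  rintro z (rfl | rfl)
  exacts [hgd.symm.eq, hge.symm.eq])

omit B in
theorem pair_commute {g : G} (hg : g ∈ Subgroup.centralizer ({d, e} : Set G)) :
    Commute g d ∧ Commute g e :=
  ⟨(Subgroup.mem_centralizer_iff.mp hg d (by simp)).symm, (Subgroup.mem_centralizer_iff.mp hg e (by simp)).symm⟩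

/-- The centraliser of a commuting pair covers the group two levels down. -/
theorem pair_map (hd : d ∈ D) (he : e ∈ perp D d) :
    ∃ Φ : ↥(Subgroup.centralizer ({d, e} : Set G)) →* PerpQuot (perpSet D d) (pr D d e he),
      Function.Surjective Φ ∧
      ∀ k, Φ k = 1 ↔ (k : G) = 1 ∨ (k : G) = d ∨ (k : G) = e ∨ (k : G) = d * e := by
  have h := B.set.cls
  have KB := B.sub d hd
  have hle : Subgroup.centralizer ({d, e} : Set G) ≤ PerpGroup D d := by
    rw [← centralizer_eq B hd]
    exact Subgroup.centralizer_le (by simp)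
  let π : ↥(Subgroup.centralizer ({d, e} : Set G)) →* PerpQuot D d :=
    (QuotientGroup.mk' _).comp (Subgroup.inclusion hle)
  have hmem : ∀ k, π k ∈ PerpGroup (perpSet D d) (pr D d e he) := fun k => by
    rw [← M23.centralizer_eq KB (pr_mem he), Subgroup.mem_centralizer_singleton_iff]
    have hk : Subgroup.inclusion hle k * el he = el he * Subgroup.inclusion hle k :=
      Subtype.ext (pair_commute k.2).2.eq
    exact congrArg (QuotientGroup.mk' (Subgroup.center ↥(PerpGroup D d))) hk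
  refine ⟨(QuotientGroup.mk' _).comp (π.codRestrict _ hmem), fun y => ?_, fun k => ?_⟩
  · obtain ⟨g, rfl⟩ := QuotientGroup.mk'_surjective _ y
    obtain ⟨k, hk⟩ : ∃ k, π k = (g : PerpQuot D d) := by
      have hq := Subgroup.mem_centralizer_singleton_iff.mp ((M23.centralizer_eq KB (pr_mem he)).ge g.2)
      obtain ⟨u, hu⟩ := QuotientGroup.mk'_surjective _ (g : PerpQuot D d)
      have hud : Commute (u : G) d := commute_self u.2
      have hue : (u : G) * e * (u : G)⁻¹ ∈ perp D d := perp_conj' h hud he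
      have e1 : pr D d _ hue = pr D d e he := by
        show QuotientGroup.mk' _ (u * el he * u⁻¹) = _
        rw [map_mul, map_mul, map_inv, hu]
        exact mul_inv_eq_iff_eq_mul.mpr hq
      have hc : Commute (u : G) e := mul_inv_eq_iff_eq_mul.mp (pr_injective h B.set.tf hd hue he e1)
      exact ⟨⟨u, mem_pair B hud hc⟩, hu⟩
    exact ⟨k, congrArg (QuotientGroup.mk' _) (Subtype.ext hk)⟩
  · have keyd : ∀ g : ↥(Subgroup.centralizer ({d, e} : Set G)), π g = 1 ↔ (g : G) = 1 ∨ (g : G) = d := by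
      intro g
      rw [show π g = 1 ↔ Subgroup.inclusion hle g ∈ Subgroup.center ↥(PerpGroup D d) from
        QuotientGroup.eq_one_iff _, centre B hd, Subgroup.mem_subgroupOf]
      show (g : G) ∈ Subgroup.zpowers d ↔ _
      constructor
      · rintro ⟨n, hn⟩
        have hn' : d ^ n = (g : G) := hn
        rcases Int.even_or_odd' n with ⟨m, rfl | rfl⟩
        · left; rw [← hn', zpow_mul, zpow_ofNat, pow_two, mul_self h.1 hd, one_zpow]
        · right; rw [← hn', zpow_add, zpow_mul, zpow_ofNat, pow_two, mul_self h.1 hd, one_zpow, one_mul, zpow_one]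
      · rintro (k' | k') <;> rw [k']
        exacts [one_mem _, Subgroup.mem_zpowers d]
    rw [MonoidHom.comp_apply, QuotientGroup.mk'_apply, QuotientGroup.eq_one_iff, M23.centre KB (pr_mem he),
      Subgroup.mem_subgroupOf]
    show π k ∈ Subgroup.zpowers (pr D d e he) ↔ _
    have heH : e ∈ Subgroup.centralizer ({d, e} : Set G) := mem_pair B he.2.2.symm (Commute.refl e)
    have hπe : π ⟨e, heH⟩ = pr D d e he := rfl
    constructor
    · rintro ⟨n, hn⟩
      have hn' : pr D d e he ^ n = π k := hn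
      have h1 : π (k * ((⟨e, heH⟩ : ↥(Subgroup.centralizer ({d, e} : Set G))) ^ n)⁻¹) = 1 := by
        rw [map_mul, map_inv, map_zpow, hπe, hn', mul_inv_cancel]
      have h2 : (k : G) * (e ^ n)⁻¹ = 1 ∨ (k : G) * (e ^ n)⁻¹ = d := by
        simpa using (keyd _).mp h1
      have h3 : e ^ n = 1 ∨ e ^ n = e := by
        rcases Int.even_or_odd' n with ⟨m, rfl | rfl⟩
        · left; rw [zpow_mul, zpow_ofNat, pow_two, mul_self h.1 he.1, one_zpow]
        · right; rw [zpow_add, zpow_mul, zpow_ofNat, pow_two, mul_self h.1 he.1, one_zpow, one_mul, zpow_one]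
      rcases h2 with k2 | k2 <;> rw [mul_inv_eq_iff_eq_mul] at k2 <;> rcases h3 with k3 | k3 <;>
        rw [k3] at k2
      · exact Or.inl (by simpa using k2)
      · exact Or.inr (Or.inr (Or.inl (by simpa using k2)))
      · exact Or.inr (Or.inl (by simpa using k2))
      · exact Or.inr (Or.inr (Or.inr k2))
    · have hdH : d ∈ Subgroup.centralizer ({d, e} : Set G) := mem_pair B (Commute.refl d) he.2.2
      have hπd : π ⟨d, hdH⟩ = 1 := (keyd _).mpr (Or.inr rfl)
      rintro (k' | k' | k' | k')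
      · rw [show k = 1 from Subtype.ext k', map_one]; exact one_mem _
      · rw [show k = ⟨d, hdH⟩ from Subtype.ext k', hπd]; exact one_mem _
      · rw [show k = ⟨e, heH⟩ from Subtype.ext k', hπe]; exact Subgroup.mem_zpowers _
      · rw [show k = ⟨d, hdH⟩ * ⟨e, heH⟩ from Subtype.ext k', map_mul, hπd, hπe, one_mul]
        exact Subgroup.mem_zpowers _

/-- The product of a pair is a product of six members of their common perpendicular. -/
theorem pair_six (hd : d ∈ D) (he : e ∈ perp D d) :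
    ∃ m : List G, m.length = 6 ∧ (∀ x ∈ m, x ∈ common D d e) ∧ m.prod = d * e := by
  classical
  have h := B.set.cls
  have hde := perp_symm hd he
  obtain ⟨L, hL, hL1, hLd⟩ := M23.seven (B.sub e he.1) (pr_mem hde)
  obtain ⟨m, hm, hmp, hmψ, hma⟩ :=
    relation_succ B.set he.1 (fun z => centre_perp B he.1) (fun l => no_seven B) hL hL1
  rw [← hmψ, List.mem_map] at hLd
  obtain ⟨u, hu, eu⟩ := hLd
  obtain rfl : u = d := psi_inj B.set he.1 (hmp u hu) hde (eu.trans (psi_eq hde).symm)
  refine ⟨m.erase u, by rw [List.length_erase_of_mem hu, hm.2.1], fun x hx => ?_, ?_⟩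
  · have hx' := List.mem_of_mem_erase hx
    have hne : x ≠ u := fun k => (List.Nodup.not_mem_erase hm.1) (k ▸ hx)
    exact ⟨⟨hm.2.2.1 x hx', hne, hm.2.2.2 u hu x hx'⟩, hmp x hx'⟩
  · have e1 := list_split (u := u) hm.2.2.1 hm.2.2.2 hu
    calc (m.erase u).prod = u * (u * (m.erase u).prod) := (mul_self_mul h.1 hd _).symm
      _ = u * e := by rw [← e1, hma]

omit B in
theorem map_center_equiv {P Q : Type*} [Group P] [Group Q] (ε : P ≃* Q) :
    (Subgroup.center P).map (ε : P →* Q) = Subgroup.center Q := by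
  ext q
  obtain ⟨p, rfl⟩ := ε.surjective q
  rw [show ε p = (ε : P →* Q) p from rfl, Subgroup.map_equiv_eq_comap_symm, Subgroup.mem_comap]
  simp only [MonoidHom.coe_coe, MulEquiv.symm_apply_apply, Subgroup.mem_center_iff]
  exact ⟨fun k q => by
      obtain ⟨r, rfl⟩ := ε.surjective q
      rw [← map_mul, ← map_mul, k r],
    fun k r => ε.injective (by rw [map_mul, map_mul]; exact k (ε r))⟩

/-- The commutator subgroup of the group is the even part. -/
theorem even_part (hne : D.Nonempty) : ∃ χ : G →* ℤˣ, (∀ a ∈ D, χ a = -1) ∧ commutator G = χ.ker := by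
  obtain ⟨χ, hχ⟩ := parity_exists B
  refine ⟨χ, hχ, ?_⟩
  obtain ⟨a, ha⟩ := hne
  have hs : Function.Surjective χ := fun u => by
    rcases Int.units_eq_one_or u with rfl | rfl
    exacts [⟨1, map_one χ⟩, ⟨a, hχ a ha⟩]
  have hk : χ.ker.index = 2 := by
    rw [Subgroup.index_ker, MonoidHom.range_eq_top.mpr hs, Subgroup.card_top, Nat.card_eq_fintype_card,
      Fintype.card_units_int]
  have hle : commutator G ≤ χ.ker := Abelianization.commutator_subset_ker χ
  have hi := Subgroup.relIndex_mul_index hle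
  rw [hk, commutator_index B ⟨a, ha⟩] at hi
  exact le_antisymm hle (Subgroup.relIndex_eq_one.mp (by omega))

set_option maxHeartbeats 1000000 in
/-- The centraliser of the product of a commuting pair in the commutator subgroup. -/
theorem pair_centraliser {L K CL : Subgroup G} (hL : L = commutator G) (hd : d ∈ D) (he : e ∈ perp D d)
    (hK : K = L ⊓ Subgroup.centralizer ({d, e} : Set G))
    (hCL : CL = L ⊓ Subgroup.centralizer ({d * e} : Set G))
    [hn : ((Subgroup.zpowers (d * e)).subgroupOf CL).Normal] :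
    IsQuasisimple ↥K ∧ K = (generalizedFittingSubgroup ↥CL).map CL.subtype ∧ K ≤ CL ∧
      (K.subgroupOf CL).index = 2 ∧ d * e ∈ K ∧
      Nonempty (↥CL ⧸ (Subgroup.zpowers (d * e)).subgroupOf CL ≃* MulAut Spor.Fi22) := by
  classical
  have h := B.set.cls
  have kde : Commute d e := he.2.2
  obtain ⟨χ, hχ, hker⟩ := even_part B ⟨d, hd⟩
  have inL : ∀ g, g ∈ L ↔ χ g = 1 := fun g => by rw [hL, hker, MonoidHom.mem_ker]
  set H := Subgroup.centralizer ({d, e} : Set G) with hHdef
  have inK : ∀ g, g ∈ K ↔ χ g = 1 ∧ g ∈ H := fun g => by rw [hK, Subgroup.mem_inf, inL]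
  have inCL : ∀ g, g ∈ CL ↔ χ g = 1 ∧ Commute g (d * e) := fun g => by
    rw [hCL, Subgroup.mem_inf, inL, Subgroup.mem_centralizer_singleton_iff]; rfl
  have hdH : d ∈ H := mem_pair B (Commute.refl d) kde
  have hjK : d * e ∈ K := (inK _).mpr ⟨by rw [map_mul, hχ d hd, hχ e he.1]; decide,
    mul_mem hdH (mem_pair B kde.symm (Commute.refl e))⟩
  have hKCL : K ≤ CL := fun g hg => by
    obtain ⟨g1, g2⟩ := (inK g).mp hg
    exact (inCL g).mpr ⟨g1, (pair_commute g2).1.mul_right (pair_commute g2).2⟩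
  have fix : ∀ a ∈ H, a ∈ K ∨ a * d ∈ K := fun a ha => by
    rcases Int.units_eq_one_or (χ a) with k | k
    · exact Or.inl ((inK a).mpr ⟨k, ha⟩)
    · exact Or.inr ((inK _).mpr ⟨by rw [map_mul, k, hχ d hd]; decide, mul_mem ha hdH⟩)
  -- the map two levels down
  obtain ⟨Φ, hΦs, hΦ1⟩ := pair_map B hd he
  have C2 := (B.sub d hd).ctx _ (pr_mem he)
  obtain ⟨e2, -⟩ := Fus.M22U.exists_iso C2
  haveI := Spor.Cos.Fi22.isSimple
  haveI := Spor.Cos.Fi22.finite
  have hKH : K ≤ H := fun g hg => ((inK g).mp hg).2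
  let ΦK : ↥K →* PerpQuot (perpSet D d) (pr D d e he) := Φ.comp (Subgroup.inclusion hKH)
  have hΦd : Φ ⟨d, hdH⟩ = 1 := (hΦ1 _).mpr (Or.inr (Or.inl rfl))
  have hKs : Function.Surjective ΦK := fun y => by
    obtain ⟨a, rfl⟩ := hΦs y
    rcases fix a a.2 with k | k
    · exact ⟨⟨a, k⟩, rfl⟩
    · refine ⟨⟨(a : G) * d, k⟩, ?_⟩
      show Φ (a * ⟨d, hdH⟩) = Φ a
      rw [map_mul, hΦd, mul_one]
  have hjne : d * e ≠ 1 := fun k => he.2.1 (by
    rw [eq_inv_of_mul_eq_one_right k, inv_eq h.1 hd])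
  have hKker : ∀ k : ↥K, ΦK k = 1 ↔ (k : G) = 1 ∨ (k : G) = d * e := fun k => by
    refine (hΦ1 _).trans ⟨fun r => ?_, fun r => r.elim Or.inl fun r' => Or.inr (Or.inr (Or.inr r'))⟩
    have hk1 := ((inK _).mp k.2).1
    rcases r with r | r | r | r
    · exact Or.inl r
    · rw [show (k : G) = d from r, hχ d hd] at hk1; exact absurd hk1 (by decide)
    · rw [show (k : G) = e from r, hχ e he.1] at hk1; exact absurd hk1 (by decide)
    · exact Or.inr r
  -- the product is a commutator
  have comm_mem : ∀ a ∈ H, ∀ b ∈ H, a * b * a⁻¹ * b⁻¹ ∈ ⁅K, K⁆ := by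
    have drop : ∀ a ∈ H, ∀ b ∈ H, a * d * b * (a * d)⁻¹ * b⁻¹ = a * b * a⁻¹ * b⁻¹ := fun a ha b hb => by
      have kb := (pair_commute hb).1
      calc a * d * b * (a * d)⁻¹ * b⁻¹ = a * (d * b) * d⁻¹ * a⁻¹ * b⁻¹ := by simp only [mul_inv_rev, mul_assoc]
        _ = a * b * a⁻¹ * b⁻¹ := by rw [← kb.eq]; simp [mul_assoc]
    have drop' : ∀ a ∈ H, ∀ b ∈ H, a * (b * d) * a⁻¹ * (b * d)⁻¹ = a * b * a⁻¹ * b⁻¹ := fun a ha b hb => by
      have ka := (pair_commute ha).1.inv_left
      calc a * (b * d) * a⁻¹ * (b * d)⁻¹ = a * b * (d * a⁻¹) * d⁻¹ * b⁻¹ := by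
            simp only [mul_inv_rev, mul_assoc]
        _ = a * b * a⁻¹ * b⁻¹ := by rw [← ka.eq]; simp [mul_assoc]
    intro a ha b hb
    have mk : ∀ p ∈ K, ∀ q ∈ K, p * q * p⁻¹ * q⁻¹ ∈ ⁅K, K⁆ := fun p hp q hq =>
      Subgroup.commutator_mem_commutator hp hq
    rcases fix a ha with ka | ka <;> rcases fix b hb with kb | kb
    · exact mk a ka b kb
    · rw [← drop' a ha b hb]; exact mk a ka _ kb
    · rw [← drop a ha b hb]; exact mk _ ka b kb
    · rw [← drop a ha b hb, ← drop' _ (mul_mem ha hdH) b hb]; exact mk _ ka _ kb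
  have hjKK : d * e ∈ ⁅K, K⁆ := by
    obtain ⟨m, hm6, hmc, hmp⟩ := pair_six B hd he
    have pairc : ∀ x ∈ common D d e, ∀ y ∈ common D d e, x * y ∈ ⁅K, K⁆ := fun x hx y hy => by
      obtain ⟨k, hk1, hk2, hk3⟩ := lift_conj_fix B hd he hx.1 hy.1 hx.2 hy.2
      have := comm_mem x (mem_pair B hx.1.2.2.symm hx.2.2.2.symm) k
        (mem_pair B (commute_self hk1) (commute_self hk2))
      have e1 : x * k * x⁻¹ * k⁻¹ = x * y := by rw [← hk3, inv_eq h.1 hx.1.1]; simp only [mul_assoc]
      rwa [e1] at this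
    match m, hm6 with
    | [a, b, c, f, g, i], _ =>
      rw [← hmp]
      simp only [List.prod_cons, List.prod_nil, mul_one]
      rw [← mul_assoc a b, ← mul_assoc c f]
      exact mul_mem (pairc a (hmc a (by simp)) b (hmc b (by simp))) (mul_mem (pairc c (hmc c (by simp)) f
        (hmc f (by simp))) (pairc g (hmc g (by simp)) i (hmc i (by simp))))
  haveI hQs : IsSimpleGroup (PerpQuot (perpSet D d) (pr D d e he)) :=
    (MulEquiv.isSimpleGroup_congr e2).mp inferInstance
  have hQnc : ∀ z, (∀ y : PerpQuot (perpSet D d) (pr D d e he), z * y = y * z) → z = 1 := fun z hz => by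
    have := Fus.Fi22Out.center_trivial (e2.symm z) fun y => by
      have := congrArg e2.symm (hz (e2 y))
      simpa using this
    simpa using congrArg e2 this
  have hperf : commutator ↥K = ⊤ := by
    rw [eq_top_iff]
    intro k _
    have hQp : commutator (PerpQuot (perpSet D d) (pr D d e he)) = ⊤ := by
      refine ((inferInstance : (commutator (PerpQuot (perpSet D d) (pr D d e he))).Normal).eq_bot_or_eq_top).resolve_left
        fun k' => ?_
      obtain ⟨z, hz⟩ := exists_ne (1 : PerpQuot (perpSet D d) (pr D d e he))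
      refine hz (hQnc z fun y => ?_)
      have hc : ⁅z, y⁆ ∈ commutator (PerpQuot (perpSet D d) (pr D d e he)) :=
        Subgroup.commutator_mem_commutator (Subgroup.mem_top _) (Subgroup.mem_top _)
      rw [k', Subgroup.mem_bot] at hc
      exact commutatorElement_eq_one_iff_mul_comm.mp hc
    have hmap : (commutator ↥K).map ΦK = ⊤ := by
      rw [commutator_def, Subgroup.map_commutator, ← MonoidHom.range_eq_map,
        MonoidHom.range_eq_top.mpr hKs, ← commutator_def, hQp]
    obtain ⟨c, hc, ec⟩ := (show ΦK k ∈ (commutator ↥K).map ΦK by rw [hmap]; trivial)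
    rcases (hKker (k * c⁻¹)).mp (by rw [map_mul, map_inv, ec, mul_inv_cancel]) with r | r
    · rw [show k = c from mul_inv_eq_one.mp (Subtype.ext r)]; exact hc
    · have hm : (⁅K, K⁆ : Subgroup G) = (commutator ↥K).map K.subtype := by
        rw [commutator_def, Subgroup.map_commutator, ← MonoidHom.range_eq_map, Subgroup.range_subtype]
      obtain ⟨j', hj', ej⟩ := (show d * e ∈ (commutator ↥K).map K.subtype from hm ▸ hjKK)
      rw [show k = j' * c from mul_inv_eq_iff_eq_mul.mp (Subtype.ext (r.trans ej.symm))]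
      exact mul_mem hj' hc
  have hcen : ΦK.ker = Subgroup.center ↥K := by
    refine le_antisymm (fun z hz => Subgroup.mem_center_iff.mpr fun g => Subtype.ext ?_) fun z hz => ?_
    · rcases (hKker z).mp hz with r | r <;> simp only [Subgroup.coe_mul, r]
      · rw [mul_one, one_mul]
      · exact ((pair_commute (hKH g.2)).1.mul_right (pair_commute (hKH g.2)).2).eq
    · refine hQnc _ fun y => ?_
      obtain ⟨a, rfl⟩ := hKs y
      rw [← map_mul, ← map_mul, Subgroup.mem_center_iff.mp hz a]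
  have hquasi : IsQuasisimple ↥K := ⟨Group.isPerfect_def.mpr hperf,
    (MulEquiv.isSimpleGroup_congr ((QuotientGroup.quotientMulEquivOfEq hcen.symm).trans
      (QuotientGroup.quotientKerEquivOfSurjective ΦK hKs))).mpr hQs⟩
  -- the elements interchanging the pair
  have mv : ∀ c, Commute c (d * e) →
      (c * d * c⁻¹ = d ∧ c * e * c⁻¹ = e) ∨ (c * d * c⁻¹ = e ∧ c * e * c⁻¹ = d) := by
    intro c hc
    have f0 : Fact' D 2 (d * e) [d, e] := ⟨by simp [Ne.symm he.2.1], rfl, by simp [hd, he.1],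
      by simp [kde, kde.symm], by simp⟩
    have hce : c * (d * e) * c⁻¹ = d * e := conj_self_eq hc
    have f1 : Fact' D 2 (d * e) [c * d * c⁻¹, c * e * c⁻¹] := by
      refine ⟨by simp [Ne.symm he.2.1], rfl, by simp [conj_mem h c hd, conj_mem h c he.1], ?_, by
        simpa [mul_assoc] using hce⟩
      have k := (commute_conj_iff c d e).mpr kde
      simp only [List.mem_cons, List.not_mem_nil, or_false]
      rintro x (rfl | rfl) y (rfl | rfl)
      exacts [.refl _, k, k.symm, .refl _]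
    have hu := pair_unique h B.set.tf f1 f0
    have h1 := (hu (c * d * c⁻¹)).mp (by simp)
    have h2 := (hu (c * e * c⁻¹)).mp (by simp)
    have hne : c * d * c⁻¹ ≠ c * e * c⁻¹ := by simp [Ne.symm he.2.1]
    simp only [List.mem_cons, List.not_mem_nil, or_false] at h1 h2
    rcases h1 with k1 | k1 <;> rcases h2 with k2 | k2
    · exact absurd (k1.trans k2.symm) hne
    · exact Or.inl ⟨k1, k2⟩
    · exact Or.inr ⟨k1, k2⟩
    · exact absurd (k1.trans k2.symm) hne
  have inH : ∀ {c : G}, c * d * c⁻¹ = d → c * e * c⁻¹ = e → c ∈ H := fun {c} k1 k2 =>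
    mem_pair B (mul_inv_eq_iff_eq_mul.mp k1) (mul_inv_eq_iff_eq_mul.mp k2)
  obtain ⟨s, hsCL, hs1, hs2⟩ : ∃ s ∈ CL, s * d * s⁻¹ = e ∧ s * e * s⁻¹ = d := by
    obtain ⟨s, hs1, hs2⟩ := pair_conj B.set hd he he.1 (b' := d) ⟨hd, Ne.symm he.2.1, kde.symm⟩
    have hsj : Commute s (d * e) := mul_inv_eq_iff_eq_mul.mp (by
      rw [show s * (d * e) * s⁻¹ = (s * d * s⁻¹) * (s * e * s⁻¹) by simp [mul_assoc], hs1, hs2, kde.eq])
    rcases Int.units_eq_one_or (χ s) with k | k
    · exact ⟨s, (inCL s).mpr ⟨k, hsj⟩, hs1, hs2⟩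
    · refine ⟨s * d, (inCL _).mpr ⟨by rw [map_mul, k, hχ d hd]; decide,
        hsj.mul_left ((Commute.refl d).mul_right kde)⟩, ?_, ?_⟩
      · rw [← hs1]; simp [mul_assoc]
      · have e1 : d * e * d⁻¹ = e := conj_self_eq kde
        calc s * d * e * (s * d)⁻¹ = s * (d * e * d⁻¹) * s⁻¹ := by simp only [mul_inv_rev, mul_assoc]
          _ = d := by rw [e1, hs2]
  have hidx : (K.subgroupOf CL).index = 2 := by
    rw [Subgroup.index_eq_two_iff_exists_notMem_and]
    refine ⟨⟨s, hsCL⟩, fun k => he.2.1 ?_, fun b => ?_⟩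
    · rw [← hs1]; exact conj_self_eq (pair_commute ((inK s).mp k).2).1
    · obtain ⟨b1, b2⟩ := (inCL _).mp b.2
      obtain ⟨s1, -⟩ := (inCL _).mp hsCL
      rcases mv b b2 with ⟨k1, k2⟩ | ⟨k1, k2⟩
      · exact Or.inr ((inK _).mpr ⟨b1, inH k1 k2⟩)
      · refine Or.inl ((inK _).mpr ⟨(show χ ((b : G) * s) = 1 by rw [map_mul, b1, s1, mul_one]), inH ?_ ?_⟩)
        · show (b : G) * s * d * ((b : G) * s)⁻¹ = d
          rw [show (b : G) * s * d * ((b : G) * s)⁻¹ = b * (s * d * s⁻¹) * (b : G)⁻¹ by simp [mul_assoc], hs1, k2]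
        · show (b : G) * s * e * ((b : G) * s)⁻¹ = e
          rw [show (b : G) * s * e * ((b : G) * s)⁻¹ = b * (s * e * s⁻¹) * (b : G)⁻¹ by simp [mul_assoc], hs2, k1]
  haveI hKn : (K.subgroupOf CL).Normal := Subgroup.normal_of_index_eq_two hidx
  -- nothing outside centralises
  have hcentr : ∀ c ∈ CL, (∀ k ∈ K, Commute c k) → c ∈ K := by
    intro c hc hk
    obtain ⟨c1, c2⟩ := (inCL c).mp hc
    rcases mv c c2 with ⟨k1, k2⟩ | ⟨k1, k2⟩
    · exact (inK c).mpr ⟨c1, inH k1 k2⟩
    exfalso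
    obtain ⟨x, hx⟩ := common_ne B hd he.1 (Ne.symm he.2.1)
    have hxd : x * d ∈ K := (inK _).mpr ⟨by rw [map_mul, hχ x hx.1.1, hχ d hd]; decide,
      mul_mem (mem_pair B hx.1.2.2.symm hx.2.2.2.symm) hdH⟩
    have e1 : c * (x * d) * c⁻¹ = x * d := conj_self_eq (hk _ hxd)
    have e2' : c * x * c⁻¹ = x * d * e := by
      calc c * x * c⁻¹ = c * (x * d) * c⁻¹ * (c * d * c⁻¹)⁻¹ := by simp [mul_assoc]
        _ = x * d * e := by rw [e1, k1, inv_eq h.1 he.1]
    refine three_ne_member B (conj_mem h c hx.1.1) (l := [x, d, e]) ?_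
      (by simp [e2', mul_assoc])
    refine CList.cons (CList.cons (CList.cons (k := 0) ⟨List.nodup_nil, rfl, by simp, by simp⟩ he.1 (by simp))
      hd ?_) hx.1.1 ?_
    · simp only [List.mem_cons, List.not_mem_nil, or_false]; rintro y rfl; exact he
    · simp only [List.mem_cons, List.not_mem_nil, or_false]
      rintro y (rfl | rfl)
      exacts [perp_symm hd hx.1, perp_symm he.1 hx.2]
  have hq' : IsQuasisimple ↥(K.subgroupOf CL) := by
    obtain ⟨p1, p2⟩ := hquasi
    let ε := Subgroup.subgroupOfEquivOfLe hKCL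
    haveI := p1
    refine ⟨?_, ?_⟩
    · exact Group.IsPerfect.ofSurjective (f := ε.symm.toMonoidHom) ε.symm.surjective
    · refine (MulEquiv.isSimpleGroup_congr (QuotientGroup.congr _ _ ε ?_)).mpr p2
      exact map_center_equiv ε
  have hgf := gfitting_eq_of_quasisimple (K.subgroupOf CL) hq' fun c hc =>
    Subgroup.mem_subgroupOf.mpr (hcentr c c.2 fun k hk =>
      (congrArg Subtype.val (Subgroup.mem_centralizer_iff.mp hc ⟨k, hKCL hk⟩ hk)).symm)
  refine ⟨hquasi, by rw [hgf, Subgroup.map_subgroupOf_eq_of_le hKCL], hKCL, hidx, hjK, ?_⟩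
  -- the automorphism group
  set J := (Subgroup.zpowers (d * e)).subgroupOf CL
  set mkJ := QuotientGroup.mk' J
  set N := (K.subgroupOf CL).map mkJ with hNdef
  haveI hNn : N.Normal := hKn.map mkJ (QuotientGroup.mk'_surjective _)
  have hJ : ∀ g : ↥CL, g ∈ J ↔ (g : G) = 1 ∨ (g : G) = d * e := fun g => by
    have hj2 : (d * e) * (d * e) = 1 := by rw [← pow_two]; exact sq_of_commute h hd he.1 kde
    rw [Subgroup.mem_subgroupOf]
    constructor
    · rintro ⟨n, hn⟩
      have hn' : (d * e) ^ n = (g : G) := hn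
      rcases Int.even_or_odd' n with ⟨m, rfl | rfl⟩
      · left; rw [← hn', zpow_mul, zpow_ofNat, pow_two, hj2, one_zpow]
      · right; rw [← hn', zpow_add, zpow_mul, zpow_ofNat, pow_two, hj2, one_zpow, one_mul, zpow_one]
    · rintro (k | k) <;> rw [k]
      exacts [one_mem _, Subgroup.mem_zpowers _]
  have hJK : J ≤ K.subgroupOf CL := fun g hg => Subgroup.mem_subgroupOf.mpr (by
    rcases (hJ g).mp hg with k | k <;> rw [k]
    exacts [one_mem _, hjK])
  have hNidx : N.index = 2 := by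
    rw [hNdef, Subgroup.index_map_eq _ (QuotientGroup.mk'_surjective _) (by rw [QuotientGroup.ker_mk']; exact hJK),
      hidx]
  let ψ : ↥K →* (↥CL ⧸ J) := mkJ.comp (Subgroup.inclusion hKCL)
  have hψr : ψ.range = N := by
    ext y
    constructor
    · rintro ⟨k, rfl⟩; exact ⟨_, k.2, rfl⟩
    · rintro ⟨g, hg, rfl⟩; exact ⟨⟨g, hg⟩, rfl⟩
  have hψk : ψ.ker = ΦK.ker := by
    ext k
    rw [MonoidHom.mem_ker, MonoidHom.mem_ker, hKker]
    exact (QuotientGroup.eq_one_iff _).trans (hJ _)
  let eN : Spor.Fi22 ≃* ↥N := e2.trans ((QuotientGroup.quotientKerEquivOfSurjective ΦK hKs).symm.trans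
    ((QuotientGroup.quotientMulEquivOfEq hψk.symm).trans
      ((QuotientGroup.quotientKerEquivRange ψ).trans (MulEquiv.subgroupCongr hψr))))
  have hCN : Subgroup.centralizer (N : Set (↥CL ⧸ J)) = ⊥ := by
    rw [eq_bot_iff]
    intro y hy
    obtain ⟨c, rfl⟩ := QuotientGroup.mk'_surjective J y
    have hcases : ∀ k : ↥K, (c : G) * k * (c : G)⁻¹ * (k : G)⁻¹ = 1 ∨
        (c : G) * k * (c : G)⁻¹ * (k : G)⁻¹ = d * e := fun k => by
      have hc := Subgroup.mem_centralizer_iff.mp hy (ψ k) (hψr ▸ ⟨k, rfl⟩)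
      have e1 : mkJ (c * Subgroup.inclusion hKCL k * c⁻¹ * (Subgroup.inclusion hKCL k)⁻¹) = 1 := by
        rw [map_mul, map_mul, map_mul, map_inv, map_inv]
        show mkJ c * ψ k * (mkJ c)⁻¹ * (ψ k)⁻¹ = 1
        rw [show mkJ c * ψ k = ψ k * mkJ c from hc.symm]
        group
      exact (hJ _).mp ((QuotientGroup.eq_one_iff _).mp e1)
    have hcm : ∀ k : ↥K, ∀ g : G, g ∈ K → Commute g ((c : G) * k * (c : G)⁻¹ * (k : G)⁻¹) := fun k g hg => by
      rcases hcases k with r | r <;> rw [r]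
      exacts [Commute.one_right g, (pair_commute (hKH hg)).1.mul_right (pair_commute (hKH hg)).2]
    let gh : ↥K →* ↥K :=
      { toFun := fun k => ⟨(c : G) * k * (c : G)⁻¹ * (k : G)⁻¹, by
          rcases hcases k with r | r <;> rw [r]
          exacts [one_mem _, hjK]⟩
        map_one' := Subtype.ext (by simp)
        map_mul' := fun a b => Subtype.ext (by
          show (c : G) * ((a : G) * b) * (c : G)⁻¹ * ((a : G) * b)⁻¹ =
            (c : G) * a * (c : G)⁻¹ * (a : G)⁻¹ * ((c : G) * b * (c : G)⁻¹ * (b : G)⁻¹)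
          calc (c : G) * ((a : G) * b) * (c : G)⁻¹ * ((a : G) * b)⁻¹
              = c * a * (c : G)⁻¹ * (((c : G) * b * (c : G)⁻¹ * (b : G)⁻¹) * (a : G)⁻¹) := by group
            _ = _ := by rw [← (hcm b _ (inv_mem a.2)).eq, ← mul_assoc]) }
    have hgker : commutator ↥K ≤ gh.ker := by
      rw [commutator_def, Subgroup.commutator_le]
      intro a _ b _
      rw [MonoidHom.mem_ker, map_commutatorElement, commutatorElement_eq_one_iff_commute]
      exact Subtype.ext (hcm b _ (gh a).2).eq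
    have hck : ∀ k ∈ K, Commute (c : G) k := fun k hk => by
      have := congrArg Subtype.val ((hgker (hperf ▸ Subgroup.mem_top (⟨k, hk⟩ : ↥K))) : gh ⟨k, hk⟩ = 1)
      exact mul_inv_eq_iff_eq_mul.mp (mul_inv_eq_one.mp this)
    have hcK := hcentr c c.2 hck
    have hz : (⟨c, hcK⟩ : ↥K) ∈ ΦK.ker := hcen.symm ▸ Subgroup.mem_center_iff.mpr fun g =>
      Subtype.ext (hck g g.2).eq.symm
    rw [Subgroup.mem_bot]
    exact (QuotientGroup.eq_one_iff _).mpr ((hJ c).mpr ((hKker _).mp hz))
  let α : (↥CL ⧸ J) →* MulAut ↥N := MulAut.conjNormal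
  have hα : Function.Injective α := by
    rw [← MonoidHom.ker_eq_bot_iff, eq_bot_iff, ← hCN]
    intro y hy
    refine Subgroup.mem_centralizer_iff.mpr fun g hg => ?_
    have := congrArg (fun f : MulAut ↥N => ((f ⟨g, hg⟩ : ↥N) : ↥CL ⧸ J)) (MonoidHom.mem_ker.mp hy)
    simp only [α, MulAut.one_apply, MulAut.conjNormal_apply] at this
    exact (mul_inv_eq_iff_eq_mul.mp this).symm
  have hInn : Nat.card (Inn Spor.Fi22) = Nat.card Spor.Fi22 := by
    refine (Nat.card_congr (MonoidHom.ofInjective (f := MulAut.conj) ?_).toEquiv).symm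
    intro a b hab
    refine inv_mul_eq_one.mp (Fus.Fi22Out.center_trivial _ fun z => ?_)
    have := DFunLike.congr_fun hab z
    simp only [MulAut.conj_apply] at this
    have h' := congrArg (fun t => a⁻¹ * t * b) this
    simpa [mul_assoc] using h'.symm
  have hA : Nat.card (MulAut ↥N) = 2 * Nat.card ↥N := by
    rw [← Nat.card_congr (MulAut.congr eN).toEquiv, ← Nat.card_congr eN.toEquiv,
      Subgroup.card_eq_card_quotient_mul_card_subgroup (Inn Spor.Fi22), hInn]
    congr 1
    exact Fus.Fi22Out.card_out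
  have hcardQ : Nat.card (↥CL ⧸ J) = Nat.card (MulAut ↥N) := by
    rw [hA, ← N.index_mul_card, hNidx]
  have hb : Function.Bijective α := by
    haveI : Finite (MulAut ↥N) := Finite.of_injective (fun f : MulAut ↥N => (f : ↥N → ↥N)) DFunLike.coe_injective
    exact hα.bijective_of_nat_card_le hcardQ.ge
  exact ⟨(MulEquiv.ofBijective α hb).trans (MulAut.congr eN).symm⟩

end Cfsg.Agent.Block.FischerTypes.M24
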