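import Cfsg.Agent.Lib.Block.FischerTypes.M24Centralizer
import Cfsg.Agent.Lib.Spor.USixTwo.TailTop
import Mathlib.GroupTheory.Transfer

/-! A sign on the perpendicular group of a transposition in type M(24). -/

set_option autoImplicit false
set_option linter.style.haveILetI false
set_option linter.unusedSectionVars false

namespace Cfsg.Agent.Block.FischerTypes

open Cfsg Cfsg.Agent.Spor.ThreeTrans
open Cfsg.Agent.Block.FischerTypes.M22 (perp_symm commute_self el)

variable {G : Type*} [Group G] [Finite G] {D : Set G}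

/-- A hom from a generated group lands where the generators land. -/
theorem closure_map_mem {K : Type*} [Group K] {S : Set G} (f : ↥(Subgroup.closure S) →* K)
    (H : Subgroup K) (hS : ∀ u (hu : u ∈ S), f ⟨u, Subgroup.subset_closure hu⟩ ∈ H)
    (z : ↥(Subgroup.closure S)) : f z ∈ H := by
  obtain ⟨z, hz⟩ := z
  induction hz using Subgroup.closure_induction with
  | mem u hu => exact hS u hu
  | one => rw [show (⟨1, one_mem _⟩ : ↥(Subgroup.closure S)) = 1 from rfl, map_one]; exact one_mem _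
  | mul u v hu hv iu iv =>
    rw [show (⟨u * v, mul_mem hu hv⟩ : ↥(Subgroup.closure S)) = ⟨u, hu⟩ * ⟨v, hv⟩ from rfl, map_mul]
    exact mul_mem iu iv
  | inv u hu iu =>
    rw [show (⟨u⁻¹, inv_mem hu⟩ : ↥(Subgroup.closure S)) = ⟨u, hu⟩⁻¹ from rfl, map_inv]
    exact inv_mem iu

theorem psi_inj (S : Setting D) {a u v : G} (ha : a ∈ D) (hu : u ∈ perp D a) (hv : v ∈ perp D a)
    (e : psi D a u = psi D a v) : u = v := by
  rw [psi_eq hu, psi_eq hv] at e
  exact pr_injective S.cls S.tf ha hu hv e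

theorem CList.tail {k : ℕ} {x : G} {l : List G} (h : CList D (k + 1) (x :: l)) : CList D k l :=
  ⟨(List.nodup_cons.mp h.1).2, by simpa using h.2.1, fun y hy => h.2.2.1 y (List.mem_cons_of_mem _ hy),
    fun y hy z hz => h.2.2.2 y (List.mem_cons_of_mem _ hy) z (List.mem_cons_of_mem _ hz)⟩

theorem CList.head {k : ℕ} {x : G} {l : List G} (h : CList D (k + 1) (x :: l)) {y : G} (hy : y ∈ l) :
    y ∈ perp D x :=
  ⟨h.2.2.1 y (List.mem_cons_of_mem _ hy), fun e => (List.nodup_cons.mp h.1).1 (e ▸ hy),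
    h.2.2.2 x List.mem_cons_self y (List.mem_cons_of_mem _ hy)⟩

theorem CList.cons {k : ℕ} {x : G} {l : List G} (h : CList D k l) (hx : x ∈ D)
    (hl : ∀ y ∈ l, y ∈ perp D x) : CList D (k + 1) (x :: l) := by
  refine ⟨List.nodup_cons.mpr ⟨fun k => (hl x k).2.1 rfl, h.1⟩, by simp [h.2.1], ?_, ?_⟩
  · simp only [List.mem_cons]
    rintro y (rfl | hy)
    exacts [hx, h.2.2.1 y hy]
  · simp only [List.mem_cons]
    rintro y (rfl | hy) z (rfl | hz)
    exacts [Commute.refl _, (hl z hz).2.2, (hl y hy).2.2.symm, h.2.2.2 y hy z hz]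

namespace M22

/-- A hexad inside the perpendicular of a member. -/
theorem hexad_off (C : Ctx D) {b₀ : G} (hb₀ : b₀ ∈ D) :
    ∃ L : List G, CList D 6 L ∧ L.prod = 1 ∧ ∀ x ∈ L, x ∈ perp D b₀ := by
  classical
  have hN := numbered_ctx C
  have hbdd : BddAbove {n : ℕ | ∃ E : Set G, E ⊆ D ∧ E.Finite ∧ (∀ a ∈ E, ∀ b ∈ E, Commute a b) ∧ E.ncard = n} :=
    ⟨D.ncard, by rintro n ⟨E, hE, -, -, rfl⟩; exact Set.ncard_le_ncard hE⟩
  obtain ⟨E, hE, -, hEc, hEn⟩ := Nat.sSup_mem (s := {n : ℕ | ∃ E : Set G, E ⊆ D ∧ E.Finite ∧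
      (∀ a ∈ E, ∀ b ∈ E, Commute a b) ∧ E.ncard = n}) ⟨0, ∅, by simp, Set.finite_empty, by simp, by simp⟩ hbdd
  have h22 : E.ncard = 22 := hEn.trans (width C hN)
  obtain ⟨u, hu⟩ : E.Nonempty := Set.nonempty_of_ncard_ne_zero (by omega)
  obtain ⟨p, hp, hpu⟩ := Set.exists_ne_of_one_lt_ncard (by omega : 1 < E.ncard) u
  obtain ⟨b, hb, hb'⟩ : ∃ b ∈ E, b ∉ ({u, p} : Set G) := Set.exists_mem_notMem_of_ncard_lt_ncard (by
    have := Set.ncard_insert_le u ({p} : Set G)
    rw [Set.ncard_singleton] at this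
    omega) (Set.toFinite _)
  simp only [Set.mem_insert_iff, Set.mem_singleton_iff, not_or] at hb'
  have hpu' : p ∈ perp D u := ⟨hE hp, hpu, hEc u hu p hp⟩
  have hbc : b ∈ common D u p := ⟨⟨hE hb, hb'.1, hEc u hu b hb⟩, ⟨hE hb, hb'.2, hEc p hp b hb⟩⟩
  obtain ⟨lb, hlb, -, hlb'⟩ := hexad_list C (hE hu) hpu' hbc
  have hlen : lb.length = 4 := by simpa using hlb.2.1
  obtain ⟨c, hc, hc'⟩ : ∃ c ∈ E, c ∉ (insert u (insert p {x | x ∈ lb}) : Set G) :=
    Set.exists_mem_notMem_of_ncard_lt_ncard (by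
      have h1 := Set.ncard_insert_le u (insert p {x | x ∈ lb})
      have h2 := Set.ncard_insert_le p {x | x ∈ lb}
      have h3 : ({x | x ∈ lb} : Set G).ncard ≤ 4 := by
        rw [show ({x | x ∈ lb} : Set G) = (lb.toFinset : Set G) by ext x; simp, Set.ncard_coe_finset, ← hlen]
        exact lb.toFinset_card_le
      omega) (Set.toFinite _)
  simp only [Set.mem_insert_iff, Set.mem_setOf_eq, not_or] at hc'
  have hcc : c ∈ common D u p := ⟨⟨hE hc, hc'.1, hEc u hu c hc⟩, ⟨hE hc, hc'.2.1, hEc p hp c hc⟩⟩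
  obtain ⟨lc, hlc, hlp, hlc'⟩ := hexad_list C (hE hu) hpu' hcc
  have hall : ∀ x ∈ u :: p :: lc, x ∈ perp D b := by
    simp only [List.mem_cons]
    rintro x (rfl | rfl | hx)
    · exact perp_symm (hE hu) hbc.1
    · exact perp_symm (hE hp) hbc.2
    · obtain ⟨hx1, htw⟩ := (hlc' x).mp hx
      refine ⟨hx1.1.1, fun e => hc'.2.2 ((hlb' c).mpr ⟨hcc, fun y hy => ?_⟩), (htw b hbc).mp (hEc b hb c hc)⟩
      rw [e] at htw
      exact (htw y hy).symm
  obtain ⟨g, hg⟩ := transitive C.set.cls (hE hb) hb₀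
  refine ⟨(u :: p :: lc).map (MulAut.conj g), ⟨hlc.1.map (MulAut.conj g).injective, by simpa using hlc.2.1,
    ?_, ?_⟩, by rw [← map_list_prod, hlp, map_one], ?_⟩
  · intro x hx
    obtain ⟨y, hy, rfl⟩ := List.mem_map.mp hx
    exact conj_mem C.set.cls g (hlc.2.2.1 y hy)
  · intro x hx y hy
    obtain ⟨x', hx', rfl⟩ := List.mem_map.mp hx
    obtain ⟨y', hy', rfl⟩ := List.mem_map.mp hy
    exact (hlc.2.2.2 x' hx' y' hy').map (MulAut.conj g)
  · intro x hx
    obtain ⟨y, hy, rfl⟩ := List.mem_map.mp hx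
    rw [← hg]
    exact (conj_mem_perp C.set.cls g b).mpr (hall y hy)

end M22

namespace M24

variable (B : Base D)
include B

/-- Members commuting with a triangle. -/
abbrev tri3 (D : Set G) (d b e : G) : Set G := common D d b ∩ perp D e

/-- The group of a triangle. -/
abbrev X3 (D : Set G) (d b e : G) : Subgroup G := Subgroup.closure (tri3 D d b e)

omit B in
theorem tri3_swap (d b e : G) : tri3 D b d e = tri3 D d b e := by
  simp only [tri3, common, Set.inter_comm (perp D b) (perp D d)]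

omit B in
theorem tri3_rot (d b e : G) : tri3 D d e b = tri3 D d b e := by
  simp only [tri3, common, Set.inter_assoc, Set.inter_comm (perp D e) (perp D b)]

/-- An odd product. -/
theorem odd_rel {d b e : G} (hd : d ∈ D) (hb : b ∈ perp D d) (he : e ∈ common D d b) :
    ∃ m : List G, m.length = 5 ∧ (∀ x ∈ m, x ∈ tri3 D d b e) ∧ m.prod = d * b * e := by
  have h := B.set.cls
  have KB := B.sub d hd
  have hbK : pr D d b hb ∈ perpSet D d := pr_mem hb
  have heK := (toK B hd hb he.1).mpr he.2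
  have C := KB.ctx _ hbK
  obtain ⟨p, hp⟩ := C.set.perp_ne _ (pr_mem heK)
  obtain ⟨c, hc⟩ := M22.common_nonempty C (pr_mem heK) hp
  obtain ⟨l, hL, hp1, -⟩ := M22.hexad_list C (pr_mem heK) hp hc
  obtain ⟨m, hm, hmp, hmψ, hmprod⟩ := relation_succ KB.set hbK
    (fun z => M23.centre_perp KB hbK) (fun l => M23.no_six KB) hL hp1
  have hL7 := CList.cons hm hbK hmp
  have h71 : (pr D d b hb :: m).prod = 1 := by
    rw [List.prod_cons, hmprod, mul_self KB.set.cls.1 hbK]
  obtain ⟨n, hn, hnp, hnψ, hnprod⟩ := relation_succ B.set hd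
    (fun z => centre_perp B hd) (fun l => no_seven B) hL7 h71
  obtain ⟨b', n', rfl, hb', hn'⟩ := List.map_eq_cons_iff.mp hnψ
  obtain ⟨e', m', rfl, he', hm'⟩ := List.map_eq_cons_iff.mp hmψ
  obtain ⟨e'', n'', rfl, he'', hn''⟩ := List.map_eq_cons_iff.mp hn'
  have eb : b' = b := psi_inj B.set hd (hnp b' List.mem_cons_self) hb (by rw [hb', psi_eq hb])
  subst eb
  have ee : e' = pr D d e he.1 := psi_inj KB.set hbK (hmp e' List.mem_cons_self) heK (by rw [he', psi_eq heK])
  subst ee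
  have ee' : e'' = e := psi_inj B.set hd (hnp e'' (List.mem_cons_of_mem _ List.mem_cons_self)) he.1
    (by rw [he'', psi_eq he.1])
  subst ee'
  refine ⟨n'', by simpa using hn.2.1, fun x hx => ?_, ?_⟩
  · exact ⟨⟨hnp x (List.mem_cons_of_mem _ (List.mem_cons_of_mem _ hx)), hn.head (List.mem_cons_of_mem _ hx)⟩,
      (CList.tail hn).head hx⟩
  · rw [List.prod_cons, List.prod_cons] at hnprod
    rw [← hnprod]
    have k1 : e'' * b' = b' * e'' := he.2.2.2.symm.eq
    have hc : Commute (b' * e'') n''.prod := Commute.list_prod_right n'' _ fun z hz =>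
      (hn.head (List.mem_cons_of_mem _ hz)).2.2.mul_left ((CList.tail hn).head hz).2.2
    have hsq : b' * e'' * (b' * e'') = 1 := by
      rw [mul_assoc b', ← mul_assoc e'', k1, mul_assoc b' e'' e'', mul_self h.1 he.1.1, mul_one,
        mul_self h.1 hb.1]
    calc n''.prod = n''.prod * (b' * e'' * (b' * e'')) := by rw [hsq, mul_one]
      _ = b' * (e'' * n''.prod) * b' * e'' := by
          rw [← mul_assoc b' e'' n''.prod, hc.eq]
          simp only [mul_assoc]

/-- An even product. -/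
theorem even_rel {d b e : G} (hd : d ∈ D) (hb : b ∈ perp D d) (he : e ∈ common D d b) :
    ∃ m : List G, m.length = 6 ∧ (∀ x ∈ m, x ∈ tri3 D d b e) ∧ m.prod = e * d := by
  have h := B.set.cls
  have KB := B.sub d hd
  have hbK : pr D d b hb ∈ perpSet D d := pr_mem hb
  have heK : pr D d e he.1 ∈ perpSet D d := pr_mem he.1
  have hbe := (toK B hd he.1 hb).mpr (perp_symm hb.1 he.2)
  have C := KB.ctx _ heK
  obtain ⟨L, hL, hp1, hLb⟩ := M22.hexad_off C (pr_mem hbe)
  obtain ⟨m, hm, hmp, hmψ, hmprod⟩ := relation_succ KB.set heK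
    (fun z => M23.centre_perp KB heK) (fun l => M23.no_six KB) hL hp1
  have hL7 := CList.cons hm heK hmp
  have h71 : (pr D d e he.1 :: m).prod = 1 := by
    rw [List.prod_cons, hmprod, mul_self KB.set.cls.1 heK]
  obtain ⟨n, hn, hnp, hnψ, hnprod⟩ := relation_succ B.set hd
    (fun z => centre_perp B hd) (fun l => no_seven B) hL7 h71
  obtain ⟨e', n', rfl, he', hn'⟩ := List.map_eq_cons_iff.mp hnψ
  have ee : e' = e := psi_inj B.set hd (hnp e' List.mem_cons_self) he.1 (by rw [he', psi_eq he.1])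
  subst ee
  refine ⟨n', by simpa using hn.2.1, fun x hx => ⟨⟨hnp x (List.mem_cons_of_mem _ hx), ?_⟩, hn.head hx⟩, ?_⟩
  · have hxd := hnp x (List.mem_cons_of_mem _ hx)
    have hxm : pr D d x hxd ∈ m := by
      rw [← hn', ← psi_eq hxd]; exact List.mem_map_of_mem hx
    have hxe := hmp _ hxm
    have hq : pr (perpSet D d) _ (pr D d x hxd) hxe ∈ L := by
      rw [← hmψ, ← psi_eq hxe]; exact List.mem_map_of_mem hxm
    have h1 := hLb _ hq
    refine (toK B hd hb hxd).mp ⟨pr_mem hxd, fun k => h1.2.1 ?_,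
      commute_of_pr KB.set.cls KB.set.tf heK hbe hxe h1.2.2⟩
    congr 2
  · rw [List.prod_cons] at hnprod
    rw [← hnprod, mul_self_mul h.1 he.1.1]

theorem gens_mem {d b e : G} (hd : d ∈ D) (hb : b ∈ perp D d) (he : e ∈ common D d b) :
    d * b * e ∈ X3 D d b e ∧ e * b ∈ X3 D d b e ∧ e * d ∈ X3 D d b e ∧ b * d ∈ X3 D d b e := by
  have hmem : ∀ {d' b' e' : G}, tri3 D d' b' e' = tri3 D d b e → ∀ m : List G,
      (∀ x ∈ m, x ∈ tri3 D d' b' e') → m.prod ∈ X3 D d b e := fun e0 m hm =>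
    list_prod_mem fun x hx => Subgroup.subset_closure (e0 ▸ hm x hx)
  obtain ⟨m, -, h1, e1⟩ := odd_rel B hd hb he
  obtain ⟨m2, -, h2, e2⟩ := even_rel B hb.1 (perp_symm hd hb) (show e ∈ common D b d from ⟨he.2, he.1⟩)
  obtain ⟨m3, -, h3, e3⟩ := even_rel B hd hb he
  obtain ⟨m4, -, h4, e4⟩ := even_rel B hd he.1 (show b ∈ common D d e from ⟨hb, perp_symm hb.1 he.2⟩)
  exact ⟨e1 ▸ hmem rfl m h1, e2 ▸ hmem (tri3_swap d b e) m2 h2, e3 ▸ hmem rfl m3 h3,
    e4 ▸ hmem (tri3_rot d b e) m4 h4⟩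

theorem vertices_mem {d b e : G} (hd : d ∈ D) (hb : b ∈ perp D d) (he : e ∈ common D d b) :
    d ∈ X3 D d b e ∧ b ∈ X3 D d b e ∧ e ∈ X3 D d b e := by
  have h := B.set.cls
  obtain ⟨h1, h2, h3, h4⟩ := gens_mem B hd hb he
  have cdb : Commute d b := hb.2.2
  have cde : Commute d e := he.1.2.2
  have cbe : Commute b e := he.2.2.2
  have i : ∀ {x : G}, x ∈ D → ∀ y, x * (x * y) = y := fun hx y => mul_self_mul h.1 hx y
  have q1 : d * b * e * (e * b) = d := by
    simp [mul_assoc, i he.1.1, mul_self h.1 hb.1]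
  have q2 : (e * d) * (d * b * e) = b := by
    simp [mul_assoc, i hd]
    rw [← mul_assoc, ← cbe.eq, mul_assoc, mul_self h.1 he.1.1, mul_one]
  have q3 : (b * d) * (d * b * e) = e := by
    simp [mul_assoc, i hd, i hb.1]
  exact ⟨by have := mul_mem h1 h2; rwa [q1] at this, by have := mul_mem h3 h1; rwa [q2] at this,
    by have := mul_mem h4 h1; rwa [q3] at this⟩

omit B in
/-- Products of members in a subgroup generated by members of sign minus one. -/
theorem sign_prod {S : Set G} (ψ : ↥(Subgroup.closure S) →* ℤˣ)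
    (hψ : ∀ u (hu : u ∈ S), ψ ⟨u, Subgroup.subset_closure hu⟩ = -1) (m : List G) (hm : ∀ x ∈ m, x ∈ S) :
    ∃ U : ↥(Subgroup.closure S), (U : G) = m.prod ∧ ψ U = (-1) ^ m.length := by
  induction m with
  | nil => exact ⟨1, rfl, by simp⟩
  | cons x m ih =>
    obtain ⟨U, hU, hU'⟩ := ih fun y hy => hm y (List.mem_cons_of_mem _ hy)
    have hx := hm x List.mem_cons_self
    refine ⟨⟨x, Subgroup.subset_closure hx⟩ * U, by simp [hU], ?_⟩
    rw [map_mul, hψ x hx, hU', List.length_cons, pow_succ, mul_comm]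

/-- The group of a triangle lies over the unitary group. -/
theorem tri_model {d b e : G} (hd : d ∈ D) (hb : b ∈ perp D d) (he : e ∈ common D d b) :
    ∃ (F : Type) (_ : Field F) (_ : Fintype F) (_ : Fintype.card F = 4)
      (σ : ↥(X3 D d b e) →* PSU 6 F 2), Function.Surjective σ ∧
      (∀ z : ↥(X3 D d b e), σ z = 1 → (z : G) ∈ Subgroup.closure ({d, b, e} : Set G)) ∧
      (∀ z : ↥(X3 D d b e), (z : G) ∈ ({d, b, e} : Set G) → σ z = 1) ∧
      ∀ u (hu : u ∈ tri3 D d b e), ∀ v (hv : v ∈ tri3 D d b e),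
        ∃ k : ↥(X3 D d b e), (k : G) * u * (k : G)⁻¹ = v := by
  classical
  have h := B.set.cls
  have htf := B.set.tf
  have KB := B.sub d hd
  have hbK := pr_mem (D := D) hb
  have heK := (toK B hd hb he.1).mpr he.2
  have C := KB.ctx _ hbK
  have he2 := pr_mem heK
  obtain ⟨F, iF, jF, h4, Φ, hsurj, hmem, hlift, hinj, hcom, hker⟩ := C.mdl _ he2
  have hx1 : ∀ {u : G} (hu : u ∈ tri3 D d b e), pr D d u hu.1.1 ∈ perp (perpSet D d) (pr D d b hb) :=
    fun hu => (toK B hd hb hu.1.1).mpr hu.1.2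
  have hx2 : ∀ {u : G} (hu : u ∈ tri3 D d b e),
      pr (perpSet D d) _ _ (hx1 hu) ∈ perp (perpSet (perpSet D d) (pr D d b hb)) (pr (perpSet D d) _ _ heK) :=
    fun hu => (M23.toK KB hbK heK (hx1 hu)).mpr ((toK B hd he.1 hu.1.1).mpr hu.2)
  have hle : X3 D d b e ≤ PerpGroup D d := Subgroup.closure_mono fun u hu => hu.1.1
  let f0 : ↥(X3 D d b e) →* PerpQuot D d := (QuotientGroup.mk' _).comp (Subgroup.inclusion hle)
  have k0 := closure_map_mem f0 (PerpGroup (perpSet D d) (pr D d b hb))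
    fun u hu => Subgroup.subset_closure (hx1 hu)
  let f1 : ↥(X3 D d b e) →* PerpQuot (perpSet D d) (pr D d b hb) :=
    (QuotientGroup.mk' _).comp (f0.codRestrict _ k0)
  have k1 := closure_map_mem f1 (PerpGroup (perpSet (perpSet D d) (pr D d b hb)) (pr (perpSet D d) _ _ heK))
    fun u hu => Subgroup.subset_closure (hx2 hu)
  let σ : ↥(X3 D d b e) →* PSU 6 F 2 := Φ.comp (f1.codRestrict _ k1)
  have hΦc : ∀ g, g ∈ Subgroup.center ↥(PerpGroup (perpSet (perpSet D d) (pr D d b hb))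
      (pr (perpSet D d) _ _ heK)) → Φ g = 1 := fun g hg => by
    haveI := (psu_six h4).1
    obtain ⟨-, x₀, y₀, hxy⟩ := psu_six h4
    have hz : Φ g ∈ Subgroup.center (PSU 6 F 2) := Subgroup.mem_center_iff.mpr fun r => by
      obtain ⟨r, rfl⟩ := hsurj r
      rw [← map_mul, ← map_mul, Subgroup.mem_center_iff.mp hg r]
    have hbot : Subgroup.center (PSU 6 F 2) = ⊥ :=
      (Subgroup.Normal.eq_bot_or_eq_top inferInstance).resolve_right fun ht =>
        hxy (Subgroup.mem_center_iff.mp (ht ▸ Subgroup.mem_top x₀) y₀).symm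
    rwa [hbot, Subgroup.mem_bot] at hz
  have hΦσ : ∀ g, Φ g ∈ σ.range := closure_map_mem Φ σ.range fun r hr => by
    obtain ⟨w, hw, rfl⟩ := exists_of_mem hr.1
    obtain ⟨u, hu, rfl⟩ := exists_of_mem hw.1
    have hub := (toK B hd hb hu).mp hw
    have hue := (toK B hd he.1 hu).mp ((M23.toK KB hbK heK hw).mp hr)
    exact ⟨⟨u, Subgroup.subset_closure ⟨⟨hu, hub⟩, hue⟩⟩, rfl⟩
  refine ⟨F, iF, jF, h4, σ, fun x => ?_, fun z hz => ?_, fun z hz => ?_, fun u hu v hv => ?_⟩
  · obtain ⟨g, rfl⟩ := hsurj x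
    exact hΦσ g
  · have hz2 := hker _ hz
    rw [C.centre _ he2, Subgroup.mem_subgroupOf] at hz2
    obtain ⟨n, hn⟩ := hz2
    have hE : pr D d e he.1 ∈ PerpGroup (perpSet D d) (pr D d b hb) := Subgroup.subset_closure heK
    have e2 : (QuotientGroup.mk (f0.codRestrict _ k0 z) : PerpQuot (perpSet D d) (pr D d b hb)) =
        QuotientGroup.mk ((⟨_, hE⟩ : ↥(PerpGroup (perpSet D d) (pr D d b hb))) ^ n) := by
      rw [QuotientGroup.mk_zpow]
      exact hn.symm
    have hz1 := QuotientGroup.eq_iff_div_mem.mp e2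
    rw [M23.centre KB hbK, Subgroup.mem_subgroupOf] at hz1
    obtain ⟨i, hi⟩ := hz1
    have e1 : f0 z = pr D d b hb ^ i * pr D d e he.1 ^ n := by
      have hi' : pr D d b hb ^ i = f0 z * (pr D d e he.1 ^ n)⁻¹ := by
        simpa [div_eq_mul_inv] using hi
      rw [hi', inv_mul_cancel_right]
    have e1' : (QuotientGroup.mk (Subgroup.inclusion hle z) : PerpQuot D d) =
        QuotientGroup.mk (el hb ^ i * el he.1 ^ n) := by
      rw [QuotientGroup.mk_mul, QuotientGroup.mk_zpow, QuotientGroup.mk_zpow]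
      exact e1
    obtain ⟨j, hj⟩ := sub_center B hd e1'
    have hj' : (z : G) = d ^ j * (b ^ i * e ^ n) := by
      have hj1 : d ^ j = (z : G) * (b ^ i * e ^ n)⁻¹ := by simpa using hj
      rw [hj1, inv_mul_cancel_right]
    rw [hj']
    exact mul_mem (zpow_mem (Subgroup.subset_closure (by simp)) j)
      (mul_mem (zpow_mem (Subgroup.subset_closure (by simp)) i) (zpow_mem (Subgroup.subset_closure (by simp)) n))
  · obtain ⟨z, hzX⟩ := z
    rcases hz with hz | hz | hz
    · have : f0 ⟨z, hzX⟩ = 1 := by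
        show (QuotientGroup.mk (Subgroup.inclusion hle ⟨z, hzX⟩) : PerpQuot D d) = 1
        rw [QuotientGroup.eq_one_iff, centre B hd, Subgroup.mem_subgroupOf]
        exact hz.symm ▸ Subgroup.mem_zpowers d
      have h0 : f0.codRestrict _ k0 ⟨z, hzX⟩ = 1 := Subtype.ext this
      have h1 : f1 ⟨z, hzX⟩ = 1 := by
        show QuotientGroup.mk' _ (f0.codRestrict _ k0 ⟨z, hzX⟩) = 1
        rw [h0, map_one]
      show Φ (f1.codRestrict _ k1 ⟨z, hzX⟩) = 1
      rw [show f1.codRestrict _ k1 ⟨z, hzX⟩ = 1 from Subtype.ext h1, map_one]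
    · have h0 : f0 ⟨z, hzX⟩ = pr D d b hb := congrArg QuotientGroup.mk (Subtype.ext hz)
      have h1 : f1 ⟨z, hzX⟩ = 1 := by
        show (QuotientGroup.mk (f0.codRestrict _ k0 ⟨z, hzX⟩) : PerpQuot (perpSet D d) (pr D d b hb)) = 1
        rw [QuotientGroup.eq_one_iff, M23.centre KB hbK, Subgroup.mem_subgroupOf]
        show f0 ⟨z, hzX⟩ ∈ _
        rw [h0]
        exact Subgroup.mem_zpowers _
      show Φ (f1.codRestrict _ k1 ⟨z, hzX⟩) = 1
      rw [show f1.codRestrict _ k1 ⟨z, hzX⟩ = 1 from Subtype.ext h1, map_one]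
    · refine hΦc _ ?_
      rw [C.centre _ he2, Subgroup.mem_subgroupOf]
      have h0 : f0 ⟨z, hzX⟩ = pr D d e he.1 :=
        congrArg QuotientGroup.mk (Subtype.ext (Set.mem_singleton_iff.mp hz))
      have h1 : f1 ⟨z, hzX⟩ = pr (perpSet D d) _ _ heK := congrArg QuotientGroup.mk (Subtype.ext h0)
      show f1 ⟨z, hzX⟩ ∈ _
      rw [h1]
      exact Subgroup.mem_zpowers _
  · obtain ⟨g, hg⟩ := transitive (U6.roots_class h4) (hmem _ (hx2 hu)) (hmem _ (hx2 hv))
    obtain ⟨x, hx⟩ := hΦσ (⟨_, Subgroup.subset_closure (hx2 hu)⟩)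
    obtain ⟨kg, rfl⟩ := hsurj g
    obtain ⟨k, hk⟩ := hΦσ kg
    refine ⟨k, ?_⟩
    have hfix : ∀ {a : G}, tri3 D d b e ⊆ perp D a → Commute (k : G) a := fun ha =>
      commute_self (Subgroup.closure_mono ha k.2)
    have hw : (k : G) * u * (k : G)⁻¹ ∈ tri3 D d b e :=
      ⟨⟨perp_conj' h (hfix fun x hx => hx.1.1) hu.1.1, perp_conj' h (hfix fun x hx => hx.1.2) hu.1.2⟩,
        perp_conj' h (hfix fun x hx => hx.2) hu.2⟩
    have hσw : σ (⟨_, Subgroup.subset_closure hw⟩) = σ ⟨v, Subgroup.subset_closure hv⟩ := by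
      rw [show (⟨_, Subgroup.subset_closure hw⟩ : ↥(X3 D d b e)) = k * ⟨u, Subgroup.subset_closure hu⟩ * k⁻¹
        from Subtype.ext rfl, map_mul, map_mul, map_inv, hk]
      exact hg
    exact pr_injective h htf hd hw.1.1 hv.1.1 (pr_injective KB.set.cls KB.set.tf hbK (hx1 hw) (hx1 hv)
      (hinj _ (hx2 hw) _ (hx2 hv) hσw))

/-- The sign on the group of a triangle. -/
theorem tri_sign {d b e : G} (hd : d ∈ D) (hb : b ∈ perp D d) (he : e ∈ common D d b) :
    ∃ ψ : ↥(X3 D d b e) →* ℤˣ,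
      (∀ u (hu : u ∈ tri3 D d b e), ψ ⟨u, Subgroup.subset_closure hu⟩ = -1) ∧
      (∀ z : ↥(X3 D d b e), (z : G) = d → ψ z = -1) ∧
      ∃ k, 3 ≤ k ∧ Nat.card ↥(X3 D d b e) = 2 ^ k * 9196830720 := by
  classical
  have h := B.set.cls
  set X := X3 D d b e with hX
  obtain ⟨F, _, _, h4, σ, hsurj, hker, hker', hconj⟩ := tri_model B hd hb he
  obtain ⟨hdX, hbX, heX⟩ := vertices_mem B hd hb he
  have hV : ∀ x ∈ ({d, b, e} : Set G), x ∈ D := by
    rintro x (rfl | rfl | rfl)
    exacts [hd, hb.1, he.1.1]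
  have hVc : ∀ x ∈ ({d, b, e} : Set G), ∀ y ∈ tri3 D d b e, Commute x y := by
    rintro x (rfl | rfl | rfl) y hy
    exacts [hy.1.1.2.2, hy.1.2.2.2, hy.2.2.2]
  have hcentral : σ.ker ≤ Subgroup.center ↥X := fun z hz => Subgroup.mem_center_iff.mpr fun g => by
    refine Subtype.ext ?_
    have hz' : (z : G) ∈ Subgroup.centralizer (tri3 D d b e) := by
      refine (Subgroup.closure_le _).mpr ?_ (hker z hz)
      exact fun x hx => Subgroup.mem_centralizer_iff.mpr fun y hy => (hVc x hx y hy).symm.eq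
    have : (g : G) ∈ Subgroup.centralizer ({(z : G)} : Set G) := (Subgroup.closure_le _).mpr
      (fun y hy => Subgroup.mem_centralizer_singleton_iff.mpr (Subgroup.mem_centralizer_iff.mp hz' y hy)) g.2
    exact Subgroup.mem_centralizer_singleton_iff.mp this
  have hcVV : ∀ x ∈ ({d, b, e} : Set G), ∀ y ∈ ({d, b, e} : Set G), Commute x y := by
    rintro x (rfl | rfl | rfl) y (rfl | rfl | rfl)
    exacts [Commute.refl _, hb.2.2, he.1.2.2, hb.2.2.symm, Commute.refl _, he.2.2.2, he.1.2.2.symm,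
      he.2.2.2.symm, Commute.refl _]
  have hsq : ∀ z : σ.ker, z * z = 1 := fun z => by
    refine Subtype.ext (Subtype.ext ?_)
    have key : ∀ {y : G}, y ∈ Subgroup.closure ({d, b, e} : Set G) →
        y * y = 1 ∧ ∀ x ∈ ({d, b, e} : Set G), Commute x y := fun hy => by
      induction hy using Subgroup.closure_induction with
      | mem u hu => exact ⟨mul_self h.1 (hV u hu), fun x hx => hcVV x hx u hu⟩
      | one => exact ⟨one_mul _, fun x _ => Commute.one_right x⟩
      | mul u v hu hv iu iv =>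
        refine ⟨?_, fun x hx => (iu.2 x hx).mul_right (iv.2 x hx)⟩
        have hvu : Commute v u := by
          have hle : Subgroup.closure ({d, b, e} : Set G) ≤ Subgroup.centralizer {v} :=
            (Subgroup.closure_le _).mpr fun x hx =>
              Subgroup.mem_centralizer_singleton_iff.mpr (iv.2 x hx).eq
          exact (Subgroup.mem_centralizer_singleton_iff.mp (hle hu) : u * v = v * u).symm
        rw [mul_assoc, ← mul_assoc v u v, hvu.eq, mul_assoc u v v, iv.1, mul_one, iu.1]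
      | inv u hu iu =>
        refine ⟨?_, fun x hx => (iu.2 x hx).inv_right⟩
        rw [← mul_inv_rev, iu.1, inv_one]
    exact (key (hker _ z.2)).1
  let zd : σ.ker := ⟨⟨d, hdX⟩, hker' _ (Or.inl rfl)⟩
  let zb : σ.ker := ⟨⟨b, hbX⟩, hker' _ (Or.inr (Or.inl rfl))⟩
  let ze : σ.ker := ⟨⟨e, heX⟩, hker' _ (Or.inr (Or.inr rfl))⟩
  have hval : ∀ {x y : σ.ker}, x = y → ((x : ↥X) : G) = (y : ↥X) := fun e => by rw [e]
  have d1 : d ≠ 1 := fun k => by simpa [k] using h.1.1 d hd
  have b1 : b ≠ 1 := fun k => by simpa [k] using h.1.1 b hb.1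
  have e1 : e ≠ 1 := fun k => by simpa [k] using h.1.1 e he.1.1
  have hdbe : d * b ≠ e := fun k => by
    have hmk : (QuotientGroup.mk (el he.1) : PerpQuot D d) = QuotientGroup.mk (el hb) := by
      rw [QuotientGroup.eq_iff_div_mem, centre B hd, Subgroup.mem_subgroupOf]
      show e / b ∈ Subgroup.zpowers d
      rw [← k, mul_div_cancel_right]
      exact Subgroup.mem_zpowers d
    exact he.2.2.1 (pr_injective h B.set.tf hd he.1 hb hmk)
  have hfive : 4 < Nat.card σ.ker := by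
    have : ({1, zd, zb, ze, zd * zb} : Finset σ.ker).card = 5 := by
      rw [Finset.card_insert_of_notMem, Finset.card_insert_of_notMem, Finset.card_insert_of_notMem,
        Finset.card_insert_of_notMem, Finset.card_singleton] <;>
        simp only [Finset.mem_insert, Finset.mem_singleton, not_or]
      · exact fun k => hdbe (hval k).symm
      · exact ⟨fun k => he.2.2.1 (hval k).symm, fun k => d1 (by simpa [zd, zb] using hval k)⟩
      · exact ⟨fun k => hb.2.1 (hval k).symm, fun k => he.1.2.1 (hval k).symm,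
          fun k => b1 (by simpa [zd, zb] using hval k)⟩
      · exact ⟨fun k => d1 (hval k).symm, fun k => b1 (hval k).symm, fun k => e1 (hval k).symm,
          fun k => hb.2.1 (by
            have k' : (1 : G) = d * b := hval k
            rw [eq_inv_of_mul_eq_one_right k'.symm, inv_eq h.1 hd])⟩
    haveI := Fintype.ofFinite σ.ker
    rw [Nat.card_eq_fintype_card]
    exact lt_of_lt_of_le (by omega) (Finset.card_le_univ ({1, zd, zb, ze, zd * zb} : Finset σ.ker))
  have hcard : ∃ k, 3 ≤ k ∧ Nat.card ↥X = 2 ^ k * 9196830720 := by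
    haveI : Fact (Nat.Prime 2) := ⟨Nat.prime_two⟩
    obtain ⟨k, hk⟩ := IsPGroup.iff_card.mp (show IsPGroup 2 σ.ker from fun z => ⟨1, by rw [pow_one, pow_two, hsq z]⟩)
    obtain ⟨e62⟩ := Cfsg.Agent.Spor.USixTwo.exists_iso F h4
    refine ⟨k, ?_, ?_⟩
    · by_contra hlt
      have : 2 ^ k ≤ 2 ^ 2 := Nat.pow_le_pow_right (by norm_num) (by omega)
      omega
    · rw [Subgroup.card_eq_card_quotient_mul_card_subgroup σ.ker, hk,
        Nat.card_congr (QuotientGroup.quotientKerEquivOfSurjective σ hsurj).toEquiv,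
        ← Nat.card_congr e62.toEquiv, Cfsg.Agent.Spor.USixTwo.card_G62, mul_comm]
  obtain ⟨c, hc⟩ := (M22.common_nonempty ((B.sub d hd).ctx _ (pr_mem hb)) (pr_mem ((toK B hd hb he.1).mpr he.2))
    (((B.sub d hd).ctx _ (pr_mem hb)).set.perp_ne _ (pr_mem ((toK B hd hb he.1).mpr he.2))).choose_spec)
  obtain ⟨m5, hm5, h5, hp5⟩ := odd_rel B hd hb he
  have hne5 : m5 ≠ [] := fun k => by simp [k] at hm5
  obtain ⟨u₀, hu₀⟩ := List.exists_mem_of_ne_nil _ hne5
  have hu₀' := h5 u₀ hu₀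
  let U₀ : ↥X := ⟨u₀, Subgroup.subset_closure hu₀'⟩
  let q := QuotientGroup.mk' (commutator ↥X)
  have hall : ∀ u (hu : u ∈ tri3 D d b e), q ⟨u, Subgroup.subset_closure hu⟩ = q U₀ := fun u hu => by
    obtain ⟨k, hk⟩ := hconj u₀ hu₀' u hu
    rw [show (⟨u, Subgroup.subset_closure hu⟩ : ↥X) = k * U₀ * k⁻¹ from Subtype.ext hk.symm,
      map_mul, map_mul, map_inv]
    exact mul_inv_eq_iff_eq_mul.mpr ((Abelianization.commGroup (G := ↥X)).mul_comm (q k) (q U₀))
  have hm2 : q U₀ * q U₀ = 1 := by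
    rw [← map_mul, show U₀ * U₀ = 1 from Subtype.ext (mul_self h.1 hu₀'.1.1.1), map_one]
  have hgen : ∀ g : ↥X, q g ∈ Subgroup.zpowers (q U₀) := closure_map_mem q _ fun u hu =>
    (hall u hu).symm ▸ Subgroup.mem_zpowers _
  by_cases hone : q U₀ = 1
  · exfalso
    have htop : commutator ↥X = ⊤ := eq_top_iff.mpr fun g _ => by
      have := hgen g
      rw [hone, Subgroup.zpowers_one_eq_bot, Subgroup.mem_bot] at this
      exact (QuotientGroup.eq_one_iff g).mp this
    obtain ⟨e62⟩ := Cfsg.Agent.Spor.USixTwo.exists_iso F h4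
    have hk : (e62.symm.toMonoidHom.comp σ).ker = σ.ker := MonoidHom.ker_mulEquiv_comp σ e62.symm
    obtain ⟨π, hπ⟩ := Cfsg.Agent.Spor.USixTwo.exists_surjective (e62.symm.toMonoidHom.comp σ)
      ⟨e62.symm.surjective.comp hsurj, hk.le.trans hcentral, by rw [htop]; exact le_top⟩
    have h3 : ∀ z : σ.ker, ∃ v : Multiplicative Cfsg.Agent.Spor.USixTwo.A12,
        (Multiplicative.toAdd v).1 = 0 ∧ ((π v : ↥X) : G) = z := fun z => by
      obtain ⟨v, hv⟩ := hπ ⟨z, hk.symm ▸ z.2⟩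
      refine ⟨v ^ 3, by simp [show (3 : ZMod 3) = 0 from rfl], ?_⟩
      rw [map_pow, hv]
      show ((z : ↥X) : G) ^ 3 = z
      have := congrArg (fun w : σ.ker => ((w : ↥X) : G)) (hsq z)
      simp only [Subgroup.coe_mul, Subgroup.coe_one] at this
      rw [pow_succ, pow_two, this, one_mul]
    choose v hv1 hv2 using h3
    let v' : σ.ker → ZMod 2 × ZMod 2 := fun z => (Multiplicative.toAdd (v z)).2
    have hinj' : Function.Injective v' := fun z w k => Subtype.ext (Subtype.ext (by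
      rw [← hv2 z, ← hv2 w, show v z = v w from congrArg Multiplicative.ofAdd
        (Prod.ext ((hv1 z).trans (hv1 w).symm) k)]))
    have := Nat.card_le_card_of_injective v' hinj'
    rw [Nat.card_eq_fintype_card (α := ZMod 2 × ZMod 2), Fintype.card_prod, ZMod.card] at this
    omega
  have hidx : Nat.card (↥X ⧸ commutator ↥X) = 2 := by
    have htop : Subgroup.zpowers (q U₀) = ⊤ := eq_top_iff.mpr fun g _ => by
      obtain ⟨g, rfl⟩ := QuotientGroup.mk'_surjective _ g
      exact hgen g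
    rw [← Subgroup.card_top, ← htop, Nat.card_zpowers]
    exact orderOf_eq_prime (by rw [pow_two, hm2]) hone
  haveI : Fact (Nat.Prime 2) := ⟨Nat.prime_two⟩
  let ι : (↥X ⧸ commutator ↥X) ≃* ℤˣ :=
    mulEquivOfPrimeCardEq (p := 2) hidx (by rw [Nat.card_eq_fintype_card]; rfl)
  let ψ : ↥X →* ℤˣ := ι.toMonoidHom.comp q
  have hψ : ∀ u (hu : u ∈ tri3 D d b e), ψ ⟨u, Subgroup.subset_closure hu⟩ = -1 := fun u hu => by
    show ι (q _) = -1
    rw [hall u hu]
    exact (Int.units_eq_one_or _).resolve_left fun k => hone (ι.map_eq_one_iff.mp k)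
  refine ⟨ψ, hψ, fun z hz => ?_, hcard⟩
  obtain ⟨m6, hm6, h6, hp6⟩ := even_rel B hb.1 (perp_symm hd hb) (show e ∈ common D b d from ⟨he.2, he.1⟩)
  obtain ⟨U, hU, hψU⟩ := sign_prod ψ hψ m5 h5
  obtain ⟨V, hV', hψV⟩ := sign_prod ψ hψ m6 fun x hx => tri3_swap (D := D) d b e ▸ h6 x hx
  have hzUV : z = U * V := Subtype.ext (by
    rw [Subgroup.coe_mul, hU, hV', hp5, hp6, hz]
    simp [mul_assoc, mul_self_mul h.1 he.1.1, mul_self h.1 hb.1])
  rw [hzUV, map_mul, hψU, hψV, hm5, hm6]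
  rfl

omit B in
/-- A sign fixed by an outside involution extends. -/
theorem exists_extend {X : Subgroup G} (ψ : ↥X →* ℤˣ) {s : G} (hs : s * s = 1) (hsX : s ∉ X)
    (hn : ∀ x : ↥X, ∃ y : ↥X, (y : G) = s * x * s ∧ ψ y = ψ x) :
    ∃ (P : Subgroup G) (ψ' : ↥P →* ℤˣ), Nat.card ↥P = 2 * Nat.card ↥X ∧
      (∀ H : Subgroup G, X ≤ H → s ∈ H → P ≤ H) ∧
      ∀ (x : ↥X) (y : ↥P), (y : G) = x → ψ' y = ψ x := by
  classical
  choose τ hτ hψτ using hn
  have mem_s : ∀ {g : G}, g * s ∈ X → g ∉ X := fun {g} k k' => hsX (by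
    have := mul_mem (inv_mem k') k
    rwa [inv_mul_cancel_left] at this)
  have conj : ∀ {g : G}, g ∈ X → s * g * s ∈ X := fun {g} hg => hτ ⟨g, hg⟩ ▸ (τ ⟨g, hg⟩).2
  let P : Subgroup G :=
    { carrier := {g | g ∈ X ∨ g * s ∈ X}
      one_mem' := Or.inl (one_mem X)
      mul_mem' := by
        rintro a b (ha | ha) (hb | hb)
        · exact Or.inl (mul_mem ha hb)
        · exact Or.inr (by rw [mul_assoc]; exact mul_mem ha hb)
        · right
          have := mul_mem ha (conj hb)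
          simpa [mul_assoc, ← mul_assoc s s, hs] using this
        · left
          have := mul_mem ha (conj hb)
          simpa [mul_assoc, ← mul_assoc s s, hs] using this
      inv_mem' := by
        rintro a (ha | ha)
        · exact Or.inl (inv_mem ha)
        · right
          have := conj (inv_mem ha)
          have e : s⁻¹ = s := inv_eq_of_mul_eq_one_right hs
          simpa [mul_assoc, e, ← mul_assoc s s, hs] using this }
  let f : ↥P → ℤˣ := fun g => if k : (g : G) ∈ X then ψ ⟨g, k⟩ else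
    ψ ⟨g * s, g.2.resolve_left k⟩
  have f1 : ∀ (g : ↥P) (x : ↥X), (g : G) = x → f g = ψ x := fun g x e => by
    have k : (g : G) ∈ X := e ▸ x.2
    simp only [f, dif_pos k]
    exact congrArg ψ (Subtype.ext e)
  have f2 : ∀ (g : ↥P) (x : ↥X), (g : G) * s = x → f g = ψ x := fun g x e => by
    have k : (g : G) ∉ X := mem_s (e ▸ x.2)
    simp only [f, dif_neg k]
    exact congrArg ψ (Subtype.ext e)
  have hXP : X ≤ P := fun g hg => Or.inl hg
  refine ⟨P, MonoidHom.mk' f fun a b => ?_, ?_, fun H hX hsH g hg => ?_, fun x y e => f1 y x e⟩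
  · rcases a.2 with ha | ha <;> rcases b.2 with hb | hb
    · rw [f1 a ⟨_, ha⟩ rfl, f1 b ⟨_, hb⟩ rfl, ← map_mul, f1 (a * b) (⟨_, ha⟩ * ⟨_, hb⟩) rfl]
    · rw [f1 a ⟨_, ha⟩ rfl, f2 b ⟨_, hb⟩ rfl, ← map_mul,
        f2 (a * b) (⟨_, ha⟩ * ⟨_, hb⟩) (by simp [mul_assoc])]
    · rw [f2 a ⟨_, ha⟩ rfl, f1 b ⟨_, hb⟩ rfl, ← hψτ ⟨_, hb⟩, ← map_mul,
        f2 (a * b) (⟨_, ha⟩ * τ ⟨_, hb⟩) (by simp [hτ, mul_assoc, ← mul_assoc s s, hs])]
    · rw [f2 a ⟨_, ha⟩ rfl, f2 b ⟨_, hb⟩ rfl, ← hψτ ⟨_, hb⟩, ← map_mul,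
        f1 (a * b) (⟨_, ha⟩ * τ ⟨_, hb⟩) (by simp [hτ, mul_assoc, ← mul_assoc s s, hs])]
  · have hidx : (X.subgroupOf P).index = 2 := by
      refine Subgroup.index_eq_two_iff.mpr ⟨⟨s, Or.inr (hs.symm ▸ one_mem X)⟩, fun g => ?_⟩
      simp only [Subgroup.mem_subgroupOf, Subgroup.coe_mul]
      rcases g.2 with k | k
      · exact Or.inr ⟨k, fun k' => mem_s k' k⟩
      · exact Or.inl ⟨k, mem_s k⟩
    rw [← Subgroup.index_mul_card (X.subgroupOf P), hidx,
      Nat.card_congr (Subgroup.subgroupOfEquivOfLe hXP).toEquiv]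
  · rcases hg with hg | hg
    · exact hX hg
    · have := mul_mem (hX hg) hsH
      rwa [mul_assoc, hs, mul_one] at this

/-- The sign on the perpendicular group of a member. -/
theorem perp_sign {d : G} (hd : d ∈ D) :
    ∃ ε : ↥(PerpGroup D d) →* ℤˣ, ∀ u (hu : u ∈ perp D d), ε (el hu) = -1 := by
  classical
  have h := B.set.cls
  obtain ⟨b, hb⟩ := B.set.perp_ne d hd
  have KB := B.sub d hd
  obtain ⟨r, hr⟩ := KB.set.perp_ne _ (pr_mem hb)
  obtain ⟨r', hr', e0⟩ := exists_apart_partner KB.set.hyp (pr_mem hb) hr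
  obtain ⟨e, hed, rfl⟩ := exists_of_mem hr.1
  obtain ⟨u, hu, rfl⟩ := exists_of_mem hr'.1
  have he : e ∈ common D d b := ⟨hed, (toK B hd hb hed).mp hr⟩
  have hub : ¬ Commute u b := fun k => hr'.2 (commute_pr hu hb k)
  have hue : ¬ Commute u e := fun k => e0 (commute_pr hu hed k)
  obtain ⟨ψ, hψ, hψd, k, hk, hcard⟩ := tri_sign B hd hb he
  have cbe : Commute b e := he.2.2.2
  have rb : b * u * b = u * b * u := (braid h.1 hu.1 hb.1 hub).symm
  have re : e * u * e = u * e * u := (braid h.1 hu.1 he.1.1 hue).symm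
  have uu : ∀ y, u * (u * y) = y := fun y => mul_self_mul h.1 hu.1 y
  have bb : ∀ y, b * (b * y) = y := fun y => mul_self_mul h.1 hb.1 y
  have ee : ∀ y, e * (e * y) = y := fun y => mul_self_mul h.1 he.1.1 y
  set v := b * e * u * e * b with hv
  have huv : u * v * u = v := by
    calc u * v * u = u * b * (e * u * e) * b * u := by simp [hv, mul_assoc]
      _ = u * b * u * e * (u * b * u) := by rw [re]; simp [mul_assoc]
      _ = b * u * b * e * (b * u * b) := by rw [← rb]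
      _ = b * u * (b * e * b) * u * b := by simp [mul_assoc]
      _ = b * (u * e * u) * b := by rw [cbe.eq, mul_assoc e b b, mul_self h.1 hb.1, mul_one]; simp [mul_assoc]
      _ = v := by rw [← re]; simp [hv, mul_assoc]
  have hvb : v * b * v = e * u * e := by
    calc v * b * v = b * e * u * (e * b * b * (b * e)) * u * e * b := by simp [hv, mul_assoc]
      _ = b * e * (u * b * u) * e * b := by
        rw [mul_assoc e b b, mul_self h.1 hb.1, mul_one, cbe.eq, ← mul_assoc e e b, mul_self h.1 he.1.1,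
          one_mul]
        simp [mul_assoc]
      _ = (b * e * b) * u * (b * e * b) := by rw [← rb]; simp [mul_assoc]
      _ = e * u * e := by rw [cbe.eq, mul_assoc e b b, mul_self h.1 hb.1, mul_one]
  set s := u * v with hsdef
  have hvv : v * v = 1 := by simp [hv, mul_assoc, uu, bb, ee, mul_self h.1 hb.1]
  have hvu : v * u = u * v := by
    conv_lhs => rw [← huv]
    simp [mul_assoc, mul_self h.1 hu.1]
    exact hsdef
  have hs : s * s = 1 := by
    rw [hsdef]
    nth_rw 2 [← hvu]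
    rw [mul_assoc, ← mul_assoc v v, hvv, one_mul, mul_self h.1 hu.1]
  have hsi : s⁻¹ = s := inv_eq_of_mul_eq_one_right hs
  have hsb : s * b * s = e := by
    calc s * b * s = u * v * b * (v * u) := by rw [hsdef, hvu]
      _ = u * (v * b * v) * u := by simp [mul_assoc]
      _ = u * (e * u * e) * u := by rw [hvb]
      _ = e := by rw [re]; simp [mul_assoc, uu, mul_self h.1 hu.1]
  have hse : s * e * s = b := by
    calc s * e * s = (s * s) * b * (s * s) := by rw [← hsb]; simp [mul_assoc]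
      _ = b := by rw [hs, one_mul, mul_one]
  have hsd : Commute s d := by
    have hbd : Commute b d := hb.2.2.symm
    have hed' : Commute e d := he.1.2.2.symm
    exact hu.2.2.symm.mul_left ((((hbd.mul_left hed').mul_left hu.2.2.symm).mul_left hed').mul_left hbd)
  have hsX : s ∉ X3 D d b e := fun k' => by
    have hc : Commute s b := commute_self (Subgroup.closure_mono (fun x hx => hx.1.2) k')
    refine he.2.2.1 ?_
    rw [← hsb, hc.eq, mul_assoc, hs, mul_one]
  have hmem : ∀ w ∈ tri3 D d b e, s * w * s ∈ tri3 D d b e := fun w hw => by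
    have q : ∀ {a : G}, w ∈ perp D a → s * w * s ∈ perp D (s * a * s) := fun {a} ha => by
      have := (conj_mem_perp h s a).mpr ha
      rwa [hsi] at this
    have q1 := q hw.1.1
    rw [hsd.eq, mul_assoc, hs, mul_one] at q1
    have q2 := q hw.1.2
    rw [hsb] at q2
    have q3 := q hw.2
    rw [hse] at q3
    exact ⟨⟨q1, q3⟩, q2⟩
  have hn : ∀ x : ↥(X3 D d b e), ∃ y : ↥(X3 D d b e), (y : G) = s * x * s ∧ ψ y = ψ x := by
    rintro ⟨x, hx⟩
    induction hx using Subgroup.closure_induction with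
    | mem w hw => exact ⟨⟨_, Subgroup.subset_closure (hmem w hw)⟩, rfl, by rw [hψ w hw, hψ _ (hmem w hw)]⟩
    | one => exact ⟨1, by simp [hs], rfl⟩
    | mul p q hp hq ip iq =>
      obtain ⟨yp, e1, f1⟩ := ip
      obtain ⟨yq, e2, f2⟩ := iq
      refine ⟨yp * yq, by simp [e1, e2, mul_assoc, ← mul_assoc s s, hs], ?_⟩
      rw [map_mul, f1, f2, ← map_mul]; rfl
    | inv p hp ip =>
      obtain ⟨yp, e1, f1⟩ := ip
      refine ⟨yp⁻¹, by simp [e1, mul_assoc, hsi], ?_⟩
      rw [map_inv, f1, ← map_inv]; rfl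
  obtain ⟨P, ψ', hP, hPle, hPψ⟩ := exists_extend ψ hs hsX hn
  set H := PerpGroup D d with hH
  have hXH : X3 D d b e ≤ H := Subgroup.closure_mono fun x hx => hx.1.1
  have hsH : s ∈ H := by
    have : u ∈ H := Subgroup.subset_closure hu
    exact mul_mem this (mul_mem (mul_mem (mul_mem (mul_mem (Subgroup.subset_closure hb)
      (Subgroup.subset_closure hed)) this) (Subgroup.subset_closure hed)) (Subgroup.subset_closure hb))
  have hPH := hPle H hXH hsH
  have hodd : Odd (P.subgroupOf H).index := by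
    have e1 := Subgroup.index_mul_card (P.subgroupOf H)
    rw [Nat.card_congr (Subgroup.subgroupOfEquivOfLe hPH).toEquiv, hP, hcard,
      card_perpGroup B hd] at e1
    obtain ⟨j, rfl⟩ := Nat.exists_eq_add_of_le hk
    refine Odd.of_dvd_nat (show Odd 55582605 by decide) ⟨2 ^ j, ?_⟩
    rw [pow_add] at e1
    generalize (P.subgroupOf H).index = n at e1 ⊢
    generalize 2 ^ j = t at e1 ⊢
    have : (n * t) * 147149291520 = 55582605 * 147149291520 := by
      calc (n * t) * 147149291520 = n * (2 * (2 ^ 3 * t * 9196830720)) := by ring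
        _ = 2 * (31671 * (2 * 64561751654400)) := e1
        _ = 55582605 * 147149291520 := by norm_num
    exact (Nat.eq_of_mul_eq_mul_right (by norm_num) this).symm
  obtain ⟨hdX, -, -⟩ := vertices_mem B hd hb he
  let D₀ : ↥H := ⟨d, hXH hdX⟩
  have hD₀ : ∀ g : ↥H, g * D₀ = D₀ * g := fun g => Subtype.ext (commute_self g.2).eq
  let φ : ↥(P.subgroupOf H) →* ℤˣ := ψ'.comp (Subgroup.subgroupOfEquivOfLe hPH).toMonoidHom
  let ε : ↥H →* ℤˣ := φ.transfer
  have hkey : ∀ (n : ℕ) (g₀ : ↥H), g₀⁻¹ * D₀ ^ n * g₀ ∈ P.subgroupOf H → g₀⁻¹ * D₀ ^ n * g₀ = D₀ ^ n :=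
    fun n g₀ _ => by
      rw [mul_assoc, ← ((show Commute g₀ D₀ from hD₀ g₀).pow_right n).eq, inv_mul_cancel_left]
  have hεd : ε D₀ = -1 := by
    rw [show ε D₀ = _ from MonoidHom.transfer_eq_pow φ D₀ hkey]
    refine (hPψ ⟨d, hdX⟩ _ ?_).trans (hψd _ rfl)
    show ((D₀ ^ (P.subgroupOf H).index : ↥H) : G) = d
    obtain ⟨i, hi⟩ := hodd
    rw [hi, SubgroupClass.coe_pow, pow_succ, pow_mul, pow_two, mul_self h.1 hd, one_pow, one_mul]
  refine ⟨ε, fun w hw => (Int.units_eq_one_or _).resolve_left fun hw1 => ?_⟩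
  have hall : ∀ z : ↥H, ∀ x ∈ perp D d, (z : G) = x → ε z = 1 := by
    intro z x hx hz
    obtain ⟨g, hg, e'⟩ := lift_conj B hd hw hx
    rw [show z = ⟨g, hg⟩ * el hw * ⟨g, hg⟩⁻¹ from Subtype.ext (hz.trans e'.symm), map_mul, map_mul,
      hw1, mul_one, map_inv, mul_inv_cancel]
  obtain ⟨m, -, hm, hmd⟩ := seven B hd
  have : ∀ l : List G, (∀ x ∈ l, x ∈ perp D d) → ∀ z : ↥H, (z : G) = l.prod → ε z = 1 := by
    intro l
    induction l with
    | nil => exact fun _ z hz => by rw [show z = 1 from Subtype.ext hz, map_one]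
    | cons x l ih =>
      intro hl z hz
      have hx := hl x List.mem_cons_self
      rw [show z = el hx * ((el hx)⁻¹ * z) by simp, map_mul, hall _ x hx rfl, one_mul]
      exact ih (fun y hy => hl y (List.mem_cons_of_mem _ hy)) _ (by simp [hz])
  exact absurd (this m hm D₀ hmd.symm) (by rw [hεd]; decide)

/-- The parity of the members. -/
theorem parity_exists : ∃ χ : G →* ℤˣ, ∀ a ∈ D, χ a = -1 := by
  classical
  have h := B.set.cls
  let J : Set (G × ℤˣ) := {p | p.1 ∈ D ∧ p.2 = -1}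
  let Gt : Subgroup (G × ℤˣ) := Subgroup.closure J
  let Dt : Set ↥Gt := {p | (p : G × ℤˣ).1 ∈ D ∧ (p : G × ℤˣ).2 = -1}
  let π : ↥Gt →* G := (MonoidHom.fst G ℤˣ).comp Gt.subtype
  let sg : ↥Gt →* ℤˣ := (MonoidHom.snd G ℤˣ).comp Gt.subtype
  have hext : ∀ {p q : ↥Gt}, π p = π q → sg p = sg q → p = q := fun k k' => Subtype.ext (Prod.ext k k')
  have hup : ∀ x ∈ D, ∃ p ∈ Dt, π p = x := fun x hx =>
    ⟨⟨(x, -1), Subgroup.subset_closure (show (x, (-1 : ℤˣ)) ∈ J from ⟨hx, rfl⟩)⟩, ⟨hx, rfl⟩, rfl⟩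
  choose up hup1 hup2 using hup
  have hinjD : ∀ {p q : ↥Gt}, p ∈ Dt → q ∈ Dt → π p = π q → p = q := fun hp hq k =>
    hext k (hp.2.trans hq.2.symm)
  have hπsurj : Function.Surjective π := by
    intro g
    have hg : g ∈ π.range := (Subgroup.closure_le π.range).mpr (show D ⊆ (π.range : Set G) from
      fun x hx => ⟨_, hup2 x hx⟩) (h.2.2 ▸ Subgroup.mem_top g)
    exact hg
  have hcomm : ∀ {p q : ↥Gt}, Commute (π p) (π q) → Commute p q := fun {p q} k =>
    hext (by rw [map_mul, map_mul]; exact k.eq) (by rw [map_mul, map_mul, mul_comm])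
  have hperp : ∀ {a p : ↥Gt}, a ∈ Dt → (p ∈ perp Dt a ↔ p ∈ Dt ∧ π p ∈ perp D (π a)) := fun {a p} ha =>
    ⟨fun k => ⟨k.1, k.1.1, fun e => k.2.1 (hinjD k.1 ha e), k.2.2.map π⟩,
      fun k => ⟨k.1, fun e => k.2.2.1 (congrArg π e), hcomm k.2.2.2⟩⟩
  have hlift : ∀ {a : ↥Gt}, a ∈ Dt → ∀ u (hu : u ∈ perp D (π a)), up u hu.1 ∈ perp Dt a := fun ha u hu =>
    (hperp ha).mpr ⟨hup1 u hu.1, by rw [hup2]; exact hu⟩
  choose ε hε using fun (x : G) (hx : x ∈ D) => perp_sign B hx
  have hsign : ∀ {a : ↥Gt} (ha : a ∈ Dt) {g : ↥Gt}, g ∈ PerpGroup Dt a →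
      ∃ hg : π g ∈ PerpGroup D (π a), sg g = ε (π a) ha.1 ⟨π g, hg⟩ := by
    intro a ha g hg
    induction hg using Subgroup.closure_induction with
    | mem w hw =>
      have k := ((hperp ha).mp hw).2
      exact ⟨Subgroup.subset_closure k, hw.1.2.trans (hε _ ha.1 _ k).symm⟩
    | one => exact ⟨by rw [map_one]; exact one_mem _, by simp only [map_one]; exact (map_one _).symm⟩
    | mul p q hp hq ip iq =>
      obtain ⟨kp, fp⟩ := ip
      obtain ⟨kq, fq⟩ := iq
      refine ⟨by rw [map_mul]; exact mul_mem kp kq, ?_⟩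
      rw [map_mul, fp, fq, ← map_mul]
      exact congrArg _ (Subtype.ext (map_mul π p q).symm)
    | inv p hp ip =>
      obtain ⟨kp, fp⟩ := ip
      refine ⟨by rw [map_inv]; exact inv_mem kp, ?_⟩
      rw [map_inv, fp, ← map_inv]
      exact congrArg _ (Subtype.ext (map_inv π p).symm)
  have huniq : ∀ {a : ↥Gt}, a ∈ Dt → ∀ {g g' : ↥Gt}, g ∈ PerpGroup Dt a → g' ∈ PerpGroup Dt a →
      π g = π g' → g = g' := fun ha g g' hg hg' k => by
    obtain ⟨k1, f1⟩ := hsign ha hg
    obtain ⟨k2, f2⟩ := hsign ha hg'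
    exact hext k (by rw [f1, f2]; exact congrArg _ (Subtype.ext k))
  have hmap : ∀ {a : ↥Gt}, a ∈ Dt → PerpGroup D (π a) ≤ (PerpGroup Dt a).map π := fun ha =>
    (Subgroup.closure_le _).mpr fun u hu => ⟨_, Subgroup.subset_closure (hlift ha u hu), hup2 u hu.1⟩
  have hself : ∀ a ∈ Dt, a ∈ PerpGroup Dt a := by
    intro a ha
    obtain ⟨g, hg, e⟩ := hmap ha (self B ha.1)
    have hsa : sg g = -1 := by
      obtain ⟨k, f⟩ := hsign ha hg
      rw [f]
      obtain ⟨m, hlen, hm, hma⟩ := seven B ha.1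
      obtain ⟨U, hU, hU'⟩ := sign_prod (ε _ ha.1) (hε _ ha.1) m hm
      rw [show (⟨π g, k⟩ : ↥(PerpGroup D (π a))) = U from Subtype.ext (e.trans (hma.symm.trans hU.symm))]
      refine hU'.trans ?_
      rw [hlen]
      rfl
    rw [hext e (hsa.trans ha.2.symm)] at hg
    exact hg
  have hpoint : ∀ d ∈ Dt, ∀ x, x ∈ perp Dt d → ∀ {k : ↥Gt}, k ∈ PerpGroup Dt x → Commute k d →
      k ∈ PerpGroup Dt d := by
    intro d hd x hx k hk hkd
    have hx' := (hperp hd).mp hx
    obtain ⟨hk1, -⟩ := hsign hx.1 hk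
    have hin := point' B hd.1 hx'.2 hk1 (hkd.map π)
    have hboth : Subgroup.closure (insert (π x) (common D (π x) (π d))) ≤
        (PerpGroup Dt x ⊓ PerpGroup Dt d).map π := by
      refine (Subgroup.closure_le _).mpr ?_
      rintro u (rfl | hu)
      · exact ⟨x, ⟨hself x hx.1, Subgroup.subset_closure hx⟩, rfl⟩
      · exact ⟨up u hu.1.1, ⟨Subgroup.subset_closure (hlift hx.1 u hu.1),
          Subgroup.subset_closure (hlift hd u hu.2)⟩, hup2 u hu.1.1⟩
    obtain ⟨k', hk', e⟩ := hboth hin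
    rw [huniq hx.1 hk hk'.1 e.symm]
    exact hk'.2
  have hconjπ : ∀ {k p q : ↥Gt}, p ∈ Dt → q ∈ Dt → π k * π p * (π k)⁻¹ = π q → k * p * k⁻¹ = q :=
    fun {k p q} hp hq e => hext (by rw [map_mul, map_mul, map_inv]; exact e)
      (by rw [map_mul, map_mul, map_inv, mul_comm, inv_mul_cancel_left]; exact hp.2.trans hq.2.symm)
  have hcommon : ∀ {p q : ↥Gt}, p ∈ Dt → q ∈ Dt → ∀ {u : G} (hu : u ∈ common D (π p) (π q)),
      up u hu.1.1 ∈ common Dt p q := fun hp hq u hu => ⟨hlift hp u hu.1, hlift hq u hu.2⟩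
  have hcom' : ∀ {p q x : ↥Gt}, p ∈ Dt → q ∈ Dt → x ∈ common Dt p q → π x ∈ common D (π p) (π q) :=
    fun hp hq hx => ⟨((hperp hp).mp hx.1).2, ((hperp hq).mp hx.2).2⟩
  have hne : ∀ {p q : ↥Gt}, p ∈ Dt → q ∈ Dt → p ≠ q → π p ≠ π q := fun hp hq k k' => k (hinjD hp hq k')
  have hcls : IsThreeTranspositionClass Dt := by
    refine ⟨⟨fun p hp => ?_, fun p hp q hq => ?_⟩, ?_, ?_⟩
    · refine orderOf_eq_prime (hext ?_ ?_) fun k => ?_
      · rw [map_pow, map_one, pow_two]; exact mul_self h.1 hp.1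
      · rw [map_pow, map_one, show sg p = -1 from hp.2]; rfl
      · have := h.1.1 (π p) hp.1
        rw [k, map_one, orderOf_one] at this
        omega
    · have key : ∀ n : ℕ, (π p * π q) ^ n = 1 → (p * q) ^ n = 1 := fun n k => hext (by simpa using k) (by
        rw [map_pow, map_mul, show sg p = -1 from hp.2, show sg q = -1 from hq.2, map_one]
        simp)
      exact (h.1.2 _ hp.1 _ hq.1).imp (key 2) (key 3)
    · obtain ⟨a, ha, -⟩ := h.2.1
      refine ⟨_, hup1 a ha, Set.ext fun p => ⟨fun hp => ?_, fun hp => ?_⟩⟩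
      · obtain ⟨g, hg⟩ := transitive h ha hp.1
        obtain ⟨k, rfl⟩ := hπsurj g
        exact isConj_iff.mpr ⟨k, hconjπ (hup1 a ha) hp (by rw [hup2]; exact hg)⟩
      · obtain ⟨k, rfl⟩ := isConj_iff.mp (show IsConj (up a ha) p from hp)
        refine ⟨?_, ?_⟩
        · show π (k * up a ha * k⁻¹) ∈ D
          rw [map_mul, map_mul, map_inv, hup2]
          exact conj_mem h _ ha
        · show sg (k * up a ha * k⁻¹) = -1
          rw [map_mul, map_mul, map_inv, mul_comm, inv_mul_cancel_left]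
          exact (hup1 a ha).2
    · exact Subgroup.closure_closure_coe_preimage
  have C : Cov.Cover Dt :=
    ⟨hcls, hself, fun a ha => (B.set.perp_ne _ ha.1).elim fun u hu => ⟨_, hlift ha u hu⟩,
      hpoint,
      fun x hx p hp q hq => by
        obtain ⟨k, hk, e⟩ := lift_conj B hx.1 ((hperp hx).mp hp).2 ((hperp hx).mp hq).2
        obtain ⟨k', hk', rfl⟩ := hmap hx hk
        exact ⟨k', hk', hconjπ hp.1 hq.1 e⟩,
      fun x hx y hy p hp q hq hpy hqy => by
        obtain ⟨k, hk, hky, e⟩ := lift_conj_fix B hx.1 ((hperp hx).mp hy).2 ((hperp hx).mp hp).2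
          ((hperp hx).mp hq).2 ((hperp hy.1).mp hpy).2 ((hperp hy.1).mp hqy).2
        obtain ⟨k', hk', rfl⟩ := hmap hx hk
        exact ⟨k', hk', hpoint y hy.1 x (perp_symm hx hy) hk' (hcomm (commute_self hky)),
          hconjπ hp.1 hq.1 e⟩,
      fun p hp q hq k => by
        obtain ⟨u, hu⟩ := common_ne B hp.1 hq.1 (hne hp hq k)
        exact ⟨_, hcommon hp hq hu⟩,
      fun x hx p hp r hr k => by
        obtain ⟨y, h1, h2, h3⟩ := tri B hx.1 ((hperp hx).mp hp).2 ((hperp hx).mp hr).2 (hne hp.1 hr.1 k)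
        exact ⟨_, hlift hx y h1, hlift hp.1 y h2, hlift hr.1 y h3⟩,
      fun p hp q hq k c x hx y hy hxy => by
        obtain ⟨z, hz, z1, z2⟩ := diam B hp.1 hq.1 (hne hp hq k) (c.map π) (hcom' hp hq hx) (hcom' hp hq hy)
          fun k' => hxy (hcomm k')
        exact ⟨_, hcommon hp hq hz, hcomm (by rwa [hup2]), hcomm (by rwa [hup2])⟩,
      fun d hd f hf hdf x hx w hw hxw => by
        obtain ⟨z, hz, z1⟩ := exists_near B hd.1 hf.1 (fun k => hdf (hcomm k)) ((hperp hd).mp hw).2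
        exact ⟨_, hcommon hd hf hz, hcomm (by rwa [hup2])⟩⟩
  have hπinj : Function.Injective π := (injective_iff_map_eq_one π).mpr fun g hg => by
    obtain ⟨a, ha, -⟩ := hcls.2.1
    have hga : g ∈ Subgroup.centralizer ({a} : Set ↥Gt) :=
      Subgroup.mem_centralizer_singleton_iff.mpr (hcomm (by rw [hg]; exact Commute.one_left _)).eq
    rw [Cov.centralizer_eq C ha] at hga
    exact huniq ha hga (one_mem _) (hg.trans (map_one π).symm)
  let e := MulEquiv.ofBijective π ⟨hπinj, hπsurj⟩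
  refine ⟨sg.comp e.symm.toMonoidHom, fun a ha => ?_⟩
  show sg (e.symm a) = -1
  rw [show e.symm a = up a ha from e.injective (by rw [e.apply_symm_apply]; exact (hup2 a ha).symm)]
  exact (hup1 a ha).2

end M24

end Cfsg.Agent.Block.FischerTypes
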