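import Cfsg.Agent.Lib.Block.FischerTypes.M24Group
import Cfsg.Agent.Lib.Block.FischerTypes.M23Products

/-! Products of at most four commuting transpositions in type M(24). -/

set_option autoImplicit false
set_option linter.style.haveILetI false
set_option linter.unusedSectionVars false

namespace Cfsg.Agent.Block.FischerTypes.M24

open Cfsg Cfsg.Agent.Spor.ThreeTrans
open Cfsg.Agent.Block.FischerTypes.M22 (perp_symm commute_self)

variable {G : Type*} [Group G] [Finite G] {D : Set G} (B : Base D)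
include B

theorem no_four {l : List G} (hl : CList D 4 l) : l.prod ≠ 1 :=
  four_ne B.set hl.1 hl.2.1 hl.2.2.1 hl.2.2.2

theorem no_six {l : List G} (hl : CList D 6 l) : l.prod ≠ 1 :=
  no_succ B.set (fun a ha _ hL => M23.five_ne (B.sub a ha) hL.1 hL.2.1 hL.2.2.1 hL.2.2.2) hl

omit B in
theorem list_split {l : List G} (hD : ∀ x ∈ l, x ∈ D) (hc : ∀ x ∈ l, ∀ y ∈ l, Commute x y) {u : G}
    (hu : u ∈ l) [DecidableEq G] : l.prod = u * (l.erase u).prod := by
  rw [(List.perm_cons_erase hu).prod_eq' (List.pairwise_of_forall_mem_list hc), List.prod_cons]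

/-- A member is not a product of three commuting ones. -/
theorem three_ne_member {t : G} (ht : t ∈ D) {l : List G} (hl : CList D 3 l) : l.prod ≠ t := by
  classical
  intro e
  have h := B.set.cls
  obtain ⟨hn, hlen, hD, hc⟩ := hl
  have hct : ∀ u ∈ l, Commute u t := fun u hu => e ▸ Commute.list_prod_right _ u fun v hv => hc u hu v hv
  by_cases hin : t ∈ l
  · rw [list_split hD hc hin] at e
    have h1 : (l.erase t).prod = 1 := by simpa using e
    obtain ⟨u, v, huv⟩ := List.length_eq_two.mp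
      (show (l.erase t).length = 2 by rw [List.length_erase_of_mem hin, hlen])
    have hv : v ∈ D := hD v (List.mem_of_mem_erase (b := t) (by rw [huv]; simp))
    have hne : u ≠ v := by have := hn.erase t; rw [huv] at this; simpa using this
    rw [huv] at h1
    simp only [List.prod_cons, List.prod_nil, mul_one] at h1
    exact hne ((eq_inv_of_mul_eq_one_left h1).trans (inv_eq h.1 hv))
  · refine no_four B (CList.cons (k := 3) ⟨hn, hlen, hD, hc⟩ ht fun u hu =>
      ⟨hD u hu, fun k => hin (k ▸ hu), (hct u hu).symm⟩) ?_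
    rw [List.prod_cons, e, mul_self h.1 ht]

/-- A product of four is not a product of two. -/
theorem four_ne_pair {d e : G} (hd : d ∈ D) (he : e ∈ perp D d) {l : List G} (hl : CList D 4 l) :
    l.prod ≠ d * e := by
  classical
  intro hx
  have h := B.set.cls
  obtain ⟨hn, hlen, hD, hc⟩ := hl
  have three : ∀ {u : G}, u ∈ l → CList D 3 (l.erase u) := fun {u} hu =>
    ⟨hn.erase u, by rw [List.length_erase_of_mem hu, hlen], fun x hx => hD x (List.mem_of_mem_erase hx),
      fun x hx y hy => hc x (List.mem_of_mem_erase hx) y (List.mem_of_mem_erase hy)⟩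
  have hde : d ≠ e := Ne.symm he.2.1
  have kde : Commute d e := he.2.2
  have hnd : d ∉ l := fun k => three_ne_member B he.1 (three k) (by
    rw [list_split hD hc k] at hx
    exact mul_left_cancel hx)
  have hne : e ∉ l := fun k => three_ne_member B hd (three k) (by
    rw [list_split hD hc k, kde.eq] at hx
    exact mul_left_cancel hx)
  have hboth : ∀ u ∈ l, Commute u d ∧ Commute u e := fun u hu =>
    (commute_mul_iff h.1 hd he.1 (hD u hu) hde kde).mp
      (hx ▸ Commute.list_prod_right _ u fun v hv => hc u hu v hv)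
  have h6 : CList D 6 (d :: e :: l) := by
    refine CList.cons (CList.cons (k := 4) ⟨hn, hlen, hD, hc⟩ he.1 fun u hu =>
      ⟨hD u hu, fun k => hne (k ▸ hu), (hboth u hu).2.symm⟩) hd fun u hu => ?_
    rcases List.mem_cons.mp hu with rfl | hu
    · exact he
    · exact ⟨hD u hu, fun k => hnd (k ▸ hu), (hboth u hu).1.symm⟩
  refine no_six B h6 ?_
  rw [List.prod_cons, List.prod_cons, hx, ← mul_assoc, ← pow_two]
  exact sq_of_commute h hd he.1 kde

/-- The parity of a product of members. -/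
theorem sign_list : ∃ χ : G →* ℤˣ, ∀ l : List G, (∀ x ∈ l, x ∈ D) → χ l.prod = (-1) ^ l.length := by
  obtain ⟨χ, hχ⟩ := parity_exists B
  refine ⟨χ, fun l => ?_⟩
  induction l with
  | nil => simp
  | cons x l ih =>
    intro hl
    rw [List.prod_cons, map_mul, hχ x (hl x List.mem_cons_self),
      ih fun y hy => hl y (List.mem_cons_of_mem _ hy), List.length_cons, pow_succ, mul_comm]

theorem fact_unique {m m' : ℕ} (h1 : 1 ≤ m) (h4 : m ≤ 4) (h1' : 1 ≤ m') (h4' : m' ≤ 4) {x : G}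
    {l l' : List G} (hl : Fact' D m x l) (hl' : Fact' D m' x l') : m = m' := by
  obtain ⟨hn, hlen, hD, hc, rfl⟩ := hl
  obtain ⟨hn', hlen', hD', hc', he⟩ := hl'
  obtain ⟨χ, hχ⟩ := sign_list B
  have hpar : ((-1 : ℤˣ) ^ m) = (-1) ^ m' := by
    have := congrArg χ he
    rw [hχ l hD, hχ l' hD', hlen, hlen'] at this
    exact this.symm
  interval_cases m <;> interval_cases m' <;>
    first
    | rfl
    | exact absurd hpar (by decide)
    | (exfalso
       first
        | (obtain ⟨t, rfl⟩ := List.length_eq_one_iff.mp hlen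
           exact three_ne_member B (hD t (by simp)) ⟨hn', hlen', hD', hc'⟩ (by simpa using he))
        | (obtain ⟨t, rfl⟩ := List.length_eq_one_iff.mp hlen'
           exact three_ne_member B (hD' t (by simp)) ⟨hn, hlen, hD, hc⟩ (by simpa using he.symm))
        | (obtain ⟨d, e, rfl⟩ := List.length_eq_two.mp hlen
           exact four_ne_pair B (hD d (by simp))
            ⟨hD e (by simp), Ne.symm (by simpa using hn), hc d (by simp) e (by simp)⟩
            ⟨hn', hlen', hD', hc'⟩ (by simpa using he))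
        | (obtain ⟨d, e, rfl⟩ := List.length_eq_two.mp hlen'
           exact four_ne_pair B (hD' d (by simp))
            ⟨hD' e (by simp), Ne.symm (by simpa using hn'), hc' d (by simp) e (by simp)⟩
            ⟨hn, hlen, hD, hc⟩ (by simpa using he.symm)))

/-- The group is transitive on ordered commuting quadruples. -/
theorem trans_four {a b c f a' b' c' f' : G} (ha : a ∈ D) (hb : b ∈ perp D a) (hc : c ∈ common D a b)
    (hf : f ∈ tri3 D a b c) (ha' : a' ∈ D) (hb' : b' ∈ perp D a') (hc' : c' ∈ common D a' b')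
    (hf' : f' ∈ tri3 D a' b' c') :
    ∃ g : G, g * a * g⁻¹ = a' ∧ g * b * g⁻¹ = b' ∧ g * c * g⁻¹ = c' ∧ g * f * g⁻¹ = f' := by
  have h := B.set.cls
  obtain ⟨g, e1, e2⟩ := pair_conj B.set ha hb ha' hb'
  have h1 : g * c * g⁻¹ ∈ perp D a' := by rw [← e1]; exact (conj_mem_perp h g a).mpr hc.1
  have h2 : g * c * g⁻¹ ∈ perp D b' := by rw [← e2]; exact (conj_mem_perp h g b).mpr hc.2
  obtain ⟨k, k1, k2, e3⟩ := lift_conj_fix B ha' hb' h1 hc'.1 h2 hc'.2
  have eq : ∀ u, k * g * u * (k * g)⁻¹ = k * (g * u * g⁻¹) * k⁻¹ := fun u => by simp [mul_assoc]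
  have ea : k * g * a * (k * g)⁻¹ = a' := by rw [eq, e1, conj_self_eq (commute_self k1)]
  have eb : k * g * b * (k * g)⁻¹ = b' := by rw [eq, e2, conj_self_eq (commute_self k2)]
  have ec : k * g * c * (k * g)⁻¹ = c' := by rw [eq, e3]
  have hf1 : k * g * f * (k * g)⁻¹ ∈ tri3 D a' b' c' := by
    rw [← ea, ← eb, ← ec]
    exact ⟨⟨(conj_mem_perp h _ a).mpr hf.1.1, (conj_mem_perp h _ b).mpr hf.1.2⟩,
      (conj_mem_perp h _ c).mpr hf.2⟩
  obtain ⟨-, -, -, -, σ, -, -, -, hconj⟩ := tri_model B ha' hb' hc'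
  obtain ⟨j, hj⟩ := hconj _ hf1 f' hf'
  have fix : ∀ {u : G}, tri3 D a' b' c' ⊆ perp D u → Commute (j : G) u := fun hu =>
    commute_self (Subgroup.closure_mono hu j.2)
  have eq' : ∀ u, (j : G) * (k * g) * u * ((j : G) * (k * g))⁻¹ = j * (k * g * u * (k * g)⁻¹) * (j : G)⁻¹ :=
    fun u => by simp [mul_assoc]
  exact ⟨j * (k * g), by rw [eq', ea, conj_self_eq (fix fun x hx => hx.1.1)],
    by rw [eq', eb, conj_self_eq (fix fun x hx => hx.1.2)],
    by rw [eq', ec, conj_self_eq (fix fun x hx => hx.2)], by rw [eq', hj]⟩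

theorem exists_four (hne : D.Nonempty) :
    ∃ a b c f, a ∈ D ∧ b ∈ perp D a ∧ c ∈ common D a b ∧ f ∈ tri3 D a b c := by
  obtain ⟨a, ha⟩ := hne
  obtain ⟨u, hu⟩ := B.set.perp_ne a ha
  obtain ⟨p, q, r, hp, hq, hr⟩ := M23.exists_triple (B.sub a ha) ⟨_, pr_mem hu⟩
  obtain ⟨b, hb, rfl⟩ := exists_of_mem hp
  obtain ⟨c, hc, rfl⟩ := exists_of_mem hq.1
  obtain ⟨f, hf, rfl⟩ := exists_of_mem hr.1.1
  exact ⟨a, b, c, f, ha, hb, ⟨hc, (toK B ha hb hc).mp hq⟩,
    ⟨⟨hf, (toK B ha hb hf).mp hr.1⟩, (toK B ha hc hf).mp hr.2⟩⟩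

omit B in
theorem four_clist {a b c f : G} (ha : a ∈ D) (hb : b ∈ perp D a) (hc : c ∈ common D a b)
    (hf : f ∈ tri3 D a b c) : CList D 4 [a, b, c, f] := by
  refine CList.cons (CList.cons (CList.cons (CList.cons (k := 0) ⟨List.nodup_nil, rfl, by simp, by simp⟩
    hf.1.1.1 (by simp)) hc.1.1 ?_) hb.1 ?_) ha ?_
  · simp only [List.mem_cons, List.not_mem_nil, or_false]; rintro y rfl; exact hf.2
  · simp only [List.mem_cons, List.not_mem_nil, or_false]; rintro y (rfl | rfl); exacts [hc.2, hf.1.2]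
  · simp only [List.mem_cons, List.not_mem_nil, or_false]; rintro y (rfl | rfl | rfl); exacts [hb, hc.1, hf.1.1]

theorem fact_exists (hne : D.Nonempty) {m : ℕ} (h1 : 1 ≤ m) (h4 : m ≤ 4) :
    ∃ x : G, orderOf x = 2 ∧ ∃ l, Fact' D m x l := by
  have h := B.set.cls
  haveI : Fact (Nat.Prime 2) := ⟨Nat.prime_two⟩
  obtain ⟨a, b, c, f, ha, hb, hc, hf⟩ := exists_four B hne
  have h4' := four_clist ha hb hc hf
  have hsub : List.Sublist ([a, b, c, f].take m) [a, b, c, f] := List.take_sublist _ _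
  set l := [a, b, c, f].take m
  have hlen : l.length = m := by simp [l]; omega
  have hl : CList D m l := ⟨h4'.1.sublist hsub, hlen, fun x hx => h4'.2.2.1 x (hsub.subset hx),
    fun x hx y hy => h4'.2.2.2 x (hsub.subset hx) y (hsub.subset hy)⟩
  refine ⟨l.prod, orderOf_eq_prime ?_ ?_, l, hl.1, hl.2.1, hl.2.2.1, hl.2.2.2, rfl⟩
  · rw [pow_two]; exact prod_mul_prod h.1 _ hl.2.2.1 hl.2.2.2
  · intro e
    interval_cases m
    · obtain ⟨u, hu⟩ := List.length_eq_one_iff.mp hlen
      have := ne_one h.1 (hl.2.2.1 u (by simp [hu]))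
      exact this (by simpa [hu] using e)
    · obtain ⟨u, v, huv⟩ := List.length_eq_two.mp hlen
      have hne' : u ≠ v := by have := hl.1; rw [huv] at this; simpa using this
      have e' : u * v = 1 := by simpa [huv] using e
      exact hne' (by rw [eq_inv_of_mul_eq_one_left e', inv_eq h.1 (hl.2.2.1 v (by simp [huv]))])
    · exact three_ne h B.set.tf hl.1 hl.2.1 hl.2.2.1 hl.2.2.2 e
    · exact no_four B hl e

omit B in
theorem four_parts {l : List G} (hl : CList D 4 l) : ∃ a b c f, l = [a, b, c, f] ∧ a ∈ D ∧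
    b ∈ perp D a ∧ c ∈ common D a b ∧ f ∈ tri3 D a b c := by
  match l, hl.2.1 with
  | [a, b, c, f], _ =>
    have t := hl.tail
    have u := t.tail
    exact ⟨a, b, c, f, rfl, hl.2.2.1 a (by simp), hl.head (by simp),
      ⟨hl.head (by simp), t.head (by simp)⟩,
      ⟨⟨hl.head (by simp), t.head (by simp)⟩, u.head (by simp)⟩⟩

theorem fact_conj {m : ℕ} (h1 : 1 ≤ m) (h4 : m ≤ 4) {x y : G} (hx : ∃ l, Fact' D m x l)
    (hy : ∃ l, Fact' D m y l) : IsConj x y := by
  obtain ⟨l, hn, hlen, hD, hc, rfl⟩ := hx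
  obtain ⟨l', hn', hlen', hD', hc', rfl⟩ := hy
  refine isConj_iff.mpr ?_
  interval_cases m
  · obtain ⟨a, rfl⟩ := List.length_eq_one_iff.mp hlen
    obtain ⟨a', rfl⟩ := List.length_eq_one_iff.mp hlen'
    obtain ⟨g, hg⟩ := transitive B.set.cls (hD a (by simp)) (hD' a' (by simp))
    exact ⟨g, by simpa using hg⟩
  · obtain ⟨a, b, rfl⟩ := List.length_eq_two.mp hlen
    obtain ⟨a', b', rfl⟩ := List.length_eq_two.mp hlen'
    obtain ⟨g, e1, e2⟩ := pair_conj B.set (hD a (by simp))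
      (⟨hD b (by simp), Ne.symm (by simpa using hn), hc a (by simp) b (by simp)⟩ : b ∈ perp D a)
      (hD' a' (by simp))
      (⟨hD' b' (by simp), Ne.symm (by simpa using hn'), hc' a' (by simp) b' (by simp)⟩ : b' ∈ perp D a')
    exact ⟨g, by subst e1 e2; simp [mul_assoc]⟩
  · obtain ⟨a, b, c, rfl⟩ := List.length_eq_three.mp hlen
    obtain ⟨a', b', c', rfl⟩ := List.length_eq_three.mp hlen'
    obtain ⟨ha, hb, hc₁⟩ := (M22.fact_iff B.set.cls).mp ⟨hn, hlen, hD, hc, rfl⟩
    obtain ⟨ha', hb', hc₁'⟩ := (M22.fact_iff B.set.cls).mp ⟨hn', hlen', hD', hc', rfl⟩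
    obtain ⟨g, e1, e2⟩ := pair_conj B.set ha hb ha' hb'
    have k1 : g * c * g⁻¹ ∈ perp D a' := by rw [← e1]; exact (conj_mem_perp B.set.cls g a).mpr hc₁.1
    have k2 : g * c * g⁻¹ ∈ perp D b' := by rw [← e2]; exact (conj_mem_perp B.set.cls g b).mpr hc₁.2
    obtain ⟨k, hk1, hk2, e3⟩ := lift_conj_fix B ha' hb' k1 hc₁'.1 k2 hc₁'.2
    refine ⟨k * g, ?_⟩
    have e1' := conj_self_eq (commute_self hk1)
    have e2' := conj_self_eq (commute_self hk2)
    subst e1 e2
    rw [← e3]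
    conv_rhs => rw [← e1', ← e2']
    simp [mul_assoc]
  · obtain ⟨a, b, c, f, rfl, ha, hb, hc₁, hf⟩ := four_parts ⟨hn, hlen, hD, hc⟩
    obtain ⟨a', b', c', f', rfl, ha', hb', hc₁', hf'⟩ := four_parts ⟨hn', hlen', hD', hc'⟩
    obtain ⟨g, e1, e2, e3, e4⟩ := trans_four B ha hb hc₁ hf ha' hb' hc₁' hf'
    exact ⟨g, by subst e1 e2 e3 e4; simp [mul_assoc]⟩

end Cfsg.Agent.Block.FischerTypes.M24
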