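import Cfsg.Agent.Lib.Block.FischerTypes.M24QuadKernel
import Cfsg.Agent.Lib.Block.FischerTypes.M24Pair
import Cfsg.Agent.Lib.Fus.CharTwo
import Cfsg.Agent.Lib.Grp.LargeExtraImage
import Cfsg.Agent.Lib.Grp.Cores

/-! The centraliser in the derived group of type M(24) of a product of four commuting members:
2^(1+12).3.U₄(3).2. -/

set_option autoImplicit false
set_option linter.style.haveILetI false
set_option linter.unusedSectionVars false

namespace Cfsg.Agent.Block.FischerTypes.M24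

open Cfsg Cfsg.Agent.Spor.ThreeTrans
open QuadModel (madj reflP theta)
open Cfsg.Agent.Spor

variable {G : Type*} [Group G] [Finite G] {D : Set G} {z : G}

namespace Four

variable (H : Four D z)
include H

/-- The core consists of even elements. -/
theorem coreG_even {χ : G →* ℤˣ} (hχ : ∀ a ∈ D, χ a = -1) : H.coreG ≤ χ.ker := by
  intro g hg
  by_contra hne
  rw [MonoidHom.mem_ker] at hne
  have hg1 : χ g = -1 := (Int.units_eq_one_or _).resolve_left hne
  have hpair : ∀ (P : Qd D z), ∀ p ∈ P.1, ∀ q ∈ P.1, p * q ∈ χ.ker ⊓ H.coreG := fun P p hp q hq =>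
    ⟨MonoidHom.mem_ker.mpr (by rw [map_mul, hχ p (Qd.mem_D hp), hχ q (Qd.mem_D hq)]; decide),
      H.pair_coreG hp hq⟩
  obtain ⟨-, a, ha⟩ := H.extra_sub inf_le_right hpair
  obtain ⟨-, b, hb⟩ := H.extra_sub le_rfl fun P p hp q hq => H.pair_coreG hp hq
  set ε : ↥H.coreG →* ℤˣ := χ.comp H.coreG.subtype
  have hs : Function.Surjective ε := fun u => by
    rcases Int.units_eq_one_or u with rfl | rfl
    exacts [⟨1, map_one ε⟩, ⟨⟨g, hg⟩, hg1⟩]
  have hi : ε.ker.index = 2 := by
    rw [Subgroup.index_ker, MonoidHom.range_eq_top.mpr hs, Subgroup.card_top, Nat.card_eq_fintype_card,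
      Fintype.card_units_int]
  have hk : Nat.card ↥ε.ker = Nat.card ↥(χ.ker ⊓ H.coreG) := by
    rw [Nat.card_congr (ε.ker.equivMapOfInjective _ (Subgroup.subtype_injective _)).toEquiv,
      show ε.ker = χ.ker.subgroupOf H.coreG from rfl, Subgroup.subgroupOf_map_subtype]
  have h := Subgroup.card_mul_index ε.ker
  rw [hk, hi, ha, hb, ← pow_succ] at h
  have := Nat.pow_right_injective le_rfl h
  omega

/-- What fixes every quad is even. -/
theorem kerG_even {χ : G →* ℤˣ} (hχ : ∀ a ∈ D, χ a = -1) : H.kerG ≤ χ.ker := by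
  intro g hg
  have h : χ (g * (g * g)) = 1 := MonoidHom.mem_ker.mp (H.coreG_even hχ (H.cube_core hg))
  rw [map_mul, map_mul] at h
  rw [MonoidHom.mem_ker]
  rcases Int.units_eq_one_or (χ g) with e | e
  · exact e
  · rw [e] at h
    exact absurd h (by decide)

theorem card_kerG_act : Nat.card ↥H.kerG = Nat.card ↥(H.act).ker :=
  (Nat.card_congr ((H.act).ker.equivMapOfInjective _
    (Subgroup.subtype_injective (Subgroup.centralizer ({z} : Set G)))).toEquiv).symm

/-- The orders. -/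
theorem orders (ψ : Fin 126 ≃ Qd D z) (hψ : ∀ n m : Fin 126, QAdj (ψ n) (ψ m) ↔ madj n m = true)
    {χ : G →* ℤˣ} (hχ : ∀ a ∈ D, χ a = -1) :
    Nat.card ↥H.coreG = 2 ^ 13 ∧ Nat.card ↥H.kerG = 3 * 2 ^ 13 := by
  set r := H.rho ψ
  have hker : r.ker = (H.act).ker := Subgroup.ext fun x => H.rho_eq_one ψ
  have hcard : Nat.card ↥H.kerG * Nat.card ↥r.range = 321052999680 := by
    rw [H.card_kerG_act, ← hker, ← H.card_cent, ← Subgroup.index_ker, Subgroup.card_mul_index]
  have hL : ∀ a ∈ D, ∀ b ∈ D, a * b ∈ χ.ker := fun a ha b hb => by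
    rw [MonoidHom.mem_ker, map_mul, hχ a ha, hχ b hb]; decide
  have hθ : theta.range ≤ r.range :=
    (H.theta_le ψ hψ hL).trans (MonoidHom.range_eq_map r ▸ Subgroup.map_mono le_top)
  obtain ⟨u, hu⟩ := H.member_quad ψ 0
  have hout : reflP 0 ∉ theta.range := by
    intro k
    obtain ⟨e, he, hek⟩ := H.theta_le ψ hψ hL k
    rw [← H.rho_member ψ hψ hu] at hek
    have hm : e⁻¹ * ⟨u, mem_cz.mpr (Qd.commute_z hu)⟩ ∈ (H.act).ker := by
      rw [← hker, MonoidHom.mem_ker, map_mul, map_inv, hek, inv_mul_cancel]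
    have hm' : (e : G)⁻¹ * u ∈ χ.ker := H.kerG_even hχ ⟨_, hm, rfl⟩
    have h1 : χ u = 1 := by
      have := mul_mem (Subgroup.mem_subgroupOf.mp he) hm'
      rwa [← mul_assoc, mul_inv_cancel, one_mul] at this
    rw [hχ u (Qd.mem_D hu)] at h1
    exact absurd h1 (by decide)
  set T := theta.range.subgroupOf r.range
  haveI hTn : T.Normal := ⟨fun x hx g => by
    obtain ⟨_, ⟨c, rfl⟩⟩ := g
    exact H.theta_normal ψ hψ c hx⟩
  have hTc : Nat.card ↥T = 3265920 := by
    rw [Nat.card_congr (Subgroup.subgroupOfEquivOfLe hθ).toEquiv, QuadModel.card_range]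
  have hir : 3265920 * T.index = Nat.card ↥r.range := by rw [← hTc, Subgroup.card_mul_index]
  have heven : 2 ∣ T.index := by
    haveI : Fact (Nat.Prime 2) := ⟨Nat.prime_two⟩
    have hr0 : reflP 0 ∈ r.range := ⟨_, H.rho_member ψ hψ hu⟩
    have ho : orderOf (QuotientGroup.mk (⟨_, hr0⟩ : ↥r.range) : ↥r.range ⧸ T) = 2 := orderOf_eq_prime
      (by rw [← QuotientGroup.mk_pow, QuotientGroup.eq_one_iff]
          rw [show ((⟨_, hr0⟩ : ↥r.range)) ^ 2 = 1 from Subtype.ext (by
            rw [Subgroup.coe_pow, pow_two]; exact QuadModel.reflP_sq 0)]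
          exact one_mem _)
      fun e => hout (by
        have k := (QuotientGroup.eq_one_iff _).mp e
        rw [Subgroup.mem_subgroupOf] at k
        exact k)
    rw [← ho, Subgroup.index_eq_card]
    exact orderOf_dvd_natCard _
  have hle := H.card_rho_le ψ hψ
  obtain ⟨-, n, hn⟩ := H.extra_sub le_rfl fun P p hp q hq => H.pair_coreG hp hq
  rw [← hir] at hcard hle
  obtain ⟨i, hi⟩ := heven
  rw [hi] at hcard hle
  have hi2 : i ≤ 2 := by omega
  have h3 : ¬ 3 ∣ Nat.card ↥H.coreG := by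
    rw [hn]
    exact fun k => absurd (Nat.Prime.dvd_of_dvd_pow Nat.prime_three k) (by norm_num)
  have h14 : Nat.card ↥H.coreG ≠ 16384 := by
    rw [hn, show (16384 : ℕ) = 2 ^ 14 by norm_num]
    exact fun k => absurd (Nat.pow_right_injective le_rfl k) (by omega)
  rcases H.card_kerG with e | e <;> rw [e] at hcard <;> rw [e] <;> interval_cases i <;> omega

theorem coreG_le_even {χ : G →* ℤˣ} (hχ : ∀ a ∈ D, χ a = -1) :
    H.coreG ≤ χ.ker ⊓ Subgroup.centralizer ({z} : Set G) :=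
  fun _ hg => ⟨H.coreG_even hχ hg, mem_cz.mpr (H.coreG_commute_z hg)⟩

/-- The centraliser of the product in the group of even elements. -/
theorem centralizer_structure {L C : Subgroup G} (hL : L = commutator G)
    (hC : C = L ⊓ Subgroup.centralizer ({z} : Set G)) :
    ∃ (Q : Subgroup ↥C) (_ : Q.Normal), Cfsg.generalizedFittingSubgroup ↥C = Q ∧ Cfsg.IsExtraspecial 2 ↥Q ∧
      Nat.card Q = 2 ^ 13 ∧ ∃ (N M : Subgroup ↥C) (_ : N.Normal) (_ : M.Normal), Q ≤ N ∧ N ≤ M ∧
        Nat.card N = 3 * Nat.card Q ∧ (∃ (K : Type) (_ : Field K) (_ : Fintype K), Fintype.card K = 9 ∧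
          Nonempty (↥M ⧸ N.subgroupOf M ≃* Cfsg.PSU 4 K 3)) ∧ M.index = 2 := by
  classical
  obtain ⟨l, hl⟩ := H.fact
  obtain ⟨ψ, -, hψ⟩ := H.exists_model ⟨_, l, hl, rfl⟩
  obtain ⟨χ, hχ, hcomm⟩ := even_part H.base (by
    obtain ⟨u, hu⟩ := Qd.nonempty (⟨_, l, hl, rfl⟩ : Qd D z)
    exact ⟨u, Qd.mem_D hu⟩)
  rw [hcomm] at hL
  subst hL hC
  set R := Subgroup.centralizer ({z} : Set G)
  set C := χ.ker ⊓ R
  obtain ⟨hcore, hkerc⟩ := H.orders ψ hψ hχ
  have hpairs : ∀ a ∈ D, ∀ b ∈ D, a * b ∈ χ.ker := fun a ha b hb => by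
    rw [MonoidHom.mem_ker, map_mul, hχ a ha, hχ b hb]; decide
  set φ : ↥C →* Equiv.Perm (Fin 126) := (H.rho ψ).comp (Subgroup.inclusion inf_le_right)
  have hQC : H.coreG ≤ C := H.coreG_le_even hχ
  have hNC : H.kerG ≤ C := fun g hg => ⟨H.kerG_even hχ hg, (H.mem_kerG.mp hg).1⟩
  have hN : φ.ker = H.kerG.subgroupOf C := Subgroup.ext fun x => by
    rw [Subgroup.mem_subgroupOf, H.mem_kerG, MonoidHom.mem_ker]
    exact ⟨fun e => ⟨x.2.2, (H.rho_eq_one ψ).mp e⟩, fun ⟨_, e⟩ => (H.rho_eq_one ψ).mpr e⟩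
  have hNcard : Nat.card ↥φ.ker = 3 * 2 ^ 13 := by
    rw [hN, Nat.card_congr (Subgroup.subgroupOfEquivOfLe hNC).toEquiv, hkerc]
  have hθ : theta.range ≤ φ.range := fun x hx => by
    obtain ⟨e, he, hex⟩ := H.theta_le ψ hψ hpairs hx
    exact ⟨⟨(e : G), Subgroup.mem_subgroupOf.mp he, e.2⟩, hex⟩
  -- the order of the group of even elements centralising the product
  have hCcard : Nat.card ↥C * 2 = 321052999680 := by
    set ε : ↥R →* ℤˣ := χ.comp R.subtype
    obtain ⟨u, hu⟩ := H.member_quad ψ 0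
    have hs : Function.Surjective ε := fun w => by
      rcases Int.units_eq_one_or w with rfl | rfl
      exacts [⟨1, map_one ε⟩, ⟨⟨u, mem_cz.mpr (Qd.commute_z hu)⟩, hχ u (Qd.mem_D hu)⟩]
    have hi : ε.ker.index = 2 := by
      rw [Subgroup.index_ker, MonoidHom.range_eq_top.mpr hs, Subgroup.card_top, Nat.card_eq_fintype_card,
        Fintype.card_units_int]
    have hk : Nat.card ↥ε.ker = Nat.card ↥C := by
      rw [Nat.card_congr (ε.ker.equivMapOfInjective _ (Subgroup.subtype_injective _)).toEquiv,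
        show ε.ker = χ.ker.subgroupOf R from rfl, Subgroup.subgroupOf_map_subtype]
    rw [← hk, ← hi, Subgroup.card_mul_index, H.card_cent]
  have hrange : Nat.card ↥φ.range = 6531840 := by
    have h := Subgroup.card_mul_index φ.ker
    rw [Subgroup.index_ker, hNcard] at h
    omega
  set M := theta.range.comap φ with hMdef
  haveI hMn : M.Normal := ⟨fun x hx g => by
    rw [hMdef, Subgroup.mem_comap, map_mul, map_mul, map_inv]
    exact H.theta_normal ψ hψ _ hx⟩
  have hMi : M.index = 2 := by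
    rw [hMdef, Subgroup.index_comap]
    have h := Subgroup.card_mul_index (theta.range.subgroupOf φ.range)
    rw [Nat.card_congr (Subgroup.subgroupOfEquivOfLe hθ).toEquiv, QuadModel.card_range, hrange] at h
    show (theta.range.subgroupOf φ.range).index = 2
    omega
  set Q := H.coreG.subgroupOf C with hQdef
  have eQ : ↥Q ≃* ↥H.coreG := Subgroup.subgroupOfEquivOfLe hQC
  have hQcard : Nat.card ↥Q = 2 ^ 13 := by rw [Nat.card_congr eQ.toEquiv, hcore]
  haveI hQn : Q.Normal := ⟨fun x hx g => H.coreG_normal hx (mem_cz.mp g.2.2)⟩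
  have hQN : Q ≤ φ.ker := hN ▸ fun x hx => H.coreG_le hx
  -- the two-core
  have hO : Cfsg.pCore 2 ↥C = Q := by
    haveI : Fact (Nat.Prime 2) := ⟨Nat.prime_two⟩
    refine le_antisymm ?_ (Grp.le_pCore hQn (IsPGroup.of_card hQcard))
    set O := Cfsg.pCore 2 ↥C
    haveI : O.Normal := Grp.pCore_isNormal
    have hOp : IsPGroup 2 ↥O := Grp.pCore_isPGroup
    have hT : ∀ o ∈ O, φ o = 1 := by
      set T := O.map φ
      have hTp : IsPGroup 2 ↥T := hOp.map φ
      have hTn : ∀ x ∈ T, ∀ y ∈ theta.range, y * x * y⁻¹ ∈ T := by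
        rintro _ ⟨o, ho, rfl⟩ y hy
        obtain ⟨c, rfl⟩ := hθ hy
        exact ⟨c * o * c⁻¹, Subgroup.Normal.conj_mem inferInstance o ho c, by simp⟩
      haveI := QuadModel.simple_G43
      haveI hn : (T.comap theta).Normal := ⟨fun x hx g => by
        rw [Subgroup.mem_comap, map_mul, map_mul, map_inv]
        exact hTn _ hx _ ⟨g, rfl⟩⟩
      have hbot : T.comap theta = ⊥ := hn.eq_bot_or_eq_top.resolve_right fun htop => by
        have hle : theta.range ≤ T := by
          rintro _ ⟨y, rfl⟩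
          exact Subgroup.mem_comap.mp (htop ▸ Subgroup.mem_top y)
        obtain ⟨k, hk⟩ := (hTp.to_le hle).exists_card_eq
        rw [QuadModel.card_range] at hk
        have : 3 ∣ 2 ^ k := hk ▸ by norm_num
        exact absurd (Nat.Prime.dvd_of_dvd_pow Nat.prime_three this) (by norm_num)
      intro o ho
      refine QuadModel.centralizer_eq_one fun x hx => ?_
      have h1 : φ o * x * (φ o)⁻¹ * x⁻¹ ∈ T := by
        rw [mul_assoc (φ o) x, mul_assoc (φ o)]
        exact mul_mem ⟨o, ho, rfl⟩ (hTn _ (inv_mem ⟨o, ho, rfl⟩) x hx)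
      have h2 : φ o * x * (φ o)⁻¹ * x⁻¹ ∈ theta.range := mul_mem (H.theta_normal ψ hψ _ hx) (inv_mem hx)
      obtain ⟨y, hy⟩ := h2
      have hy1 : y ∈ T.comap theta := Subgroup.mem_comap.mpr (hy.symm ▸ h1)
      rw [hbot, Subgroup.mem_bot] at hy1
      rw [hy1, map_one] at hy
      exact mul_inv_eq_iff_eq_mul.mp (mul_inv_eq_one.mp hy.symm)
    intro o ho
    have hk : o ∈ φ.ker := MonoidHom.mem_ker.mpr (hT o ho)
    rw [hN, Subgroup.mem_subgroupOf] at hk
    have h3 : o * (o * o) ∈ Q := H.cube_core hk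
    obtain ⟨k, hk2⟩ := hOp.exists_card_eq
    have hcop : Nat.Coprime 3 (orderOf o) := by
      have hd : orderOf o ∣ 2 ^ k := hk2 ▸ O.orderOf_dvd_natCard ho
      exact Nat.Coprime.coprime_dvd_right hd (Nat.Coprime.pow_right k (by norm_num))
    obtain ⟨m, hm⟩ := exists_pow_eq_self_of_coprime hcop
    rw [← hm, pow_succ', pow_two]
    exact pow_mem h3 m
  have hF : Cfsg.generalizedFittingSubgroup ↥C = Q := by
    rw [Fus.generalizedFittingSubgroup_eq_of_charP (p := 2) ?_, hO]
    show Subgroup.centralizer _ ≤ _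
    rw [hO]
    intro x hx
    rcases H.centralizer_pairs (mem_cz.mp x.2.2) fun P p hp q hq =>
      (congrArg Subtype.val (Subgroup.mem_centralizer_iff.mp hx ⟨p * q, hQC (H.pair_coreG hp hq)⟩
        (H.pair_coreG hp hq))).symm with e | e
    · rw [show x = 1 from Subtype.ext e]; exact one_mem _
    · rw [hQdef, Subgroup.mem_subgroupOf, e]; exact H.z_mem_coreG
  have hNM : φ.ker ≤ M := fun x hx => by
    rw [hMdef, Subgroup.mem_comap, MonoidHom.mem_ker.mp hx]
    exact one_mem _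
  let f : ↥M →* ↥theta.range := (φ.comp M.subtype).codRestrict _ fun x => x.2
  have hfs : Function.Surjective f := fun y => by
    obtain ⟨c, hc⟩ := hθ y.2
    exact ⟨⟨c, by rw [hMdef, Subgroup.mem_comap, hc]; exact y.2⟩, Subtype.ext hc⟩
  have hfk : φ.ker.subgroupOf M = f.ker := Subgroup.ext fun x => by
    rw [Subgroup.mem_subgroupOf, MonoidHom.mem_ker, MonoidHom.mem_ker]
    exact ⟨fun e => Subtype.ext e, fun e => congrArg Subtype.val e⟩
  refine ⟨Q, hQn, hF, Cfsg.Agent.Grp.ExtraCentSimple.isExtraspecial_equiv eQ.symm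
    (H.extra_sub le_rfl fun P p hp q hq => H.pair_coreG hp hq).1, hQcard, φ.ker, M, inferInstance, hMn, hQN, hNM,
    by rw [hNcard, hQcard], ⟨UFourThree.K9, inferInstance, inferInstance, UFourThree.K9.card_eq,
      ⟨(QuotientGroup.quotientMulEquivOfEq hfk).trans ((QuotientGroup.quotientKerEquivOfSurjective f hfs).trans
        (MonoidHom.ofInjective QuadModel.theta_injective).symm)⟩⟩, hMi⟩

end Four

end Cfsg.Agent.Block.FischerTypes.M24
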