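import Cfsg.Agent.Lib.Block.FischerTypes.M24Frame
import Cfsg.Agent.Lib.Block.FischerTypes.M24Centralizer
import Cfsg.Agent.Lib.Block.FischerTypes.M22PairCentralizer

/-! What fixes the classes of twins around four commuting members in type M(24). -/

set_option autoImplicit false
set_option linter.style.haveILetI false
set_option linter.unusedSectionVars false

namespace Cfsg.Agent.Block.FischerTypes.M24

open Cfsg Cfsg.Agent.Spor.ThreeTrans
open Cfsg.Agent.Block.FischerTypes.M22 (perp_symm commute_self el)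

variable {G : Type*} [Group G] [Finite G] {D : Set G} (B : Base D)
include B

set_option maxHeartbeats 1000000 in
/-- Nothing fixing every class swaps two of the four, and what fixes every member lies in their group. -/
theorem descent {a b c f : G} (ha : a ∈ D) (hb : b ∈ perp D a) (hc : c ∈ common D a b) (hf : f ∈ tri3 D a b c) :
    (∀ g, Commute g a → Commute g b → g * c * g⁻¹ = f → g * f * g⁻¹ = c →
      (∀ u ∈ four D a b c f, ∀ w ∈ four D a b c f, (Commute w (g * u * g⁻¹) ↔ Commute w u)) → False) ∧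
    (∀ g, Commute g a → Commute g b → Commute g c → Commute g f →
      (∀ u ∈ four D a b c f, g * u * g⁻¹ = u) →
      ∃ k ∈ [1, a, b, a * b], ∃ h ∈ [1, c, f, c * f], g = k * h) := by
  classical
  have h := B.set.cls
  have htf := B.set.tf
  have KB := B.sub a ha
  set eK := pr D a b hb
  have heK : eK ∈ perpSet D a := pr_mem hb
  have C := KB.ctx eK heK
  have hc1 := (toK B ha hb hc.1).mpr hc.2
  have hf1 := (toK B ha hb hf.1.1).mpr hf.1.2
  set E2 := perpSet (perpSet D a) eK with hE2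
  set c2 := pr (perpSet D a) eK _ hc1
  set f2 := pr (perpSet D a) eK _ hf1
  have hcf2 : f2 ∈ perp E2 c2 := (M23.toK KB heK hc1 hf1).mpr ((toK B ha hc.1 hf.1.1).mpr hf.2)
  obtain ⟨P⟩ := M22.exists_pairData C (pr_mem hc1) hcf2
  -- two levels down
  have mem1 : ∀ {g : G}, Commute g a → g ∈ PerpGroup D a := fun {g} hg => by
    rw [← centralizer_eq B ha]; exact Subgroup.mem_centralizer_singleton_iff.mpr hg.eq
  let one : ∀ g : G, Commute g a → PerpQuot D a := fun g hg => QuotientGroup.mk ⟨g, mem1 hg⟩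
  have mem2 : ∀ {g : G} (hga : Commute g a), Commute g b → one g hga ∈ PerpGroup (perpSet D a) eK := by
    intro g hga hgb
    rw [← M23.centralizer_eq KB heK, Subgroup.mem_centralizer_singleton_iff]
    exact congrArg (QuotientGroup.mk' _) (Subtype.ext hgb.eq : (⟨g, mem1 hga⟩ : ↥(PerpGroup D a)) * el hb = el hb * ⟨g, mem1 hga⟩)
  let two : ∀ g : G, ∀ hga : Commute g a, Commute g b → PerpQuot (perpSet D a) eK := fun g hga hgb =>
    QuotientGroup.mk ⟨one g hga, mem2 hga hgb⟩
  have im : ∀ u ∈ four D a b c f, ∃ (h1 : u ∈ perp D a) (h2 : pr D a u h1 ∈ perp (perpSet D a) eK),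
      pr (perpSet D a) eK _ h2 ∈ common E2 c2 f2 := fun u hu =>
    ⟨hu.1.1.1, (toK B ha hb hu.1.1.1).mpr hu.1.1.2,
      ⟨(M23.toK KB heK hc1 _).mpr ((toK B ha hc.1 hu.1.1.1).mpr hu.1.2),
        (M23.toK KB heK hf1 _).mpr ((toK B ha hf.1.1 hu.1.1.1).mpr hu.2)⟩⟩
  have lift : ∀ x ∈ common E2 c2 f2, ∃ u ∈ four D a b c f, ∃ (h1 : u ∈ perp D a)
      (h2 : pr D a u h1 ∈ perp (perpSet D a) eK), pr (perpSet D a) eK _ h2 = x := by
    intro x hx
    obtain ⟨q, h2, rfl⟩ := exists_of_mem hx.1.1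
    obtain ⟨u, h1, rfl⟩ := exists_of_mem h2.1
    exact ⟨u, ⟨⟨⟨h1, (toK B ha hb h1).mp h2⟩, (toK B ha hc.1 h1).mp ((M23.toK KB heK hc1 h2).mp hx.1)⟩,
      (toK B ha hf.1.1 h1).mp ((M23.toK KB heK hf1 h2).mp hx.2)⟩, h1, h2, rfl⟩
  have com : ∀ {u v : G} (u1 : u ∈ perp D a) (u2 : pr D a u u1 ∈ perp (perpSet D a) eK) (v1 : v ∈ perp D a)
      (v2 : pr D a v v1 ∈ perp (perpSet D a) eK),
      Commute (pr (perpSet D a) eK _ u2) (pr (perpSet D a) eK _ v2) ↔ Commute u v := fun u1 u2 v1 v2 =>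
    ⟨fun k => commute_of_pr h htf ha u1 v1 (commute_of_pr KB.set.cls KB.set.tf heK u2 v2 k),
      fun k => commute_pr u2 v2 (commute_pr u1 v1 k)⟩
  have conj : ∀ {g u : G} (hga : Commute g a) (hgb : Commute g b) (u1 : u ∈ perp D a)
      (u2 : pr D a u u1 ∈ perp (perpSet D a) eK) (v1 : g * u * g⁻¹ ∈ perp D a)
      (v2 : pr D a _ v1 ∈ perp (perpSet D a) eK),
      two g hga hgb * pr (perpSet D a) eK _ u2 * (two g hga hgb)⁻¹ = pr (perpSet D a) eK _ v2 := by
    intro g u hga hgb u1 u2 v1 v2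
    exact congrArg (QuotientGroup.mk' (Subgroup.center ↥(PerpGroup (perpSet D a) eK)))
      (Subtype.ext (congrArg (QuotientGroup.mk' (Subgroup.center ↥(PerpGroup D a))) (Subtype.ext rfl :
        (⟨g, mem1 hga⟩ : ↥(PerpGroup D a)) * el u1 * (⟨g, mem1 hga⟩)⁻¹ = el v1)) :
        (⟨one g hga, mem2 hga hgb⟩ : ↥(PerpGroup (perpSet D a) eK)) * el u2 * (⟨one g hga, mem2 hga hgb⟩)⁻¹ = el v2)
  have conjIm : ∀ {g u : G} (hga : Commute g a) (hgb : Commute g b) (u1 : u ∈ perp D a)
      (_u2 : pr D a u u1 ∈ perp (perpSet D a) eK), u ∈ perp D b →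
      ∃ (v1 : g * u * g⁻¹ ∈ perp D a), pr D a _ v1 ∈ perp (perpSet D a) eK := by
    intro g u hga hgb u1 _ hub
    have v1 : g * u * g⁻¹ ∈ perp D a := perp_conj' h hga u1
    exact ⟨v1, (toK B ha hb v1).mpr (perp_conj' h hgb hub)⟩
  refine ⟨fun g hga hgb ec ef htw => ?_, fun g hga hgb hgc hgf hfix => ?_⟩
  · have hfeq : ∀ {x y : G} (e : x = y) (x1 : x ∈ perp D a) (x2 : pr D a x x1 ∈ perp (perpSet D a) eK)
        (y1 : y ∈ perp D a) (y2 : pr D a y y1 ∈ perp (perpSet D a) eK),
        pr (perpSet D a) eK _ x2 = pr (perpSet D a) eK _ y2 := by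
      intro x y e x1 x2 y1 y2; subst e; rfl
    obtain ⟨v1, v2⟩ := conjIm hga hgb hc.1 hc1 hc.2
    obtain ⟨w1, w2⟩ := conjIm hga hgb hf.1.1 hf1 hf.1.2
    have e1 : two g hga hgb * c2 * (two g hga hgb)⁻¹ = f2 :=
      (conj hga hgb hc.1 hc1 v1 v2).trans (hfeq ec v1 v2 hf.1.1 hf1)
    have e2 : two g hga hgb * f2 * (two g hga hgb)⁻¹ = c2 :=
      (conj hga hgb hf.1.1 hf1 w1 w2).trans (hfeq ef w1 w2 hc.1 hc1)
    have hcom : Commute (two g hga hgb) (c2 * f2) := by
      refine mul_inv_eq_iff_eq_mul.mp ?_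
      calc two g hga hgb * (c2 * f2) * (two g hga hgb)⁻¹
          = (two g hga hgb * c2 * (two g hga hgb)⁻¹) * (two g hga hgb * f2 * (two g hga hgb)⁻¹) := by
            simp [mul_assoc]
        _ = c2 * f2 := by rw [e1, e2, P.comm₁₂.eq]
    have hker : two g hga hgb ∈ P.kerC := by
      refine P.mem_kerC.mpr ⟨hcom, fun i => ?_⟩
      obtain ⟨u, hu, u1, u2, eu⟩ := lift _ (P.rep_mem i)
      obtain ⟨t1, t2⟩ := conjIm hga hgb u1 u2 hu.1.1.2
      show P.cid _ = i
      rw [← eu, conj hga hgb u1 u2 t1 t2]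
      have hrep := P.rep_mem i
      rw [← eu] at hrep
      have hguc : pr (perpSet D a) eK _ t2 ∈ common E2 c2 f2 := by
        rw [← conj hga hgb u1 u2 t1 t2]
        exact P.conj_common hcom hrep
      have hii := P.cid_rep i
      rw [← eu] at hii
      rw [← hii]
      refine (P.cid_eq_iff hguc hrep).mpr fun x hx => ?_
      obtain ⟨w, hw, w1', w2', rfl⟩ := lift x hx
      rw [com w1' w2' t1 t2, com w1' w2' u1 u2]
      exact htw u hu w hw
    have := (M22.mem_pairCent.mp (P.kerC_le_pair hker)).1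
    rw [conj_self_eq this] at e1
    exact hcf2.2.1 e1.symm
  · have hfix2 : ∀ x ∈ common E2 c2 f2, two g hga hgb * x * (two g hga hgb)⁻¹ = x := by
      intro x hx
      obtain ⟨u, hu, u1, u2, rfl⟩ := lift x hx
      obtain ⟨t1, t2⟩ := conjIm hga hgb u1 u2 hu.1.1.2
      rw [conj hga hgb u1 u2 t1 t2]
      have e := hfix u hu
      clear hx
      revert t1 t2
      rw [e]
      intro t1 t2
      rfl
    have cc : ∀ {x : G} (x1 : x ∈ perp D a) (x2 : pr D a x x1 ∈ perp (perpSet D a) eK), Commute g x →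
        Commute (two g hga hgb) (pr (perpSet D a) eK _ x2) := fun {x} x1 x2 k =>
      congrArg (QuotientGroup.mk' (Subgroup.center ↥(PerpGroup (perpSet D a) eK)))
        (Subtype.ext (congrArg (QuotientGroup.mk' (Subgroup.center ↥(PerpGroup D a))) (Subtype.ext k.eq :
          (⟨g, mem1 hga⟩ : ↥(PerpGroup D a)) * el x1 = el x1 * ⟨g, mem1 hga⟩)) :
          (⟨one g hga, mem2 hga hgb⟩ : ↥(PerpGroup (perpSet D a) eK)) * el x2 = el x2 * ⟨one g hga, mem2 hga hgb⟩)
    have hcl := P.fibre ((cc hc.1 hc1 hgc).mul_right (cc hf.1.1 hf1 hgf)) hfix2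
    have comm_all : ∀ x ∈ [1, c, f, c * f], Commute x a ∧ Commute x b := by
      intro x hx
      simp only [List.mem_cons, List.not_mem_nil, or_false] at hx
      rcases hx with rfl | rfl | rfl | rfl
      · exact ⟨Commute.one_left a, Commute.one_left b⟩
      · exact ⟨hc.1.2.2.symm, hc.2.2.2.symm⟩
      · exact ⟨hf.1.1.2.2.symm, hf.1.2.2.2.symm⟩
      · exact ⟨hc.1.2.2.symm.mul_left hf.1.1.2.2.symm, hc.2.2.2.symm.mul_left hf.1.2.2.2.symm⟩
    obtain ⟨x, hxl, xa, xb, ex⟩ : ∃ x ∈ [1, c, f, c * f], ∃ (xa : Commute x a) (xb : Commute x b),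
        two g hga hgb = two x xa xb := by
      rcases P.closure_cases hcl with e | e | e | e
      · refine ⟨1, by simp, Commute.one_left a, Commute.one_left b, e.trans ?_⟩
        rfl
      · exact ⟨c, by simp, (comm_all c (by simp)).1, (comm_all c (by simp)).2, e.trans rfl⟩
      · exact ⟨c * f, by simp, (comm_all (c * f) (by simp)).1, (comm_all (c * f) (by simp)).2, e.trans rfl⟩
      · refine ⟨f, by simp, (comm_all f (by simp)).1, (comm_all f (by simp)).2, e.trans ?_⟩
        rw [← mul_assoc, mul_self P.cls.1 P.mem, one_mul]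
    have hya : Commute (g * x⁻¹) a := hga.mul_left xa.inv_left
    have hyb : Commute (g * x⁻¹) b := hgb.mul_left xb.inv_left
    have hy2 : two (g * x⁻¹) hya hyb = 1 := by
      have e : two (g * x⁻¹) hya hyb = two g hga hgb * (two x xa xb)⁻¹ := rfl
      rw [e, ex, mul_inv_cancel]
    have hc2 := (QuotientGroup.eq_one_iff _).mp hy2
    rw [M23.centre KB heK, Subgroup.mem_subgroupOf] at hc2
    obtain ⟨n, hn⟩ := hc2
    have hn' : eK ^ n = one (g * x⁻¹) hya := hn
    have key : g * x⁻¹ ∈ [1, a, b, a * b] := by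
      have two' : ∀ {y : G} (hy : Commute y a), one y hy = 1 → y = 1 ∨ y = a := fun {y} hy k => by
        have k' := (QuotientGroup.eq_one_iff _).mp k
        rw [centre B ha, Subgroup.mem_subgroupOf] at k'
        obtain ⟨m, hm⟩ := k'
        have hm' : a ^ m = y := hm
        rcases Int.even_or_odd' m with ⟨j, rfl | rfl⟩
        · left; rw [← hm', zpow_mul, zpow_ofNat, pow_two, mul_self h.1 ha, one_zpow]
        · right; rw [← hm', zpow_add, zpow_mul, zpow_ofNat, pow_two, mul_self h.1 ha, one_zpow, one_mul, zpow_one]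
      have sq : eK * eK = 1 := mul_self KB.set.cls.1 heK
      rcases Int.even_or_odd' n with ⟨j, rfl | rfl⟩
      · rw [zpow_mul, zpow_ofNat, pow_two, sq, one_zpow] at hn'
        rcases two' hya hn'.symm with k | k <;> simp [k]
      · rw [zpow_add, zpow_mul, zpow_ofNat, pow_two, sq, one_zpow, one_mul, zpow_one] at hn'
        have hba : Commute b a := hb.2.2.symm
        have hyb2 : Commute (g * x⁻¹ * b) a := hya.mul_left hba
        have e : one (g * x⁻¹ * b) hyb2 = one (g * x⁻¹) hya * eK := rfl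
        rw [← hn', sq] at e
        rcases two' hyb2 e with k | k
        · have k' : g * x⁻¹ = b := by rw [eq_inv_of_mul_eq_one_left k, inv_eq h.1 hb.1]
          simp [k']
        · have k' : g * x⁻¹ = a * b := by
            rw [← k, mul_assoc _ b b, mul_self h.1 hb.1, mul_one]
          simp [k']
    exact ⟨_, key, x, hxl, by rw [inv_mul_cancel_right]⟩

end Cfsg.Agent.Block.FischerTypes.M24
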