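import Cfsg.Agent.Lib.Block.FischerTypes.M24QuadOrder
import Cfsg.Agent.Lib.Block.FischerTypes.M24QuadDescent
import Cfsg.Agent.Lib.Grp.Frattini
import Cfsg.Agent.S0095

/-! The elements of the centraliser of a four-product fixing every quad: a group of shape 2^(1+12).3. -/

set_option autoImplicit false
set_option linter.style.haveILetI false
set_option linter.unusedSectionVars false

namespace Cfsg.Agent.Block.FischerTypes.M24

open Cfsg Cfsg.Agent.Spor.ThreeTrans
open Quad45 (Pt)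
open QuadModel (madj nearP farP reflP theta inOv)
open scoped commutatorElement

/-- The identity and the double transpositions on four points. -/
def V4 : Subgroup (Equiv.Perm (Fin 4)) where
  carrier := {σ | σ = 1 ∨ ∀ x, σ x ≠ x ∧ σ (σ x) = x}
  one_mem' := Or.inl rfl
  mul_mem' := fun {a b} ha hb => by
    have : ∀ a b : Equiv.Perm (Fin 4), (a = 1 ∨ ∀ x, a x ≠ x ∧ a (a x) = x) →
        (b = 1 ∨ ∀ x, b x ≠ x ∧ b (b x) = x) → (a * b = 1 ∨ ∀ x, (a * b) x ≠ x ∧ (a * b) ((a * b) x) = x) := by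
      decide +kernel
    exact this a b ha hb
  inv_mem' := fun {a} ha => by
    have : ∀ a : Equiv.Perm (Fin 4), (a = 1 ∨ ∀ x, a x ≠ x ∧ a (a x) = x) →
        (a⁻¹ = 1 ∨ ∀ x, a⁻¹ x ≠ x ∧ a⁻¹ (a⁻¹ x) = x) := by
      decide +kernel
    exact this a ha

theorem mem_V4 {σ : Equiv.Perm (Fin 4)} : σ ∈ V4 ↔ σ = 1 ∨ ∀ x, σ x ≠ x ∧ σ (σ x) = x := Iff.rfl

instance : DecidablePred (· ∈ V4) := fun _ => decidable_of_iff _ mem_V4.symm

theorem v4_centralised : ∀ σ a b : Equiv.Perm (Fin 4), a ∈ V4 → b ∈ V4 → a ≠ 1 → b ≠ 1 → a ≠ b →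
    σ * a = a * σ → σ * b = b * σ → σ ∈ V4 := by decide +kernel

set_option synthInstance.maxSize 2000 in
theorem v4_generated : ∀ v a b : Equiv.Perm (Fin 4), v ∈ V4 → a ∈ V4 → b ∈ V4 → a ≠ 1 → b ≠ 1 → a ≠ b →
    v = 1 ∨ v = a ∨ v = b ∨ v = a * b := by decide +kernel

theorem odd_swap : ∀ σ : Equiv.Perm (Fin 4), Equiv.Perm.sign σ = -1 →
    ∃ v : Equiv.Perm (Fin 4), v ∈ V4 ∧ ∃ i j, i ≠ j ∧ v * σ = Equiv.swap i j := by decide +kernel

theorem even_cube : ∀ σ : Equiv.Perm (Fin 4), Equiv.Perm.sign σ = 1 → σ * (σ * σ) ∈ V4 := by decide +kernel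

set_option synthInstance.maxSize 2000 in
theorem even_cosets : ∀ σ τ : Equiv.Perm (Fin 4), Equiv.Perm.sign σ = 1 → Equiv.Perm.sign τ = 1 → σ ∉ V4 →
    σ * σ ∉ V4 ∧ (τ ∈ V4 ∨ σ⁻¹ * τ ∈ V4 ∨ σ * τ ∈ V4) := by decide +kernel

theorem v4_sq : ∀ σ : Equiv.Perm (Fin 4), σ ∈ V4 → σ * σ = 1 := by decide +kernel

theorem v4_pair : ∀ σ : Equiv.Perm (Fin 4), σ ∈ V4 → ∀ i j k m : Fin 4, [i, j, k, m].Nodup →
    (σ i = i ∧ σ j = j) ∨ (σ i = j ∧ σ j = i) ∨ (σ i = k ∧ σ j = m) ∨ (σ i = m ∧ σ j = k) := by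
  decide +kernel

theorem complete_pair : ∀ i j : Fin 4, i ≠ j → ∃ k m : Fin 4, [i, j, k, m].Nodup := by decide +kernel

/-- Some quad of the model is apart from both ends of each edge at the first point. -/
theorem ov_avoid : ((List.range 45).all fun i => (List.range 40).any fun k => !(inOv k i)) = true := by
  decide +kernel

/-- A two-group with centre of order two containing all squares is extraspecial, if it is not abelian. -/
theorem extraspecial_sq {P : Type*} [Group P] [Finite P] {n : ℕ} (hcard : Nat.card P = 2 ^ n) (hn : 2 ≤ n)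
    (hZ : Nat.card (Subgroup.center P) = 2) (hsq : ∀ x : P, x ^ 2 ∈ Subgroup.center P) :
    Cfsg.IsExtraspecial 2 P := by
  haveI : Fact (Nat.Prime 2) := ⟨Nat.prime_two⟩
  have hp : IsPGroup 2 P := IsPGroup.of_card hcard
  have h1 : commutator P ≤ Subgroup.center P := by
    rw [commutator_eq_closure, Subgroup.closure_le]
    rintro _ ⟨x, y, rfl⟩
    have e : ⁅x, y⁆ = x ^ 2 * (x⁻¹ * y) ^ 2 * (y ^ 2)⁻¹ := by
      rw [commutatorElement_def]
      simp only [sq]
      group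
    rw [e]
    exact mul_mem (mul_mem (hsq x) (hsq _)) (inv_mem (hsq y))
  have hne : commutator P ≠ ⊥ := fun e => by
    have : Subgroup.center P = ⊤ := eq_top_iff.2 fun x _ => Subgroup.mem_center_iff.2 fun g => by
      have h : ⁅g, x⁆ ∈ commutator P := Subgroup.commutator_mem_commutator (Subgroup.mem_top _) (Subgroup.mem_top _)
      rw [e, Subgroup.mem_bot] at h
      exact commutatorElement_eq_one_iff_mul_comm.1 h
    rw [this, Subgroup.card_top, hcard] at hZ
    have : 2 ^ 2 ≤ 2 ^ n := Nat.pow_le_pow_right (by norm_num) hn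
    omega
  have hc : commutator P = Subgroup.center P := by
    refine Subgroup.eq_of_le_of_card_ge h1 ?_
    rw [hZ]
    have := (Subgroup.one_lt_card_iff_ne_bot _).2 hne
    omega
  refine ⟨⟨hp, le_antisymm ?_ ?_, hc⟩, hZ⟩
  · exact Grp.frattini_le_of_elementary Nat.prime_two h1 hsq
  · exact hc ▸ Grp.pGroup_commutator_le_frattini hp

variable {G : Type*} [Group G] [Finite G] {D : Set G} {z : G}

namespace Four

variable (H : Four D z)
include H

theorem exists_apart (P : Qd D z) : ∃ Q, QFar P Q := by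
  obtain ⟨ψ, h0, hψ⟩ := H.exists_model P
  refine ⟨ψ (farP 0 false), fun e => ?_, fun k => ?_⟩
  · have := congrArg Fin.val (ψ.injective (e.trans h0.symm))
    simp [farP, QuadModel.far] at this
  · rw [← h0, hψ, QuadModel.adj_zero_far] at k
    exact Bool.noConfusion k

theorem exists_apart_both {P Q : Qd D z} (h : QAdj P Q) : ∃ R, QFar P R ∧ QFar R Q := by
  obtain ⟨ψ, h0, hψ⟩ := H.exists_model P
  obtain ⟨n, rfl⟩ := ψ.surjective Q
  rcases QuadModel.cases_pt n with rfl | ⟨i, rfl⟩ | ⟨k, b, rfl⟩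
  · exact absurd h0.symm h.1
  · have ha := ov_avoid
    simp only [List.all_eq_true, List.mem_range, List.any_eq_true, Bool.not_eq_true'] at ha
    obtain ⟨k, hk, hik⟩ := ha i i.2
    refine ⟨ψ (farP ⟨k, hk⟩ false), ⟨fun e => ?_, fun c => ?_⟩, fun e => ?_, fun c => ?_⟩
    · have := congrArg Fin.val (ψ.injective (e.trans h0.symm))
      simp [farP, QuadModel.far] at this
    · rw [← h0, hψ, QuadModel.adj_zero_far] at c
      exact Bool.noConfusion c
    · have := congrArg Fin.val (ψ.injective e)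
      simp [farP, nearP, QuadModel.far] at this
      omega
    · rw [show QAdj (ψ (farP ⟨k, hk⟩ false)) (ψ (nearP i)) ↔ QAdj (ψ (nearP i)) (ψ (farP ⟨k, hk⟩ false)) from
        ⟨QAdj.symm, QAdj.symm⟩, hψ, QuadModel.adj_near_far] at c
      exact Bool.noConfusion (hik.symm.trans c)
  · rw [← h0, hψ, QuadModel.adj_zero_far] at h
    exact Bool.noConfusion h

omit H in
/-- A numbering of the members of a quad. -/
noncomputable def num (P : Qd D z) : ↥P.1 ≃ Fin 4 :=
  Finite.equivFinOfCardEq ((Nat.card_coe_set_eq P.1).trans P.ncard)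

omit H in
/-- A member of a quad by its number. -/
noncomputable def mem (P : Qd D z) (i : Fin 4) : G := ((num P).symm i : G)

omit H in
theorem mem_mem (P : Qd D z) (i : Fin 4) : mem P i ∈ P.1 := ((num P).symm i).2

omit H in
theorem mem_inj {P : Qd D z} {i j : Fin 4} (h : mem P i = mem P j) : i = j :=
  (num P).symm.injective (Subtype.ext h)

omit H in
theorem mem_surj {P : Qd D z} {u : G} (hu : u ∈ P.1) : ∃ i, mem P i = u :=
  ⟨num P ⟨u, hu⟩, by simp [mem]⟩

theorem ker_fix {k : ↥(H.act).ker} {P : Qd D z} {u : G} (hu : u ∈ P.1) :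
    ((k : ↥(Subgroup.centralizer ({z} : Set G))) : G) * u * ((k : ↥(Subgroup.centralizer ({z} : Set G))) : G)⁻¹
      ∈ P.1 := by
  have := H.mem_act (g := (k : ↥(Subgroup.centralizer ({z} : Set G)))) hu
  rwa [MonoidHom.mem_ker.mp k.2, Equiv.Perm.one_apply] at this

/-- What an element fixing every quad does within one. -/
noncomputable def pi (P : Qd D z) : ↥(H.act).ker →* Equiv.Perm (Fin 4) :=
  MonoidHom.mk' (fun k => Equiv.ofBijective (fun i => num P ⟨_, H.ker_fix (k := k) (mem_mem P i)⟩)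
    (Finite.injective_iff_bijective.mp fun i j e => mem_inj (mul_left_cancel (mul_right_cancel
      (congrArg Subtype.val ((num P).injective e))))))
    fun k l => Equiv.ext fun i => by
      simp only [Equiv.ofBijective_apply, Equiv.Perm.mul_apply]
      congr 1
      refine Subtype.ext ?_
      simp [mem, mul_assoc]

theorem mem_pi (P : Qd D z) (k : ↥(H.act).ker) (i : Fin 4) : mem P (H.pi P k i) =
    ((k : ↥(Subgroup.centralizer ({z} : Set G))) : G) * mem P i *
      ((k : ↥(Subgroup.centralizer ({z} : Set G))) : G)⁻¹ := by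
  simp [pi, mem]

theorem pi_eq_one_of_fix {P : Qd D z} {k : ↥(H.act).ker}
    (h : ∀ u ∈ P.1, Commute ((k : ↥(Subgroup.centralizer ({z} : Set G))) : G) u) : H.pi P k = 1 :=
  Equiv.ext fun i => mem_inj (P := P) (by rw [H.mem_pi, conj_self_eq (h _ (mem_mem P i))]; rfl)

theorem fix_of_pi {P : Qd D z} {k : ↥(H.act).ker} (h : H.pi P k = 1) {u : G} (hu : u ∈ P.1) :
    Commute ((k : ↥(Subgroup.centralizer ({z} : Set G))) : G) u := by
  obtain ⟨i, rfl⟩ := mem_surj hu
  refine mul_inv_eq_iff_eq_mul.mp ?_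
  rw [← H.mem_pi, h, Equiv.Perm.one_apply]

theorem pair_mem_ker {P : Qd D z} {p q : G} (hp : p ∈ P.1) (hq : q ∈ P.1) :
    (⟨p * q, mem_cz.mpr ((Qd.commute_z hp).mul_left (Qd.commute_z hq))⟩ :
      ↥(Subgroup.centralizer ({z} : Set G))) ∈ (H.act).ker := by
  obtain ⟨ψ, h0, hψ⟩ := H.exists_model P
  rw [MonoidHom.mem_ker, ← H.rho_eq_one ψ]
  have e : (⟨p * q, mem_cz.mpr ((Qd.commute_z hp).mul_left (Qd.commute_z hq))⟩ :
      ↥(Subgroup.centralizer ({z} : Set G))) =
      ⟨p, mem_cz.mpr (Qd.commute_z hp)⟩ * ⟨q, mem_cz.mpr (Qd.commute_z hq)⟩ := rfl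
  rw [e, map_mul, H.rho_member ψ hψ (n := 0) (h0.symm ▸ hp), H.rho_member ψ hψ (n := 0) (h0.symm ▸ hq),
    QuadModel.reflP_sq]

/-- The product of two members of a quad, as an element fixing all quads. -/
noncomputable def pairK {P : Qd D z} {p q : G} (hp : p ∈ P.1) (hq : q ∈ P.1) : ↥(H.act).ker :=
  ⟨⟨p * q, mem_cz.mpr ((Qd.commute_z hp).mul_left (Qd.commute_z hq))⟩, H.pair_mem_ker hp hq⟩

theorem pair_moves {P Q : Qd D z} (hPQ : QFar P Q) {p q : G} (hp : p ∈ P.1) (hq : q ∈ P.1) (hne : p ≠ q)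
    {v : G} (hv : v ∈ Q.1) : ¬ Commute (p * q) v := fun k =>
  H.apart_not_commute (Ne.symm hPQ.1) hPQ.2 hp hv
    ((commute_mul_iff H.cls.1 (Qd.mem_D hp) (Qd.mem_D hq) (Qd.mem_D hv) hne (Qd.commute hp hq)).mp k.symm).1.symm

theorem pi_pair_far {P Q : Qd D z} (hPQ : QFar P Q) {p q : G} (hp : p ∈ P.1) (hq : q ∈ P.1) (hne : p ≠ q) :
    H.pi Q (H.pairK hp hq) ∈ V4 ∧ H.pi Q (H.pairK hp hq) ≠ 1 := by
  have hne' : ∀ i, H.pi Q (H.pairK hp hq) i ≠ i := fun i e => by
    refine H.pair_moves hPQ hp hq hne (mem_mem Q i) (mul_inv_eq_iff_eq_mul.mp ?_)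
    have := H.mem_pi Q (H.pairK hp hq) i
    rw [e] at this
    exact this.symm
  have hsq : H.pairK hp hq * H.pairK hp hq = 1 := Subtype.ext (Subtype.ext (by
    show p * q * (p * q) = 1
    rw [← pow_two]
    exact sq_of_commute H.cls (Qd.mem_D hp) (Qd.mem_D hq) (Qd.commute hp hq)))
  refine ⟨Or.inr fun i => ⟨hne' i, ?_⟩, fun e => hne' 0 (by rw [e]; rfl)⟩
  rw [← Equiv.Perm.mul_apply, ← map_mul, hsq, map_one, Equiv.Perm.one_apply]

theorem pi_pair_mem (Q : Qd D z) {P : Qd D z} {p q : G} (hp : p ∈ P.1) (hq : q ∈ P.1) :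
    H.pi Q (H.pairK hp hq) ∈ V4 := by
  by_cases hne : p = q
  · subst hne
    rw [show H.pairK hp hq = 1 from Subtype.ext (Subtype.ext (mul_self H.cls.1 (Qd.mem_D hp))), map_one]
    exact one_mem _
  by_cases hQ : QFar P Q
  · exact (H.pi_pair_far hQ hp hq hne).1
  · rw [H.pi_eq_one_of_fix fun u hu => ?_]
    · exact one_mem _
    · rcases not_and_or.mp hQ with e | e
      · obtain rfl := not_not.mp e
        exact (Qd.commute hp hu).mul_left (Qd.commute hq hu)
      · have a := not_not.mp e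
        exact (a.2 p hp u hu).mul_left (a.2 q hq u hu)

theorem quad_prod {P : Qd D z} {a b c f : G} (ha : a ∈ P.1) (hb : b ∈ P.1) (hc : c ∈ P.1) (hf : f ∈ P.1)
    (hn : [a, b, c, f].Nodup) : a * (b * (c * f)) = z := by
  classical
  obtain ⟨l, hl, e⟩ := P.2
  have hsub : ∀ x ∈ [a, b, c, f], x ∈ l := by
    intro x hx
    have : x ∈ P.1 := by
      simp only [List.mem_cons, List.not_mem_nil, or_false] at hx
      rcases hx with rfl | rfl | rfl | rfl <;> assumption
    rwa [e] at this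
  have hperm : List.Perm [a, b, c, f] l :=
    (hn.subperm hsub).perm_of_length_le (by rw [hl.2.1]; rfl)
  have hp := hperm.prod_eq' (List.pairwise_of_forall_mem_list fun x hx y hy =>
    hl.2.2.2.1 x (hsub x hx) y (hsub y hy))
  rw [hl.2.2.2.2] at hp
  simpa using hp

/-- Two nontrivial elements of the four-group on a quad coming from products. -/
theorem two_gens (Q : Qd D z) : ∃ (P : Qd D z) (a b c : G) (ha : a ∈ P.1) (hb : b ∈ P.1) (hc : c ∈ P.1),
    H.pi Q (H.pairK ha hb) ∈ V4 ∧ H.pi Q (H.pairK ha hc) ∈ V4 ∧ H.pi Q (H.pairK ha hb) ≠ 1 ∧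
      H.pi Q (H.pairK ha hc) ≠ 1 ∧ H.pi Q (H.pairK ha hb) ≠ H.pi Q (H.pairK ha hc) := by
  obtain ⟨P, hP⟩ := H.exists_apart Q
  have hPQ : QFar P Q := ⟨Ne.symm hP.1, fun k => hP.2 k.symm⟩
  refine ⟨P, mem P 0, mem P 1, mem P 2, mem_mem P 0, mem_mem P 1, mem_mem P 2, ?_⟩
  have n01 : mem P 0 ≠ mem P 1 := fun e => absurd (mem_inj e) (by decide)
  have n02 : mem P 0 ≠ mem P 2 := fun e => absurd (mem_inj e) (by decide)
  have n12 : mem P 1 ≠ mem P 2 := fun e => absurd (mem_inj e) (by decide)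
  obtain ⟨a1, a2⟩ := H.pi_pair_far hPQ (mem_mem P 0) (mem_mem P 1) n01
  obtain ⟨b1, b2⟩ := H.pi_pair_far hPQ (mem_mem P 0) (mem_mem P 2) n02
  refine ⟨a1, b1, a2, b2, fun e => (H.pi_pair_far hPQ (mem_mem P 1) (mem_mem P 2) n12).2 ?_⟩
  have e' : H.pairK (mem_mem P 1) (mem_mem P 2) =
      H.pairK (mem_mem P 0) (mem_mem P 1) * H.pairK (mem_mem P 0) (mem_mem P 2) := Subtype.ext (Subtype.ext (by
    show mem P 1 * mem P 2 = mem P 0 * mem P 1 * (mem P 0 * mem P 2)
    rw [(Qd.commute (mem_mem P 0) (mem_mem P 1)).eq, mul_assoc, mul_self_mul H.cls.1 (Qd.mem_D (mem_mem P 0))]))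
  rw [e', map_mul, e, v4_sq _ b1]

theorem image_v4 (Q : Qd D z) {v : Equiv.Perm (Fin 4)} (hv : v ∈ V4) : ∃ k, H.pi Q k = v := by
  obtain ⟨P, a, b, c, ha, hb, hc, h1, h2, h3, h4, h5⟩ := H.two_gens Q
  rcases v4_generated v _ _ hv h1 h2 h3 h4 h5 with rfl | rfl | rfl | rfl
  exacts [⟨1, map_one _⟩, ⟨_, rfl⟩, ⟨_, rfl⟩, ⟨_, map_mul _ _ _⟩]

/-- Nothing fixing every quad transposes two members of one. -/
theorem no_swap (P : Qd D z) (k : ↥(H.act).ker) {i j : Fin 4} (hij : i ≠ j) : H.pi P k ≠ Equiv.swap i j := by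
  intro hk
  obtain ⟨r, s, hn⟩ := complete_pair i j hij
  simp only [List.nodup_cons, List.mem_cons, List.not_mem_nil, or_false, not_or, List.nodup_nil, and_true] at hn
  obtain ⟨⟨-, nir, nis⟩, ⟨njr, njs⟩, nrs, -⟩ := hn
  set g := ((k : ↥(Subgroup.centralizer ({z} : Set G))) : G)
  have hg : ∀ n, g * mem P n * g⁻¹ = mem P (Equiv.swap i j n) := fun n => by rw [← hk, H.mem_pi]
  have kr : Commute g (mem P r) := mul_inv_eq_iff_eq_mul.mp (by
    rw [hg, Equiv.swap_apply_of_ne_of_ne (Ne.symm nir) (Ne.symm njr)])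
  have ks : Commute g (mem P s) := mul_inv_eq_iff_eq_mul.mp (by
    rw [hg, Equiv.swap_apply_of_ne_of_ne (Ne.symm nis) (Ne.symm njs)])
  have mk : ∀ {x y : Fin 4}, x ≠ y → mem P x ≠ mem P y := fun h e => h (mem_inj e)
  have cm : ∀ x y, Commute (mem P x) (mem P y) := fun x y => Qd.commute (mem_mem P x) (mem_mem P y)
  have md : ∀ x, mem P x ∈ D := fun x => Qd.mem_D (mem_mem P x)
  have hb : mem P s ∈ perp D (mem P r) := ⟨md s, mk (Ne.symm nrs), cm r s⟩
  have hc : mem P i ∈ common D (mem P r) (mem P s) :=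
    ⟨⟨md i, mk nir, cm r i⟩, ⟨md i, mk nis, cm s i⟩⟩
  have hf : mem P j ∈ tri3 D (mem P r) (mem P s) (mem P i) :=
    ⟨⟨⟨md j, mk njr, cm r j⟩, ⟨md j, mk njs, cm s j⟩⟩, ⟨md j, mk (Ne.symm hij), cm i j⟩⟩
  refine (descent H.base (md r) hb hc hf).1 g kr ks (by rw [hg, Equiv.swap_apply_left])
    (by rw [hg, Equiv.swap_apply_right]) fun u hu w hw => ?_
  have zc : ∀ {x}, x ∈ four D (mem P r) (mem P s) (mem P i) (mem P j) → Commute x z := fun {x} hx => by
    obtain ⟨-, hx'⟩ := mem_four hx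
    rw [← H.quad_prod (mem_mem P r) (mem_mem P s) (mem_mem P i) (mem_mem P j) (by
      simp [mk nrs, mk (Ne.symm nir), mk (Ne.symm njr), mk (Ne.symm nis), mk (Ne.symm njs), mk hij])]
    have cx : ∀ y ∈ [mem P r, mem P s, mem P i, mem P j], Commute x y := fun y hy => (hx' y hy).2.symm
    exact (cx _ (by simp)).mul_right ((cx _ (by simp)).mul_right ((cx _ (by simp)).mul_right (cx _ (by simp))))
  obtain ⟨U, hU⟩ := H.exists_quad (mem_four hu).1 (zc hu)
  have hU' := H.ker_fix (k := k) hU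
  exact ⟨fun c => H.commute_quad (mem_four hw).1 (zc hw) hU' c u hU,
    fun c => H.commute_quad (mem_four hw).1 (zc hw) hU c _ hU'⟩

theorem sign_pi (P : Qd D z) (k : ↥(H.act).ker) : Equiv.Perm.sign (H.pi P k) = 1 := by
  rcases Int.units_eq_one_or (Equiv.Perm.sign (H.pi P k)) with h | h
  · exact h
  obtain ⟨v, hv, i, j, hij, e⟩ := odd_swap _ h
  obtain ⟨l, rfl⟩ := H.image_v4 P hv
  rw [← map_mul] at e
  exact absurd e (H.no_swap P _ hij)

theorem v4_far {P Q : Qd D z} (hPQ : QFar P Q) {k : ↥(H.act).ker} (hk : H.pi P k ∈ V4) : H.pi Q k ∈ V4 := by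
  set g := ((k : ↥(Subgroup.centralizer ({z} : Set G))) : G)
  have key : ∀ i j, i ≠ j →
      H.pi Q k * H.pi Q (H.pairK (mem_mem P i) (mem_mem P j)) =
        H.pi Q (H.pairK (mem_mem P i) (mem_mem P j)) * H.pi Q k := by
    intro i j hij
    obtain ⟨r, s, hn⟩ := complete_pair i j hij
    have hnm : [mem P i, mem P j, mem P r, mem P s].Nodup :=
      show ([i, j, r, s].map (mem P)).Nodup from hn.map fun _ _ e => mem_inj e
    have hz := H.quad_prod (mem_mem P i) (mem_mem P j) (mem_mem P r) (mem_mem P s) hnm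
    have cm : ∀ x y, Commute (mem P x) (mem P y) := fun x y => Qd.commute (mem_mem P x) (mem_mem P y)
    have sq : ∀ x, mem P x * mem P x = 1 := fun x => mul_self H.cls.1 (Qd.mem_D (mem_mem P x))
    have conj : g * (mem P i * mem P j) * g⁻¹ = mem P (H.pi P k i) * mem P (H.pi P k j) := by
      rw [H.mem_pi, H.mem_pi]; simp [g, mul_assoc]
    have hrs : mem P r * mem P s = mem P i * mem P j * z := by
      calc mem P r * mem P s = mem P j * (mem P j * (mem P r * mem P s)) := by rw [← mul_assoc, sq, one_mul]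
        _ = mem P j * (mem P i * (mem P i * (mem P j * (mem P r * mem P s)))) := by
          rw [← mul_assoc (mem P i) (mem P i), sq, one_mul]
        _ = mem P j * (mem P i * z) := congrArg (fun t => mem P j * (mem P i * t)) hz
        _ = _ := by rw [← mul_assoc, (cm j i).eq]
    have hzv : ∀ {u}, u ∈ Q.1 → Commute z u := fun hu => (Qd.commute_z hu).symm
    -- the conjugate acts on the other quad as the pair does
    have same : g * (mem P i * mem P j) * g⁻¹ = mem P i * mem P j ∨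
        g * (mem P i * mem P j) * g⁻¹ = mem P i * mem P j * z := by
      rw [conj]
      rcases v4_pair _ hk i j r s hn with ⟨a, b⟩ | ⟨a, b⟩ | ⟨a, b⟩ | ⟨a, b⟩ <;> rw [a, b]
      · exact Or.inl rfl
      · exact Or.inl (cm j i).eq
      · exact Or.inr hrs
      · exact Or.inr ((cm s r).eq.trans hrs)
    refine Equiv.ext fun n => mem_inj (P := Q) ?_
    simp only [Equiv.Perm.mul_apply, H.mem_pi]
    show g * (mem P i * mem P j * mem Q n * (mem P i * mem P j)⁻¹) * g⁻¹ =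
      mem P i * mem P j * (g * mem Q n * g⁻¹) * (mem P i * mem P j)⁻¹
    have hn' : g * mem Q n * g⁻¹ ∈ Q.1 := H.ker_fix (k := k) (mem_mem Q n)
    have e : g * (mem P i * mem P j * mem Q n * (mem P i * mem P j)⁻¹) * g⁻¹ =
        (g * (mem P i * mem P j) * g⁻¹) * (g * mem Q n * g⁻¹) * (g * (mem P i * mem P j) * g⁻¹)⁻¹ := by
      simp [mul_assoc]
    rw [e]
    rcases same with c | c <;> rw [c]
    rw [mul_inv_rev, show mem P i * mem P j * z * (g * mem Q n * g⁻¹) * (z⁻¹ * (mem P i * mem P j)⁻¹) =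
      mem P i * mem P j * (z * (g * mem Q n * g⁻¹) * z⁻¹) * (mem P i * mem P j)⁻¹ by simp [mul_assoc],
      conj_self_eq (hzv hn')]
  have n01 : mem P 0 ≠ mem P 1 := fun e => absurd (mem_inj e) (by decide)
  have n02 : mem P 0 ≠ mem P 2 := fun e => absurd (mem_inj e) (by decide)
  have n12 : mem P 1 ≠ mem P 2 := fun e => absurd (mem_inj e) (by decide)
  obtain ⟨a1, a2⟩ := H.pi_pair_far hPQ (mem_mem P 0) (mem_mem P 1) n01
  obtain ⟨b1, b2⟩ := H.pi_pair_far hPQ (mem_mem P 0) (mem_mem P 2) n02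
  refine v4_centralised _ _ _ a1 b1 a2 b2 (fun e => ?_) (key 0 1 (by decide)) (key 0 2 (by decide))
  refine (H.pi_pair_far hPQ (mem_mem P 1) (mem_mem P 2) n12).2 ?_
  have e' : H.pairK (mem_mem P 1) (mem_mem P 2) =
      H.pairK (mem_mem P 0) (mem_mem P 1) * H.pairK (mem_mem P 0) (mem_mem P 2) := Subtype.ext (Subtype.ext (by
    show mem P 1 * mem P 2 = mem P 0 * mem P 1 * (mem P 0 * mem P 2)
    rw [(Qd.commute (mem_mem P 0) (mem_mem P 1)).eq, mul_assoc, mul_self_mul H.cls.1 (Qd.mem_D (mem_mem P 0))]))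
  rw [e', map_mul, e, v4_sq _ b1]

theorem v4_all {P : Qd D z} {k : ↥(H.act).ker} (hk : H.pi P k ∈ V4) (Q : Qd D z) : H.pi Q k ∈ V4 := by
  by_cases e : Q = P
  · exact e ▸ hk
  by_cases a : QAdj P Q
  · obtain ⟨R, h1, h2⟩ := H.exists_apart_both a
    exact H.v4_far h2 (H.v4_far h1 hk)
  · exact H.v4_far ⟨e, a⟩ hk

/-- The elements fixing every quad and acting on each as a double transposition or trivially. -/
noncomputable def core : Subgroup ↥(H.act).ker := ⨅ P : Qd D z, (V4).comap (H.pi P)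

theorem mem_core {k : ↥(H.act).ker} : k ∈ H.core ↔ ∀ P, H.pi P k ∈ V4 := by
  simp [core, Subgroup.mem_iInf]

theorem pair_core {P : Qd D z} {p q : G} (hp : p ∈ P.1) (hq : q ∈ P.1) : H.pairK hp hq ∈ H.core :=
  H.mem_core.mpr fun Q => H.pi_pair_mem Q hp hq

/-- Only one and `z` commute with all the products. -/
theorem centralizer_pairs {g : G} (hgz : Commute g z)
    (h : ∀ (P : Qd D z), ∀ p ∈ P.1, ∀ q ∈ P.1, Commute g (p * q)) : g = 1 ∨ g = z := by
  classical
  have hc := H.cls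
  have fixAll : ∀ (P : Qd D z), ∀ p ∈ P.1, Commute g p := by
    intro P p hp
    obtain ⟨q, hq, hpq⟩ : ∃ q ∈ P.1, q ≠ p :=
      Set.exists_ne_of_one_lt_ncard (by rw [P.ncard]; norm_num) p
    obtain ⟨r, hr, hrp, hrq⟩ : ∃ r ∈ P.1, r ≠ p ∧ r ≠ q := by
      obtain ⟨r, hr, hr'⟩ := Set.exists_mem_notMem_of_ncard_lt_ncard (s := ({p, q} : Set G)) (t := P.1)
        (by rw [Set.ncard_pair (Ne.symm hpq), P.ncard]; norm_num)
      simp only [Set.mem_insert_iff, Set.mem_singleton_iff, not_or] at hr'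
      exact ⟨r, hr, hr'.1, hr'.2⟩
    have two : ∀ x ∈ P.1, x ≠ p → g * p * g⁻¹ = p ∨ g * p * g⁻¹ = x := by
      intro x hx hxp
      have f0 : Fact' D 2 (p * x) [p, x] :=
        ⟨by simp [Ne.symm hxp], rfl, by simp [Qd.mem_D hp, Qd.mem_D hx],
          by simp [Qd.commute hp hx, Qd.commute hx hp], by simp⟩
      have f1 : Fact' D 2 (p * x) [g * p * g⁻¹, g * x * g⁻¹] := by
        refine ⟨by simp [Ne.symm hxp], rfl, by simp [conj_mem hc g (Qd.mem_D hp), conj_mem hc g (Qd.mem_D hx)], ?_, ?_⟩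
        · have k := (commute_conj_iff g p x).mpr (Qd.commute hp hx)
          simp [k, k.symm]
        · have := conj_self_eq (h P p hp x hx)
          simpa [mul_assoc] using this
      simpa using ((pair_unique hc H.base.set.tf f1 f0) (g * p * g⁻¹)).mp (by simp)
    refine mul_inv_eq_iff_eq_mul.mp ?_
    rcases two q hq hpq with e | e
    · exact e
    · rcases two r hr hrp with e' | e'
      · exact e'
      · exact absurd (e'.symm.trans e) hrq
  obtain ⟨l, hl⟩ := H.fact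
  obtain ⟨a, b, c, f, rfl, ha, hb, hcc, hf⟩ := four_parts (D := D) (l := l) ⟨hl.1, hl.2.1, hl.2.2.1, hl.2.2.2.1⟩
  have hz : a * (b * (c * f)) = z := by simpa using hl.2.2.2.2
  obtain ⟨P, hPa, hPb, hPc, hPf⟩ := tuple_quad ha hb hcc hf hz
  obtain ⟨k, hk, x, hx, hgx⟩ := (descent H.base ha hb hcc hf).2 g (fixAll P a hPa) (fixAll P b hPb)
    (fixAll P c hPc) (fixAll P f hPf) fun u hu => by
      obtain ⟨huD, hu'⟩ := mem_four hu
      obtain ⟨U, hU⟩ := H.exists_quad huD (hz ▸ (hu' a (by simp)).2.symm.mul_right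
        ((hu' b (by simp)).2.symm.mul_right ((hu' c (by simp)).2.symm.mul_right (hu' f (by simp)).2.symm)))
      exact conj_self_eq (fixAll U u hU)
  obtain ⟨Q, hQ⟩ := H.exists_apart P
  obtain ⟨v, hv⟩ := Q.nonempty
  have hgv := fixAll Q v hv
  have one' : ∀ {p}, p ∈ P.1 → ¬ Commute p v := fun hp => H.apart_not_commute (Ne.symm hQ.1) hQ.2 hp hv
  have two' : ∀ {p q}, p ∈ P.1 → q ∈ P.1 → p ≠ q → ¬ Commute (p * q) v := fun hp hq hne =>
    H.pair_moves hQ hp hq hne hv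
  have three' : ∀ {p}, p ∈ P.1 → ¬ Commute (z * p) v := fun {p} hp k => one' hp (by
    have h5 := (Qd.commute_z hv).symm.mul_left k
    rwa [← mul_assoc, H.sq, one_mul] at h5)
  have hn := hl.1
  simp only [List.nodup_cons, List.mem_cons, List.not_mem_nil, or_false, not_or] at hn
  obtain ⟨⟨nab, nac, naf⟩, ⟨nbc, nbf⟩, ncf, -⟩ := hn
  have cm : ∀ {p q}, p ∈ P.1 → q ∈ P.1 → Commute p q := fun hp hq => Qd.commute hp hq
  have sa : ∀ {p}, p ∈ P.1 → p * p = 1 := fun hp => mul_self hc.1 (Qd.mem_D hp)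
  have move : ∀ {p X : G}, p ∈ P.1 → z = X * p → X = z * p := fun {p X} hp e => by
    rw [e, mul_assoc, sa hp, mul_one]
  have cab := (cm hPa hPb).eq; have cac := (cm hPa hPc).eq; have caf := (cm hPa hPf).eq
  have cbc := (cm hPb hPc).eq; have cbf := (cm hPb hPf).eq; have ccf := (cm hPc hPf).eq
  have t_f : a * (b * c) = z * f := move hPf (by rw [← hz]; simp [mul_assoc])
  have t_c : a * (b * f) = z * c := move hPc (by rw [← hz, ccf]; simp [mul_assoc])
  have t_b : a * (c * f) = z * b := move hPb (by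
    rw [← hz, ((cm hPb hPc).mul_right (cm hPb hPf)).eq]; simp [mul_assoc])
  have t_a : b * (c * f) = z * a := move hPa (by
    rw [← hz, ((cm hPa hPb).mul_right ((cm hPa hPc).mul_right (cm hPa hPf))).eq])
  rw [hgx] at hgv
  simp only [List.mem_cons, List.not_mem_nil, or_false] at hk hx
  rcases hk with rfl | rfl | rfl | rfl <;> rcases hx with rfl | rfl | rfl | rfl
  · exact Or.inl (by simpa using hgx)
  · exact absurd (by simpa using hgv) (one' hPc)
  · exact absurd (by simpa using hgv) (one' hPf)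
  · exact absurd (by simpa using hgv) (two' hPc hPf ncf)
  · exact absurd (by simpa using hgv) (one' hPa)
  · exact absurd hgv (two' hPa hPc nac)
  · exact absurd hgv (two' hPa hPf naf)
  · exact absurd (t_b ▸ hgv) (three' hPb)
  · exact absurd (by simpa using hgv) (one' hPb)
  · exact absurd hgv (two' hPb hPc nbc)
  · exact absurd hgv (two' hPb hPf nbf)
  · exact absurd (t_a ▸ hgv) (three' hPa)
  · exact absurd (by simpa using hgv) (two' hPa hPb nab)
  · exact absurd (t_f ▸ (by simpa [mul_assoc] using hgv)) (three' hPf)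
  · exact absurd (t_c ▸ (by simpa [mul_assoc] using hgv)) (three' hPc)
  · exact Or.inr (by rw [hgx, ← hz]; simp [mul_assoc])

/-- The core as a subgroup of the group. -/
noncomputable def coreG : Subgroup G :=
  (H.core.map (H.act).ker.subtype).map (Subgroup.centralizer ({z} : Set G)).subtype

/-- The elements fixing every quad, as a subgroup of the group. -/
noncomputable def kerG : Subgroup G := (H.act).ker.map (Subgroup.centralizer ({z} : Set G)).subtype

theorem mem_kerG {g : G} : g ∈ H.kerG ↔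
    ∃ hg : g ∈ Subgroup.centralizer ({z} : Set G), H.act ⟨g, hg⟩ = 1 := by
  constructor
  · rintro ⟨x, hx, rfl⟩
    exact ⟨x.2, hx⟩
  · rintro ⟨hg, h⟩
    exact ⟨⟨g, hg⟩, h, rfl⟩

theorem mem_coreG {g : G} : g ∈ H.coreG ↔ ∃ k : ↥(H.act).ker, k ∈ H.core ∧
    ((k : ↥(Subgroup.centralizer ({z} : Set G))) : G) = g := by
  constructor
  · rintro ⟨_, ⟨k, hk, rfl⟩, rfl⟩
    exact ⟨k, hk, rfl⟩
  · rintro ⟨k, hk, rfl⟩
    exact ⟨_, ⟨k, hk, rfl⟩, rfl⟩

theorem coreG_le : H.coreG ≤ H.kerG := Subgroup.map_mono (Subgroup.map_subtype_le _)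

theorem pair_coreG {P : Qd D z} {p q : G} (hp : p ∈ P.1) (hq : q ∈ P.1) : p * q ∈ H.coreG :=
  H.mem_coreG.mpr ⟨_, H.pair_core hp hq, rfl⟩

theorem coreG_commute_z {g : G} (hg : g ∈ H.coreG) : Commute g z := by
  obtain ⟨k, -, rfl⟩ := H.mem_coreG.mp hg
  exact mem_cz.mp k.1.2

theorem core_sq {g : G} (hg : g ∈ H.coreG) : g * g = 1 ∨ g * g = z := by
  obtain ⟨k, hk, rfl⟩ := H.mem_coreG.mp hg
  refine H.centralizer_pairs ((mem_cz.mp k.1.2).mul_left (mem_cz.mp k.1.2)) fun P p hp q hq => ?_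
  have hfix : ∀ u ∈ P.1, Commute (((k * k : ↥(H.act).ker) : ↥(Subgroup.centralizer ({z} : Set G))) : G) u :=
    fun u hu => H.fix_of_pi (by rw [map_mul]; exact v4_sq _ (H.mem_core.mp hk P)) hu
  exact (hfix p hp).mul_right (hfix q hq)

theorem centre_core {S : Subgroup G} (hSz : ∀ g ∈ S, Commute g z)
    (hpair : ∀ (P : Qd D z), ∀ p ∈ P.1, ∀ q ∈ P.1, p * q ∈ S) {g : G} (hg : g ∈ S)
    (hc : ∀ s ∈ S, Commute g s) : g = 1 ∨ g = z :=
  H.centralizer_pairs (hSz g hg) fun P p hp q hq => hc _ (hpair P p hp q hq)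

theorem z_mem_coreG : z ∈ H.coreG := by
  obtain ⟨l, hl⟩ := H.fact
  obtain ⟨a, b, c, f, rfl, ha, hb, hc, hf⟩ := four_parts (D := D) (l := l) ⟨hl.1, hl.2.1, hl.2.2.1, hl.2.2.2.1⟩
  have hz : a * (b * (c * f)) = z := by simpa using hl.2.2.2.2
  obtain ⟨P, hPa, hPb, hPc, hPf⟩ := tuple_quad ha hb hc hf hz
  have := mul_mem (H.pair_coreG hPa hPb) (H.pair_coreG hPc hPf)
  rwa [mul_assoc, hz] at this

/-- A subgroup of the core holding all products is extraspecial. -/
theorem extra_sub {S : Subgroup G} (hS : S ≤ H.coreG)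
    (hpair : ∀ (P : Qd D z), ∀ p ∈ P.1, ∀ q ∈ P.1, p * q ∈ S) :
    IsExtraspecial 2 ↥S ∧ ∃ n, Nat.card ↥S = 2 ^ (2 * n + 1) := by
  classical
  haveI : Fact (Nat.Prime 2) := ⟨Nat.prime_two⟩
  have hzS : z ∈ S := by
    obtain ⟨l, hl⟩ := H.fact
    obtain ⟨a, b, c, f, rfl, ha, hb, hc, hf⟩ := four_parts (D := D) (l := l) ⟨hl.1, hl.2.1, hl.2.2.1, hl.2.2.2.1⟩
    have hz : a * (b * (c * f)) = z := by simpa using hl.2.2.2.2
    obtain ⟨P, hPa, hPb, hPc, hPf⟩ := tuple_quad ha hb hc hf hz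
    have := mul_mem (hpair P a hPa b hPb) (hpair P c hPc f hPf)
    rwa [mul_assoc, hz] at this
  have hSz : ∀ g ∈ S, Commute g z := fun g hg => H.coreG_commute_z (hS hg)
  have hzz : z ^ 2 = 1 := by rw [pow_two, H.sq]
  have hcen : (Subgroup.center ↥S : Set ↥S) = {1, (⟨z, hzS⟩ : ↥S)} := by
    ext x
    constructor
    · intro hx
      rcases H.centre_core hSz hpair x.2
          (fun s hs => (congrArg Subtype.val (Subgroup.mem_center_iff.mp hx ⟨s, hs⟩)).symm) with e | e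
      · exact Or.inl (Subtype.ext e)
      · exact Or.inr (Subtype.ext e)
    · rintro (rfl | rfl)
      · exact one_mem _
      · exact Subgroup.mem_center_iff.mpr fun s => Subtype.ext (hSz s s.2).eq
  have hne : (1 : ↥S) ≠ ⟨z, hzS⟩ := fun e => H.ne_one (congrArg Subtype.val e).symm
  have hZ : Nat.card (Subgroup.center ↥S) = 2 := by
    rw [← SetLike.coe_sort_coe, Nat.card_coe_set_eq, hcen, Set.ncard_pair hne]
  have hsq : ∀ x : ↥S, x ^ 2 ∈ Subgroup.center ↥S := fun x => by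
    show x ^ 2 ∈ (Subgroup.center ↥S : Set ↥S)
    rw [hcen]
    rcases H.core_sq (hS x.2) with e | e
    · exact Or.inl (Subtype.ext (by rw [Subgroup.coe_pow, pow_two, e]; rfl))
    · exact Or.inr (Subtype.ext (by rw [Subgroup.coe_pow, pow_two, e]))
  have h4 : ∀ x : ↥S, x ^ 2 ^ 2 = 1 := fun x => by
    rw [show (2 : ℕ) ^ 2 = 2 * 2 from rfl, pow_mul]
    rcases H.core_sq (hS x.2) with e | e
    · exact Subtype.ext (by
        rw [Subgroup.coe_pow, Subgroup.coe_pow, pow_two (x : G), e, one_pow]; rfl)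
    · exact Subtype.ext (by rw [Subgroup.coe_pow, Subgroup.coe_pow, pow_two (x : G), e, hzz]; rfl)
  obtain ⟨m, hm⟩ := (IsPGroup.iff_card).mp (show IsPGroup 2 ↥S from fun x => ⟨2, h4 x⟩)
  have hm2 : 2 ≤ m := by
    by_contra hlt
    obtain ⟨l, hl⟩ := H.fact
    obtain ⟨a, b, c, f, rfl, ha, hb, hc, hf⟩ := four_parts (D := D) (l := l) ⟨hl.1, hl.2.1, hl.2.2.1, hl.2.2.2.1⟩
    obtain ⟨P, hPa, hPb, -, -⟩ := tuple_quad ha hb hc hf (by simpa using hl.2.2.2.2)
    have hab : a * b ∈ S := hpair P a hPa b hPb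
    have h1 : a * b ≠ 1 := fun e => hb.2.1 ((eq_inv_of_mul_eq_one_right e).trans (inv_eq H.cls.1 ha))
    have h2 : a * b ≠ z := fun e => four_ne_pair H.base ha hb (l := [a, b, c, f])
      ⟨hl.1, hl.2.1, hl.2.2.1, hl.2.2.2.1⟩ (hl.2.2.2.2.trans e.symm)
    have h3 : ({(1 : G), z, a * b} : Set G).ncard = 3 :=
      Set.ncard_eq_three.mpr ⟨1, z, a * b, Ne.symm H.ne_one, Ne.symm h1, Ne.symm h2, rfl⟩
    have hsub : ({(1 : G), z, a * b} : Set G) ⊆ (S : Set G) := by
      rintro x (rfl | rfl | rfl)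
      exacts [one_mem S, hzS, hab]
    have hle := Set.ncard_le_ncard hsub
    rw [h3, ← Nat.card_coe_set_eq, SetLike.coe_sort_coe, hm] at hle
    interval_cases m <;> norm_num at hle
  have hex := extraspecial_sq hm hm2 hZ hsq
  obtain ⟨n, -, hn⟩ := Cfsg.Agent.S0095.result hex
  exact ⟨hex, n, hn⟩

/-- The index of the core. -/
theorem card_kerG : Nat.card ↥H.kerG = Nat.card ↥H.coreG ∨ Nat.card ↥H.kerG = 3 * Nat.card ↥H.coreG := by
  have hi1 : Function.Injective (Subgroup.centralizer ({z} : Set G)).subtype := Subgroup.subtype_injective _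
  have hi2 : Function.Injective (H.act).ker.subtype := Subgroup.subtype_injective _
  have e1 : Nat.card ↥H.kerG = Nat.card ↥(H.act).ker :=
    (Nat.card_congr ((H.act).ker.equivMapOfInjective _ hi1).toEquiv).symm
  have e2 : Nat.card ↥H.coreG = Nat.card ↥H.core :=
    ((Nat.card_congr ((H.core.map _).equivMapOfInjective _ hi1).toEquiv).symm).trans
      (Nat.card_congr (H.core.equivMapOfInjective _ hi2).toEquiv).symm
  rw [e1, e2]
  obtain ⟨l, hl⟩ := H.fact
  let P : Qd D z := ⟨_, l, hl, rfl⟩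
  have memP : ∀ k, k ∈ H.core ↔ H.pi P k ∈ V4 := fun k =>
    ⟨fun h => H.mem_core.mp h P, fun h => H.mem_core.mpr (H.v4_all h)⟩
  haveI hn : H.core.Normal := ⟨fun k hk g => H.mem_core.mpr fun Q => by
    have hq := H.mem_core.mp hk Q
    have key : ∀ σ v : Equiv.Perm (Fin 4), v ∈ V4 → σ * v * σ⁻¹ ∈ V4 := by decide +kernel
    rw [map_mul, map_mul, map_inv]
    exact key _ _ hq⟩
  rw [← Subgroup.index_mul_card H.core]
  by_cases htop : ∀ k, k ∈ H.core
  · left
    rw [Subgroup.index_eq_one.mpr (eq_top_iff.mpr fun k _ => htop k), one_mul]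
  · right
    push Not at htop
    obtain ⟨k₀, hk₀⟩ := htop
    have hs := fun k => H.sign_pi P k
    rw [memP] at hk₀
    congr 1
    rw [Subgroup.index_eq_card]
    obtain ⟨hsq, -⟩ := even_cosets _ _ (hs k₀) (hs k₀) hk₀
    set q : ↥(H.act).ker ⧸ H.core := QuotientGroup.mk k₀
    haveI : Fact (Nat.Prime 3) := ⟨Nat.prime_three⟩
    have hord : orderOf q = 3 := orderOf_eq_prime (by
      rw [← QuotientGroup.mk_pow, QuotientGroup.eq_one_iff, memP, pow_succ', pow_two, map_mul, map_mul]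
      exact even_cube _ (hs k₀)) fun e => hk₀ ((memP k₀).mp ((QuotientGroup.eq_one_iff k₀).mp e))
    rw [← hord, ← Nat.card_zpowers, ← Subgroup.card_top]
    refine Nat.card_congr (Equiv.setCongr ?_)
    ext x
    simp only [Subgroup.coe_top, Set.mem_univ, true_iff, SetLike.mem_coe]
    obtain ⟨k, rfl⟩ := QuotientGroup.mk_surjective x
    rcases (even_cosets _ _ (hs k₀) (hs k) hk₀).2 with c | c | c
    · rw [(QuotientGroup.eq_one_iff k).mpr ((memP k).mpr c)]
      exact one_mem _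
    · rw [← map_inv, ← map_mul, ← memP, ← QuotientGroup.eq] at c
      rw [← c]
      exact Subgroup.mem_zpowers _
    · rw [← map_mul, ← memP] at c
      have c' : (QuotientGroup.mk k : ↥(H.act).ker ⧸ H.core) = q⁻¹ := by
        refine eq_inv_of_mul_eq_one_right ?_
        rw [← QuotientGroup.mk_mul, QuotientGroup.eq_one_iff]
        exact c
      rw [c']
      exact inv_mem (Subgroup.mem_zpowers _)

theorem cube_core {g : G} (hg : g ∈ H.kerG) : g * (g * g) ∈ H.coreG := by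
  obtain ⟨x, hx, rfl⟩ := hg
  refine H.mem_coreG.mpr ⟨⟨x, hx⟩ * (⟨x, hx⟩ * ⟨x, hx⟩), ?_, rfl⟩
  obtain ⟨l, hl⟩ := H.fact
  refine H.mem_core.mpr (H.v4_all (P := ⟨_, l, hl, rfl⟩) ?_)
  rw [map_mul, map_mul]
  exact even_cube _ (H.sign_pi _ _)

theorem kerG_normal {g c : G} (hg : g ∈ H.kerG) (hc : Commute c z) : c * g * c⁻¹ ∈ H.kerG := by
  obtain ⟨x, hx, rfl⟩ := hg
  exact ⟨⟨c, mem_cz.mpr hc⟩ * x * ⟨c, mem_cz.mpr hc⟩⁻¹, (H.act).normal_ker.conj_mem x hx _, rfl⟩

theorem coreG_normal {g c : G} (hg : g ∈ H.coreG) (hc : Commute c z) : c * g * c⁻¹ ∈ H.coreG := by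
  obtain ⟨k, hk, rfl⟩ := H.mem_coreG.mp hg
  set cc : ↥(Subgroup.centralizer ({z} : Set G)) := ⟨c, mem_cz.mpr hc⟩
  refine H.mem_coreG.mpr ⟨⟨cc * k * cc⁻¹, (H.act).normal_ker.conj_mem _ k.2 _⟩, ?_, rfl⟩
  refine H.mem_core.mpr fun Q => ?_
  set Q' : Qd D z := H.act cc⁻¹ Q
  set k' : ↥(H.act).ker := ⟨cc * k * cc⁻¹, (H.act).normal_ker.conj_mem _ k.2 _⟩
  have hQ' : H.act cc Q' = Q := by
    rw [← Equiv.Perm.mul_apply, ← map_mul, mul_inv_cancel, map_one, Equiv.Perm.one_apply]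
  have corr : ∀ i, ∃ j, c * mem Q' j * c⁻¹ = mem Q i := fun i => by
    have h5 := H.mem_act (g := cc⁻¹) (mem_mem Q i)
    obtain ⟨j, hj⟩ := mem_surj h5
    exact ⟨j, by rw [hj]; simp [cc, mul_assoc]⟩
  choose τ hτ using corr
  have hconj : ∀ i, c * mem Q' (H.pi Q' k (τ i)) * c⁻¹ = mem Q (H.pi Q k' i) := fun i => by
    rw [H.mem_pi, H.mem_pi, ← hτ i]
    simp [k', cc, mul_assoc]
  rcases H.mem_core.mp hk Q' with e | e
  · refine Or.inl (Equiv.ext fun i => mem_inj (P := Q) ?_)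
    rw [← hconj, e]
    exact hτ i
  · refine Or.inr fun i => ⟨fun w => (e (τ i)).1 (mem_inj (P := Q') ?_), mem_inj (P := Q) ?_⟩
    · have h6 := hconj i
      rw [w, ← hτ i] at h6
      exact mul_left_cancel (mul_right_cancel h6)
    · have hτ' : τ (H.pi Q k' i) = H.pi Q' k (τ i) := mem_inj (P := Q') (by
        have h6 := (hτ _).trans (hconj i).symm
        exact mul_left_cancel (mul_right_cancel h6))
      rw [← hconj, hτ', (e (τ i)).2, hτ]

end Four

end Cfsg.Agent.Block.FischerTypes.M24
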