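import Cfsg.Agent.Lib.Block.FischerTypes.Unique

/-! The centraliser of a product of three commuting members. -/

set_option autoImplicit false
set_option linter.style.haveILetI false

namespace Cfsg.Agent.Block.FischerTypes

open Cfsg.Agent.Spor.ThreeTrans

variable {G : Type*} [Group G] [Finite G] {D : Set G}

theorem triple_quotient (S : Setting D)
    (hgood : ∀ a ∈ D, ∀ b ∈ perp D a, TwinFree₂ D a b ∧ Trans₂ D a b) (v : Fin 3 → G)
    (hv : ∀ i, v i ∈ D) (hinj : Function.Injective v) (hcomm : ∀ i k, Commute (v i) (v k))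
    (K C : Subgroup G) (hK : K = Subgroup.centralizer (Set.range v))
    (hC : C = Subgroup.centralizer ({v 0 * v 1 * v 2} : Set G)) :
    K ≤ C ∧ ∃ _ : (K.subgroupOf C).Normal, Nonempty (↥C ⧸ K.subgroupOf C ≃* Equiv.Perm (Fin 3)) := by
  have h := S.cls
  have h01 : v 0 ≠ v 1 := fun e => absurd (hinj e) (by decide)
  have h02 : v 0 ≠ v 2 := fun e => absurd (hinj e) (by decide)
  have h12 : v 1 ≠ v 2 := fun e => absurd (hinj e) (by decide)
  have hmemK : ∀ g : G, g ∈ K ↔ ∀ i, Commute g (v i) := fun g => by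
    rw [hK, Subgroup.mem_centralizer_iff]
    exact ⟨fun e i => (e _ ⟨i, rfl⟩).symm, by rintro e _ ⟨i, rfl⟩; exact (e i).eq.symm⟩
  have hmemC : ∀ g : G, g ∈ C ↔ Commute g (v 0 * v 1 * v 2) := fun g => by
    rw [hC, Subgroup.mem_centralizer_singleton_iff]
    rfl
  have hKC : K ≤ C := fun g hg => (hmemC g).mpr
    ((((hmemK g).mp hg 0).mul_right ((hmemK g).mp hg 1)).mul_right ((hmemK g).mp hg 2))
  refine ⟨hKC, ?_⟩
  have hmove : ∀ (g : ↥C) (i : Fin 3), ∃ k, v k = (g : G) * v i * (g : G)⁻¹ := by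
    intro g
    have hj : ((g : G) * v 0 * (g : G)⁻¹) * ((g : G) * v 1 * (g : G)⁻¹) *
        ((g : G) * v 2 * (g : G)⁻¹) = v 0 * v 1 * v 2 := by
      rw [show ((g : G) * v 0 * (g : G)⁻¹) * ((g : G) * v 1 * (g : G)⁻¹) *
        ((g : G) * v 2 * (g : G)⁻¹) = g * (v 0 * v 1 * v 2) * (g : G)⁻¹ by simp [mul_assoc],
        conj_self_eq ((hmemC _).mp g.2)]
    have hl : ([(g : G) * v 0 * (g : G)⁻¹, g * v 1 * (g : G)⁻¹, g * v 2 * (g : G)⁻¹]).prod =
        [v 0, v 1, v 2].prod := by simpa [mul_assoc] using hj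
    have hmem := uniq_list h S.tf (fun a ha b hb => (hgood a ha b hb).1) (m := 3) le_rfl
      (by simp [h01, h02, h12]) rfl (by simp [conj_mem h _ (hv _)])
      (by simp [hcomm]) (by simp [h01, h02, h12]) rfl (by simp [hv])
      (by simp [hcomm]) hl
    intro i
    have hi : (g : G) * v i * (g : G)⁻¹ ∈ [(g : G) * v 0 * (g : G)⁻¹, g * v 1 * (g : G)⁻¹,
        g * v 2 * (g : G)⁻¹] := by fin_cases i <;> simp
    rcases List.mem_cons.mp (hmem _ hi) with e | e
    · exact ⟨0, e.symm⟩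
    rcases List.mem_cons.mp e with e | e
    · exact ⟨1, e.symm⟩
    · exact ⟨2, (List.mem_singleton.mp e).symm⟩
  choose σ hσ using hmove
  have hσinj : ∀ g, Function.Injective (σ g) := fun g i k e => hinj (by
    have := (hσ g i).symm.trans ((congrArg v e).trans (hσ g k))
    exact mul_left_cancel (mul_right_cancel this))
  let f : ↥C →* Equiv.Perm (Fin 3) := MonoidHom.mk'
    (fun g => Equiv.ofBijective (σ g) (Finite.injective_iff_bijective.mp (hσinj g)))
    fun g k => Equiv.ext fun i => hinj (by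
      show v (σ (g * k) i) = v (σ g (σ k i))
      rw [hσ, hσ, hσ]
      simp [mul_assoc])
  have hf : ∀ g i, v (f g i) = (g : G) * v i * (g : G)⁻¹ := hσ
  have hker : f.ker = K.subgroupOf C := by
    ext g
    rw [MonoidHom.mem_ker, Subgroup.mem_subgroupOf, hmemK]
    constructor
    · intro e i
      have e' := hf g i
      rw [e, Equiv.Perm.one_apply] at e'
      exact mul_inv_eq_iff_eq_mul.mp e'.symm
    · exact fun e => Equiv.ext fun i => hinj (by rw [hf, conj_self_eq (e i), Equiv.Perm.one_apply])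
  have hnorm : (K.subgroupOf C).Normal := hker ▸ f.normal_ker
  refine ⟨hnorm, ⟨(QuotientGroup.quotientMulEquivOfEq hker.symm).trans
    (QuotientGroup.quotientKerEquivOfSurjective f ?_)⟩⟩
  rw [← MonoidHom.range_eq_top, eq_top_iff, ← Equiv.Perm.closure_isSwap, Subgroup.closure_le]
  rintro π ⟨i, k, hik, rfl⟩
  obtain ⟨l, hil, hkl, hall⟩ : ∃ l, i ≠ l ∧ k ≠ l ∧ ∀ z, z = i ∨ z = k ∨ z = l := by
    revert i k; decide
  obtain ⟨x, hxi, hxk, hxl⟩ := exists_swap S (fun a ha b hb => (hgood a ha b hb).2) (hv i) (hv k)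
    (hv l) (hinj.ne hik) (hinj.ne hil) (hinj.ne hkl) (hcomm i k) (hcomm i l) (hcomm k l)
  have hxv : ∀ z, x * v z * x⁻¹ = v (Equiv.swap i k z) := fun z => by
    rcases hall z with rfl | rfl | rfl
    · rw [Equiv.swap_apply_left, hxi]
    · rw [Equiv.swap_apply_right, hxk]
    · rw [Equiv.swap_apply_of_ne_of_ne hil.symm hkl.symm, hxl]
  have hxC : x ∈ C := by
    rw [hmemC]
    refine mul_inv_eq_iff_eq_mul.mp (?_ : x * (v 0 * v 1 * v 2) * x⁻¹ = _)
    calc x * (v 0 * v 1 * v 2) * x⁻¹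
          = (x * v 0 * x⁻¹) * (x * v 1 * x⁻¹) * (x * v 2 * x⁻¹) := by simp [mul_assoc]
      _ = v (Equiv.swap i k 0) * v (Equiv.swap i k 1) * v (Equiv.swap i k 2) := by
        rw [hxv, hxv, hxv]
      _ = v 0 * v 1 * v 2 := by
        have c01 := (hcomm 1 0).eq
        have c02 := (hcomm 2 0).eq
        have c12 := (hcomm 2 1).eq
        fin_cases i <;> fin_cases k <;> first
          | exact absurd rfl hik
          | simp [Equiv.swap_apply_def, mul_assoc, c01, c02, c12, (hcomm 1 0).left_comm]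
  exact ⟨⟨x, hxC⟩, Equiv.ext fun z => hinj (by rw [hf]; exact hxv z)⟩

end Cfsg.Agent.Block.FischerTypes
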