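import Cfsg.Agent.Lib.Block.FischerTypes.M24Setting
import Cfsg.Agent.Lib.Block.FischerTypes.M23Order

/-! Short relations between commuting members, and the perpendicular groups in type M(24). -/

set_option autoImplicit false
set_option linter.style.haveILetI false
set_option linter.unusedSectionVars false

namespace Cfsg.Agent.Block.FischerTypes

open Cfsg Cfsg.Agent.Spor.ThreeTrans
open Cfsg.Agent.Block.FischerTypes.M22 (perp_symm commute_self el)

variable {G : Type*} [Group G] [Finite G] {D : Set G}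

/-- Distinct commuting members. -/
def CList (D : Set G) (k : ℕ) (l : List G) : Prop :=
  l.Nodup ∧ l.length = k ∧ (∀ x ∈ l, x ∈ D) ∧ ∀ x ∈ l, ∀ y ∈ l, Commute x y

open scoped _root_.Classical in
/-- The quotient map on members, extended by one. -/
noncomputable def psi (D : Set G) (a u : G) : PerpQuot D a :=
  if hu : u ∈ perp D a then pr D a u hu else 1

theorem psi_eq {a u : G} (hu : u ∈ perp D a) : psi D a u = pr D a u hu := by
  classical exact dif_pos hu

theorem psi_lift {a : G} (m : List G) (hm : ∀ x ∈ m, x ∈ perp D a) :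
    ∃ U : ↥(PerpGroup D a), (U : G) = m.prod ∧
      (QuotientGroup.mk U : PerpQuot D a) = (m.map (psi D a)).prod := by
  induction m with
  | nil => exact ⟨1, rfl, by simp⟩
  | cons x m ih =>
    obtain ⟨U, hU, hU'⟩ := ih fun y hy => hm y (List.mem_cons_of_mem _ hy)
    have hx := hm x List.mem_cons_self
    refine ⟨el hx * U, by simp [hU], ?_⟩
    rw [QuotientGroup.mk_mul, hU', List.map_cons, List.prod_cons, psi_eq hx]

/-- Lists of commuting images come from lists of commuting members. -/
theorem exists_lift_list (S : Setting D) {a : G} (ha : a ∈ D) {k : ℕ} {L : List (PerpQuot D a)}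
    (hL : CList (perpSet D a) k L) :
    ∃ m : List G, CList D k m ∧ (∀ x ∈ m, x ∈ perp D a) ∧ m.map (psi D a) = L := by
  classical
  obtain ⟨hn, hlen, hLE, hLc⟩ := hL
  have hch : ∀ q ∈ perpSet D a, ∃ v ∈ perp D a, psi D a v = q := fun q hq => by
    obtain ⟨v, hv, rfl⟩ := exists_of_mem hq
    exact ⟨v, hv, psi_eq hv⟩
  choose φ hφ hφψ using hch
  let φ' : PerpQuot D a → G := fun q => if hq : q ∈ perpSet D a then φ q hq else 1
  have hφ' : ∀ q ∈ perpSet D a, φ' q ∈ perp D a ∧ psi D a (φ' q) = q := fun q hq => by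
    simp only [φ', dif_pos hq]
    exact ⟨hφ q hq, hφψ q hq⟩
  have hmp : ∀ x ∈ L.map φ', x ∈ perp D a := fun x hx => by
    obtain ⟨q, hq, rfl⟩ := List.mem_map.mp hx
    exact (hφ' q (hLE q hq)).1
  have hmψ : (L.map φ').map (psi D a) = L := by
    rw [List.map_map]
    conv_rhs => rw [← List.map_id L]
    exact List.map_congr_left fun q hq => (hφ' q (hLE q hq)).2
  refine ⟨L.map φ', ⟨List.Nodup.of_map (psi D a) (hmψ.symm ▸ hn), by simp [hlen],
    fun x hx => (hmp x hx).1, fun x hx y hy => ?_⟩, hmp, hmψ⟩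
  refine commute_of_pr S.cls S.tf ha (hmp x hx) (hmp y hy) ?_
  rw [← psi_eq (hmp x hx), ← psi_eq (hmp y hy)]
  exact hLc _ (hmψ ▸ List.mem_map_of_mem hx) _ (hmψ ▸ List.mem_map_of_mem hy)

/-- No relation of a length if none one level down of length one less. -/
theorem no_succ (S : Setting D) {k : ℕ}
    (hno : ∀ a ∈ D, ∀ L : List (PerpQuot D a), CList (perpSet D a) k L → L.prod ≠ 1)
    {l : List G} (hl : CList D (k + 1) l) : l.prod ≠ 1 := by
  intro he
  obtain ⟨hn, hlen, hlD, hlc⟩ := hl
  cases l with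
  | nil => simp at hlen
  | cons b rest =>
    have hb := hlD b List.mem_cons_self
    have hrest : ∀ x ∈ rest, x ∈ perp D b := fun x hx =>
      ⟨hlD x (List.mem_cons_of_mem _ hx), fun e => (List.nodup_cons.mp hn).1 (e ▸ hx),
        hlc b List.mem_cons_self x (List.mem_cons_of_mem _ hx)⟩
    have hrp : rest.prod = b := by
      rw [List.prod_cons] at he
      rw [eq_inv_of_mul_eq_one_right he, inv_eq S.cls.1 hb]
    obtain ⟨V, hV, hV'⟩ := psi_lift rest hrest
    have hone : (QuotientGroup.mk V : PerpQuot D b) = 1 := by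
      rw [QuotientGroup.eq_one_iff, Subgroup.mem_center_iff]
      exact fun g => Subtype.ext (by
        show (g : G) * V = V * g
        rw [hV, hrp]
        exact (commute_self g.2).eq)
    refine hno b hb (rest.map (psi D b)) ⟨?_, ?_, ?_, ?_⟩ (hV'.symm.trans hone)
    · refine List.Nodup.map_on (fun x hx y hy e => ?_) (List.nodup_cons.mp hn).2
      rw [psi_eq (hrest x hx), psi_eq (hrest y hy)] at e
      exact pr_injective S.cls S.tf hb (hrest x hx) (hrest y hy) e
    · simpa using hlen
    · intro x hx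
      obtain ⟨v, hv, rfl⟩ := List.mem_map.mp hx
      rw [psi_eq (hrest v hv)]
      exact pr_mem _
    · intro x hx y hy
      obtain ⟨v, hv, rfl⟩ := List.mem_map.mp hx
      obtain ⟨v', hv', rfl⟩ := List.mem_map.mp hy
      rw [psi_eq (hrest v hv), psi_eq (hrest v' hv')]
      exact commute_pr _ _ (hlc v (List.mem_cons_of_mem _ hv) v' (List.mem_cons_of_mem _ hv'))

/-- A relation one level down gives one of length one more. -/
theorem relation_succ (S : Setting D) {a : G} (ha : a ∈ D)
    (hc : ∀ z, Commute a z → (∀ y ∈ perp D a, Commute y z) → z = 1 ∨ z = a) {k : ℕ}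
    (hno : ∀ l : List G, CList D k l → l.prod ≠ 1)
    {L : List (PerpQuot D a)} (hL : CList (perpSet D a) k L) (hp : L.prod = 1) :
    ∃ m : List G, CList D k m ∧ (∀ x ∈ m, x ∈ perp D a) ∧ m.map (psi D a) = L ∧ m.prod = a := by
  obtain ⟨m, hm, hmp, hmψ⟩ := exists_lift_list S ha hL
  refine ⟨m, hm, hmp, hmψ, ?_⟩
  obtain ⟨U, hU, hU'⟩ := psi_lift m hmp
  rw [hmψ, hp, QuotientGroup.eq_one_iff] at hU'
  exact (hc m.prod (Commute.list_prod_right _ a fun x hx => (hmp x hx).2.2)
    (fun y hy => hU ▸ commute_of_center hU' (Subgroup.subset_closure hy))).resolve_left (hno m hm)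

namespace M22

variable (C : Ctx D)
include C

/-- Hexads are relations. -/
theorem hexad_list {u p c : G} (hu : u ∈ D) (hp : p ∈ perp D u) (hc : c ∈ common D u p) :
    ∃ l : List G, CList D 6 (u :: p :: l) ∧ (u :: p :: l).prod = 1 ∧ ∀ x : G, x ∈ l ↔
      (x ∈ common D u p ∧ ∀ y ∈ common D u p, Commute y c ↔ Commute y x) := by
  obtain ⟨l, hn, hlen, hl, hlc, hprod⟩ := hexad C.set C.cen C.hex hu hp hc
  have k1 : ∀ y ∈ l, Commute u y := fun y hy => ((hl y).mp hy).1.1.2.2
  have k2 : ∀ y ∈ l, Commute p y := fun y hy => ((hl y).mp hy).1.2.2.2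
  refine ⟨l, ⟨?_, ?_, ?_, ?_⟩, ?_, hl⟩
  · simp only [List.nodup_cons, List.mem_cons, not_or]
    exact ⟨⟨Ne.symm hp.2.1, fun k => ((hl _).mp k).1.1.2.1 rfl⟩, fun k => ((hl _).mp k).1.2.2.1 rfl, hn⟩
  · simp [hlen]
  · simp only [List.mem_cons]
    rintro x (rfl | rfl | hx)
    exacts [hu, hp.1, ((hl x).mp hx).1.1.1]
  · simp only [List.mem_cons]
    rintro x (rfl | rfl | hx) y (rfl | rfl | hy)
    exacts [Commute.refl _, hp.2.2, k1 y hy, hp.2.2.symm, Commute.refl _, k2 y hy, (k1 x hx).symm,
      (k2 x hx).symm, hlc x hx y hy]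
  · rw [List.prod_cons, List.prod_cons, ← mul_assoc]
    exact hprod

end M22

namespace M23

variable (B : Base D)
include B

/-- A member of the common perpendicular of all that commute with an apart pair. -/
theorem third {a c e : G} (ha : a ∈ D) (hc : c ∈ D) (he : e ∈ D) (hac : ¬ Commute a c)
    (hae : ¬ Commute a e) (hall : ∀ w ∈ common D a c, Commute w e) :
    e = a ∨ e = c ∨ e = a * c * a := by
  have h := B.set.cls
  obtain ⟨x, hxa, hxc⟩ := B.meets a ha c hc hac
  have hex : e ∈ perp D x := ⟨he, fun k => hae (k ▸ hxa.2.2), hall x ⟨hxa, hxc⟩⟩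
  have ha' := perp_symm ha hxa
  have hc' := perp_symm hc hxc
  have hw : a * c * a ∈ perp D x := by
    have := perp_conj' h ha'.2.2.symm hc'
    rwa [inv_eq h.1 ha] at this
  rcases M22.third (B.ctx x hxa.1) (pr_mem ha') (pr_mem hc') (pr_mem hex)
      (fun k => hac (commute_of_pr h B.set.tf hxa.1 ha' hc' k))
      (fun k => hae (commute_of_pr h B.set.tf hxa.1 ha' hex k))
      (fun w hw => by
        obtain ⟨u, hu, rfl⟩ := exists_of_mem hw.1.1
        have h1 := commute_of_pr h B.set.tf hxa.1 ha' hu hw.1.2.2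
        have h2 := commute_of_pr h B.set.tf hxa.1 hc' hu hw.2.2.2
        exact commute_pr hu hex (hall u ⟨⟨hu.1, fun k => hw.1.2.1 (by subst k; rfl), h1⟩,
          ⟨hu.1, fun k => hw.2.2.1 (by subst k; rfl), h2⟩⟩)) with k | k | k
  · exact Or.inl (pr_injective h B.set.tf hxa.1 hex ha' k)
  · exact Or.inr (Or.inl (pr_injective h B.set.tf hxa.1 hex hc' k))
  · exact Or.inr (Or.inr (pr_injective h B.set.tf hxa.1 hex hw (k.trans (by
      rw [← QuotientGroup.mk_mul, ← QuotientGroup.mk_mul]; rfl))))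

theorem no_six {l : List G} (hl : CList D 6 l) : l.prod ≠ 1 :=
  no_succ B.set (fun a ha L hL =>
    M22.no_five (B.ctx a ha) hL.1 hL.2.1 hL.2.2.1 hL.2.2.2) hl

theorem centre_perp' {a z : G} (ha : a ∈ D) (hza : Commute a z)
    (hz : ∀ y ∈ perp D a, Commute y z) : z = 1 ∨ z = a := centre_perp B ha hza hz

/-- Seven commuting members with product one. -/
theorem seven {a : G} (ha : a ∈ D) : ∃ L : List G, CList D 7 L ∧ L.prod = 1 ∧ a ∈ L := by
  have C := B.ctx a ha
  obtain ⟨u, hu⟩ := B.set.perp_ne a ha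
  obtain ⟨p, hp⟩ := C.set.perp_ne _ (pr_mem hu)
  obtain ⟨c, hc⟩ := M22.common_nonempty C (pr_mem hu) hp
  obtain ⟨l, hL, hp1, -⟩ := M22.hexad_list C (pr_mem hu) hp hc
  obtain ⟨m, hm, hmp, -, hma⟩ :=
    relation_succ B.set ha (fun z => centre_perp B ha) (fun l => no_six B) hL hp1
  refine ⟨a :: m, ⟨List.nodup_cons.mpr ⟨fun k => (hmp a k).2.1 rfl, hm.1⟩, by simp [hm.2.1],
    ?_, ?_⟩, by rw [List.prod_cons, hma, mul_self B.set.cls.1 ha], List.mem_cons_self⟩
  · simp only [List.mem_cons]
    rintro x (rfl | hx)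
    exacts [ha, (hmp x hx).1]
  · simp only [List.mem_cons]
    rintro x (rfl | hx) y (rfl | hy)
    exacts [Commute.refl _, (hmp y hy).2.2, (hmp x hx).2.2.symm, hm.2.2.2 x hx y hy]

end M23

namespace M24

variable (B : Base D)
include B

theorem toK {a u v : G} (ha : a ∈ D) (hu : u ∈ perp D a) (hv : v ∈ perp D a) :
    pr D a v hv ∈ perp (perpSet D a) (pr D a u hu) ↔ v ∈ perp D u :=
  ⟨fun k => ⟨hv.1, fun e => k.2.1 (by subst e; rfl), commute_of_pr B.set.cls B.set.tf ha hu hv k.2.2⟩,
    fun k => ⟨pr_mem hv, fun e => k.2.1 (pr_injective B.set.cls B.set.tf ha hv hu e),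
      commute_pr hu hv k.2.2⟩⟩

/-- Only one and `a` commute with `a` and its perpendicular. -/
theorem centre_perp {a z : G} (ha : a ∈ D) (hza : Commute a z) (hz : ∀ y ∈ perp D a, Commute y z) :
    z = 1 ∨ z = a := by
  have h := B.set.cls
  obtain ⟨c, hc, hac⟩ := B.apart_ne a ha
  have hall : ∀ z', Commute a z' → (∀ y ∈ perp D a, Commute y z') → Commute c z' → z' = 1 := by
    intro z' hza' hz' hzc'
    have := mem_center_of_commute h fun y hy => by
      by_cases hya : Commute y a
      · by_cases e : y = a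
        · exact e ▸ hza'
        · exact hz' y ⟨hy, e, hya.symm⟩
      obtain ⟨g, hg, rfl⟩ := transitive_apart B.set.hyp ha ⟨hc, fun k => hac k.symm⟩ ⟨hy, hya⟩
      have hgz : Commute g z' := by
        have hle : localGroup D a ≤ Subgroup.centralizer {z'} := by
          refine (Subgroup.closure_le _).mpr ?_
          rintro w (rfl | hw) <;> rw [SetLike.mem_coe, Subgroup.mem_centralizer_singleton_iff]
          · exact hza'.eq
          · exact (hz' w hw).eq
        exact Subgroup.mem_centralizer_singleton_iff.mp (hle hg)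
      exact (hgz.mul_left hzc').mul_left hgz.inv_left
    rwa [B.cen, Subgroup.mem_bot] at this
  obtain ⟨x, hxa, hxc⟩ := B.meets a ha c hc hac
  have hea : ¬ Commute a (z * c * z⁻¹) := fun k => hac (by
    rw [← commute_conj_iff z, conj_self_eq hza.symm]; exact k)
  have hzx : z * x * z⁻¹ = x := conj_self_eq (hz x hxa).symm
  have hex : z * c * z⁻¹ ∈ perp D x := by
    refine ⟨conj_mem h z hc, fun k => hea (by rw [k]; exact hxa.2.2), ?_⟩
    have := (commute_conj_iff z x c).mpr hxc.2.2.symm
    rwa [hzx] at this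
  have ha' := perp_symm ha hxa
  have hc' := perp_symm hc hxc
  have hw : a * c * a ∈ perp D x := by
    have := perp_conj' h ha'.2.2.symm hc'
    rwa [inv_eq h.1 ha] at this
  rcases M23.third (B.sub x hxa.1) (pr_mem ha') (pr_mem hc') (pr_mem hex)
      (fun k => hac (commute_of_pr h B.set.tf hxa.1 ha' hc' k))
      (fun k => hea (commute_of_pr h B.set.tf hxa.1 ha' hex k))
      (fun w hw => by
        obtain ⟨u, hu, rfl⟩ := exists_of_mem hw.1.1
        have h1 := commute_of_pr h B.set.tf hxa.1 ha' hu hw.1.2.2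
        have h2 := commute_of_pr h B.set.tf hxa.1 hc' hu hw.2.2.2
        refine commute_pr hu hex ?_
        have hzu : z * u * z⁻¹ = u :=
          conj_self_eq (hz u ⟨hu.1, fun k => hw.1.2.1 (by subst k; rfl), h1⟩).symm
        have := (commute_conj_iff z u c).mpr h2.symm
        rwa [hzu] at this) with k | k | k
  · exact absurd (pr_injective h B.set.tf hxa.1 hex ha' k ▸ Commute.refl a) hea
  · left
    refine hall z hza hz ?_
    exact (mul_inv_eq_iff_eq_mul.mp (pr_injective h B.set.tf hxa.1 hex hc' k) : z * c = c * z).symm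
  · right
    have k' : z * c * z⁻¹ = a * c * a := pr_injective h B.set.tf hxa.1 hex hw (k.trans (by
      rw [← QuotientGroup.mk_mul, ← QuotientGroup.mk_mul]; rfl))
    have h1 := hall (a * z) ((Commute.refl a).mul_right hza)
      (fun y hy => hy.2.2.symm.mul_right (hz y hy)) ?_
    · rw [eq_inv_of_mul_eq_one_right h1, inv_eq h.1 ha]
    · show c * (a * z) = a * z * c
      have k2 : z * c = a * c * a * z := mul_inv_eq_iff_eq_mul.mp k'
      rw [mul_assoc a z c, k2]
      simp only [mul_assoc, mul_self_mul h.1 ha]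

theorem no_seven {l : List G} (hl : CList D 7 l) : l.prod ≠ 1 :=
  no_succ B.set (fun a ha _ hL => M23.no_six (B.sub a ha) hL) hl

/-- A member is a product of seven commuting members of its perpendicular. -/
theorem seven {a : G} (ha : a ∈ D) :
    ∃ m : List G, m.length = 7 ∧ (∀ x ∈ m, x ∈ perp D a) ∧ m.prod = a := by
  obtain ⟨u, hu⟩ := B.set.perp_ne a ha
  obtain ⟨L, hL, hp, -⟩ := M23.seven (B.sub a ha) (pr_mem hu)
  obtain ⟨m, hm, hmp, -, hma⟩ :=
    relation_succ B.set ha (fun z => centre_perp B ha) (fun l => no_seven B) hL hp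
  exact ⟨m, hm.2.1, hmp, hma⟩

theorem self {a : G} (ha : a ∈ D) : a ∈ PerpGroup D a := by
  obtain ⟨m, -, hm, hm'⟩ := seven B ha
  have : m.prod ∈ PerpGroup D a := list_prod_mem fun x hx => Subgroup.subset_closure (hm x hx)
  rwa [hm'] at this

theorem centre {a : G} (ha : a ∈ D) :
    Subgroup.center ↥(PerpGroup D a) = (Subgroup.zpowers a).subgroupOf (PerpGroup D a) := by
  ext z
  rw [Subgroup.mem_subgroupOf]
  constructor
  · intro hz
    rcases centre_perp B ha (commute_of_center hz (self B ha))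
        (fun y hy => commute_of_center hz (Subgroup.subset_closure hy)) with k | k <;> rw [k]
    exacts [one_mem _, Subgroup.mem_zpowers a]
  · rintro ⟨n, hn⟩
    refine Subgroup.mem_center_iff.mpr fun g => Subtype.ext ?_
    show (g : G) * z = z * g
    rw [← hn]
    exact ((commute_self g.2).zpow_right n).eq

/-- Congruence modulo the centre of a perpendicular group. -/
theorem sub_center {x : G} (hx : x ∈ D) {k l : ↥(PerpGroup D x)}
    (e : (QuotientGroup.mk k : PerpQuot D x) = QuotientGroup.mk l) :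
    (k : G) * (l : G)⁻¹ ∈ Subgroup.zpowers x := by
  have hz := QuotientGroup.eq_iff_div_mem.mp e
  rw [centre B hx, Subgroup.mem_subgroupOf] at hz
  simpa [div_eq_mul_inv] using hz

/-- The stabiliser of `d` in the perpendicular group of `x`. -/
theorem point' {d x : G} (hd : d ∈ D) (hx : x ∈ perp D d) {k : G} (hk : k ∈ PerpGroup D x)
    (hkd : Commute k d) : k ∈ Subgroup.closure (insert x (common D x d)) := by
  have h := B.set.cls
  have htf := B.set.tf
  have hd' := perp_symm hd hx
  have hle0 : Subgroup.closure (common D x d) ≤ PerpGroup D x :=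
    Subgroup.closure_mono Set.inter_subset_left
  let K : PerpQuot D x := QuotientGroup.mk (⟨k, hk⟩ : ↥(PerpGroup D x))
  have hK : K ∈ Subgroup.centralizer {pr D x d hd'} := Subgroup.mem_centralizer_singleton_iff.mpr
    (congrArg QuotientGroup.mk (show (⟨k, hk⟩ : ↥(PerpGroup D x)) * el hd' = el hd' * ⟨k, hk⟩ from
      Subtype.ext hkd.eq))
  rw [M23.centralizer_eq (B.sub x hx.1) (pr_mem hd')] at hK
  have hle : PerpGroup (perpSet D x) (pr D x d hd') ≤
      ((Subgroup.closure (common D x d)).subgroupOf (PerpGroup D x)).map (QuotientGroup.mk' _) := by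
    refine (Subgroup.closure_le _).mpr ?_
    intro r hr
    obtain ⟨u, hu, rfl⟩ := exists_of_mem hr.1
    exact ⟨el hu, Subgroup.subset_closure (k := common D x d) ⟨hu, (toK B hx.1 hd' hu).mp hr⟩, rfl⟩
  obtain ⟨k', hk', e⟩ := hle hK
  have hz := sub_center B hx.1 e.symm
  have hxc : Subgroup.zpowers x ≤ Subgroup.closure (insert x (common D x d)) :=
    Subgroup.zpowers_le.mpr (Subgroup.subset_closure (Set.mem_insert _ _))
  have := mul_mem (hxc hz)
    (Subgroup.closure_mono (Set.subset_insert x _) (show (k' : G) ∈ Subgroup.closure (common D x d) from hk'))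
  rwa [inv_mul_cancel_right] at this

theorem point {d x : G} (hd : d ∈ D) (hx : x ∈ perp D d) {k : G} (hk : k ∈ PerpGroup D x)
    (hkd : Commute k d) : k ∈ PerpGroup D d := by
  refine (Subgroup.closure_le _).mpr ?_ (point' B hd hx hk hkd)
  rintro u (rfl | hu)
  exacts [Subgroup.subset_closure hx, Subgroup.subset_closure hu.2]

theorem lift_conj {x p q : G} (hx : x ∈ D) (hp : p ∈ perp D x) (hq : q ∈ perp D x) :
    ∃ k ∈ PerpGroup D x, k * p * k⁻¹ = q := by
  obtain ⟨g, hg, e⟩ := transitive_perp B.set.hyp hx hp hq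
  exact ⟨g, hg, e⟩

theorem lift_conj_fix {x y p q : G} (hx : x ∈ D) (hy : y ∈ perp D x) (hp : p ∈ perp D x)
    (hq : q ∈ perp D x) (hpy : p ∈ perp D y) (hqy : q ∈ perp D y) :
    ∃ k ∈ PerpGroup D x, k ∈ PerpGroup D y ∧ k * p * k⁻¹ = q := by
  have h := B.set.cls
  obtain ⟨g, hg, hg'⟩ := transitive_perp (B.sub x hx).set.hyp (pr_mem hy)
    ((toK B hx hy hp).mpr hpy) ((toK B hx hy hq).mpr hqy)
  obtain ⟨k, rfl⟩ := QuotientGroup.mk_surjective g
  have hm : (k : G) * p * (k : G)⁻¹ ∈ perp D x := perp_conj' h (commute_self k.2) hp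
  have hm' : (k : G) * y * (k : G)⁻¹ ∈ perp D x := perp_conj' h (commute_self k.2) hy
  have key : ∀ u (hu : u ∈ perp D x) (hu' : (k : G) * u * (k : G)⁻¹ ∈ perp D x),
      pr D x _ hu' = QuotientGroup.mk k * pr D x u hu * (QuotientGroup.mk k)⁻¹ := fun u hu hu' => by
    rw [← QuotientGroup.mk_inv, ← QuotientGroup.mk_mul, ← QuotientGroup.mk_mul]; rfl
  have hky : (k : G) * y * (k : G)⁻¹ = y := pr_injective h B.set.tf hx hm' hy (by
    rw [key y hy hm']
    exact conj_self_eq (commute_self hg))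
  refine ⟨k, k.2, point B hy.1 (perp_symm hx hy) k.2 (mul_inv_eq_iff_eq_mul.mp hky), ?_⟩
  exact pr_injective h B.set.tf hx hm hq ((key p hp hm).trans hg')

end M24

end Cfsg.Agent.Block.FischerTypes
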