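import Cfsg.Agent.Lib.Block.FischerTypes.Setting
import Cfsg.Agent.Lib.Spor.FourGen
import Cfsg.Agent.S0293
import Cfsg.Agent.S0296

/-! The types M(23) and M(24): twin-freeness and transitivity inside the perpendicular of a pair. -/

set_option autoImplicit false
set_option linter.style.haveILetI false

namespace Cfsg.Agent.Block.FischerTypes

open Cfsg.Agent.Spor.ThreeTrans

theorem not_solvable_pomega :
    ¬ Group.IsSolvable (POmega (ZMod 3) (quadFormPlus 4 (ZMod 3))) := by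
  intro hs
  have hsimple := Cfsg.Agent.S0296.result (F := ZMod 3) 4 le_rfl
  obtain ⟨x, y, hxy⟩ := exists_noncommute_of_card hsimple fun hp => by
    have hc := Cfsg.Agent.S0293.result (F := ZMod 3) (ZMod.card 3) 4 le_rfl
    norm_num [Finset.prod_range_succ] at hc
    have : Nat.card (POmega (ZMod 3) (quadFormPlus 4 (ZMod 3))) = 4952179814400 := by omega
    rw [this] at hp
    norm_num at hp
  haveI := hsimple
  exact hxy (IsSimpleGroup.comm_iff_isSolvable.mpr hs x y)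

/-- Generators with all products of order dividing three generate a solvable group. -/
theorem isSolvable_of_all_three {L : Type*} [Group L] [Finite L] (S : Set L)
    (hgen : Subgroup.closure S = ⊤) (hinv : ∀ x ∈ S, x * x = 1)
    (hconj : ∀ g : L, ∀ x ∈ S, g * x * g⁻¹ ∈ S) (h3 : ∀ x ∈ S, ∀ y ∈ S, (x * y) ^ 3 = 1) :
    Group.IsSolvable L := by
  haveI : Fact (Nat.Prime 3) := ⟨Nat.prime_three⟩
  haveI := Transfer.pCore_normal' 3 L
  haveI : Group.IsNilpotent ↥(pCore 3 L) := (Transfer.pCore_isPGroup 3 L).isNilpotent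
  set π := QuotientGroup.mk' (pCore 3 L)
  have heq : ∀ x ∈ S, ∀ y ∈ S, π x = π y := fun x hx y hy => by
    have h1 : π (x * y) = 1 :=
      (QuotientGroup.eq_one_iff _).mpr (Spor.FourGen.mul_mem_pCore S hinv hconj h3 hx hy)
    have h2 : π y * π y = 1 := by rw [← map_mul, hinv y hy, map_one]
    rw [map_mul] at h1
    rw [eq_inv_of_mul_eq_one_left h1]
    exact (eq_inv_of_mul_eq_one_left h2).symm
  have hcomm : IsMulCommutative ↥(Subgroup.closure (π '' S)) :=
    Subgroup.isMulCommutative_closure (by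
      rintro _ ⟨x, hx, rfl⟩ _ ⟨y, hy, rfl⟩
      rw [heq x hx y hy])
  have hmem : ∀ q, q ∈ Subgroup.closure (π '' S) := fun q => by
    rw [← MonoidHom.map_closure, hgen]
    obtain ⟨g, rfl⟩ := QuotientGroup.mk'_surjective _ q
    exact ⟨g, Subgroup.mem_top g, rfl⟩
  haveI : Group.IsSolvable (L ⧸ pCore 3 L) := Group.isSolvable_of_comm fun a b =>
    congrArg Subtype.val (mul_comm' (⟨a, hmem a⟩ : ↥(Subgroup.closure (π '' S))) ⟨b, hmem b⟩)
  exact (Group.isSolvable_iff_subgroup_quotient (pCore 3 L)).mpr ⟨inferInstance, inferInstance⟩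

variable {G : Type*} [Group G] [Finite G] {D : Set G}

/-- If the common perpendicular of `d`, `c` generates a non-solvable group, none of it is isolated. -/
theorem exists_commuting_common (h : IsThreeTranspositionClass D) {d c : G}
    (hL : ¬ Group.IsSolvable ↥(Subgroup.closure (common D d c))) :
    ∀ x ∈ common D d c, ∃ y ∈ common D d c, y ≠ x ∧ Commute x y := by
  intro x hx
  by_contra hno
  push Not at hno
  apply hL
  have hLc : ∀ g ∈ Subgroup.closure (common D d c), ∀ y ∈ common D d c,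
      g * y * g⁻¹ ∈ common D d c := fun g hg y hy => by
    have h1 : g ∈ PerpGroup D d := Subgroup.closure_mono Set.inter_subset_left hg
    have h2 : g ∈ PerpGroup D c := Subgroup.closure_mono Set.inter_subset_right hg
    exact ⟨perp_conj' h (commute_all (fun u hu => hu.2.2.symm) h1) hy.1,
      perp_conj' h (commute_all (fun u hu => hu.2.2.symm) h2) hy.2⟩
  have hall : ∀ y ∈ common D d c, ∀ z ∈ common D d c, y ≠ z → ¬ Commute y z := by
    intro y hy z hz hne hcom
    by_cases hyx : y = x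
    · subst hyx
      exact hno z hz hne.symm hcom
    · have hxy : ¬ Commute y x := fun e => hno y hy hyx e.symm
      have hg : y * x ∈ Subgroup.closure (common D d c) :=
        mul_mem (Subgroup.subset_closure hy) (Subgroup.subset_closure hx)
      have e : y * x * y * (y * x)⁻¹ = x := by
        rw [mul_inv_rev, inv_eq h.1 hy.1.1, inv_eq h.1 hx.1.1, braid h.1 hy.1.1 hx.1.1 hxy]
        simp [mul_assoc, mul_self_mul h.1 hx.1.1, mul_self h.1 hy.1.1]
      have e2 := (commute_conj_iff (y * x) y z).mpr hcom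
      rw [e] at e2
      refine hno _ (hLc _ hg z hz) (fun e' => hne ?_) e2
      exact mul_left_cancel (mul_right_cancel (e.trans e'.symm))
  refine isSolvable_of_all_three
    (((↑) : ↥(Subgroup.closure (common D d c)) → G) ⁻¹' common D d c)
    Subgroup.closure_closure_coe_preimage (fun u hu => Subtype.ext (mul_self h.1 hu.1.1))
    (fun g u hu => hLc _ g.2 _ hu) fun u hu v hv => Subtype.ext ?_
  push_cast
  by_cases huv : (u : G) = v
  · rw [huv, mul_self h.1 hv.1.1, one_pow]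
  · exact pow_three_of_not_commute h hu.1.1 hv.1.1 (hall _ hu _ hv huv)

theorem apart_pair_conj (S : Setting D) {d c b b' : G} (hd : d ∈ D) (hc : c ∈ D)
    (hdc : ¬ Commute d c) (hb : b ∈ D) (hb' : b' ∈ D) (hbb : ¬ Commute b b') :
    ∃ g : G, g * d * g⁻¹ = b ∧ g * c * g⁻¹ = b' := by
  obtain ⟨g, rfl⟩ := transitive S.cls hd hb
  obtain ⟨k, hk, e⟩ := transitive_apart S.hyp (x := g * d * g⁻¹) hb
    (a₀ := g * c * g⁻¹) ⟨conj_mem S.cls g hc, fun e => hdc ((commute_conj_iff g c d).mp e).symm⟩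
    (b₀ := b') ⟨hb', fun e => hbb e.symm⟩
  refine ⟨k * g, ?_, ?_⟩
  · rw [show k * g * d * (k * g)⁻¹ = k * (g * d * g⁻¹) * k⁻¹ by simp [mul_assoc],
      conj_self_eq (localGroup_commute hk)]
  · rw [show k * g * c * (k * g)⁻¹ = k * (g * c * g⁻¹) * k⁻¹ by simp [mul_assoc], e]

/-- Fischer's hypotheses for a perpendicular quotient. -/
theorem hyp_perp (S : Setting D) {d c : G} (hd : d ∈ D) (hc : c ∈ D) (hdc : ¬ Commute d c)
    (hP : ∀ x ∈ common D d c, ∃ y ∈ common D d c, y ≠ x ∧ Commute x y)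
    (hcen : Subgroup.center (PerpQuot D d) = ⊥)
    (hnc : ∃ u ∈ perpSet D d, ∃ v ∈ perpSet D d, ¬ Commute u v) : Hyp (perpSet D d) := by
  have h := S.cls
  have hE := S.qcls hd
  refine hyp_of hE hcen (S.core2 d hd) (S.core3 d hd) hnc fun u hu v hv => ?_
  obtain ⟨b, hb, rfl⟩ := exists_of_mem hu
  obtain ⟨b', hb', rfl⟩ := exists_of_mem hv
  by_cases hcom : Commute b b'
  · exact mul_mem_second hE hu hv (commute_pr hb hb' hcom)
  obtain ⟨g, hgd, hgc⟩ := apart_pair_conj S hd hc hdc hb.1 hb'.1 hcom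
  have hx : d ∈ common D (g * d * g⁻¹) (g * c * g⁻¹) := by
    rw [hgd, hgc]
    exact ⟨⟨hd, hb.2.1.symm, hb.2.2.symm⟩, ⟨hd, hb'.2.1.symm, hb'.2.2.symm⟩⟩
  obtain ⟨y, hy, hyx, hxy⟩ := hP _ (pull h g hx)
  have hw : g * y * g⁻¹ ∈ perp D d := by
    refine ⟨conj_mem h g hy.1.1, fun e => hyx ?_, ?_⟩
    · calc y = g⁻¹ * (g * y * g⁻¹) * g := by simp [mul_assoc]
        _ = g⁻¹ * d * g := by rw [e]
    · have := (commute_conj_iff g _ _).mpr hxy
      simpa [mul_assoc] using this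
  have h1 : Commute b (g * y * g⁻¹) := hgd ▸ (commute_conj_iff g d y).mpr hy.1.2.2
  have h2 : Commute b' (g * y * g⁻¹) := hgc ▸ (commute_conj_iff g c y).mpr hy.2.2.2
  exact mul_trans_mem hE (pr_mem hw) (mul_mem_second hE hu (pr_mem hw) (commute_pr hb hw h1))
    (mul_mem_second hE (pr_mem hw) hv (commute_pr hw hb' h2.symm))

theorem good_m23 (hD : IsThreeTranspositionGroup D) (hprim : IsPrimitiveUnderConj D) {d₀ : G}
    (hd₀ : d₀ ∈ D) (h3 : pCore 3 ↥(PerpGroup D d₀) ≤ Subgroup.center ↥(PerpGroup D d₀))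
    (h2 : pCore 2 ↥(PerpGroup D d₀) ≤ Subgroup.center ↥(PerpGroup D d₀))
    (h23 : IsOfTypeM23 G D) :
    Setting D ∧ ∀ a ∈ D, ∀ b ∈ perp D a, TwinFree₂ D a b ∧ Trans₂ D a b := by
  obtain ⟨hcen, d, hd, c, hc, hdc, h22, -⟩ := h23
  have h22' : IsOfTypeM22 (PerpQuot D d) (perpSet D d) := h22
  obtain ⟨-, d', hd', -, hs, hnc⟩ := m22_data h22'
  obtain ⟨b, hb, rfl⟩ := exists_of_mem hd'
  have S := setting_of hD hprim hd₀ h3 h2 hcen ⟨d, hd, c, hc, hdc⟩ ⟨d, hd, b, hb⟩
  obtain ⟨hK, hKtf⟩ := m22_perp_class (S.qcls hd) (S.qtf hd) hd' hs hnc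
  exact ⟨S, good_all S hd hb (inner S.cls S.tf hd hb (S.qcls hd) (S.qtf hd) hK hKtf)⟩

theorem good_m24 (hD : IsThreeTranspositionGroup D) (hprim : IsPrimitiveUnderConj D) {d₀ : G}
    (hd₀ : d₀ ∈ D) (h3 : pCore 3 ↥(PerpGroup D d₀) ≤ Subgroup.center ↥(PerpGroup D d₀))
    (h2 : pCore 2 ↥(PerpGroup D d₀) ≤ Subgroup.center ↥(PerpGroup D d₀))
    (h24 : IsOfTypeM24 G D) :
    Setting D ∧ ∀ a ∈ D, ∀ b ∈ perp D a, TwinFree₂ D a b ∧ Trans₂ D a b := by
  obtain ⟨hcen, d, hd, c, hc, hdc, h23, N, hN, ⟨eN⟩, -⟩ := h24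
  have h23' : IsOfTypeM23 (PerpQuot D d) (perpSet D d) := h23
  obtain ⟨hcenE, d', hd', c', hc', hdc', h22, -⟩ := h23'
  have h22' : IsOfTypeM22 (PerpQuot (perpSet D d) d') (perpSet (perpSet D d) d') := h22
  obtain ⟨b, hb, rfl⟩ := exists_of_mem hd'
  have S := setting_of hD hprim hd₀ h3 h2 hcen ⟨d, hd, c, hc, hdc⟩ ⟨d, hd, b, hb⟩
  have hE := S.qcls hd
  have hEtf := S.qtf hd
  have hP : ∀ x ∈ common D d c, ∃ y ∈ common D d c, y ≠ x ∧ Commute x y := by
    refine exists_commuting_common S.cls fun hs => not_solvable_pomega ?_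
    haveI : Group.IsSolvable ↥(Subgroup.closure
        ({y : G | y ∈ D ∧ y ≠ d ∧ Commute d y} ∩ {y : G | y ∈ D ∧ y ≠ c ∧ Commute c y})) := hs
    haveI := Group.isSolvable_of_surjective (QuotientGroup.mk'_surjective (Subgroup.center
      ↥(Subgroup.closure
        ({y : G | y ∈ D ∧ y ≠ d ∧ Commute d y} ∩ {y : G | y ∈ D ∧ y ≠ c ∧ Commute c y}))))
    exact Group.isSolvable_of_surjective (f := eN.toMonoidHom) eN.surjective
  have HE := hyp_perp S hd hc hdc hP hcenE ⟨_, hd', c', hc', hdc'⟩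
  have hF := perpSet_class hE hEtf hd' (perp_nonempty HE hd') fun y hy y' hy' =>
    transitive_perp HE hd' hy hy'
  exact ⟨S, good_all S hd hb (inner S.cls S.tf hd hb hE hEtf hF (m22_twinFree hF h22'))⟩

theorem good_of_type (hD : IsThreeTranspositionGroup D) (hprim : IsPrimitiveUnderConj D) {d₀ : G}
    (hd₀ : d₀ ∈ D) (h3 : pCore 3 ↥(PerpGroup D d₀) ≤ Subgroup.center ↥(PerpGroup D d₀))
    (h2 : pCore 2 ↥(PerpGroup D d₀) ≤ Subgroup.center ↥(PerpGroup D d₀))
    (h : IsOfTypeM23 G D ∨ IsOfTypeM24 G D) :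
    Setting D ∧ ∀ a ∈ D, ∀ b ∈ perp D a, TwinFree₂ D a b ∧ Trans₂ D a b :=
  h.elim (good_m23 hD hprim hd₀ h3 h2) (good_m24 hD hprim hd₀ h3 h2)

end Cfsg.Agent.Block.FischerTypes
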