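import Cfsg.Agent.Lib.Block.FischerTypes.M24Below
import Cfsg.Agent.Lib.Block.FischerTypes.Types

/-! The standing facts in type M(24). -/

set_option autoImplicit false
set_option linter.style.haveILetI false
set_option linter.unusedSectionVars false

namespace Cfsg.Agent.Block.FischerTypes

open Cfsg Cfsg.Agent.Spor.ThreeTrans

variable {G : Type*} [Group G] [Finite G] {D : Set G}

namespace M24

/-- The standing facts in type M(24). -/
structure Base (D : Set G) : Prop where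
  set : Setting D
  cen : Subgroup.center G = ⊥
  sub : ∀ a ∈ D, M23.Base (perpSet D a)
  typ : ∀ a ∈ D, IsOfTypeM23 (PerpQuot D a) (perpSet D a)
  meets : ∀ a ∈ D, ∀ c ∈ D, ¬ Commute a c → (common D a c).Nonempty
  linked : ∀ a ∈ D, ∀ c ∈ D, ¬ Commute a c → ∀ x ∈ common D a c, ∃ y ∈ common D a c, y ≠ x ∧ Commute x y
  apart_ne : ∀ a ∈ D, ∃ c ∈ D, ¬ Commute a c
  seed : ∃ d ∈ D, ∃ c ∈ D, ¬ Commute d c ∧
    ((∃ (N : Subgroup (↥(Subgroup.closure (common D d c)) ⧸
        Subgroup.center ↥(Subgroup.closure (common D d c)))) (_ : N.Normal),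
      Nonempty (N ≃* POmega (ZMod 3) (quadFormPlus 4 (ZMod 3))) ∧
      Nonempty ((↥(Subgroup.closure (common D d c)) ⧸
        Subgroup.center ↥(Subgroup.closure (common D d c))) ⧸ N ≃* Equiv.Perm (Fin 3))) ∨
      (common D d c).ncard = 3240)

/-- A member of a type M(23) class has a nonempty perpendicular two levels down. -/
theorem m23_seed {K : Type*} [Group K] {E : Set K} (h : IsOfTypeM23 K E) :
    Subgroup.center K = ⊥ ∧ ∃ x ∈ E, ∃ q ∈ perpSet E x,
      IsSimpleGroup (PerpQuot (perpSet E x) q) ∧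
      ∃ s t : PerpQuot (perpSet E x) q, ¬ Commute s t := by
  obtain ⟨hcen, x, hx, c, hc, hxc, h22, -⟩ := h
  have h22' : IsOfTypeM22 (PerpQuot E x) (perpSet E x) := h22
  obtain ⟨-, q, hq, -, hs, hnc⟩ := m22_data h22'
  exact ⟨hcen, x, hx, q, hq, hs, hnc⟩

theorem base (hD : IsThreeTranspositionGroup D) (hprim : IsPrimitiveUnderConj D)
    (h24 : IsOfTypeM24 G D) : Base D := by
  obtain ⟨hcen, d, hd, c, hc, hdc, h23, hN⟩ := h24
  have h23' : IsOfTypeM23 (PerpQuot D d) (perpSet D d) := h23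
  obtain ⟨-, x₀, hx₀, -⟩ := m23_seed h23'
  obtain ⟨b, hb, -⟩ := exists_of_mem hx₀
  have h := class_of_prim hD hprim
  obtain ⟨H, htf⟩ := hyp_of_prim h hprim hcen ⟨d, hd, c, hc, hdc⟩ ⟨d, hd, b, hb⟩
  have hcls : ∀ a ∈ D, IsThreeTranspositionClass (perpSet D a) := fun a ha =>
    perpSet_class h htf ha (perp_nonempty H ha) fun y hy y' hy' => transitive_perp H ha hy hy'
  have htyp : ∀ a ∈ D, IsOfTypeM23 (PerpQuot D a) (perpSet D a) := fun a ha => by
    obtain ⟨g, rfl⟩ := transitive h hd ha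
    obtain ⟨σ, hσ⟩ := quot_conj h g d
    rw [← hσ]
    exact m23_map σ h23'
  have hcores : ∀ a ∈ D, pCore 2 (PerpQuot D a) = ⊥ ∧ pCore 3 (PerpQuot D a) = ⊥ := fun a ha => by
    obtain ⟨hcK, x, hx, q, hq, hs, hnc⟩ := m23_seed (htyp a ha)
    have htfK := twinFree_below (hcls a ha) hx hq hs hnc
    haveI : Fact (Nat.Prime 2) := ⟨Nat.prime_two⟩
    haveI := Transfer.pCore_normal' 2 (PerpQuot D a)
    exact ⟨eq_bot_of_separated (hcls a ha) hcK _ fun u hu v hv k =>
        htfK u v (perpTwo_of_core (hcls a ha) hu hv k),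
      core_three_below (hcls a ha) hcK htfK hx hq hs hnc⟩
  have S : Setting D := ⟨h, H, htf, fun a ha => perp_nonempty H ha, fun a ha => (hcores a ha).1,
    fun a ha => (hcores a ha).2⟩
  have hN' := hN
  obtain ⟨N, hNn, ⟨eN⟩, -⟩ := hN'
  have hL : ¬ Group.IsSolvable ↥(Subgroup.closure (common D d c)) := fun hs => by
    refine not_solvable_pomega ?_
    haveI : Group.IsSolvable ↥(Subgroup.closure
        ({y : G | y ∈ D ∧ y ≠ d ∧ Commute d y} ∩ {y : G | y ∈ D ∧ y ≠ c ∧ Commute c y})) := hs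
    haveI := Group.isSolvable_of_surjective (QuotientGroup.mk'_surjective (Subgroup.center
      ↥(Subgroup.closure
        ({y : G | y ∈ D ∧ y ≠ d ∧ Commute d y} ∩ {y : G | y ∈ D ∧ y ≠ c ∧ Commute c y}))))
    exact Group.isSolvable_of_surjective (f := eN.toMonoidHom) eN.surjective
  have hP : ∀ a ∈ D, ∀ a' ∈ D, ¬ Commute a a' → (common D a a').Nonempty ∧
      ∀ x ∈ common D a a', ∃ y ∈ common D a a', y ≠ x ∧ Commute x y := by
    intro a ha a' ha' haa
    obtain ⟨g, rfl, rfl⟩ := apart_pair_conj S hd hc hdc ha ha' haa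
    constructor
    · by_contra hne
      rw [Set.not_nonempty_iff_eq_empty] at hne
      refine hL ?_
      have : common D d c = ∅ := Set.eq_empty_iff_forall_notMem.mpr fun x hx =>
        Set.eq_empty_iff_forall_notMem.mp hne (g * x * g⁻¹)
          ⟨(conj_mem_perp h g d).mpr hx.1, (conj_mem_perp h g c).mpr hx.2⟩
      rw [this, Subgroup.closure_empty]
      exact Group.isSolvable_of_comm fun a b => Subsingleton.elim _ _
    · intro x hx
      obtain ⟨y, hy, hyx, hxy⟩ := exists_commuting_common h hL _ (pull h g hx)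
      refine ⟨g * y * g⁻¹, ⟨(conj_mem_perp h g d).mpr hy.1, (conj_mem_perp h g c).mpr hy.2⟩,
        fun e => hyx ?_, ?_⟩
      · rw [← e]; simp [mul_assoc]
      · have := (commute_conj_iff g _ _).mpr hxy
        simpa [mul_assoc] using this
  refine ⟨S, hcen, fun a ha => ?_, htyp, fun a ha c hc k => (hP a ha c hc k).1,
    fun a ha c hc k => (hP a ha c hc k).2,
    fun a ha => exists_not_commute h ⟨d, hd, c, hc, fun e => hdc (e ▸ Commute.refl d)⟩ ha,
    d, hd, c, hc, hdc, Or.inl hN⟩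
  obtain ⟨hcK, x, hx, q, hq, hs, hnc⟩ := m23_seed (htyp a ha)
  have hadj : ∀ u v : ↥(perpSet D a), (u : PerpQuot D a) ≠ v → Commute (u : PerpQuot D a) v →
      (commutingGraph (perpSet D a)).Adj u v := fun u v hne k =>
    ⟨fun e => hne (congrArg Subtype.val e), Or.inl k⟩
  have hconn : (commutingGraph (perpSet D a)).Connected := by
    refine SimpleGraph.connected_iff_exists_forall_reachable _ |>.mpr ⟨⟨x, hx⟩, fun v => ?_⟩
    obtain ⟨v, hv⟩ := v
    by_cases e : x = v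
    · subst e; rfl
    by_cases k : Commute x v
    · exact (hadj ⟨x, hx⟩ ⟨v, hv⟩ e k).reachable
    obtain ⟨u, hu, rfl⟩ := exists_of_mem hx
    obtain ⟨w, hw, rfl⟩ := exists_of_mem hv
    have huw : ¬ Commute u w := fun k' => k (commute_pr hu hw k')
    obtain ⟨y, hy, hya, hay⟩ := (hP u hu.1 w hw.1 huw).2 a
      ⟨⟨ha, hu.2.1.symm, hu.2.2.symm⟩, ⟨ha, hw.2.1.symm, hw.2.2.symm⟩⟩
    have hy' : y ∈ perp D a := ⟨hy.1.1, hya, hay⟩
    have h1 := hadj ⟨_, pr_mem hu⟩ ⟨_, pr_mem hy'⟩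
      (fun e => hy.1.2.1 (pr_injective h htf ha hu hy' e).symm) (commute_pr hu hy' hy.1.2.2)
    have h2 := hadj ⟨_, pr_mem hy'⟩ ⟨_, pr_mem hw⟩
      (fun e => hy.2.2.1 (pr_injective h htf ha hy' hw e)) (commute_pr hy' hw hy.2.2.2.symm)
    exact h1.reachable.trans h2.reachable
  have hpair : ∃ u ∈ perpSet D a, ∃ v ∈ perpSet D a, u ≠ v ∧ Commute u v := by
    obtain ⟨v, hv, -⟩ := exists_of_mem hq
    exact ⟨x, hx, v, hv.1, Ne.symm hv.2.1, hv.2.2⟩
  exact M23.base ⟨(hcls a ha).1, fun g u hu => perpSet_conj h g hu, closure_perpSet⟩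
    ((Cfsg.Agent.Spor.FischerStr.primitive_iff (hcls a ha) hcK hpair).2.mpr
      ⟨(hcores a ha).1, (hcores a ha).2, hconn⟩) (htyp a ha)

end M24

end Cfsg.Agent.Block.FischerTypes
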