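import Mathlib

/-! A finite fact on twelve commuting involutions with fifteen products of four equal to one. -/

set_option autoImplicit false
set_option maxRecDepth 20000

namespace Cfsg.Agent.Block.FischerTypes.NodeCode

/-- The fifteen quads, on the order `R S T U P z₁ z₂ z₃ Q m₁ m₂ m₃`. -/
def quads : List (List (Fin 12)) :=
  [[4, 8, 5, 9], [4, 8, 6, 10], [4, 8, 7, 11], [4, 0, 1, 5], [4, 2, 3, 5], [8, 0, 1, 9], [8, 2, 3, 9],
    [4, 0, 2, 6], [4, 1, 3, 6], [8, 0, 2, 10], [8, 1, 3, 10], [4, 0, 3, 7], [4, 1, 2, 7], [8, 0, 3, 11],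
    [8, 1, 2, 11]]

/-- The five chosen nodes. -/
def five : List (Fin 12) := [0, 1, 4, 5, 8]

/-- Coordinates on the basis `P Q R S T`. -/
def mask : Fin 12 → ℕ := ![4, 8, 16, 28, 1, 13, 21, 25, 2, 14, 22, 26]

/-- The sum of the coordinates of a set. -/
def total (n : ℕ) : ℕ :=
  (List.finRange 12).foldl (fun s (i : Fin 12) => cond (n.testBit (i : ℕ)) (s ^^^ mask i) s) 0

/-- The test. -/
def bad (n : ℕ) : Bool :=
  quads.all (fun q => (q.filter fun i : Fin 12 => n.testBit i).length % 2 == 0) && total n == 0 &&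
    Nat.ble (2 * (five.filter fun i : Fin 12 => !(n.testBit i)).length +
      ((List.finRange 12).filter fun i : Fin 12 => n.testBit i).length) 8

theorem no_bad : ((List.range 4096).all fun n => !(bad n)) = true := by decide +kernel

theorem short_sum : ((List.range 32).all fun v => Nat.beq v 0 || (List.finRange 12).any fun i =>
    Nat.beq (mask i) v || (List.finRange 12).any fun j => !(i == j) && (Nat.beq (mask i ^^^ mask j) v ||
      (List.finRange 12).any fun k => !(i == k) && !(j == k) &&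
        Nat.beq (mask i ^^^ mask j ^^^ mask k) v)) = true := by
  decide +kernel

variable {K : Type*} [CommGroup K]

/-- A product of the basis. -/
def val (b : Fin 5 → K) (v : ℕ) : K := ∏ i : Fin 5, if v.testBit i then b i else 1

theorem val_xor (b : Fin 5 → K) (hb : ∀ i, b i * b i = 1) (u v : ℕ) :
    val b (u ^^^ v) = val b u * val b v := by
  rw [val, val, val, ← Finset.prod_mul_distrib]
  refine Finset.prod_congr rfl fun i _ => ?_
  rw [Nat.testBit_xor]
  cases u.testBit i <;> cases v.testBit i <;> simp [hb i]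

/-- No set passes the test. -/
theorem node_code (g : Fin 12 → K) (hsq : ∀ i, g i * g i = 1)
    (hquad : ∀ q ∈ quads, (q.map g).prod = 1)
    (hsmall : ∀ l : List (Fin 12), l.Nodup → 1 ≤ l.length → l.length ≤ 3 → (l.map g).prod ≠ 1)
    (W : Finset (Fin 12)) (hW : ∏ i ∈ W, g i = 1)
    (heven : ∀ q ∈ quads, (q.filter fun i => decide (i ∈ W)).length % 2 = 0)
    (hfive : 2 * (five.filter fun i => !decide (i ∈ W)).length + W.card ≤ 8) : False := by
  classical
  let b : Fin 5 → K := ![g 4, g 8, g 0, g 1, g 2]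
  have hb : ∀ i, b i * b i = 1 := fun i => by fin_cases i <;> exact hsq _
  have rel : ∀ {i j k l : Fin 12}, [i, j, k, l] ∈ quads → g l = g i * g j * g k := by
    intro i j k l hm
    have := hquad _ hm
    simp only [List.map_cons, List.map_nil, List.prod_cons, List.prod_nil, mul_one] at this
    rw [← mul_assoc, ← mul_assoc, mul_eq_one_iff_eq_inv] at this
    rw [this, inv_eq_of_mul_eq_one_left (hsq l)]
  have e5 : g 5 = g 4 * g 0 * g 1 := rel (by decide)
  have e6 : g 6 = g 4 * g 0 * g 2 := rel (by decide)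
  have e3 : g 3 = g 0 * g 1 * g 2 := by
    have h := hquad [4, 2, 3, 5] (by decide)
    simp only [List.map_cons, List.map_nil, List.prod_cons, List.prod_nil, mul_one, e5] at h
    have h' : g 3 * (g 2 * (g 0 * g 1)) * (g 4 * g 4) = 1 := by rw [← h]; ac_rfl
    rw [hsq, mul_one, mul_eq_one_iff_eq_inv] at h'
    rw [h', mul_inv_rev, mul_inv_rev, inv_eq_of_mul_eq_one_left (hsq 0), inv_eq_of_mul_eq_one_left (hsq 1),
      inv_eq_of_mul_eq_one_left (hsq 2)]
    ac_rfl
  have e7 : g 7 = g 4 * g 0 * g 3 := rel (by decide)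
  have e9 : g 9 = g 4 * g 8 * g 5 := rel (by decide)
  have e10 : g 10 = g 4 * g 8 * g 6 := rel (by decide)
  have e11 : g 11 = g 4 * g 8 * g 7 := rel (by decide)
  have hb5 : ∀ u v, val b (u ^^^ v) = val b u * val b v := val_xor b hb
  have base : ∀ i : Fin 5, val b (2 ^ (i : ℕ)) = b i := fun i => by
    rw [val, Finset.prod_eq_single i (fun j _ hj => ?_) (fun k => absurd (Finset.mem_univ _) k)]
    · simp
    · rw [Nat.testBit_two_pow, if_neg]
      simp only [decide_eq_true_eq]
      exact fun k => hj (Fin.ext k.symm)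
  have v4 : val b 1 = g 4 := base 0
  have v8 : val b 2 = g 8 := base 1
  have v0 : val b 4 = g 0 := base 2
  have v1 : val b 8 = g 1 := base 3
  have v2 : val b 16 = g 2 := base 4
  have p3 : val b (4 ^^^ 8 ^^^ 16) = g 3 := by rw [hb5, hb5, v0, v1, v2, e3]
  have p5 : val b (1 ^^^ 4 ^^^ 8) = g 5 := by rw [hb5, hb5, v4, v0, v1, e5]
  have p6 : val b (1 ^^^ 4 ^^^ 16) = g 6 := by rw [hb5, hb5, v4, v0, v2, e6]
  have p7 : val b (1 ^^^ 4 ^^^ (4 ^^^ 8 ^^^ 16)) = g 7 := by rw [hb5 _ (4 ^^^ 8 ^^^ 16), hb5, v4, v0, p3, e7]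
  have p9 : val b (1 ^^^ 2 ^^^ (1 ^^^ 4 ^^^ 8)) = g 9 := by rw [hb5 _ (1 ^^^ 4 ^^^ 8), hb5, v4, v8, p5, e9]
  have p10 : val b (1 ^^^ 2 ^^^ (1 ^^^ 4 ^^^ 16)) = g 10 := by
    rw [hb5 _ (1 ^^^ 4 ^^^ 16), hb5, v4, v8, p6, e10]
  have p11 : val b (1 ^^^ 2 ^^^ (1 ^^^ 4 ^^^ (4 ^^^ 8 ^^^ 16))) = g 11 := by
    rw [hb5 _ (1 ^^^ 4 ^^^ (4 ^^^ 8 ^^^ 16)), hb5, v4, v8, p7, e11]
  have hg : ∀ i, g i = val b (mask i) := by
    intro i
    fin_cases i
    exacts [v0.symm, v1.symm, v2.symm, p3.symm, v4.symm, p5.symm, p6.symm, p7.symm, v8.symm, p9.symm,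
      p10.symm, p11.symm]
  have hne : ∀ v < 32, v ≠ 0 → val b v ≠ 1 := by
    intro v hv h0
    have h := List.all_eq_true.mp short_sum v (List.mem_range.mpr hv)
    simp only [Bool.or_eq_true, List.any_eq_true, Bool.and_eq_true, Bool.not_eq_true', beq_eq_false_iff_ne] at h
    rcases h with h | ⟨i, -, h | ⟨j, -, hij, h | ⟨k, -, ⟨hik, hjk⟩, h⟩⟩⟩
    · exact absurd (Nat.eq_of_beq_eq_true h) h0
    · rw [← Nat.eq_of_beq_eq_true h, ← hg]
      simpa using hsmall [i] (List.nodup_singleton i) (by simp) (by simp)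
    · rw [← Nat.eq_of_beq_eq_true h, hb5, ← hg, ← hg]
      simpa using hsmall [i, j] (by simp [hij]) (by simp) (by simp)
    · rw [← Nat.eq_of_beq_eq_true h, hb5, hb5, ← hg, ← hg, ← hg]
      simpa [mul_assoc] using hsmall [i, j, k] (by simp [hij, hik, hjk]) (by simp) (by simp)
  set n := Nat.ofBits fun i : Fin 12 => decide (i ∈ W) with hn
  have hbit : ∀ i : Fin 12, n.testBit (i : ℕ) = decide (i ∈ W) := fun i => by
    rw [hn, Nat.testBit_ofBits_lt _ _ i.2]
  have key : ∀ (l : List (Fin 12)) (s : ℕ), s < 32 →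
      (l.foldl (fun s (i : Fin 12) => cond (n.testBit (i : ℕ)) (s ^^^ mask i) s) s) < 32 ∧
      val b (l.foldl (fun s (i : Fin 12) => cond (n.testBit (i : ℕ)) (s ^^^ mask i) s) s) =
        val b s * ((l.filter fun i => decide (i ∈ W)).map g).prod := by
    intro l
    induction l with
    | nil => exact fun s hs => ⟨hs, by simp⟩
    | cons i l ih =>
      intro s hs
      rw [List.foldl_cons, List.filter_cons, hbit i]
      by_cases hi : i ∈ W
      · simp only [hi, decide_true, cond_true, if_true, List.map_cons, List.prod_cons]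
        have hm : mask i < 32 := by fin_cases i <;> decide
        obtain ⟨h1, h2⟩ := ih (s ^^^ mask i) (Nat.xor_lt_two_pow (n := 5) hs hm)
        exact ⟨h1, by rw [h2, hb5, hg i, mul_assoc]⟩
      · simp only [hi, decide_false, cond_false]
        exact ih s hs
  have hnd : ((List.finRange 12).filter fun i => decide (i ∈ W)).Nodup := (List.nodup_finRange 12).filter _
  have hWl : ((List.finRange 12).filter fun i => decide (i ∈ W)).toFinset = W := by
    ext i; simp
  obtain ⟨h32, hval⟩ := key (List.finRange 12) 0 (by norm_num)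
  have htot : total n = 0 := by
    by_contra h0
    refine hne _ h32 h0 (hval.trans ?_)
    rw [← List.prod_toFinset g hnd, hWl, hW, mul_one]
    simp [val]
  have hlt : n < 4096 := Nat.ofBits_lt_two_pow _
  have h := List.all_eq_true.mp no_bad n (List.mem_range.mpr hlt)
  simp only [Bool.not_eq_true'] at h
  refine Bool.eq_false_iff.mp h ?_
  simp only [bad, Bool.and_eq_true, List.all_eq_true, beq_iff_eq, Nat.ble_eq, htot, and_true]
  refine ⟨fun q hq => ?_, ?_⟩
  · simpa only [hbit] using heven q hq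
  · rw [← congrArg Finset.card hWl, List.toFinset_card_of_nodup hnd] at hfive
    simpa only [hbit] using hfive

end Cfsg.Agent.Block.FischerTypes.NodeCode
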