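import Cfsg.Agent.Lib.Block.FischerTypes.M24Basis
import Cfsg.Agent.Lib.Block.FischerTypes.NodeCode

/-! An involution commuting with no member of a type M(24) class: invariant bases and their pairs. -/

set_option autoImplicit false
set_option linter.style.haveILetI false
set_option linter.unusedSectionVars false

open scoped Classical

namespace Cfsg.Agent.Block.FischerTypes.M24

open Cfsg Cfsg.Agent.Spor.ThreeTrans
open Quad45 (Pt Adj line Near)

variable {G : Type*} [Group G] [Finite G] {D : Set G}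

/-- Conjugation by `x`. -/
abbrev sw (x : G) : G ≃* G := MulAut.conj x

/-- An involution commuting with no member. -/
structure Free (D : Set G) (x : G) : Prop where
  sq : x * x = 1
  free : ∀ d ∈ D, ¬ Commute x d

theorem Free.sw_sw {x : G} (X : Free D x) (u : G) : sw x (sw x u) = u := by
  simp only [MulAut.conj_apply, inv_eq_of_mul_eq_one_left X.sq, mul_assoc, X.sq, mul_one]
  rw [← mul_assoc, X.sq, one_mul]

/-- The same pair. -/
def Same (x y v : G) : Prop := v = y ∨ v = sw x y

/-- Lying in one of the pairs of a list. -/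
def InN (x : G) (l : List G) (v : G) : Prop := ∃ y ∈ l, Same x y v

/-- The subgroup of a basis. -/
abbrev Clo (E : Finset G) : Subgroup G := Subgroup.closure (E : Set G)

/-- The inclusion of a basis into its subgroup. -/
noncomputable def emb (E : Finset G) (v : G) : ↥(Clo E) :=
  if h : v ∈ E then ⟨v, Subgroup.subset_closure h⟩ else 1

/-- The product of a pair. -/
noncomputable def gn (E : Finset G) (x v : G) : ↥(Clo E) := emb E v * emb E (sw x v)

/-- An invariant basis. -/
structure Sys (D : Set G) (x : G) (E : Finset G) : Prop where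
  base : Base D
  fr : Free D x
  basis : Basis D E
  inv : ∀ u ∈ E, sw x u ∈ E

/-- Four pairs with product one meeting every octad evenly. -/
structure Quad (D : Set G) (x : G) (E : Finset G) (l : List G) : Prop where
  mem : ∀ v ∈ l, v ∈ E
  prod : (l.map (gn E x)).prod = 1
  even : ∀ S, Oct D E S → Even (S.countP fun v => decide (InN x l v))

theorem Basis.closure_comm {E : Finset G} (hE : Basis D E) (p q : ↥(Clo E)) : p * q = q * p := by
  refine Subtype.ext ?_
  have h1 : Clo E ≤ Subgroup.centralizer (E : Set G) :=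
    (Subgroup.closure_le _).mpr fun u hu => Subgroup.mem_centralizer_iff.mpr fun v hv => (hE.comm v hv u hu).eq
  have h2 : Clo E ≤ Subgroup.centralizer (Clo E : Set G) :=
    (Subgroup.closure_le _).mpr fun u hu => Subgroup.mem_centralizer_iff.mpr fun v hv =>
      (Subgroup.mem_centralizer_iff.mp (h1 hv) u hu).symm
  exact Subgroup.mem_centralizer_iff.mp (h2 q.2) p p.2

/-- The commutative group structure. -/
@[reducible] noncomputable def Basis.commGroup {E : Finset G} (hE : Basis D E) : CommGroup ↥(Clo E) :=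
  { (inferInstance : Group ↥(Clo E)) with mul_comm := hE.closure_comm }

section free

variable {x : G} (B : Base D) (X : Free D x)
include B X

theorem sw_mem {u : G} (hu : u ∈ D) : sw x u ∈ D := conj_mem B.set.cls x hu

theorem sw_ne {u : G} (hu : u ∈ D) : sw x u ≠ u := fun e =>
  X.free u hu (mul_inv_eq_iff_eq_mul.mp e)

/-- Each member commutes with its image. -/
theorem sw_comm {u : G} (hu : u ∈ D) : Commute u (sw x u) := by
  by_contra hno
  have h := B.set.cls
  have hv := sw_mem B X hu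
  refine sw_ne B X (conj_mem h u hv) ?_
  rw [map_mul, map_mul, map_inv, X.sw_sw, inv_eq h.1 hu, inv_eq h.1 hv]
  exact (braid h.1 hu hv hno).symm

theorem sw_four {a b c f u : G} (hl : ∀ y ∈ [a, b, c, f], sw x y ∈ [a, b, c, f])
    (hu : u ∈ four D a b c f) : sw x u ∈ four D a b c f :=
  four_of (sw_mem B X (mem_four hu).1) fun y hy => by
    obtain ⟨k1, k2⟩ := (mem_four hu).2 _ (hl y hy)
    refine ⟨fun e => k1 (by rw [← e, X.sw_sw]), ?_⟩
    have := k2.map (sw x).toMonoidHom
    simpa only [MulEquiv.coe_toMonoidHom, X.sw_sw] using this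

/-- The involution on the classes. -/
theorem exists_tau {a b c f : G} {idx : G → Pt} (F : Frame D a b c f idx)
    (hl : ∀ y ∈ [a, b, c, f], sw x y ∈ [a, b, c, f]) :
    ∃ τ : Equiv.Perm Pt, Near τ ∧ ∀ u ∈ four D a b c f, idx (sw x u) = τ (idx u) := by
  choose rep hrep hidx using F.surj
  have cm : ∀ {u v : G}, Commute u v → Commute (sw x u) (sw x v) := fun k => k.map (sw x).toMonoidHom
  have key : ∀ u ∈ four D a b c f, idx (sw x u) = idx (sw x (rep (idx u))) := fun u hu => by
    refine F.twin (sw_four B X hl hu) (sw_four B X hl (hrep _)) fun w hw => ?_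
    have := F.twin' hu (hrep (idx u)) (hidx _).symm _ (sw_four B X hl hw)
    constructor <;> intro k
    · simpa only [X.sw_sw] using cm (this.mp (by simpa only [X.sw_sw] using cm k))
    · simpa only [X.sw_sw] using cm (this.mpr (by simpa only [X.sw_sw] using cm k))
  have hinv : Function.Involutive fun i => idx (sw x (rep i)) := fun i => by
    show idx (sw x (rep (idx (sw x (rep i))))) = i
    rw [← key _ (sw_four B X hl (hrep i)), X.sw_sw, hidx]
  refine ⟨hinv.toPerm _, ⟨hinv, fun i j hij => ?_, fun q hq => ?_⟩, key⟩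
  · have hc : Commute (rep i) (rep j) :=
      (F.comm _ (hrep i) _ (hrep j)).mpr (Or.inr (by rw [hidx, hidx]; exact hij))
    exact ((F.comm _ (sw_four B X hl (hrep i)) _ (sw_four B X hl (hrep j))).mp (cm hc)).resolve_left
      fun e => Quad45.ne_of_adj hij (hinv.injective e)
  · have := ((F.comm _ (hrep q) _ (sw_four B X hl (hrep q))).mp (sw_comm B X (mem_four (hrep q)).1))
    rw [hidx] at this
    exact this.resolve_left (Ne.symm hq)

/-- An invariant basis exists. -/
theorem exists_sys (hne : D.Nonempty) : ∃ E : Finset G, Sys D x E := by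
  letI : Fintype G := Fintype.ofFinite G
  obtain ⟨d, hd⟩ := hne
  have he : sw x d ∈ perp D d := ⟨sw_mem B X hd, sw_ne B X hd, sw_comm B X hd⟩
  obtain ⟨b, hb⟩ := common_ne B hd he.1 (Ne.symm he.2.1)
  have hb' : sw x b ∈ tri3 D d (sw x d) b := by
    have hbD := hb.1.1
    have cm : ∀ {u v : G}, Commute u v → Commute (sw x u) (sw x v) := fun k => k.map (sw x).toMonoidHom
    refine ⟨⟨⟨sw_mem B X hbD, fun e => hb.2.2.1 ?_, ?_⟩, ⟨sw_mem B X hbD, fun e => hb.1.2.1 ?_, ?_⟩⟩,
      ⟨sw_mem B X hbD, sw_ne B X hbD, sw_comm B X hbD⟩⟩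
    · rw [← e, X.sw_sw]
    · simpa only [X.sw_sw] using cm hb.2.2.2
    · exact (sw x).injective e
    · exact cm hb.1.2.2
  obtain ⟨idx, F⟩ := exists_frame B hd he hb hb'
  have hl : ∀ y ∈ [d, sw x d, b, sw x b], sw x y ∈ [d, sw x d, b, sw x b] := by
    intro y hy
    simp only [List.mem_cons, List.not_mem_nil, or_false] at hy ⊢
    rcases hy with rfl | rfl | rfl | rfl
    exacts [Or.inr (Or.inl rfl), Or.inl (X.sw_sw _), Or.inr (Or.inr (Or.inr rfl)),
      Or.inr (Or.inr (Or.inl (X.sw_sw _)))]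
  obtain ⟨τ, N, hτ⟩ := exists_tau B X F hl
  obtain ⟨i, j, hij, hinv⟩ : ∃ i j, Adj i j ∧ ∀ q ∈ line i j, τ q ∈ line i j := by
    by_cases hm : ∃ q, τ q ≠ q
    · obtain ⟨q, hq⟩ := hm
      refine ⟨q, τ q, N.near q hq, fun y hy => Quad45.mem_line.mpr ?_⟩
      rcases Quad45.mem_line.mp hy with rfl | rfl | ⟨k1, k2⟩
      · exact Or.inr (Or.inl rfl)
      · exact Or.inl (N.invol q)
      · refine Or.inr (Or.inr ⟨?_, N.aut _ _ k1⟩)
        have := N.aut _ _ k2
        rwa [N.invol] at this
    · push Not at hm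
      have := Quad45.deg 0
      obtain ⟨j, hj⟩ := Finset.card_pos.mp (show 0 < (Finset.univ.filter fun k => Adj (0 : Pt) k).card by omega)
      exact ⟨0, j, (Finset.mem_filter.mp hj).2, fun q hq => by rwa [hm q]⟩
  set four' := [d, sw x d, b, sw x b] with hfour
  have hn : four'.Nodup := (four_clist hd he hb hb').1
  set E2 := Finset.univ.filter fun u => u ∈ four D d (sw x d) b (sw x b) ∧ idx u ∈ line i j with hE2
  have hcard : E2.card = 20 := by
    rw [Finset.card_eq_sum_card_fiberwise (f := idx) (t := line i j) (fun u hu => (Finset.mem_filter.mp hu).2.2)]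
    rw [Finset.sum_congr rfl fun p hp => (show (E2.filter fun u => idx u = p).card = 4 from ?_)]
    · rw [Finset.sum_const, Quad45.card_line hij]; rfl
    · obtain ⟨l, hln, hl4, -, -, hmem⟩ := F.fibre p
      rw [← hl4, ← List.toFinset_card_of_nodup hln]
      congr 1
      ext u
      rw [List.mem_toFinset, hmem]
      simp only [hE2, Finset.mem_filter, Finset.mem_univ, true_and]
      exact ⟨fun k => ⟨k.1.1, k.2⟩, fun k => ⟨⟨k.1, k.2 ▸ hp⟩, k.2⟩⟩
  have hc4 := four_clist hd he hb hb'
  refine ⟨four'.toFinset ∪ E2, B, X, ⟨fun u hu => ?_, fun u hu v hv => ?_, ?_⟩, fun u hu => ?_⟩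
  · rcases Finset.mem_union.mp hu with k | k
    · exact hc4.2.2.1 u (List.mem_toFinset.mp k)
    · exact (mem_four (Finset.mem_filter.mp k).2.1).1
  · rcases Finset.mem_union.mp hu with k | k <;> rcases Finset.mem_union.mp hv with k' | k'
    · exact hc4.2.2.2 u (List.mem_toFinset.mp k) v (List.mem_toFinset.mp k')
    · exact ((mem_four (Finset.mem_filter.mp k').2.1).2 u (List.mem_toFinset.mp k)).2
    · exact ((mem_four (Finset.mem_filter.mp k).2.1).2 v (List.mem_toFinset.mp k')).2.symm
    · obtain ⟨-, k1, k2⟩ := Finset.mem_filter.mp k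
      obtain ⟨-, k3, k4⟩ := Finset.mem_filter.mp k'
      refine (F.comm u k1 v k3).mpr ?_
      by_cases e : idx u = idx v
      · exact Or.inl e
      · exact Or.inr ((Quad45.line_spec hij).1 _ k2 _ k4 e)
  · rw [Finset.card_union_of_disjoint, hcard, List.toFinset_card_of_nodup hn]
    · rfl
    · exact Finset.disjoint_left.mpr fun u k k' =>
        ((mem_four (Finset.mem_filter.mp k').2.1).2 u (List.mem_toFinset.mp k)).1 rfl
  · rcases Finset.mem_union.mp hu with k | k
    · exact Finset.mem_union_left _ (List.mem_toFinset.mpr (hl u (List.mem_toFinset.mp k)))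
    · obtain ⟨-, k1, k2⟩ := Finset.mem_filter.mp k
      exact Finset.mem_union_right _ (Finset.mem_filter.mpr
        ⟨Finset.mem_univ _, sw_four B X hl k1, (hτ u k1).symm ▸ hinv _ k2⟩)

end free

variable {x : G} {E : Finset G} (Y : Sys D x E)
include Y

theorem Sys.ne {u : G} (hu : u ∈ E) : sw x u ≠ u := sw_ne Y.base Y.fr (Y.basis.sub u hu)

theorem Sys.same_symm {u v : G} (h : Same x u v) : Same x v u := by
  rcases h with rfl | rfl
  · exact Or.inl rfl
  · exact Or.inr (Y.fr.sw_sw u).symm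

theorem Sys.same_trans {u v w : G} (h : Same x u v) (h' : Same x v w) : Same x u w := by
  rcases h with rfl | rfl
  · exact h'
  · rcases h' with rfl | rfl
    · exact Or.inr rfl
    · exact Or.inl (Y.fr.sw_sw u)

theorem Sys.same_mem {u v : G} (hu : u ∈ E) (h : Same x u v) : v ∈ E := by
  rcases h with rfl | rfl
  exacts [hu, Y.inv u hu]

theorem Sys.inN_mem {l : List G} (hl : ∀ y ∈ l, y ∈ E) {v : G} (h : InN x l v) : v ∈ E := by
  obtain ⟨y, hy, k⟩ := h
  exact Y.same_mem (hl y hy) k

theorem Sys.emb_coe {v : G} (hv : v ∈ E) : (emb E v : G) = v := by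
  simp [emb, dif_pos hv]

theorem Sys.map_coe {l : List G} (hl : ∀ v ∈ l, v ∈ E) : ((l.map (emb E)).prod : G) = l.prod := by
  induction l with
  | nil => simp
  | cons v l ih =>
    rw [List.map_cons, List.prod_cons, List.prod_cons, Subgroup.coe_mul, Y.emb_coe (hl v List.mem_cons_self),
      ih fun y hy => hl y (List.mem_cons_of_mem _ hy)]

theorem Sys.map_one {l : List G} (hl : ∀ v ∈ l, v ∈ E) (h : l.prod = 1) : (l.map (emb E)).prod = 1 :=
  Subtype.ext (by rw [Y.map_coe hl, h, OneMemClass.coe_one])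

theorem Sys.map_sw {l : List G} (hl : ∀ v ∈ l, v ∈ E) (h : (l.map (emb E)).prod = 1) :
    ((l.map (sw x)).map (emb E)).prod = 1 := by
  refine Y.map_one (fun v hv => ?_) ?_
  · obtain ⟨y, hy, rfl⟩ := List.mem_map.mp hv
    exact Y.inv y (hl y hy)
  · rw [← map_list_prod, ← Y.map_coe hl, h, OneMemClass.coe_one, _root_.map_one]

theorem Sys.emb_sq {v : G} : emb E v * emb E v = 1 := by
  by_cases hv : v ∈ E
  · exact Subtype.ext (by rw [Subgroup.coe_mul, Y.emb_coe hv]; exact mul_self Y.base.set.cls.1 (Y.basis.sub v hv))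
  · simp [emb, hv]

theorem Sys.gn_sw (v : G) : gn E x (sw x v) = gn E x v := by
  rw [gn, gn, Y.fr.sw_sw]
  exact Y.basis.closure_comm _ _

theorem Sys.gn_same {u v : G} (h : Same x u v) : gn E x v = gn E x u := by
  rcases h with rfl | rfl
  exacts [rfl, Y.gn_sw u]

theorem Sys.gn_sq (v : G) : gn E x v * gn E x v = 1 := by
  letI := Y.basis.commGroup
  rw [gn, mul_mul_mul_comm, Y.emb_sq, Y.emb_sq, one_mul]

/-- No two, four or six members have product one. -/
theorem Sys.rel_ne {l : List G} (hn : l.Nodup) (hl : ∀ v ∈ l, v ∈ E)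
    (hlen : l.length = 2 ∨ l.length = 4 ∨ l.length = 6) : (l.map (emb E)).prod ≠ 1 := by
  intro h
  have h' : l.prod = 1 := by rw [← Y.map_coe hl, h, OneMemClass.coe_one]
  have hC : CList D l.length l :=
    ⟨hn, rfl, fun v hv => Y.basis.sub v (hl v hv), fun u hu v hv => Y.basis.comm u (hl u hu) v (hl v hv)⟩
  rcases hlen with k | k | k <;> rw [k] at hC
  · obtain ⟨a, b, rfl⟩ := List.length_eq_two.mp k
    simp only [List.prod_cons, List.prod_nil, mul_one] at h'
    simp only [List.nodup_cons, List.mem_singleton] at hn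
    exact hn.1 (by rw [eq_inv_of_mul_eq_one_left h', inv_eq Y.base.set.cls.1 (hC.2.2.1 b (by simp))])
  · exact no_four Y.base hC h'
  · exact no_six Y.base hC h'

/-- No one, two or three pairs have product one. -/
theorem Sys.gn_ne {l : List G} (hl : ∀ v ∈ l, v ∈ E) (hp : l.Pairwise fun u v => ¬ Same x u v)
    (h1 : 1 ≤ l.length) (h3 : l.length ≤ 3) : (l.map (gn E x)).prod ≠ 1 := by
  have key : ∀ l : List G, (∀ v ∈ l, v ∈ E) → (l.Pairwise fun u v => ¬ Same x u v) →
      ∃ m : List G, m.Nodup ∧ m.length = 2 * l.length ∧ (∀ v, v ∈ m ↔ InN x l v) ∧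
        (m.map (emb E)).prod = (l.map (gn E x)).prod := by
    intro l
    induction l with
    | nil => exact fun _ _ => ⟨[], List.nodup_nil, rfl, fun v => by simp [InN], rfl⟩
    | cons v l ih =>
      intro hl hp
      obtain ⟨hp1, hp2⟩ := List.pairwise_cons.mp hp
      obtain ⟨m, hm, hlen, hmem, hprod⟩ := ih (fun y hy => hl y (List.mem_cons_of_mem _ hy)) hp2
      have out : ∀ w, Same x v w → w ∉ m := fun w hw k => by
        obtain ⟨y, hy, hy'⟩ := (hmem w).mp k
        exact hp1 y hy (Y.same_trans hw (Y.same_symm hy'))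
      refine ⟨v :: sw x v :: m, ?_, by simp [hlen, Nat.mul_succ], fun w => ?_, ?_⟩
      · refine List.nodup_cons.mpr ⟨fun k => ?_, List.nodup_cons.mpr ⟨out _ (Or.inr rfl), hm⟩⟩
        rcases List.mem_cons.mp k with e | e
        · exact Y.ne (hl v List.mem_cons_self) e.symm
        · exact out v (Or.inl rfl) e
      · simp only [List.mem_cons, hmem, InN, exists_eq_or_imp, Same, or_assoc]
      · simp only [List.map_cons, List.prod_cons, hprod, gn, mul_assoc]
  obtain ⟨m, hm, hlen, hmem, hprod⟩ := key l hl hp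
  rw [← hprod]
  exact Y.rel_ne hm (fun v hv => Y.inN_mem hl ((hmem v).mp hv)) (by omega)

theorem Sys.gn_inj {a b : G} (ha : a ∈ E) (hb : b ∈ E) (h : gn E x a = gn E x b) : Same x a b := by
  by_contra hno
  refine Y.gn_ne (l := [a, b]) (by simp [ha, hb]) (by simp [hno]) (by simp) (by simp) ?_
  simp [h, Y.gn_sq]

theorem Sys.quad_congr {l l' : List G} (h : Quad D x E l) (hm : ∀ v ∈ l', v ∈ E)
    (hp : (l'.map (gn E x)).prod = (l.map (gn E x)).prod) (hn : ∀ v, InN x l' v ↔ InN x l v) :
    Quad D x E l' :=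
  ⟨hm, hp.trans h.prod, fun S hS => by simp only [hn]; exact h.even S hS⟩

/-- The chart at two pairs, with its involution. -/
theorem Sys.pair {u v : G} (hu : u ∈ E) (hv : v ∈ E) (huv : ¬ Same x u v) :
    ∃ (idx : G → Pt) (i j : Pt) (τ : Equiv.Perm Pt), Chart D E u (sw x u) v (sw x v) idx i j ∧ Near τ ∧
      (∀ w ∈ four D u (sw x u) v (sw x v), idx (sw x w) = τ (idx w)) ∧
      (∀ q ∈ line i j, τ q ∈ line i j) ∧ ∀ w, (w ∈ [u, sw x u, v, sw x v] ↔ InN x [u, v] w) := by
  have hn : [u, sw x u, v, sw x v].Nodup := by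
    simp only [List.nodup_cons, List.mem_cons, List.not_mem_nil, or_false, not_or, List.nodup_nil, and_true]
    exact ⟨⟨Ne.symm (Y.ne hu), fun e => huv (Or.inl e.symm),
        fun e => huv (Y.same_symm (Or.inr e))⟩,
      ⟨fun e => huv (Or.inr e.symm), fun e => huv (Or.inl ((sw x).injective e).symm)⟩, ⟨Ne.symm (Y.ne hv), not_false⟩⟩
  have hm : ∀ w ∈ [u, sw x u, v, sw x v], w ∈ E := by simp [hu, hv, Y.inv u hu, Y.inv v hv, -MulAut.conj_apply]
  obtain ⟨idx, i, j, C⟩ := Y.basis.chart Y.base hn hm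
  have hl : ∀ y ∈ [u, sw x u, v, sw x v], sw x y ∈ [u, sw x u, v, sw x v] := by
    intro y hy
    simp only [List.mem_cons, List.not_mem_nil, or_false] at hy ⊢
    rcases hy with rfl | rfl | rfl | rfl
    exacts [Or.inr (Or.inl rfl), Or.inl (Y.fr.sw_sw _), Or.inr (Or.inr (Or.inr rfl)),
      Or.inr (Or.inr (Or.inl (Y.fr.sw_sw _)))]
  obtain ⟨τ, N, hτ⟩ := exists_tau Y.base Y.fr C.frame hl
  refine ⟨idx, i, j, τ, C, N, hτ, fun q hq => ?_, fun w => by simp [InN, Same, or_assoc, -MulAut.conj_apply]⟩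
  obtain ⟨w, hw, rfl⟩ := C.frame.surj q
  have hwE := C.inE w hw hq
  have hw' : sw x w ∈ four D u (sw x u) v (sw x v) := sw_four Y.base Y.fr hl hw
  have := (C.out _ (Y.inv w hwE) fun k => ((mem_four hw').2 _ k).1 rfl).2
  rwa [hτ w hw] at this

/-- A fixed class makes a quad. -/
theorem Sys.fixed_quad {u v : G} (hu : u ∈ E) (hv : v ∈ E) {idx : G → Pt} {i j : Pt} {τ : Equiv.Perm Pt}
    (C : Chart D E u (sw x u) v (sw x v) idx i j)
    (hτ : ∀ w ∈ four D u (sw x u) v (sw x v), idx (sw x w) = τ (idx w)) {w : G}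
    (hw : w ∈ four D u (sw x u) v (sw x v)) (hwL : idx w ∈ line i j) (hfix : τ (idx w) = idx w) :
    ∃ f ∈ four D u (sw x u) v (sw x v), idx f = idx w ∧ ¬ Same x w f ∧ f ∈ E ∧ Quad D x E [u, v, w, f] ∧
      ∀ y ∈ four D u (sw x u) v (sw x v), idx y = idx w → InN x [w, f] y := by
  obtain ⟨l, hl4, hO, hl⟩ := C.octad Y.base hwL
  have hln : l.Nodup := hO.clist.tail.tail.tail.tail.1
  have hwE := C.inE w hw hwL
  have hst : ∀ y ∈ l, sw x y ∈ l := fun y hy => by
    obtain ⟨k1, k2⟩ := (hl y).mp hy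
    have hyE := C.inE y k1 (k2 ▸ hwL)
    have hout : sw x y ∉ [u, sw x u, v, sw x v] := fun k => by
      obtain ⟨z, hz, hz'⟩ : ∃ z ∈ [u, sw x u, v, sw x v], y = z := by
        simp only [List.mem_cons, List.not_mem_nil, or_false] at k
        rcases k with e | e | e | e <;> have e' := congrArg (sw x) e <;> simp only [Y.fr.sw_sw] at e'
        exacts [⟨_, by simp, e'⟩, ⟨_, by simp, e'⟩, ⟨_, by simp, e'⟩, ⟨_, by simp, e'⟩]
      exact ((mem_four k1).2 z hz).1 hz'
    refine (hl _).mpr ⟨(C.out _ (Y.inv y hyE) hout).1, ?_⟩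
    rw [hτ y k1, k2, hfix]
  have hwl : w ∈ l := (hl w).mpr ⟨hw, rfl⟩
  obtain ⟨f, hf, hfw⟩ : ∃ f ∈ l, ¬ Same x w f := by
    by_contra hno
    push Not at hno
    have := Finset.card_le_card (show l.toFinset ⊆ {w, sw x w} from fun y hy => by
      simpa [Same, -MulAut.conj_apply] using hno y (List.mem_toFinset.mp hy))
    rw [List.toFinset_card_of_nodup hln, hl4] at this
    exact absurd (this.trans (Finset.card_insert_le _ _)) (by simp)
  obtain ⟨f4, fi⟩ := (hl f).mp hf
  have hfE := C.inE f f4 (fi ▸ hwL)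
  have hn4 : [w, sw x w, f, sw x f].Nodup := by
    simp only [List.nodup_cons, List.mem_cons, List.not_mem_nil, or_false, not_or, List.nodup_nil, and_true]
    exact ⟨⟨Ne.symm (Y.ne hwE), fun e => hfw (Or.inl e.symm), fun e => hfw (Y.same_symm (Or.inr e))⟩,
      ⟨fun e => hfw (Or.inr e.symm), fun e => hfw (Or.inl ((sw x).injective e).symm)⟩, ⟨Ne.symm (Y.ne hfE), not_false⟩⟩
  have hperm : [w, sw x w, f, sw x f].Perm l := by
    refine (List.perm_ext_iff_of_nodup hn4 hln).mpr fun y => ?_
    have hsub : [w, sw x w, f, sw x f].toFinset ⊆ l.toFinset := fun z hz => by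
      simp only [List.mem_toFinset, List.mem_cons, List.not_mem_nil, or_false] at hz ⊢
      rcases hz with rfl | rfl | rfl | rfl
      exacts [hwl, hst _ hwl, hf, hst _ hf]
    have heq := Finset.eq_of_subset_of_card_le hsub
      (by rw [List.toFinset_card_of_nodup hn4, List.toFinset_card_of_nodup hln, hl4]; rfl)
    rw [← List.mem_toFinset, heq, List.mem_toFinset]
  have hall : ∀ y ∈ four D u (sw x u) v (sw x v), idx y = idx w → InN x [w, f] y := fun y hy e => by
    have := hperm.mem_iff.mpr ((hl y).mpr ⟨hy, e⟩)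
    simpa [InN, Same, or_assoc, -MulAut.conj_apply] using this
  refine ⟨f, f4, fi, hfw, hfE, ⟨by simp [hu, hv, hwE, hfE], ?_, fun S hS => ?_⟩, hall⟩
  · letI := Y.basis.commGroup
    have h8 := Y.map_one hO.mem hO.prod
    have e4 : (l.map (emb E)).prod = gn E x w * gn E x f := by
      rw [← (hperm.map _).prod_eq]
      simp [gn, mul_assoc, -MulAut.conj_apply]
    simp only [List.map_cons, List.prod_cons, e4] at h8
    rw [← h8]
    simp only [List.map_cons, List.map_nil, List.prod_cons, List.prod_nil, mul_one, gn, mul_assoc]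
  · have := C.even_meet Y.base Y.basis hwL hS
    rw [show S.countP (fun y => decide (InN x [u, v, w, f] y)) =
      S.countP (fun y => decide (y ∈ [u, sw x u, v, sw x v] ∨ idx y = idx w)) from ?_]
    · exact this
    refine List.countP_congr fun y hy => ?_
    have hyE := hS.mem y hy
    simp only [decide_eq_true_eq]
    have split : InN x [u, v, w, f] y ↔ y ∈ [u, sw x u, v, sw x v] ∨ y ∈ [w, sw x w, f, sw x f] := by
      simp [InN, Same, or_assoc, -MulAut.conj_apply]
    rw [split, hperm.mem_iff, hl]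
    by_cases k : y ∈ [u, sw x u, v, sw x v]
    · simp only [k, true_or]
    · simp only [k, false_or]
      exact ⟨fun k' => k'.2, fun k' => ⟨(C.out y hyE k).1, k'⟩⟩

end Cfsg.Agent.Block.FischerTypes.M24
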