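import Cfsg.Agent.Lib.Block.FischerTypes.M24Orders

/-! The suborbits in type M(24): 31671 commuting, 275264 apart, 3240 common to an apart pair. -/

set_option autoImplicit false
set_option linter.style.haveILetI false
set_option linter.unusedSectionVars false

namespace Cfsg.Agent.Block.FischerTypes.M24

open Cfsg Cfsg.Agent.Spor.ThreeTrans
open Cfsg.Agent.Block.FischerTypes.M22 (perp_symm commute_self el)

variable {G : Type*} [Group G] [Finite G] {D : Set G} (B : Base D)
include B

/-- Counting inside a perpendicular through the quotient. -/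
theorem card_pr {a : G} (ha : a ∈ D) {P : Set G} (hP : P ⊆ perp D a) {Q : Set (PerpQuot D a)}
    (hQ : Q ⊆ perpSet D a) (hiff : ∀ u (hu : u ∈ perp D a), pr D a u hu ∈ Q ↔ u ∈ P) :
    P.ncard = Q.ncard := by
  refine Set.ncard_congr (fun u hu => pr D a u (hP hu)) (fun u hu => (hiff u _).mpr hu)
    (fun u v hu hv e => pr_injective B.set.cls B.set.tf ha (hP hu) (hP hv) e) fun q hq => ?_
  obtain ⟨u, hu, rfl⟩ := exists_of_mem (hQ hq)
  exact ⟨u, (hiff u hu).mp hq, rfl⟩

theorem card_perp {a : G} (ha : a ∈ D) : (perp D a).ncard = 31671 :=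
  (card_pr B ha le_rfl le_rfl fun u hu => iff_of_true (pr_mem hu) hu).trans
    (M23.total (B.sub a ha) ((B.set.perp_ne a ha).elim fun u hu => ⟨_, pr_mem hu⟩)
      (M23.counts (B.sub a ha)))

theorem card_common {a b : G} (ha : a ∈ D) (hb : b ∈ perp D a) : (common D a b).ncard = 3510 :=
  (card_pr B ha Set.inter_subset_left (fun q hq => hq.1) fun u hu =>
    (toK B ha hb hu).trans ⟨fun k => ⟨hu, k⟩, fun k => k.2⟩).trans
    (M23.card_perp (B.sub a ha) (pr_mem hb) (M23.counts (B.sub a ha) _ (pr_mem hb)))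

theorem card_common_three {a b c : G} (ha : a ∈ D) (hb : b ∈ perp D a) (hc : c ∈ perp D a) :
    (common D a b ∩ perp D c).ncard = (common (perpSet D a) (pr D a b hb) (pr D a c hc)).ncard :=
  card_pr B ha (fun u hu => hu.1.1) (fun q hq => hq.1.1) fun u hu =>
    (and_congr (toK B ha hb hu) (toK B ha hc hu)).trans
      ⟨fun k => ⟨⟨hu, k.1⟩, k.2⟩, fun k => ⟨k.1.2, k.2⟩⟩

omit B in
/-- Two large classes commuting elementwise cannot both live over a simple group. -/
theorem commuting_classes {K : Type*} [Group K] [Finite K] (N : Subgroup K) [N.Normal]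
    (hs : IsSimpleGroup N) (hc : ¬ (Nat.card N).Prime) {p q : K}
    (hcom : ∀ a b : K, Commute (a * p * a⁻¹) (b * q * b⁻¹))
    (hp : N.index < {r | ∃ a, a * p * a⁻¹ = r}.ncard)
    (hq : N.index < {r | ∃ a, a * q * a⁻¹ = r}.ncard) : False := by
  haveI := hs
  have hin : ∀ t : K, N.index < {r | ∃ a, a * t * a⁻¹ = r}.ncard → N ≤ Subgroup.normalClosure {t} := by
    intro t ht
    by_contra hle
    have hbot : Subgroup.normalClosure {t} ⊓ N = ⊥ := by
      rcases ((Subgroup.normal_inf_normal (Subgroup.normalClosure {t}) N).subgroupOf N).eq_bot_or_eq_top with e | e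
      · rw [Subgroup.subgroupOf_eq_bot, disjoint_iff, inf_assoc, inf_idem] at e
        exact e
      · exact absurd ((Subgroup.subgroupOf_eq_top.mp e).trans inf_le_left) hle
    have := Set.ncard_le_ncard_of_injOn (s := {r | ∃ a, a * t * a⁻¹ = r})
      (t := (Set.univ : Set (K ⧸ N))) (QuotientGroup.mk' N) (fun _ _ => trivial) ?_
    · rw [Set.ncard_univ, ← Subgroup.index_eq_card] at this
      omega
    · rintro u ⟨a, rfl⟩ v ⟨b, rfl⟩ e
      have ht' : t ∈ Subgroup.normalClosure ({t} : Set K) := Subgroup.subset_normalClosure (Set.mem_singleton t)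
      have ha : ∀ a : K, a * t * a⁻¹ ∈ Subgroup.normalClosure ({t} : Set K) := fun a =>
        (Subgroup.normalClosure_normal (s := ({t} : Set K))).conj_mem t ht' a
      have : (a * t * a⁻¹)⁻¹ * (b * t * b⁻¹) ∈ Subgroup.normalClosure {t} ⊓ N :=
        Subgroup.mem_inf.mpr ⟨mul_mem (inv_mem (ha a)) (ha b), QuotientGroup.eq.mp e⟩
      rwa [hbot, Subgroup.mem_bot, inv_mul_eq_one] at this
  have hle : Subgroup.normalClosure {p} ≤ Subgroup.centralizer (Subgroup.normalClosure {q} : Set K) := by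
    show Subgroup.closure _ ≤ Subgroup.centralizer (Subgroup.closure (Group.conjugatesOfSet {q}) : Set K)
    rw [Subgroup.centralizer_closure]
    refine (Subgroup.closure_le _).mpr fun u hu => Subgroup.mem_centralizer_iff.mpr fun v hv => ?_
    obtain ⟨p', hp', hu'⟩ := Group.mem_conjugatesOfSet_iff.mp hu
    obtain ⟨q', hq', hv'⟩ := Group.mem_conjugatesOfSet_iff.mp hv
    rw [Set.mem_singleton_iff] at hp' hq'
    subst hp' hq'
    obtain ⟨a, rfl⟩ := isConj_iff.mp hu'
    obtain ⟨b, rfl⟩ := isConj_iff.mp hv'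
    exact (hcom a b).symm.eq
  haveI : IsMulCommutative N := ⟨⟨fun a b => Subtype.ext
    ((Subgroup.mem_centralizer_iff.mp (hle (hin p hp a.2))) b (hin q hq b.2)).symm⟩⟩
  exact hc (Group.is_simple_iff_prime_card.mp hs)

set_option maxHeartbeats 1000000 in
/-- The common perpendicular of the pair in the definition. -/
theorem mu_seed : ∃ d ∈ D, ∃ f ∈ D, ¬ Commute d f ∧ (common D d f).ncard = 3240 := by
  obtain ⟨d, hd, f, hf, hdf, hrest⟩ := B.seed
  refine ⟨d, hd, f, hf, hdf, ?_⟩
  have h := B.set.cls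
  have htf := B.set.tf
  set S := common D d f
  set L := Subgroup.closure S
  obtain ⟨N, hN, ⟨eN⟩, ⟨e3⟩⟩ | h0 := hrest
  rotate_left
  · exact h0
  have hPO : Nat.card (POmega (ZMod 3) (quadFormPlus 4 (ZMod 3))) = 4952179814400 := by
    have hc := Cfsg.Agent.S0293.result (F := ZMod 3) (ZMod.card 3) 4 le_rfl
    norm_num [Finset.prod_range_succ] at hc
    omega
  have hsN : IsSimpleGroup N :=
    haveI := Cfsg.Agent.S0296.result (F := ZMod 3) 4 le_rfl
    (MulEquiv.isSimpleGroup_congr eN).mpr inferInstance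
  have hNc : Nat.card N = 4952179814400 := (Nat.card_congr eN.toEquiv).trans hPO
  have hi : N.index = 6 := by
    rw [Subgroup.index_eq_card, Nat.card_congr e3.toEquiv, Nat.card_perm, Nat.card_eq_fintype_card,
      Fintype.card_fin]
    decide
  have hQ : Nat.card (↥L ⧸ Subgroup.center ↥L) = 6 * 4952179814400 := by
    rw [← N.index_mul_card, hi, hNc]
  have hcomL : ∀ a, (∀ u ∈ S, Commute a u) → ∀ l ∈ L, Commute l a := by
    intro a ha l hl
    have hle : L ≤ Subgroup.centralizer ({a} : Set G) := (Subgroup.closure_le _).mpr fun u hu =>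
      Subgroup.mem_centralizer_singleton_iff.mpr (ha u hu).symm.eq
    exact Subgroup.mem_centralizer_singleton_iff.mp (hle hl)
  have hld : ∀ l ∈ L, Commute l d := hcomL d fun u hu => hu.1.2.2
  have hlf : ∀ l ∈ L, Commute l f := hcomL f fun u hu => hu.2.2.2
  have hconj : ∀ l ∈ L, ∀ x ∈ S, l * x * l⁻¹ ∈ S := fun l hl x hx =>
    ⟨perp_conj' h (hld l hl) hx.1, perp_conj' h (hlf l hl) hx.2⟩
  have hmem : ∀ x ∈ S, x ∈ L := fun x hx => Subgroup.subset_closure hx
  let Cx : G → Subgroup G := fun x => L ⊓ Subgroup.centralizer ({x} : Set G)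
  have hCx : ∀ x ∈ S, Cx x ≤ PerpGroup D x := fun x hx k hk =>
    point B hx.1.1 (perp_symm hd hx.1) ((Subgroup.closure_mono Set.inter_subset_left) hk.1)
      (Subgroup.mem_centralizer_singleton_iff.mp hk.2)
  let O : G → Set G := fun x => {y | ∃ l ∈ L, l * x * l⁻¹ = y}
  have horb : ∀ x, (O x).ncard * Nat.card ↥(Cx x) = Nat.card ↥L := fun x =>
    orbit_card L x (fun g hg => ⟨g, hg, rfl⟩) fun y hy => hy
  -- the image in the quotient at a member
  have key : ∀ x (hx : x ∈ S), ∃ φ : ↥(Cx x) →* PerpQuot D x,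
      (∀ k, φ k = 1 → (k : G) ∈ Subgroup.zpowers x) ∧
      φ.range ≤ Subgroup.centralizer ({pr D x d (perp_symm hd hx.1)} : Set (PerpQuot D x)) ⊓
        Subgroup.centralizer ({pr D x f (perp_symm hf hx.2)} : Set (PerpQuot D x)) ∧
      (∀ k : ↥(Cx x), φ k = QuotientGroup.mk (⟨k, hCx x hx k.2⟩ : ↥(PerpGroup D x))) := by
    intro x hx
    refine ⟨(QuotientGroup.mk' _).comp (Subgroup.inclusion (hCx x hx)), fun k hk => ?_, ?_, fun k => rfl⟩
    · have := (QuotientGroup.eq_one_iff _).mp hk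
      rw [centre B hx.1.1, Subgroup.mem_subgroupOf] at this
      exact this
    · rintro _ ⟨k, rfl⟩
      refine Subgroup.mem_inf.mpr ⟨Subgroup.mem_centralizer_singleton_iff.mpr ?_,
        Subgroup.mem_centralizer_singleton_iff.mpr ?_⟩
      · exact congrArg QuotientGroup.mk (show Subgroup.inclusion (hCx x hx) k * el (perp_symm hd hx.1) =
          el (perp_symm hd hx.1) * Subgroup.inclusion (hCx x hx) k from Subtype.ext (hld k k.2.1).eq)
      · exact congrArg QuotientGroup.mk (show Subgroup.inclusion (hCx x hx) k * el (perp_symm hf hx.2) =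
          el (perp_symm hf hx.2) * Subgroup.inclusion (hCx x hx) k from Subtype.ext (hlf k k.2.1).eq)
  have happ : ∀ x (hx : x ∈ S), ¬ Commute (pr D x d (perp_symm hd hx.1)) (pr D x f (perp_symm hf hx.2)) :=
    fun x hx k => hdf (commute_of_pr h htf hx.1.1 _ _ k)
  have hup : ∀ x ∈ S, Nat.card ↥(Cx x) ≤ 2 * 4585351680 := by
    intro x hx
    obtain ⟨φ, hker, hran, -⟩ := key x hx
    have h1 := Subgroup.card_eq_card_quotient_mul_card_subgroup φ.ker
    rw [Nat.card_congr (QuotientGroup.quotientKerEquivRange φ).toEquiv] at h1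
    have h2 : Nat.card φ.range ≤ 4585351680 :=
      M23.card_pair (B.sub x hx.1.1) (pr_mem _) (pr_mem _) (happ x hx) ▸
        Nat.card_le_card_of_injective _ (Subgroup.inclusion_injective hran)
    have h3 : Nat.card φ.ker ≤ 2 := by
      have := Nat.card_le_card_of_injective
        (fun k : φ.ker => (⟨((k : ↥(Cx x)) : G), hker k k.2⟩ : ↥(Subgroup.zpowers x)))
        (fun a b e => by simpa using e)
      rwa [Nat.card_zpowers, h.1.1 x hx.1.1] at this
    rw [h1, mul_comm 2]
    exact Nat.mul_le_mul h2 h3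
  have hL : 6 * 4952179814400 ≤ Nat.card ↥L := by
    rw [← hQ]
    exact Nat.card_le_card_of_surjective _ (QuotientGroup.mk'_surjective _)
  have hbig : ∀ x ∈ S, 3240 ≤ (O x).ncard := by
    intro x hx
    have h1 := horb x
    have h2 := hup x hx
    nlinarith
  have hpart : ∀ x ∈ S, ∃ y ∈ S, ¬ Commute x y := by
    intro x hx
    by_contra hno
    push Not at hno
    have hsub : O x ⊆ {x} := by
      rintro _ ⟨l, hl, rfl⟩
      exact conj_self_eq (hcomL x (fun u hu => hno u hu) l hl)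
    have := Set.ncard_le_ncard hsub
    rw [Set.ncard_singleton] at this
    have := hbig x hx
    omega
  obtain ⟨x, hx⟩ := B.meets d hd f hf hdf
  obtain ⟨φ, hker, hran, hφ⟩ := key x hx
  obtain ⟨hgrp, hcen⟩ := M23.pair_group (B.sub x hx.1.1) (B.typ x hx.1.1) (pr_mem _) (pr_mem _) (happ x hx)
  have hran' : φ.range = Subgroup.closure (common (perpSet D x) (pr D x d (perp_symm hd hx.1))
      (pr D x f (perp_symm hf hx.2))) := by
    refine le_antisymm (hran.trans hgrp.ge) ((Subgroup.closure_le _).mpr fun q hq => ?_)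
    obtain ⟨u, hu, rfl⟩ := exists_of_mem hq.1.1
    have h1 := (toK B hx.1.1 (perp_symm hd hx.1) hu).mp hq.1
    have h2 := (toK B hx.1.1 (perp_symm hf hx.2) hu).mp hq.2
    have huL : u ∈ Cx x := ⟨hmem u ⟨h1, h2⟩, Subgroup.mem_centralizer_singleton_iff.mpr hu.2.2.symm.eq⟩
    exact ⟨⟨u, huL⟩, hφ _⟩
  -- trivial centre
  have hZ : Subgroup.center ↥L = ⊥ := by
    refine (Subgroup.eq_bot_iff_forall _).mpr fun z hz => ?_
    have hzS : ∀ u ∈ S, Commute u (z : G) := fun u hu =>
      congrArg Subtype.val (Subgroup.mem_center_iff.mp hz ⟨u, hmem u hu⟩)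
    have hzC : (z : G) ∈ Cx x := ⟨z.2, Subgroup.mem_centralizer_singleton_iff.mpr (hzS x hx).symm.eq⟩
    have hz1 : φ ⟨z, hzC⟩ = 1 := by
      have hm : φ ⟨z, hzC⟩ ∈ φ.range := ⟨_, rfl⟩
      rw [hran'] at hm
      have hzc : (⟨_, hm⟩ : ↥(Subgroup.closure (common (perpSet D x) (pr D x d (perp_symm hd hx.1))
          (pr D x f (perp_symm hf hx.2))))) ∈ Subgroup.center _ := by
        refine Subgroup.mem_center_iff.mpr fun g => Subtype.ext ?_
        obtain ⟨k, hk⟩ : (g : PerpQuot D x) ∈ φ.range := by rw [hran']; exact g.2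
        show (g : PerpQuot D x) * φ ⟨z, hzC⟩ = φ ⟨z, hzC⟩ * g
        rw [← hk, ← map_mul, ← map_mul]
        refine congrArg φ (Subtype.ext ?_)
        exact (hcomL (z : G) (fun u hu => (hzS u hu).symm) k k.2.1).eq
      rw [hcen, Subgroup.mem_bot] at hzc
      exact congrArg Subtype.val hzc
    obtain ⟨n, hn⟩ := hker _ hz1
    have hn' : x ^ n = (z : G) := hn
    obtain ⟨y, hy, hxy⟩ := hpart x hx
    rcases Int.even_or_odd n with ⟨m, rfl⟩ | ⟨m, rfl⟩
    · apply Subtype.ext
      rw [← two_mul, zpow_mul, zpow_two, mul_self h.1 hx.1.1, one_zpow] at hn'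
      exact hn'.symm
    · rw [zpow_add, zpow_mul, zpow_two, mul_self h.1 hx.1.1, one_zpow, one_mul, zpow_one] at hn'
      have := hzS y hy
      rw [← hn'] at this
      exact absurd this.symm hxy
  have hcard : Nat.card ↥L = 6 * 4952179814400 := by
    rw [Subgroup.card_eq_card_quotient_mul_card_subgroup (Subgroup.center ↥L), hQ, hZ, Subgroup.card_bot, mul_one]
  have hexact : Nat.card ↥(Cx x) = 2 * 4585351680 := by
    refine le_antisymm (hup x hx) ?_
    have h1 := Subgroup.card_eq_card_quotient_mul_card_subgroup φ.ker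
    rw [Nat.card_congr (QuotientGroup.quotientKerEquivRange φ).toEquiv, hran', hgrp,
      M23.card_pair (B.sub x hx.1.1) (pr_mem _) (pr_mem _) (happ x hx)] at h1
    have h2 : 2 ≤ Nat.card φ.ker := by
      have hxC : x ∈ Cx x := ⟨hmem x hx, Subgroup.mem_centralizer_singleton_iff.mpr rfl⟩
      have h0 : φ ⟨x, hxC⟩ = 1 := by
        rw [hφ, QuotientGroup.eq_one_iff, centre B hx.1.1, Subgroup.mem_subgroupOf]
        exact Subgroup.mem_zpowers x
      haveI : Nontrivial φ.ker := ⟨⟨⟨⟨x, hxC⟩, h0⟩, 1, fun e =>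
        ne_one h.1 hx.1.1 (by simpa using congrArg (fun k : φ.ker => ((k : ↥(Cx x)) : G)) e)⟩⟩
      exact Finite.one_lt_card
    rw [h1]
    nlinarith
  have hO : (O x).ncard = 3240 := by
    have h1 := horb x
    rw [hexact, hcard] at h1
    omega
  -- one orbit
  classical
  have hone : S = O x := by
    refine Set.Subset.antisymm (fun y hy => ?_) fun y ⟨l, hl, e⟩ => e ▸ hconj l hl x hx
    by_contra hno
    have hrne : ∀ {a b}, a ∈ S → b ∈ S → ¬ Commute a b → ∃ l ∈ L, l * a * l⁻¹ = b := by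
      intro a b ha hb hab
      refine ⟨a * b, mul_mem (hmem a ha) (hmem b hb), ?_⟩
      rw [mul_inv_rev, inv_eq h.1 ha.1.1, inv_eq h.1 hb.1.1, braid h.1 ha.1.1 hb.1.1 hab]
      simp [mul_assoc, mul_self h.1 ha.1.1, mul_self_mul h.1 hb.1.1]
    have hcom : ∀ u ∈ O x, ∀ v ∈ O y, Commute u v := by
      rintro _ ⟨l, hl, rfl⟩ _ ⟨l', hl', rfl⟩
      by_contra k
      obtain ⟨m, hm, e⟩ := hrne (hconj l hl x hx) (hconj l' hl' y hy) k
      refine hno ⟨l'⁻¹ * m * l, mul_mem (mul_mem (inv_mem hl') hm) hl, ?_⟩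
      calc l'⁻¹ * m * l * x * (l'⁻¹ * m * l)⁻¹ = l'⁻¹ * (m * (l * x * l⁻¹) * m⁻¹) * l' := by group
        _ = y := by rw [e]; group
    have hπ : Function.Injective (QuotientGroup.mk' (Subgroup.center ↥L)) := by
      rw [← MonoidHom.ker_eq_bot_iff, QuotientGroup.ker_mk', hZ]
    have hbigQ : ∀ z (hz : z ∈ S), N.index <
        {r | ∃ a, a * QuotientGroup.mk' (Subgroup.center ↥L) ⟨z, hmem z hz⟩ * a⁻¹ = r}.ncard := by
      intro z hz
      have := Set.ncard_le_ncard_of_injOn (s := O z)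
        (t := {r | ∃ a, a * QuotientGroup.mk' (Subgroup.center ↥L) ⟨z, hmem z hz⟩ * a⁻¹ = r})
        (fun w => if hw : w ∈ L then QuotientGroup.mk' (Subgroup.center ↥L) ⟨w, hw⟩ else 1) ?_ ?_
      · have := hbig z hz
        omega
      · rintro w ⟨l, hl, rfl⟩
        refine ⟨QuotientGroup.mk' _ ⟨l, hl⟩, ?_⟩
        rw [dif_pos (hmem _ (hconj l hl z hz)), ← map_inv, ← map_mul, ← map_mul]
        rfl
      · rintro v ⟨l, hl, rfl⟩ w ⟨l', hl', rfl⟩ e
        dsimp only at e
        rw [dif_pos (hmem _ (hconj l hl z hz)), dif_pos (hmem _ (hconj l' hl' z hz))] at e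
        exact congrArg Subtype.val (hπ e)
    refine commuting_classes N hsN (by rw [hNc]; norm_num) (fun a b => ?_) (hbigQ x hx) (hbigQ y hy)
    obtain ⟨a, rfl⟩ := QuotientGroup.mk'_surjective _ a
    obtain ⟨b, rfl⟩ := QuotientGroup.mk'_surjective _ b
    rw [← map_inv, ← map_inv, ← map_mul, ← map_mul, ← map_mul, ← map_mul]
    exact (show Commute (a * ⟨x, hmem x hx⟩ * a⁻¹) (b * ⟨y, hmem y hy⟩ * b⁻¹) from
      Subtype.ext (hcom _ ⟨a, a.2, rfl⟩ _ ⟨b, b.2, rfl⟩).eq).map _
  rw [hone, hO]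

/-- The common perpendicular of an apart pair has 3240 members. -/
theorem mu {d f : G} (hd : d ∈ D) (hf : f ∈ D) (hdf : ¬ Commute d f) :
    (common D d f).ncard = 3240 := by
  have h := B.set.cls
  obtain ⟨d₀, hd₀, f₀, hf₀, hdf₀, h0⟩ := mu_seed B
  obtain ⟨g, rfl, rfl⟩ := apart_pair_conj B.set hd₀ hf₀ hdf₀ hd hf hdf
  rw [← h0]
  show (perp D (g * d₀ * g⁻¹) ∩ perp D (g * f₀ * g⁻¹)).ncard = _
  rw [perp_conj h, perp_conj h, ← Set.image_inter (fun u v e => by simpa using e),
    Set.ncard_image_of_injective _ fun u v e => by simpa using e]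

theorem apart_card {d : G} (hd : d ∈ D) : (apart D d).ncard = 275264 := by
  obtain ⟨f, hf, hdf⟩ := B.apart_ne d hd
  have h := apart_count B.set hd hf hdf (fun b hb => card_perp B hb) (fun b hb => card_common B hd hb)
  rw [mu B hd hf hdf] at h
  omega

/-- The 306936 transpositions. -/
theorem total (hne : D.Nonempty) : D.ncard = 306936 := by
  obtain ⟨d, hd⟩ := hne
  rw [split_class (D := D) hd, card_perp B hd, apart_card B hd]

/-- Every member of the perpendicular has neighbours in the common perpendicular. -/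
theorem exists_near {d f w : G} (hd : d ∈ D) (hf : f ∈ D) (hdf : ¬ Commute d f) (hw : w ∈ perp D d) :
    ∃ z ∈ common D d f, Commute z w := by
  classical
  by_cases hwS : w ∈ common D d f
  · exact ⟨w, hwS, Commute.refl w⟩
  set S := common D d f
  let S' := S.toFinite.toFinset
  let W' := (perp D d \ S).toFinite.toFinset
  let deg : G → ℕ := fun v => (S'.filter fun z => Commute z v).card
  let g : G → G → ℕ := fun a b => (W'.filter fun v => Commute a v ∧ Commute b v).card
  have hS' : ∀ z, z ∈ S' ↔ z ∈ S := fun z => Set.Finite.mem_toFinset _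
  have hS : S'.card = 3240 := by
    rw [← mu B hd hf hdf, Set.ncard_eq_toFinset_card S S.toFinite]
  have hW : W'.card = 28431 := by
    have := Set.ncard_sdiff (show S ⊆ perp D d from Set.inter_subset_left) (Set.toFinite _)
    rw [Set.ncard_eq_toFinset_card (perp D d \ S) (perp D d \ S).toFinite, card_perp B hd,
      mu B hd hf hdf] at this
    exact this
  have hg : ∀ a ∈ S, ∀ b, g a b = {v ∈ perp D d \ S | Commute a v ∧ Commute b v}.ncard := by
    intro a _ b
    simp only [g]
    rw [← Set.ncard_coe_finset]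
    congr 1
    ext v
    simp [W']
  -- one member
  have g1 : ∀ a ∈ S, g a a = 3159 := by
    intro a ha
    have hT : (S ∩ perp D a).ncard = 351 := by
      rw [show S ∩ perp D a = common D a d ∩ perp D f by
          ext u; simp only [S, Set.mem_inter_iff]; tauto,
        card_common_three B ha.1.1 (perp_symm hd ha.1) (perp_symm hf ha.2)]
      exact M23.mu (B.sub a ha.1.1) (pr_mem _) (pr_mem _)
        fun k => hdf (commute_of_pr B.set.cls B.set.tf ha.1.1 _ _ k)
    rw [hg a ha a, show {v ∈ perp D d \ S | Commute a v ∧ Commute a v} = common D d a \ (S ∩ perp D a) by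
      ext v
      refine ⟨fun ⟨⟨hv, hvS⟩, k, _⟩ => ⟨⟨hv, hv.1, fun e => hvS (e ▸ ha), k⟩, fun k' => hvS k'.1⟩,
        fun ⟨⟨hv, hva⟩, hn⟩ => ⟨⟨hv, fun k' => hn ⟨k', hva⟩⟩, hva.2.2, hva.2.2⟩⟩,
      Set.ncard_sdiff (show S ∩ perp D a ⊆ common D d a from fun v hv => ⟨hv.1.1, hv.2⟩) (Set.toFinite _),
      card_common B hd ha.1, hT]
  -- two members
  have key : ∀ a ∈ S, ∀ b ∈ S, a ≠ b →
      g a b + (S ∩ perp D a ∩ perp D b).ncard = (common D d a ∩ perp D b).ncard := by
    intro a ha b hb _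
    rw [hg a ha b, show {v ∈ perp D d \ S | Commute a v ∧ Commute b v} =
        (common D d a ∩ perp D b) \ (S ∩ perp D a ∩ perp D b) by
      ext v
      refine ⟨fun ⟨⟨hv, hvS⟩, k, k'⟩ => ⟨⟨⟨hv, hv.1, fun e => hvS (e ▸ ha), k⟩, hv.1, fun e => hvS (e ▸ hb), k'⟩,
        fun q => hvS q.1.1⟩,
        fun ⟨⟨⟨hv, hva⟩, hvb⟩, hn⟩ => ⟨⟨hv, fun k' => hn ⟨⟨k', hva⟩, hvb⟩⟩, hva.2.2, hvb.2.2⟩⟩]
    exact Set.ncard_sdiff_add_ncard_of_subset (fun v hv => ⟨⟨hv.1.1.1, hv.1.2⟩, hv.2⟩) (Set.toFinite _)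
  have g2 : ∀ a ∈ S, ∀ b ∈ S, b ∈ perp D a → g a b = 567 := by
    intro a ha b hb hba
    have h1 := key a ha b hb (Ne.symm hba.2.1)
    have hd' := perp_symm hd ha.1
    have hf' := perp_symm hf ha.2
    have hdq := (toK B ha.1.1 hba hd').mpr (perp_symm hd hb.1)
    have hfq := (toK B ha.1.1 hba hf').mpr (perp_symm hf hb.2)
    have e1 : (S ∩ perp D a ∩ perp D b).ncard =
        (common (perpSet D a) (pr D a d hd') (pr D a b hba) ∩ perp (perpSet D a) (pr D a f hf')).ncard := by
      refine card_pr B ha.1.1 (fun u hu => hu.1.2) (fun q hq => hq.1.1.1) fun u hu => ?_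
      refine (and_congr (and_congr (toK B ha.1.1 hd' hu) (toK B ha.1.1 hba hu)) (toK B ha.1.1 hf' hu)).trans ?_
      exact ⟨fun k => ⟨⟨⟨k.1.1, k.2⟩, hu⟩, k.1.2⟩, fun k => ⟨⟨k.1.1.1, k.2⟩, k.1.1.2⟩⟩
    have e2 : (common (perpSet D a) (pr D a d hd') (pr D a b hba) ∩ perp (perpSet D a) (pr D a f hf')).ncard = 126 := by
      rw [show common (perpSet D a) (pr D a d hd') (pr D a b hba) =
        common (perpSet D a) (pr D a b hba) (pr D a d hd') from Set.inter_comm _ _,
        M23.card_common_three (B.sub a ha.1.1) (pr_mem hba) hdq hfq]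
      exact (M23.counts (B.sub a ha.1.1) _ (pr_mem hba)).apart126 _ (pr_mem _) _ (pr_mem _)
        fun k => hdf (commute_of_pr B.set.cls B.set.tf ha.1.1 hd' hf'
          (commute_of_pr (B.sub a ha.1.1).set.cls (B.sub a ha.1.1).set.tf (pr_mem hba) hdq hfq k))
    rw [e1, e2, card_common_three B hd ha.1 hb.1, M23.card_common (B.sub d hd) (pr_mem ha.1)
      ((toK B hd ha.1 hb.1).mpr hba) (M23.counts (B.sub d hd) _ (pr_mem ha.1))] at h1
    omega
  have g3 : ∀ a ∈ S, ∀ b ∈ S, ¬ Commute a b →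
      g a b + {z ∈ S ∩ perp D a | Commute b z}.ncard = 351 := by
    intro a ha b hb hab
    have h1 := key a ha b hb fun e => hab (e ▸ Commute.refl a)
    rw [card_common_three B hd ha.1 hb.1, M23.mu (B.sub d hd) (pr_mem ha.1) (pr_mem hb.1)
      fun k => hab (commute_of_pr B.set.cls B.set.tf hd ha.1 hb.1 k)] at h1
    rw [← h1, show {z ∈ S ∩ perp D a | Commute b z} = S ∩ perp D a ∩ perp D b by
      ext z
      refine ⟨fun ⟨hz, k⟩ => ⟨hz, hz.1.1.1, fun e => hab (e ▸ hz.2.2.2), k⟩, fun ⟨hz, k⟩ => ⟨hz, k.2.2⟩⟩]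
  -- sums
  have hrow : ∀ a ∈ S', ∑ b ∈ S', g a b = 1137240 := by
    intro a ha'
    have ha := (hS' a).mp ha'
    set T' := (S'.filter fun b => Commute a b).erase a
    set A' := S'.filter fun b => ¬ Commute a b
    have hT' : ∀ b, b ∈ T' ↔ b ∈ S ∩ perp D a := by
      intro b
      simp only [T', Finset.mem_erase, Finset.mem_filter, hS', Set.mem_inter_iff]
      exact ⟨fun ⟨hne, hb, k⟩ => ⟨hb, hb.1.1, hne, k⟩, fun ⟨hb, k⟩ => ⟨k.2.1, hb, k.2.2⟩⟩
    have hTset : S ∩ perp D a = (T' : Set G) := Set.ext fun b => (hT' b).symm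
    have hTc : T'.card = 351 := by
      rw [← Set.ncard_coe_finset, ← hTset,
        show S ∩ perp D a = common D a d ∩ perp D f by
          ext u; simp only [S, Set.mem_inter_iff]; tauto,
        card_common_three B ha.1.1 (perp_symm hd ha.1) (perp_symm hf ha.2)]
      exact M23.mu (B.sub a ha.1.1) (pr_mem _) (pr_mem _)
        fun k => hdf (commute_of_pr B.set.cls B.set.tf ha.1.1 _ _ k)
    have hain : a ∈ S'.filter fun b => Commute a b := by simp [ha']
    have hAc : A'.card = 2888 := by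
      have h1 := Finset.card_filter_add_card_filter_not (s := S') (fun b => Commute a b)
      have h2 := Finset.card_erase_add_one hain
      simp only [T'] at hTc
      beta_reduce at h1 h2 hTc
      show (S'.filter fun b => ¬ Commute a b).card = 2888
      omega
    have hsumT : ∑ b ∈ T', g a b = 351 * 567 := by
      rw [Finset.sum_congr rfl fun b hb => g2 a ha b ((hT' b).mp hb).1 ((hT' b).mp hb).2,
        Finset.sum_const, hTc, smul_eq_mul]
    have hAset : {b ∈ S | ¬ Commute a b} = (A' : Set G) := by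
      ext b; simp [A', hS']
    have hν : ∑ b ∈ A', {z ∈ S ∩ perp D a | Commute b z}.ncard = 351 * 224 := by
      have h1 := double_count {b ∈ S | ¬ Commute a b} (S ∩ perp D a)
      have eA : {b ∈ S | ¬ Commute a b}.toFinite.toFinset = A' := by
        ext b; simp [A', hS']
      have eT : (S ∩ perp D a).toFinite.toFinset = T' := by
        ext b; rw [Set.Finite.mem_toFinset, hT']
      rw [eA, eT] at h1
      rw [h1, Finset.sum_congr rfl (fun z hz => ?_), Finset.sum_const, hTc, smul_eq_mul]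
      obtain ⟨hz1, hz2⟩ := (hT' z).mp hz
      -- neighbours of z apart from a
      have hd' := perp_symm hd ha.1
      have hf' := perp_symm hf ha.2
      have h351 : (S ∩ perp D z).ncard = 351 := by
        rw [show S ∩ perp D z = common D z d ∩ perp D f by
            ext u; simp only [S, Set.mem_inter_iff]; tauto,
          card_common_three B hz1.1.1 (perp_symm hd hz1.1) (perp_symm hf hz1.2)]
        exact M23.mu (B.sub z hz1.1.1) (pr_mem _) (pr_mem _)
          fun k => hdf (commute_of_pr B.set.cls B.set.tf hz1.1.1 _ _ k)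
      have h126 : (S ∩ perp D a ∩ perp D z).ncard = 126 := by
        have := key a ha z hz1 (Ne.symm hz2.2.1)
        rw [g2 a ha z hz1 hz2, card_common_three B hd ha.1 hz1.1,
          M23.card_common (B.sub d hd) (pr_mem ha.1) ((toK B hd ha.1 hz1.1).mpr hz2)
            (M23.counts (B.sub d hd) _ (pr_mem ha.1))] at this
        omega
      have hsplit : S ∩ perp D z = {b ∈ {b ∈ S | ¬ Commute a b} | Commute b z} ∪
          insert a (S ∩ perp D a ∩ perp D z) := by
        ext y
        simp only [Set.mem_union, Set.mem_ofPred_eq, Set.mem_insert_iff]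
        constructor
        · intro hy
          by_cases k : Commute a y
          · by_cases e : y = a
            · exact Or.inr (Or.inl e)
            · exact Or.inr (Or.inr ⟨⟨hy.1, hy.1.1.1, e, k⟩, hy.2⟩)
          · exact Or.inl ⟨⟨hy.1, k⟩, hy.2.2.2.symm⟩
        · rintro (⟨⟨hy, k⟩, kz⟩ | e | hy)
          · exact ⟨hy, hy.1.1, fun e => k (e ▸ hz2.2.2), kz.symm⟩
          · exact e ▸ ⟨ha, perp_symm ha.1.1 hz2⟩
          · exact ⟨hy.1.1, hy.2⟩
      rw [hsplit, Set.ncard_union_eq (Set.disjoint_left.mpr ?_) (Set.toFinite _) (Set.toFinite _),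
        Set.ncard_insert_of_notMem (fun k => k.1.2.2.1 rfl) (Set.toFinite _), h126] at h351
      · omega
      · rintro y ⟨⟨-, k⟩, -⟩ (e | hy)
        exacts [k (e ▸ Commute.refl a), k hy.1.2.2.2]
    have hsumA : ∑ b ∈ A', g a b + 351 * 224 = 351 * 2888 := by
      rw [← hν, ← Finset.sum_add_distrib, Finset.sum_congr rfl fun b hb => ?_, Finset.sum_const, hAc,
        smul_eq_mul, mul_comm]
      simp only [A', Finset.mem_filter, hS'] at hb
      exact g3 a ha b hb.1 hb.2
    have h0 := Finset.sum_filter_add_sum_filter_not S' (fun b => Commute a b) (fun b => g a b)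
    have h0' := Finset.add_sum_erase _ (fun b => g a b) hain
    simp only [T', A'] at hsumT hsumA
    rw [g1 a ha] at h0'
    omega
  have hswap : ∑ v ∈ W', deg v = ∑ a ∈ S', (W'.filter fun v => Commute a v).card := by
    simp only [deg, Finset.card_filter]
    exact Finset.sum_comm
  have hsum1 : ∑ v ∈ W', deg v = 3240 * 3159 := by
    rw [hswap, Finset.sum_congr rfl fun a ha => ?_, Finset.sum_const, hS, smul_eq_mul]
    rw [← g1 a ((hS' a).mp ha)]
    simp [g]
  have hsum2 : ∑ v ∈ W', deg v * deg v = 3240 * 1137240 := by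
    have e : ∑ v ∈ W', deg v * deg v = ∑ a ∈ S', ∑ b ∈ S', g a b := by
      simp only [deg, g, Finset.card_filter, Finset.sum_mul_sum]
      rw [Finset.sum_comm]
      refine Finset.sum_congr rfl fun a _ => ?_
      rw [Finset.sum_comm]
      refine Finset.sum_congr rfl fun b _ => Finset.sum_congr rfl fun v _ => ?_
      by_cases h1 : Commute a v <;> by_cases h2 : Commute b v <;> simp [h1, h2]
    rw [e, Finset.sum_congr rfl hrow, Finset.sum_const, hS, smul_eq_mul]
  have hzero : ∑ v ∈ W', ((deg v : ℤ) - 360) ^ 2 = 0 := by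
    have e : ∑ v ∈ W', ((deg v : ℤ) - 360) ^ 2 =
        ((∑ v ∈ W', deg v * deg v : ℕ) : ℤ) - 720 * ((∑ v ∈ W', deg v : ℕ) : ℤ) + 129600 * (W'.card : ℤ) := by
      push_cast
      rw [Finset.mul_sum, ← Finset.sum_sub_distrib, Finset.card_eq_sum_ones, Nat.cast_sum, Finset.mul_sum,
        ← Finset.sum_add_distrib]
      exact Finset.sum_congr rfl fun v _ => by push_cast; ring
    rw [e, hsum1, hsum2, hW]
    norm_num
  have hwW : w ∈ W' := (Set.Finite.mem_toFinset _).mpr ⟨hw, hwS⟩
  have hdeg : deg w = 360 := by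
    have := (Finset.sum_eq_zero_iff_of_nonneg fun v _ => sq_nonneg _).mp hzero w hwW
    have := pow_eq_zero_iff (two_ne_zero) |>.mp this
    omega
  obtain ⟨z, hz⟩ : (S'.filter fun z => Commute z w).Nonempty := by
    rw [← Finset.card_pos]; simp only [deg] at hdeg; omega
  rw [Finset.mem_filter, hS'] at hz
  exact ⟨z, hz⟩

end Cfsg.Agent.Block.FischerTypes.M24
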