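import Cfsg.Agent.Lib.Block.FischerTypes.M22Group

/-! Transporting perpendicular quotients, and cores killed by their simplicity. -/

set_option autoImplicit false
set_option linter.style.haveILetI false
set_option linter.unusedSectionVars false

namespace Cfsg.Agent.Block.FischerTypes

open Cfsg.Agent.Spor.ThreeTrans

theorem perp_image {X Y : Type*} [Group X] [Group Y] (τ : X ≃* Y) (E : Set X) (a : X) :
    perp (τ '' E) (τ a) = τ '' perp E a := by
  ext y
  constructor
  · rintro ⟨⟨x, hx, rfl⟩, hne, hc⟩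
    exact ⟨x, ⟨hx, fun e => hne (by rw [e]), by simpa using hc.map τ.symm⟩, rfl⟩
  · rintro ⟨x, ⟨hx, hne, hc⟩, rfl⟩
    exact ⟨⟨x, hx, rfl⟩, fun e => hne (τ.injective e), hc.map τ⟩

/-- An isomorphism carrying one set to another carries perpendicular quotients. -/
theorem quot_map {X Y : Type*} [Group X] [Group Y] (τ : X ≃* Y) (E : Set X) (a : X) :
    ∃ σ : PerpQuot E a ≃* PerpQuot (τ '' E) (τ a), σ '' perpSet E a = perpSet (τ '' E) (τ a) := by
  have em : (PerpGroup E a).map τ.toMonoidHom = PerpGroup (τ '' E) (τ a) := by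
    show (Subgroup.closure (perp E a)).map _ = Subgroup.closure (perp (τ '' E) (τ a))
    rw [MonoidHom.map_closure, perp_image]
    rfl
  let σ₀ : ↥(PerpGroup E a) ≃* ↥(PerpGroup (τ '' E) (τ a)) :=
    ((PerpGroup E a).equivMapOfInjective _ τ.injective).trans (MulEquiv.subgroupCongr em)
  have hσ : ∀ x, ((σ₀ x : ↥(PerpGroup (τ '' E) (τ a))) : Y) = τ x := fun x => rfl
  have hc : (Subgroup.center ↥(PerpGroup E a)).map σ₀.toMonoidHom =
      Subgroup.center ↥(PerpGroup (τ '' E) (τ a)) := by
    ext x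
    simp only [Subgroup.mem_map, MulEquiv.coe_toMonoidHom]
    constructor
    · rintro ⟨y, hy, rfl⟩
      exact Subgroup.mem_center_iff.mpr fun z => by
        simpa using congrArg σ₀ (Subgroup.mem_center_iff.mp hy (σ₀.symm z))
    · intro hx
      refine ⟨σ₀.symm x, Subgroup.mem_center_iff.mpr fun z => ?_, σ₀.apply_symm_apply x⟩
      simpa using congrArg σ₀.symm (Subgroup.mem_center_iff.mp hx (σ₀ z))
  refine ⟨QuotientGroup.congr _ _ σ₀ hc, ?_⟩
  apply Set.Subset.antisymm
  · rintro _ ⟨q, hq, rfl⟩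
    obtain ⟨u, hu, rfl⟩ := exists_of_mem hq
    refine ⟨σ₀ ⟨u, Subgroup.subset_closure hu⟩, ?_, rfl⟩
    show τ u ∈ perp (τ '' E) (τ a)
    rw [perp_image]
    exact ⟨u, hu, rfl⟩
  · intro q hq
    obtain ⟨v, hv, rfl⟩ := exists_of_mem hq
    obtain ⟨u, hu, rfl⟩ : ∃ u ∈ perp E a, τ u = v := by
      rw [perp_image] at hv; exact hv
    exact ⟨_, pr_mem hu, rfl⟩

theorem center_bot_map {X Y : Type*} [Group X] [Group Y] (τ : X ≃* Y) (h : Subgroup.center X = ⊥) :
    Subgroup.center Y = ⊥ := by
  refine eq_bot_iff.mpr fun y hy => ?_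
  have : τ.symm y ∈ Subgroup.center X := Subgroup.mem_center_iff.mpr fun z => by
    simpa using congrArg τ.symm (Subgroup.mem_center_iff.mp hy (τ z))
  rw [h, Subgroup.mem_bot] at this
  rw [Subgroup.mem_bot]
  simpa using congrArg τ this

theorem hasModel_map {X Y : Type*} [Group X] [Group Y] (τ : X ≃* Y) (E : Set X) {a : X}
    (h : HasModel E a) : HasModel (τ '' E) (τ a) := by
  obtain ⟨F, _, _, hF, ⟨e⟩⟩ := h
  obtain ⟨σ, -⟩ := quot_map τ E a
  exact ⟨F, _, _, hF, ⟨σ.symm.trans e⟩⟩

variable {G : Type*} [Group G] [Finite G] {D : Set G}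

/-- The quotient at a conjugate. -/
theorem quot_conj (h : IsThreeTranspositionClass D) (g a : G) :
    ∃ σ : PerpQuot D a ≃* PerpQuot D (g * a * g⁻¹), σ '' perpSet D a = perpSet D (g * a * g⁻¹) := by
  have e : (MulAut.conj g) '' D = D := by
    ext x
    constructor
    · rintro ⟨y, hy, rfl⟩
      exact conj_mem h g hy
    · intro hx
      exact ⟨g⁻¹ * x * g, by simpa using conj_mem h g⁻¹ hx, by simp [mul_assoc]⟩
  have := quot_map (MulAut.conj g) D a
  rwa [e] at this

theorem simple_of_hasModel {a : G} (h : HasModel D a) :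
    IsSimpleGroup (PerpQuot D a) ∧ ∃ x y : PerpQuot D a, ¬ Commute x y := by
  obtain ⟨F, _, _, h4, ⟨e⟩⟩ := h
  obtain ⟨hs, x, y, hxy⟩ := psu_six h4
  haveI := hs
  exact ⟨(MulEquiv.isSimpleGroup_congr e).mpr hs, e.symm x, e.symm y,
    fun k => hxy (by simpa using k.map e)⟩

/-- Two members congruent modulo a normal `p`-subgroup inside a simple quotient are equal. -/
theorem sep_local (p : ℕ) [Fact p.Prime] (h : IsThreeTranspositionClass D) (htf : TwinFree D) {x : G}
    (hx : x ∈ D) (hs : IsSimpleGroup (PerpQuot D x)) (hnc : ∃ a b : PerpQuot D x, ¬ Commute a b)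
    {u v : G} (hu : u ∈ perp D x) (hv : v ∈ perp D x) (huv : u * v ∈ pCore p G) : u = v := by
  haveI := Transfer.pCore_normal' p G
  set H := PerpGroup D x
  set N := (pCore p G).subgroupOf H
  have hNp : IsPGroup p ↥(N.map (QuotientGroup.mk' (Subgroup.center ↥H))) :=
    ((Transfer.pCore_isPGroup p G).comap_of_injective H.subtype Subtype.val_injective).map _
  have hbot : N.map (QuotientGroup.mk' (Subgroup.center ↥H)) ≤ ⊥ :=
    pCore_eq_bot_of_simple p hs hnc ▸
      Transfer.le_pCore (Subgroup.Normal.map inferInstance _ (QuotientGroup.mk'_surjective _)) hNp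
  have hmem : (⟨u, Subgroup.subset_closure hu⟩ * ⟨v, Subgroup.subset_closure hv⟩ : ↥H) ∈ N := huv
  have k : pr D x u hu * pr D x v hv = 1 := Subgroup.mem_bot.mp (hbot ⟨_, hmem, rfl⟩)
  refine pr_injective h htf hx hu hv ?_
  rw [eq_inv_of_mul_eq_one_left k]
  refine inv_eq_of_mul_eq_one_right ?_
  exact congrArg QuotientGroup.mk (show (⟨v, Subgroup.subset_closure hv⟩ : ↥H) *
    ⟨v, Subgroup.subset_closure hv⟩ = 1 from Subtype.ext (mul_self h.1 hv.1))

/-- Simple local quotients force trivial cores. -/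
theorem cores_bot (h : IsThreeTranspositionClass D) (hc : Subgroup.center G = ⊥) (htf : TwinFree D)
    (hmod : ∀ a ∈ D, HasModel D a) : pCore 2 G = ⊥ ∧ pCore 3 G = ⊥ := by
  haveI : Fact (Nat.Prime 2) := ⟨Nat.prime_two⟩
  haveI : Fact (Nat.Prime 3) := ⟨Nat.prime_three⟩
  haveI := Transfer.pCore_normal' 2 G
  haveI := Transfer.pCore_normal' 3 G
  constructor
  · refine eq_bot_of_separated h hc _ fun a ha b hb hab => ?_
    by_contra hne
    have hcom := commute_of_core_two h ha hb hab
    have hbP : b ∈ perp D a := ⟨hb, Ne.symm hne, hcom⟩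
    obtain ⟨hs, hnc⟩ := simple_of_hasModel (hmod a ha)
    obtain ⟨u, hu, hub⟩ := exists_noncentral h htf ha hbP
    have hu' : u * b * u ∈ perp D a := by
      have := perp_conj' h hu.2.2.symm hbP
      rwa [inv_eq h.1 hu.1] at this
    have h1 : a * (u * b * u) ∈ pCore 2 G := by
      have := Subgroup.Normal.conj_mem inferInstance _ hab u
      rwa [show u * (a * b) * u⁻¹ = (u * a * u⁻¹) * (u * b * u⁻¹) by simp [mul_assoc],
        conj_self_eq hu.2.2.symm, inv_eq h.1 hu.1] at this
    have h2 := sep_local 2 h htf ha hs hnc hbP hu' (mul_trans_mem h ha (mul_symm_mem h ha hb hab) h1)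
    refine hub ?_
    show u * b = b * u
    conv_rhs => rw [h2]
    simp [mul_assoc, mul_self h.1 hu.1]
  · refine eq_bot_of_separated h hc _ fun a ha b hb hab => ?_
    by_contra hne
    have hnc0 : ¬ Commute a b := fun k => hne (eq_of_commute_core h ha hb hab k)
    obtain ⟨hs, hnc⟩ := simple_of_hasModel (hmod a ha)
    obtain ⟨x, hx, -⟩ := exists_perp_noncommute hnc
    have hxb : Commute x b := by
      by_contra k
      have h1 : a * (x * b * x) ∈ pCore 3 G := by
        have := Subgroup.Normal.conj_mem inferInstance _ hab x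
        rwa [show x * (a * b) * x⁻¹ = (x * a * x⁻¹) * (x * b * x⁻¹) by simp [mul_assoc],
          conj_self_eq hx.2.2.symm, inv_eq h.1 hx.1] at this
      have h2 : (b * x) * (b * x) ∈ pCore 3 G := by
        simpa [mul_assoc] using mul_trans_mem h ha (mul_symm_mem h ha hb hab) h1
      have h3 : b * x ∈ pCore 3 G := by
        have hp := pow_three_of_not_commute h hb hx.1 fun e => k e.symm
        rw [pow_three] at hp
        rw [eq_inv_of_mul_eq_one_left hp]
        exact inv_mem h2
      exact hx.2.1 (eq_of_commute_core h ha hx.1 (mul_trans_mem h hb hab h3) hx.2.2).symm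
    obtain ⟨hs', hnc'⟩ := simple_of_hasModel (hmod x hx.1)
    exact hne (sep_local 3 h htf hx.1 hs' hnc' ⟨ha, Ne.symm hx.2.1, hx.2.2.symm⟩
      ⟨hb, fun e => hnc0 (by rw [e]; exact hx.2.2), hxb⟩ hab)

end Cfsg.Agent.Block.FischerTypes
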