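import Cfsg.Agent.Lib.Spor.UnitClassTwo
import Cfsg.Agent.Lib.Block.FischerTypes.Basic

/-! The 3-transposition classes of `PSU_n(2)`, and the lines inside the perpendicular of a point. -/

set_option autoImplicit false
set_option linter.style.haveILetI false
set_option linter.unusedSectionVars false

namespace Cfsg.Agent.Block.FischerTypes.U6

open Matrix Cfsg Cfsg.Agent.Classical Cfsg.Agent.Classical.PSUAut Cfsg.Agent.Spor.UnitTwo
open Cfsg.Agent.Spor

variable {F : Type} [Field F] [Fintype F] {n : ℕ} (h4 : Fintype.card F = 4)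

local notation "hh" => hermForm n F 2
local notation "hF" => card_sq h4
local notation "π" => suToPSU n F 2

include h4

theorem real_zero_or_one {a : F} (ha : qFrob hF a = a) : a = 0 ∨ a = 1 := by
  by_cases h0 : a = 0
  · exact Or.inl h0
  have h1 := norm_one h4 h0
  rw [ha] at h1
  rcases mul_self_eq_one_iff.mp h1 with e | e
  · exact Or.inr e
  · exact Or.inr (by rw [e, neg_eq h4])

theorem exists_omega : ∃ w : F, w ≠ 0 ∧ w ≠ 1 ∧ w * w = w + 1 ∧ qFrob hF w = w + 1 ∧
    ∀ a : F, a = 0 ∨ a = 1 ∨ a = w ∨ a = w + 1 := by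
  classical
  obtain ⟨w, hw⟩ : ∃ w : F, w ∉ ({0, 1} : Finset F) := by
    by_contra hcon
    push Not at hcon
    have : Fintype.card F ≤ ({0, 1} : Finset F).card :=
      Finset.card_le_card (s := Finset.univ) fun a _ => hcon a
    have := this.trans (Finset.card_insert_le _ _)
    simp only [Finset.card_singleton] at this
    omega
  simp only [Finset.mem_insert, Finset.mem_singleton, not_or] at hw
  obtain ⟨h0, h1⟩ := hw
  have h3 := FiniteField.pow_card_sub_one_eq_one w h0
  rw [h4] at h3
  have hsq : w * w = w + 1 := by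
    have : (w - 1) * (w * w + w + 1) = 0 := by linear_combination h3
    rcases mul_eq_zero.mp this with e | e
    · exact absurd (sub_eq_zero.mp e) h1
    · linear_combination e - add_self h4 w - add_self h4 (1 : F)
  refine ⟨w, h0, h1, hsq, by rw [qFrob_apply, pow_two, hsq], fun a => ?_⟩
  have hset : ({0, 1, w, w + 1} : Finset F) = Finset.univ := by
    refine Finset.eq_univ_of_card _ ?_
    have e1 : w + 1 ≠ 0 := fun e => h1 (by rw [eq_neg_of_add_eq_zero_left e, neg_eq h4])
    have e2 : w + 1 ≠ 1 := fun e => h0 (by simpa using e)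
    have e3 : w + 1 ≠ w := fun e => one_ne_zero (α := F) (by simpa using e)
    rw [h4, Finset.card_insert_of_notMem (by simp [h0, Ne.symm h0, Ne.symm e1]),
      Finset.card_insert_of_notMem (by simp [Ne.symm h1, Ne.symm e2]),
      Finset.card_insert_of_notMem (by simpa using Ne.symm e3), Finset.card_singleton]
  have := hset ▸ Finset.mem_univ a
  simpa using this

/-- The image of a transvection. -/
noncomputable def root {v : Fin n → F} (hv : hh v v = 0) : PSU n F 2 := π (tv h4 hv)

theorem root_congr {u v : Fin n → F} (hu : hh u u = 0) (hv : hh v v = 0) (e : u = v) :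
    root h4 hu = root h4 hv := by subst e; rfl

theorem root_smul {v : Fin n → F} (hv : hh v v = 0) {a : F} (ha : a ≠ 0) (hav : hh (a • v) (a • v) = 0) :
    root h4 hav = root h4 hv := by
  unfold root
  congr 1
  exact suVal_ext (T_smul h4 ha v)

theorem one_trace : (1 : F) + qFrob hF 1 = 0 := by rw [map_one, add_self h4]

theorem root_commute (hn : 1 ≤ n) {u v : Fin n → F} (hu : hh u u = 0) (hv : hh v v = 0) (hu0 : u ≠ 0)
    (hv0 : v ≠ 0) : Commute (root h4 hu) (root h4 hv) ↔ hh u v = 0 :=
  ⟨fun hc => orth_of_comm hF hn hu0 hv0 hu hv (one_trace h4) (one_trace h4) one_ne_zero one_ne_zero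
      (suVal_tv h4 hu) (suVal_tv h4 hv) hc,
    fun h => (comm_of_orth hF h (suVal_tv h4 hu) (suVal_tv h4 hv)).map π⟩

theorem root_eq (hn : 1 ≤ n) {u v : Fin n → F} (hu : hh u u = 0) (hv : hh v v = 0) (hu0 : u ≠ 0)
    (e : root h4 hu = root h4 hv) : ∃ a : F, a ≠ 0 ∧ u = a • v :=
  exists_smul_of_tv_eq hF hu0 one_ne_zero (eMat_eq_of_pi_eq hF hn (eok h4 hu) (eok h4 hv) e)

/-- The transvections. -/
def roots (n : ℕ) : Set (PSU n F 2) :=
  {y | ∃ v : Fin n → F, v ≠ 0 ∧ ∃ hv : hermForm n F 2 v v = 0, root h4 hv = y}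

/-- The line joining two orthogonal points: its three further points and the product of all five. -/
theorem line (hn : 1 ≤ n) {p c : PSU n F 2} (hp : p ∈ roots h4 n) (hc : c ∈ ThreeTrans.perp (roots h4 n) p) :
    ∃ l : List (PSU n F 2), l.Nodup ∧ l.length = 4 ∧
      (∀ e, e ∈ l ↔ (e ∈ ThreeTrans.perp (roots h4 n) p ∧
        ∀ x ∈ ThreeTrans.perp (roots h4 n) p, Commute x c ↔ Commute x e)) ∧
      (∀ x ∈ l, ∀ y ∈ l, Commute x y) ∧ p * l.prod = 1 := by
  obtain ⟨P, hP0, hPP, rfl⟩ := hp
  obtain ⟨⟨C, hC0, hCC, rfl⟩, hne, hcom⟩ := hc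
  obtain ⟨w, hw0, hw1, hww, hwc, hwall⟩ := exists_omega h4
  have hPC : hh P C = 0 := (root_commute h4 hn hPP hCC hP0 hC0).mp hcom
  have hCP := h_comm_zero hF hPC
  have horth : ∀ α β : F, hh (C + α • P) (C + β • P) = 0 := fun α β => by
    rw [h_add_left, h_add_right hF, h_add_right hF, h_smul_left, h_smul_left, h_smul_right hF,
      h_smul_right hF, hCC, hCP, hPC, hPP]
    ring
  have hne0 : ∀ α : F, C + α • P ≠ 0 := fun α h0 => hne (by
    have hα : α ≠ 0 := by rintro rfl; exact hC0 (by simpa using h0)
    have e : C = (-α) • P := by rw [neg_smul]; exact eq_neg_of_add_eq_zero_left h0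
    rw [root_congr h4 hCC (e ▸ hCC) e]
    exact root_smul h4 hPP (neg_ne_zero.mpr hα) _)
  let f : F → PSU n F 2 := fun α => root h4 (horth α α)
  have hinj : Function.Injective f := fun α β e => by
    obtain ⟨a, -, ha⟩ := root_eq h4 hn (horth α α) (horth β β) (hne0 α) e
    obtain ⟨x, hxC, hxP⟩ := exists_sep hF (v := C) (w := P) (by
      rintro ⟨b, hb⟩
      exact hne0 (-b) (by rw [hb, neg_smul, add_neg_cancel]))
    have h1 := congrArg (hh x) ha
    simp only [h_add_right hF, h_smul_right hF, hxC, hxP, mul_zero, add_zero, mul_one] at h1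
    have ha1 : a = 1 := (qFrob hF).injective (by rw [← h1, map_one])
    rw [ha1, one_smul] at ha
    have h2 := add_left_cancel ha
    exact smul_left_injective F hP0 h2
  have hfperp : ∀ α, f α ∈ ThreeTrans.perp (roots h4 n) (root h4 hPP) := fun α => by
    refine ⟨⟨_, hne0 α, _, rfl⟩, fun e => hne ?_, (root_commute h4 hn hPP (horth α α) hP0 (hne0 α)).mpr
      (by rw [h_add_right hF, h_smul_right hF, hPC, hPP, mul_zero, add_zero])⟩
    obtain ⟨a, ha, e'⟩ := root_eq h4 hn (horth α α) hPP (hne0 α) e
    have e2 : C = (a - α) • P := by rw [sub_smul, ← e', add_sub_cancel_right]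
    have : a - α ≠ 0 := fun h0 => hC0 (by rw [e2, h0, zero_smul])
    rw [root_congr h4 hCC (e2 ▸ hCC) e2]
    exact root_smul h4 hPP this _
  refine ⟨[f 0, f 1, f w, f (w + 1)], ?_, rfl, fun e => ?_, ?_, ?_⟩
  · simp [hinj.eq_iff, Ne.symm hw0, Ne.symm hw1, hw0]
    exact fun h => hw1 (by rw [eq_neg_of_add_eq_zero_left h.symm, neg_eq h4])
  · have hmem : e ∈ [f 0, f 1, f w, f (w + 1)] ↔ ∃ α, e = f α := by
      simp only [List.mem_cons, List.not_mem_nil, or_false]
      constructor
      · rintro (h | h | h | h) <;> exact ⟨_, h⟩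
      · rintro ⟨α, rfl⟩
        rcases hwall α with h | h | h | h <;> subst h <;> tauto
    rw [hmem]
    constructor
    · rintro ⟨α, rfl⟩
      refine ⟨hfperp α, ?_⟩
      rintro _ ⟨⟨X, hX0, hXX, rfl⟩, hXne, hXc⟩
      have hXP := h_comm_zero hF ((root_commute h4 hn hPP hXX hP0 hX0).mp hXc)
      rw [root_commute h4 hn hXX hCC hX0 hC0, root_commute h4 hn hXX (horth α α) hX0 (hne0 α),
        h_add_right hF, h_smul_right hF, hXP, mul_zero, add_zero]
    · rintro ⟨⟨⟨E, hE0, hEE, rfl⟩, hEne, hEc⟩, hsame⟩
      have hEP := h_comm_zero hF ((root_commute h4 hn hPP hEE hP0 hE0).mp hEc)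
      have hEC : hh E C = 0 := h_comm_zero hF ((root_commute h4 hn hCC hEE hC0 hE0).mp
        ((hsame _ ⟨⟨C, hC0, hCC, rfl⟩, hne, hcom⟩).mp (Commute.refl _)))
      by_contra hno
      push Not at hno
      obtain ⟨x, hxE, hxP, hxC⟩ : ∃ x, hh x E = 1 ∧ hh x P = 0 ∧ hh x C = 0 := by
        obtain ⟨u, huC, huP⟩ := exists_sep hF (v := C) (w := P) (by
          rintro ⟨b, hb⟩
          exact hne0 (-b) (by rw [hb, neg_smul, add_neg_cancel]))
        let E' := E - qFrob hF (hh u E) • C
        have hE' : ¬ ∃ a : F, E' = a • P := by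
          rintro ⟨a, ha⟩
          obtain ⟨β, hβ⟩ : ∃ β, β = qFrob hF (hh u E) := ⟨_, rfl⟩
          have e' : E = β • C + a • P := by rw [← ha, hβ]; simp [E']
          by_cases hb : β = 0
          · rw [hb, zero_smul, zero_add] at e'
            refine hEne ?_
            rw [root_congr h4 hEE (e' ▸ hEE) e']
            exact root_smul h4 hPP (fun h0 => hE0 (by rw [e', h0, zero_smul])) _
          · have e2 : E = β • (C + (β⁻¹ * a) • P) := by
              rw [e', smul_add, smul_smul, ← mul_assoc, mul_inv_cancel₀ hb, one_mul]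
            refine hno (β⁻¹ * a) ?_
            rw [root_congr h4 hEE (e2 ▸ hEE) e2]
            exact root_smul h4 (horth _ _) hb _
        obtain ⟨y, hyE, hyP⟩ := exists_sep hF hE'
        refine ⟨y - hh y C • u, ?_, ?_, ?_⟩
        · rw [h_sub_left, h_smul_left]
          rw [h_sub_right hF, h_smul_right hF, cj_cj] at hyE
          linear_combination hyE
        · rw [h_sub_left, h_smul_left, hyP, huP, mul_zero, sub_zero]
        · rw [h_sub_left, h_smul_left, huC, mul_one, sub_self]
      obtain ⟨t, ht⟩ := exists_trace_eq hF (a := hh x x) (cj_h hF x x)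
      have hY : hh (x + t • E) (x + t • E) = 0 := by
        rw [h_add_left, h_add_right hF, h_add_right hF, h_smul_left, h_smul_left, h_smul_right hF,
          h_smul_right hF, hEE, ← cj_h hF x E, hxE, map_one]
        linear_combination ht + add_self h4 (hh x x)
      have hYE : hh (x + t • E) E = 1 := by rw [h_add_left, h_smul_left, hEE, hxE, mul_zero, add_zero]
      have hYP : hh (x + t • E) P = 0 := by rw [h_add_left, h_smul_left, hEP, hxP, mul_zero, add_zero]
      have hYC : hh (x + t • E) C = 0 := by rw [h_add_left, h_smul_left, hEC, hxC, mul_zero, add_zero]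
      have hY0 : x + t • E ≠ 0 := fun h0 => one_ne_zero (α := F) (by rw [← hYE, h0, h_zero_left])
      have hYp : root h4 hY ∈ ThreeTrans.perp (roots h4 n) (root h4 hPP) := by
        refine ⟨⟨_, hY0, hY, rfl⟩, fun e => ?_,
          ((root_commute h4 hn hY hPP hY0 hP0).mpr hYP).symm⟩
        obtain ⟨a, -, ha⟩ := root_eq h4 hn hY hPP hY0 e
        exact one_ne_zero (α := F) (by rw [← hYE, ha, h_smul_left, h_comm_zero hF hEP, mul_zero])
      have := (hsame _ hYp).mp ((root_commute h4 hn hY hCC hY0 hC0).mpr hYC)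
      rw [root_commute h4 hn hY hEE hY0 hE0, hYE] at this
      exact one_ne_zero this
  · have hff : ∀ α β, Commute (f α) (f β) := fun α β =>
      (root_commute h4 hn (horth α α) (horth β β) (hne0 α) (hne0 β)).mpr (horth α β)
    simp only [List.mem_cons, List.not_mem_nil, or_false]
    rintro x (rfl | rfl | rfl | rfl) y (rfl | rfl | rfl | rfl) <;> exact hff _ _
  · simp only [List.prod_cons, List.prod_nil, mul_one, f, root, ← map_mul]
    rw [← map_one π]
    congr 1
    refine suVal_ext (Matrix.ext_iff_mulVec.2 fun x => ?_)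
    simp only [suVal_mul, suVal_tv, ← Matrix.mulVec_mulVec, T_apply h4, h_add_left, h_add_right hF,
      h_smul_left, h_smul_right hF, hPP, hCC, hPC, hCP, map_zero, map_one, map_add, hwc]
    simp only [show suVal (1 : SU n F 2) = 1 from rfl, Matrix.one_mulVec]
    have two : (2 : F) = 0 := by rw [← one_add_one_eq_two, add_self h4]
    have four : (4 : F) = 0 := by linear_combination (2 : F) * two
    match_scalars <;> ring_nf <;> simp [two, four]

/-- A transvection as a map. -/
def tvFun (v x : Fin n → F) : Fin n → F := x + hermForm n F 2 x v • v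

/-- A generating class of 3-transpositions consists of the transvections. -/
theorem class_eq (hn : 3 ≤ n) {E : Set (PSU n F 2)} (hE : IsThreeTranspositionClass E) :
    E = roots h4 n := by
  have hmem : ∀ g : PSU n F 2, ∀ x ∈ E, g * x * g⁻¹ ∈ E := fun g x hx => ThreeTrans.conj_mem hE g hx
  have hsub : E ⊆ roots h4 n := by
    intro x hx
    obtain ⟨g, rfl⟩ := pi_surjective (n := n) (F := F) (q := 2) x
    have hx1 : π g * π g = 1 := ThreeTrans.mul_self hE.1 hx
    rw [← map_mul] at hx1
    obtain ⟨l, hl⟩ := (pi_eq_one_iff hF).1 hx1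
    rw [suVal_mul] at hl
    have hne : π g ≠ 1 := ThreeTrans.ne_one hE.1 hx
    obtain ⟨e0, he0, he00⟩ := exists_isotropic hF (n := n) (by omega)
    obtain ⟨f0, hf0⟩ := exists_h_eq hF he0 1
    have hll : l * qFrob hF l = 1 := by
      have h1 := su_form g (suVal g *ᵥ e0) (suVal g *ᵥ f0)
      rw [Matrix.mulVec_mulVec, Matrix.mulVec_mulVec, hl, Matrix.smul_mulVec, Matrix.smul_mulVec,
        Matrix.one_mulVec, Matrix.one_mulVec, h_smul_left, h_smul_right hF, su_form g, hf0, mul_one] at h1
      exact h1
    have hl0 : l ≠ 0 := left_ne_zero_of_mul (by rw [hll]; exact one_ne_zero)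
    have hl3 : l * l * l = 1 := by
      rw [qFrob_apply, pow_two] at hll
      linear_combination hll
    let A : Matrix (Fin n) (Fin n) F := l • suVal g
    have hAA : ∀ x, A *ᵥ (A *ᵥ x) = x := fun x => by
      simp only [A, Matrix.smul_mulVec, Matrix.mulVec_smul, smul_smul, Matrix.mulVec_mulVec, Matrix.smul_mul,
        hl, Matrix.one_mulVec, ← mul_assoc, hl3, one_smul]
    have hAh : ∀ x y, hh (A *ᵥ x) (A *ᵥ y) = hh x y := fun x y => by
      simp only [A, Matrix.smul_mulVec, h_smul_left, h_smul_right hF, su_form g]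
      linear_combination hh x y * hll
    have hAs : ∀ x y, hh (A *ᵥ x) y = hh x (A *ᵥ y) := fun x y => by
      conv_lhs => rw [← hAA y]
      exact hAh _ _
    let B : (Fin n → F) → (Fin n → F) → F := fun x y => hh (A *ᵥ x) y + hh x y
    have hBs : ∀ x y, qFrob hF (B x y) = B y x := fun x y => by
      simp only [B, map_add, cj_h hF]
      rw [hAs y x]
    obtain ⟨w, hw0, hw1, hww, hwc, -⟩ := exists_omega h4
    have hpol : ∀ (S : (Fin n → F) → Prop), (∀ x y, S x → S y → S (x + y)) →
        (∀ (a : F) x, S x → S (a • x)) → (∀ x, S x → B x x = 0) → ∀ x y, S x → S y → B x y = 0 := by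
      intro S hadd hsmul hz x y hx hy
      have h1 := hz _ (hadd _ _ hx hy)
      have h2 := hz _ (hadd _ _ (hsmul w _ hx) hy)
      simp only [B, Matrix.mulVec_add, Matrix.mulVec_smul, h_add_left, h_add_right hF, h_smul_left,
        h_smul_right hF, hwc] at h1 h2
      have hzx := hz x hx
      have hzy := hz y hy
      simp only [B] at hzx hzy ⊢
      linear_combination h2 - w * (w + 1) * hzx - hzy - (w + 1) * (h1 - hzx - hzy)
        + (hh (A *ᵥ x) y + hh x y) * add_self h4 (1 : F)
    have hB0 : ∀ x, (∀ y, B x y = 0) → A *ᵥ x = x := fun x hx => by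
      refine sub_eq_zero.mp (eq_zero_of_h hF fun y => ?_)
      rw [h_sub_left, sub_eq_add_neg, neg_eq h4]
      exact hx y
    have hval : ∀ x, B x x = 0 ∨ B x x = 1 := fun x => real_zero_or_one h4 (hBs x x)
    obtain ⟨a, haa⟩ : ∃ a, B a a = 1 := by
      by_contra hcon
      push Not at hcon
      refine hne ((pi_eq_one_iff hF).2 ⟨l⁻¹, Matrix.ext_iff_mulVec.2 fun x => ?_⟩)
      have := hB0 x fun y => hpol (fun _ => True) (fun _ _ _ _ => trivial) (fun _ _ _ => trivial)
        (fun z _ => (hval z).resolve_right (hcon z)) x y trivial trivial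
      conv_rhs => rw [Matrix.smul_mulVec, Matrix.one_mulVec, ← this]
      simp [A, Matrix.smul_mulVec, smul_smul, inv_mul_cancel₀ hl0]
    by_cases htwo : ∃ b, B b a = 0 ∧ B b b = 1
    · exfalso
      obtain ⟨b, hba, hbb⟩ := htwo
      let N : (Fin n → F) → (Fin n → F) := fun x => A *ᵥ x + x
      have hN : ∀ x y, hh (N x) y = B x y := fun x y => by simp only [N, B, h_add_left]
      have hN' : ∀ x y, hh x (N y) = B x y := fun x y => by
        simp only [N, B, h_add_right hF, hAs]
      have hAN : ∀ x, A *ᵥ N x = N x := fun x => by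
        simp only [N, Matrix.mulVec_add, hAA, add_comm]
      have hNN : ∀ x y, hh (N x) (N y) = 0 := fun x y => by
        rw [hN', show B (N x) y = hh (A *ᵥ N x) y + hh (N x) y from rfl, hAN, add_self h4]
      have hBN : ∀ x u y v, B (x + (N u)) (y + N v) = B x y := fun x u y v => by
        rw [← hN, show N (x + N u) = N x from by
          simp only [N, Matrix.mulVec_add]
          have := hAN u
          simp only [N, Matrix.mulVec_add] at this
          rw [show A *ᵥ x + (A *ᵥ (A *ᵥ u) + A *ᵥ u) + (x + (A *ᵥ u + u)) =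
            (A *ᵥ x + x) + ((A *ᵥ (A *ᵥ u) + A *ᵥ u) + (A *ᵥ u + u)) by abel, this]
          rw [show A *ᵥ u + u + (A *ᵥ u + u) = ((1 : F) + 1) • (A *ᵥ u + u) by
            rw [add_smul, one_smul], add_self h4, zero_smul, add_zero],
          h_add_right hF, hN, hNN, add_zero]
      have hNs : ∀ (c : F) x, N (c • x) = c • N x := fun c x => by
        simp only [N, Matrix.mulVec_smul, smul_add]
      have hab : B a b = 0 := by rw [← hBs b a, hba, map_zero]
      obtain ⟨α, hα⟩ := exists_trace_eq hF (a := hh a a) (cj_h hF a a)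
      have hN0 : N 0 = 0 := by simpa using hNs 0 0
      have hBl : ∀ x u y, B (x + N u) y = B x y := fun x u y => by simpa [hN0] using hBN x u y 0
      have hBr : ∀ x y v, B x (y + N v) = B x y := fun x y v => by simpa [hN0] using hBN x 0 y v
      have k1 : hh a (N a) = 1 := (hN' _ _).trans haa
      have k2 : hh (N a) a = 1 := (hN _ _).trans haa
      let a1 := a + N (α • a)
      have ha1 : hh a1 a1 = 0 := by
        simp only [a1, hNs, h_add_left, h_add_right hF, h_smul_left, h_smul_right hF, k1, k2, hNN]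
        linear_combination hα + add_self h4 (hh a a)
      obtain ⟨c, hc⟩ : ∃ c, qFrob hF c = 1 + hh a1 b := ⟨qFrob hF (1 + hh a1 b), cj_cj hF _⟩
      let b0 := b + N (c • a)
      have hb0 : hh a1 b0 = 1 := by
        have : hh a1 (N a) = 1 := by
          rw [hN']
          exact (hBl a _ a).trans haa
        simp only [b0, hNs, h_add_right hF, h_smul_right hF, this, hc, mul_one]
        linear_combination add_self h4 (hh a1 b)
      obtain ⟨β, hβ⟩ := exists_trace_eq hF (a := hh b0 b0) (cj_h hF b0 b0)
      let b1 := b0 + N (β • b)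
      have hb0N : hh b0 (N b) = 1 := by
        rw [hN']
        exact (hBl b _ b).trans hbb
      have ha1N : hh a1 (N b) = 0 := by
        rw [hN']
        exact (hBl a _ b).trans hab
      have hb1 : hh b1 b1 = 0 := by
        simp only [b1, hNs, h_add_left, h_add_right hF, h_smul_left, h_smul_right hF, hNN, hb0N,
          ← cj_h hF b0 (N b), map_one]
        linear_combination hβ + add_self h4 (hh b0 b0)
      have hab1 : hh a1 b1 = 1 := by
        simp only [b1, hNs, h_add_right hF, h_smul_right hF, ha1N, hb0, mul_zero, add_zero]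
      have hBaa : B a1 a1 = 1 := by simp only [a1, hBl, hBr]; exact haa
      have hBbb : B b1 b1 = 1 := by
        simp only [b1, b0, hBl, hBr]; exact hbb
      have hBab : B a1 b1 = 0 := by
        simp only [a1, b1, b0, hBl, hBr]; exact hab
      let a2 := A *ᵥ a1
      let b2 := A *ᵥ b1
      have ha2 : hh a2 a2 = 0 := by simp only [a2, hAh, ha1]
      have hb2 : hh b2 b2 = 0 := by simp only [b2, hAh, hb1]
      have g1 : hh a2 a1 = 1 := by simpa [B, a2, ha1] using hBaa
      have g2 : hh b2 b1 = 1 := by simpa [B, b2, hb1] using hBbb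
      have g3 : hh a2 b1 = 1 := by
        have : hh a2 b1 + 1 = 0 := by simpa [B, a2, hab1] using hBab
        rw [eq_neg_of_add_eq_zero_left this, neg_eq h4]
      have g4 : hh a2 b2 = 1 := by simp only [a2, b2, hAh, hab1]
      have g5 : hh a1 b2 = 1 := by simp only [b2, ← hAs]; exact g3
      have r1 : hh a1 a2 = 1 := by rw [← cj_h hF, g1, map_one]
      have r2 : hh b1 b2 = 1 := by rw [← cj_h hF, g2, map_one]
      have r3 : hh b1 a2 = 1 := by rw [← cj_h hF, g3, map_one]
      have r4 : hh b2 a2 = 1 := by rw [← cj_h hF, g4, map_one]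
      have r5 : hh b2 a1 = 1 := by rw [← cj_h hF, g5, map_one]
      have r6 : hh b1 a1 = 1 := by rw [← cj_h hF, hab1, map_one]
      let m : SU n F 2 := tv h4 ha2 * tv h4 hb2 * tv h4 hb1 * tv h4 ha1
      let y : SU n F 2 := tv h4 ha1 * tv h4 hb1
      have hconj : ∀ (v : Fin n → F) (hv : hh v v = 0) (hv' : hh (A *ᵥ v) (A *ᵥ v) = 0),
          π g * π (tv h4 hv) * (π g)⁻¹ = π (tv h4 hv') := fun v hv hv' => by
        rw [← map_inv, ← map_mul, ← map_mul, suVal_conj h4 g hv]
        congr 1
        refine suVal_ext ?_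
        rw [suVal_tv h4, suVal_tv h4, show A *ᵥ v = l • (suVal g *ᵥ v) from Matrix.smul_mulVec _ _ _,
          T_smul h4 hl0]
      have hm : π g * (π y * π g * (π y)⁻¹) = π m := by
        have i1 := inv_eq_of_mul_eq_one_right (tv_mul_self h4 ha1)
        have i2 := inv_eq_of_mul_eq_one_right (tv_mul_self h4 hb1)
        have ig : (π g)⁻¹ = π g := inv_eq_of_mul_eq_one_right (by rw [← map_mul]; exact hx1)
        have e1 := hconj a1 ha1 ha2
        have e2 := hconj b1 hb1 hb2
        simp only [m, y, map_mul, _root_.mul_inv_rev, ← map_inv π (tv h4 ha1), ← map_inv π (tv h4 hb1), i1, i2,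
          ← e1, ← e2]
        rw [ig]
        simp only [mul_assoc]
        simp only [← mul_assoc (π g) (π g), show π g * π g = 1 by rw [← map_mul]; exact hx1, one_mul]
      have key := hE.1.2 _ hx _ (hmem (π y) _ hx)
      rw [hm] at key
      have hM : ∀ u, suVal m *ᵥ u = tvFun a2 (tvFun b2 (tvFun b1 (tvFun a1 u))) := fun u => by
        simp only [m, suVal_mul, ← Matrix.mulVec_mulVec, suVal_tv, T_apply h4, tvFun]
      have two : ((1 : F) + 1) = 0 := add_self h4 1
      have two2 : (2 : F) = 0 := by rw [← one_add_one_eq_two, two]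
      have s1 : suVal m *ᵥ a1 = a1 + b1 := by
        simp only [hM, tvFun, ha1, hb1, hab1, r1, r2, r3, r4, r5, r6, g1, g2, g3, g4, g5, h_add_left,
          zero_smul, one_smul, add_zero, zero_add, two]
      have s2 : suVal m *ᵥ (a1 + b1) = b1 + b2 := by
        simp only [hM, tvFun, ha1, hb1, hab1, r1, r2, r3, r4, r5, r6, g1, g2, g3, g4, g5, h_add_left,
          h_smul_left, ha2, hb2, zero_smul, one_smul, add_zero, zero_add, two, mul_one, mul_zero]
        match_scalars <;> ring_nf <;> simp [two2]
      have s3 : suVal m *ᵥ (b1 + b2) = a2 + b2 := by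
        simp only [hM, tvFun, ha1, hb1, hab1, r1, r2, r3, r4, r5, r6, g1, g2, g3, g4, g5, h_add_left,
          h_smul_left, ha2, hb2, zero_smul, one_smul, add_zero, zero_add, two, mul_one, mul_zero]
        match_scalars <;> ring_nf <;> simp [two2]
      rcases key with k | k
      · rw [← map_pow] at k
        obtain ⟨μ, hμ⟩ := (pi_eq_one_iff hF).1 k
        have := congrArg (· *ᵥ a1) hμ
        simp only [pow_two, suVal_mul, ← Matrix.mulVec_mulVec, s1, s2, Matrix.smul_mulVec,
          Matrix.one_mulVec] at this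
        have k1 := congrArg (hh · a2) this
        have k2 := congrArg (hh · b1) this
        simp only [h_add_left, h_smul_left, r3, r4, r1, hb1, g2, hab1, two, mul_one, zero_add] at k1 k2
        exact one_ne_zero (k2.trans k1.symm)
      · rw [← map_pow] at k
        obtain ⟨μ, hμ⟩ := (pi_eq_one_iff hF).1 k
        have := congrArg (· *ᵥ a1) hμ
        simp only [pow_succ, pow_zero, one_mul, suVal_mul, ← Matrix.mulVec_mulVec, s1, s2, s3,
          Matrix.smul_mulVec, Matrix.one_mulVec] at this
        have k1 := congrArg (hh · a2) this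
        have k2 := congrArg (hh · b1) this
        simp only [h_add_left, h_smul_left, ha2, r4, r1, g3, g2, hab1, two, mul_one, zero_add] at k1 k2
        exact one_ne_zero (k1.trans k2.symm)
    · push Not at htwo
      let v := A *ᵥ a + a
      have hS : ∀ x y, B x a = 0 → B y a = 0 → B x y = 0 :=
        hpol (fun z => B z a = 0)
          (fun x y hx hy => by
            simp only [B, Matrix.mulVec_add, h_add_left] at hx hy ⊢
            linear_combination hx + hy)
          (fun c x hx => by
            simp only [B, Matrix.mulVec_smul, h_smul_left] at hx ⊢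
            linear_combination c * hx)
          (fun x hx => (hval x).resolve_right (htwo x hx))
      have hAx : ∀ x, A *ᵥ x = x + hh x v • v := fun x => by
        have hz : B (x - B x a • a) a = 0 := by
          simp only [B, Matrix.mulVec_sub, Matrix.mulVec_smul, h_sub_left, h_smul_left] at haa ⊢
          linear_combination -(hh (A *ᵥ x) a + hh x a) * haa
        have hfix : A *ᵥ (x - B x a • a) = x - B x a • a := by
          refine hB0 _ fun y => ?_
          have h1 := hS _ (y - B y a • a) hz (by
            simp only [B, Matrix.mulVec_sub, Matrix.mulVec_smul, h_sub_left, h_smul_left] at haa ⊢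
            linear_combination -(hh (A *ᵥ y) a + hh y a) * haa)
          simp only [B, h_sub_right hF, h_smul_right hF] at h1 hz ⊢
          linear_combination h1 + qFrob hF (hh (A *ᵥ y) a + hh y a) * hz
        have hxv : hh x v = B x a := by simp only [v, B, h_add_right hF, hAs]
        rw [hxv]
        rw [Matrix.mulVec_sub, Matrix.mulVec_smul, sub_eq_iff_eq_add] at hfix
        rw [hfix]
        have : (1 + 1 : F) • (B x a • a) = 0 := by rw [add_self h4, zero_smul]
        rw [add_smul, one_smul] at this
        simp only [v, smul_add]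
        linear_combination (norm := module) (-1 : F) • this
      have hvv : hh v v = 0 := by
        simp only [v, h_add_left, h_add_right hF, hAh, ← hAs, Matrix.mulVec_add, hAA]
        linear_combination add_self h4 (hh a a + hh (A *ᵥ a) a)
      have hv0 : v ≠ 0 := fun h0 => one_ne_zero (α := F) (by
        rw [← haa, show B a a = hh v a by simp only [B, v, h_add_left], h0, h_zero_left])
      refine ⟨v, hv0, hvv, (pi_eq_iff hF).2 ⟨l, ?_⟩⟩
      refine Matrix.ext_iff_mulVec.2 fun x => ?_
      rw [suVal_tv h4, T_apply h4, ← hAx]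
  refine Set.Subset.antisymm hsub ?_
  obtain ⟨d, hd, -⟩ := hE.2.1
  obtain ⟨u, hu0, huu, rfl⟩ := hsub hd
  rintro _ ⟨v, hv0, hvv, rfl⟩
  obtain ⟨s, hs⟩ := su_transitive hF hn hu0 huu hv0 hvv
  have := hmem (π s) _ hd
  rwa [root, ← map_inv, ← map_mul, ← map_mul, suVal_conj h4 s huu,
    show π (tv h4 (v := suVal s *ᵥ u) (by rw [su_form]; exact huu)) = root h4 hvv from
      root_congr h4 _ hvv hs] at this

end Cfsg.Agent.Block.FischerTypes.U6
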