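import Cfsg.Agent.Lib.Block.FischerTypes.U6Three

/-! Counting the transvections of `PSU_n(2)`. -/

set_option autoImplicit false
set_option linter.style.haveILetI false
set_option linter.unusedSectionVars false

namespace Cfsg.Agent.Block.FischerTypes.U6

open Matrix Cfsg Cfsg.Agent.Classical Cfsg.Agent.Classical.PSUAut Cfsg.Agent.Spor.UnitTwo
open Cfsg.Agent.Spor

variable {F : Type} [Field F] [Fintype F] {n : ℕ} (h4 : Fintype.card F = 4)

local notation "hh" => hermForm n F 2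
local notation "hF" => card_sq h4

include h4

theorem h_cons (a b : F) (u v : Fin n → F) :
    hermForm (n + 1) F 2 (Fin.cons a u) (Fin.cons b v) = a * b ^ 2 + hh u v := by
  simp [hermForm, Fin.sum_univ_succ]

theorem sum_field {α : Type*} [AddCommMonoid α] (f : F → α) (c : α) (hf : ∀ a, a ≠ 0 → f a = c) :
    ∑ a, f a = f 0 + 3 • c := by
  classical
  rw [← Finset.add_sum_erase _ f (Finset.mem_univ (0 : F)),
    Finset.sum_congr rfl (fun a ha => hf a (Finset.ne_of_mem_erase ha)), Finset.sum_const,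
    Finset.card_erase_of_mem (Finset.mem_univ _), Finset.card_univ, h4]

theorem norm_cube {a : F} (ha : a ≠ 0) : a * a ^ 2 = 1 := by
  have := norm_one h4 ha
  rwa [qFrob_apply] at this

theorem iso_step (n : ℕ) (c : F) :
    Nat.card {v : Fin (n + 1) → F // hermForm (n + 1) F 2 v v = c} =
      Nat.card {v : Fin n → F // hermForm n F 2 v v = c} +
        3 * Nat.card {v : Fin n → F // hermForm n F 2 v v = c + 1} := by
  classical
  let e : {v : Fin (n + 1) → F // hermForm (n + 1) F 2 v v = c} ≃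
      Σ a : F, {v : Fin n → F // a * a ^ 2 + hermForm n F 2 v v = c} :=
    { toFun := fun v => ⟨v.1 0, Fin.tail v.1, by
        rw [← h_cons h4, Fin.cons_self_tail]; exact v.2⟩
      invFun := fun p => ⟨Fin.cons p.1 p.2.1, (h_cons h4 _ _ _ _).trans p.2.2⟩
      left_inv := fun v => Subtype.ext (Fin.cons_self_tail v.1)
      right_inv := fun p => by
        rcases p with ⟨a, v, hv⟩
        exact Sigma.subtype_ext (by simp) (by simp) }
  rw [Nat.card_congr e, Nat.card_sigma,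
    sum_field h4 _ (Nat.card {v : Fin n → F // hermForm n F 2 v v = c + 1})]
  · rw [smul_eq_mul]
    congr 1
    exact Nat.card_congr (Equiv.subtypeEquivRight fun v => by simp)
  · intro a ha
    refine Nat.card_congr (Equiv.subtypeEquivRight fun v => ?_)
    rw [norm_cube h4 ha]
    constructor
    · intro k; linear_combination k + (-1 : F) * add_self h4 1
    · intro k; linear_combination k + c * 0 + add_self h4 (1 : F)

theorem iso_count :
    Nat.card {v : Fin 2 → F // hermForm 2 F 2 v v = 0} = 10 ∧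
    Nat.card {v : Fin 4 → F // hermForm 4 F 2 v v = 0} = 136 ∧
    Nat.card {v : Fin 6 → F // hermForm 6 F 2 v v = 0} = 2080 := by
  classical
  have h0 : ∀ c : F, Nat.card {v : Fin 0 → F // hermForm 0 F 2 v v = c} = if c = 0 then 1 else 0 := by
    intro c
    split_ifs with k
    · subst k
      haveI : Unique {v : Fin 0 → F // hermForm 0 F 2 v v = 0} :=
        ⟨⟨⟨0, by simp [hermForm]⟩⟩, fun v => Subtype.ext (Subsingleton.elim _ _)⟩
      exact Nat.card_unique
    · haveI : IsEmpty {v : Fin 0 → F // hermForm 0 F 2 v v = c} :=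
        ⟨fun v => k (by rw [← v.2]; simp [hermForm])⟩
      exact Nat.card_of_isEmpty
  have e : (1 : F) + 1 = 0 := add_self h4 1
  have s := iso_step h4
  have z : ∀ n, Nat.card {v : Fin (n + 1) → F // hermForm (n + 1) F 2 v v = 0} =
      Nat.card {v : Fin n → F // hermForm n F 2 v v = 0} +
        3 * Nat.card {v : Fin n → F // hermForm n F 2 v v = 1} := fun n => by
    rw [s n 0, zero_add]
  have o : ∀ n, Nat.card {v : Fin (n + 1) → F // hermForm (n + 1) F 2 v v = 1} =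
      Nat.card {v : Fin n → F // hermForm n F 2 v v = 1} +
        3 * Nat.card {v : Fin n → F // hermForm n F 2 v v = 0} := fun n => by
    rw [s n 1, e]
  have a0 := h0 0
  have b0 := h0 1
  rw [if_pos rfl] at a0
  rw [if_neg one_ne_zero] at b0
  have := z 0; have := o 0; have := z 1; have := o 1; have := z 2; have := o 2; have := z 3
  have := o 3; have := z 4; have := o 4; have := z 5
  simp only [Nat.reduceAdd] at *
  omega

theorem iso_ne {k : ℕ} (hk : Nat.card {v : Fin n → F // hh v v = 0} = k + 1) :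
    Nat.card {v : Fin n → F // v ≠ 0 ∧ hh v v = 0} = k := by
  classical
  have h1 : Nat.card {v : Fin n → F // v ≠ 0 ∧ hh v v = 0} = ({v | hh v v = 0} \ {0} : Set (Fin n → F)).ncard := by
    rw [← Nat.card_coe_set_eq]
    exact Nat.card_congr (Equiv.subtypeEquivRight fun v => by simp [and_comm])
  rw [h1, Set.ncard_diff_singleton_of_mem (show (0 : Fin n → F) ∈ {v | hh v v = 0} by simp [hermForm]),
    ← Nat.card_coe_set_eq, Set.coe_setOf, hk]
  rfl

/-- Each root has three vectors. -/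
theorem roots_count (hn : 1 ≤ n) (P : (Fin n → F) → Prop) (Q : PSU n F 2 → Prop)
    (hPQ : ∀ v (hv : hh v v = 0), v ≠ 0 → (Q (root h4 hv) ↔ P v)) :
    Nat.card {v : Fin n → F // v ≠ 0 ∧ hh v v = 0 ∧ P v} = {r ∈ roots h4 n | Q r}.ncard * 3 := by
  classical
  let f : {v : Fin n → F // v ≠ 0 ∧ hh v v = 0 ∧ P v} → ↥{r ∈ roots h4 n | Q r} := fun v =>
    ⟨root h4 v.2.2.1, ⟨v.1, v.2.1, v.2.2.1, rfl⟩, (hPQ _ v.2.2.1 v.2.1).mpr v.2.2.2⟩
  rw [Nat.card_congr (Equiv.sigmaFiberEquiv f).symm, Nat.card_sigma, Finset.sum_congr rfl, Finset.sum_const,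
    smul_eq_mul, Finset.card_univ, ← Nat.card_eq_fintype_card, Nat.card_coe_set_eq]
  rintro ⟨_, ⟨v, hv0, hv, rfl⟩, hQ⟩ -
  have key : ∀ a : {a : F // a ≠ 0}, hh (a.1 • v) (a.1 • v) = 0 := fun a => by
    rw [h_smul_left, h_smul_right hF, hv, mul_zero, mul_zero]
  let g : {a : F // a ≠ 0} → {x // f x = ⟨root h4 hv, ⟨v, hv0, hv, rfl⟩, hQ⟩} := fun a =>
    ⟨⟨a.1 • v, smul_ne_zero a.2 hv0, key a, (hPQ _ (key a) (smul_ne_zero a.2 hv0)).mp
      (by rw [root_smul h4 hv a.2]; exact hQ)⟩, Subtype.ext (root_smul h4 hv a.2 _)⟩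
  rw [← Nat.card_congr (Equiv.ofBijective g ⟨fun a b k => Subtype.ext (smul_left_injective F hv0
    (congrArg (fun x => x.1.1) k)), fun ⟨⟨u, hu0, hu, hP⟩, k⟩ => ?_⟩)]
  · rw [Nat.card_eq_fintype_card, Fintype.card_subtype_compl, Fintype.card_subtype_eq, h4]
  · obtain ⟨a, ha, rfl⟩ := root_eq h4 hn hu hv hu0 (congrArg Subtype.val k)
    exact ⟨⟨a, ha⟩, rfl⟩

theorem roots_card : (roots h4 6).ncard = 693 := by
  have h := roots_count h4 (n := 6) (by norm_num) (fun _ => True) (fun _ => True) fun _ _ _ => Iff.rfl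
  have e : Nat.card {v : Fin 6 → F // v ≠ 0 ∧ hermForm 6 F 2 v v = 0 ∧ True} = 2079 :=
    (Nat.card_congr (Equiv.subtypeEquivRight fun v => by simp)).trans
      (iso_ne h4 (iso_count h4).2.2)
  rw [e, Set.sep_true] at h
  omega

theorem perp_iff (hn : 1 ≤ n) {u v : Fin n → F} (hu : hh u u = 0) (hv : hh v v = 0) (hu0 : u ≠ 0)
    (hv0 : v ≠ 0) : root h4 hv ∈ ThreeTrans.perp (roots h4 n) (root h4 hu) ↔
      hh v u = 0 ∧ ∀ a : F, v ≠ a • u := by
  constructor
  · rintro ⟨-, hne, hc⟩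
    refine ⟨(root_commute h4 hn hv hu hv0 hu0).mp hc.symm, fun a e => hne ?_⟩
    have ha : a ≠ 0 := fun k => hv0 (by rw [e, k, zero_smul])
    rw [root_congr h4 hv (e ▸ hv) e]
    exact root_smul h4 hu ha _
  · rintro ⟨hc, hne⟩
    refine ⟨⟨v, hv0, hv, rfl⟩, fun k => ?_, ((root_commute h4 hn hv hu hv0 hu0).mpr hc).symm⟩
    obtain ⟨a, -, e⟩ := root_eq h4 hn hv hu hv0 k
    exact hne a e

/-- The transvections form a class. -/
theorem roots_class' (hn : 4 ≤ n) : IsThreeTranspositionClass (roots h4 n) := by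
  have h := UnitTwo.isThreeTranspositionClass (n := n) h4 hn
  have hE : IsThreeTranspositionClass (suToPSU n F 2 '' {g : SU n F 2 | (suVal g - 1).rank = 1}) := by
    refine ⟨⟨?_, ?_⟩, ?_, ?_⟩
    · rintro _ ⟨x, hx, rfl⟩
      obtain ⟨v, hv0, hv, rfl⟩ := (rank_one_iff h4 x).mp hx
      refine orderOf_eq_prime (by rw [pow_two, ← map_mul, tv_mul_self, map_one]) ?_
      exact tv_ne_one hF (by omega) hv0 hv (by rw [map_one, add_self h4]) one_ne_zero (suVal_tv h4 hv)
    · rintro _ ⟨x, hx, rfl⟩ _ ⟨y, hy, rfl⟩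
      rcases h.1.2 x hx y hy with k | k
      · exact Or.inl (by rw [← map_mul, ← map_pow, k, map_one])
      · exact Or.inr (by rw [← map_mul, ← map_pow, k, map_one])
    · obtain ⟨d, hd, hc⟩ := h.2.1
      refine ⟨suToPSU n F 2 d, Set.mem_image_of_mem _ hd, Set.ext fun y => ⟨?_, fun hy => ?_⟩⟩
      · rintro ⟨x, hx, rfl⟩
        rw [hc] at hx
        obtain ⟨g, rfl⟩ := isConj_iff.mp hx
        exact isConj_iff.mpr ⟨suToPSU n F 2 g, by simp⟩
      · obtain ⟨g, rfl⟩ := isConj_iff.mp hy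
        obtain ⟨g, rfl⟩ := pi_surjective (n := n) (F := F) (q := 2) g
        refine ⟨g * d * g⁻¹, ?_, by simp⟩
        rw [hc]
        exact isConj_iff.mpr ⟨_, rfl⟩
    · rw [← MonoidHom.map_closure, h.2.2]
      exact Subgroup.map_top_of_surjective _ pi_surjective
  have := class_eq h4 (by omega) hE
  rwa [this] at hE

theorem perp_card_step {m k : ℕ} (hm : 4 ≤ m + 2)
    (hk : Nat.card {v : Fin m → F // hermForm m F 2 v v = 0} = k + 1) {r : PSU (m + 2) F 2}
    (hr : r ∈ roots h4 (m + 2)) : (ThreeTrans.perp (roots h4 (m + 2)) r).ncard * 3 = 4 * k := by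
  classical
  have h := roots_class' h4 hm
  obtain ⟨P, hPdef⟩ : ∃ P : Fin (m + 2) → F, P = Fin.cons 1 (Fin.cons 1 0) := ⟨_, rfl⟩
  have hz : hermForm m F 2 (0 : Fin m → F) 0 = 0 := by simp [hermForm]
  have hPP : hermForm (m + 2) F 2 P P = 0 := by
    rw [hPdef, h_cons h4, h_cons h4, hz, one_pow, one_mul, add_zero, add_self h4]
  have hP0 : P ≠ 0 := fun k => one_ne_zero (α := F) (by simpa [hPdef] using congrFun k 0)
  obtain ⟨g, hg⟩ := ThreeTrans.transitive h hr ⟨P, hP0, hPP, rfl⟩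
  have e1 : (ThreeTrans.perp (roots h4 (m + 2)) r).ncard =
      (ThreeTrans.perp (roots h4 (m + 2)) (root h4 hPP)).ncard := by
    refine Set.ncard_congr (fun u _ => g * u * g⁻¹) (fun u hu => ⟨ThreeTrans.conj_mem h g hu.1,
      fun e => hu.2.1 (by rw [← hg] at e; simpa using e), hg ▸ (ThreeTrans.commute_conj_iff g r u).mpr hu.2.2⟩)
      (fun u v _ _ e => by simpa using e) fun u hu => ?_
    refine ⟨g⁻¹ * u * g, ⟨by simpa using ThreeTrans.conj_mem h g⁻¹ hu.1, fun e => hu.2.1 ?_, ?_⟩, by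
      simp [mul_assoc]⟩
    · rw [← hg, ← e]; simp [mul_assoc]
    · rw [← ThreeTrans.commute_conj_iff g, hg]
      simpa [mul_assoc] using hu.2.2
  have h2 := roots_count h4 (n := m + 2) (by omega)
    (fun v => hermForm (m + 2) F 2 v P = 0 ∧ ∀ a : F, v ≠ a • P)
    (fun x => x ∈ ThreeTrans.perp (roots h4 (m + 2)) (root h4 hPP))
    fun v hv hv0 => perp_iff h4 (by omega) hPP hv hP0 hv0
  rw [show {x ∈ roots h4 (m + 2) | x ∈ ThreeTrans.perp (roots h4 (m + 2)) (root h4 hPP)} =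
    ThreeTrans.perp (roots h4 (m + 2)) (root h4 hPP) from
      Set.ext fun x => ⟨fun k => k.2, fun k => ⟨k.1, k⟩⟩, ← e1] at h2
  rw [← h2, ← iso_ne h4 hk, show 4 = Nat.card F by rw [Nat.card_eq_fintype_card, h4], ← Nat.card_prod]
  symm
  refine Nat.card_eq_of_bijective (fun p => ⟨Fin.cons p.1 (Fin.cons p.1 p.2.1), ?_, ?_, ?_, ?_⟩)
    ⟨fun p q e => ?_, fun ⟨v, hv0, hv, hvP, hne⟩ => ?_⟩
  · exact fun e => p.2.2.1 (funext fun i => by simpa using congrFun e i.succ.succ)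
  · rw [h_cons h4, h_cons h4, p.2.2.2, add_zero, add_self h4]
  · rw [hPdef, h_cons h4, h_cons h4, show hermForm m F 2 p.2.1 0 = 0 by simp [hermForm], one_pow, mul_one,
      add_zero, add_self h4]
  · intro a e
    refine p.2.2.1 (funext fun i => ?_)
    simpa [hPdef] using congrFun e i.succ.succ
  · have e' := congrArg Subtype.val e
    exact Prod.ext (by simpa using congrFun e' 0)
      (Subtype.ext (funext fun i => by simpa using congrFun e' i.succ.succ))
  · obtain ⟨x, v, rfl⟩ : ∃ x w, v = Fin.cons x w := ⟨v 0, Fin.tail v, (Fin.cons_self_tail v).symm⟩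
    obtain ⟨y, u, rfl⟩ : ∃ y w, v = Fin.cons y w := ⟨v 0, Fin.tail v, (Fin.cons_self_tail v).symm⟩
    rw [hPdef, h_cons h4, h_cons h4, show hermForm m F 2 u 0 = 0 by simp [hermForm], one_pow, mul_one,
      mul_one, add_zero] at hvP
    have hxy : y = x := by linear_combination hvP - add_self h4 x
    subst hxy
    rw [h_cons h4, h_cons h4, ← add_assoc, add_self h4, zero_add] at hv
    refine ⟨(y, ⟨u, fun e => hne y ?_, hv⟩), rfl⟩
    rw [hPdef, e]
    funext i
    refine Fin.cases (by simp) (fun j => Fin.cases (by simp) (fun l => by simp) j) i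

theorem perp_card {r : PSU 6 F 2} (hr : r ∈ roots h4 6) :
    (ThreeTrans.perp (roots h4 6) r).ncard = 180 := by
  have : (ThreeTrans.perp (roots h4 6) r).ncard * 3 = 4 * 135 :=
    perp_card_step h4 (m := 4) (k := 135) (by norm_num) (iso_count h4).2.1 hr
  omega

/-- Roots commuting with two apart roots and a third: twelve. -/
theorem three_card {p q r : PSU 6 F 2} (hp : p ∈ roots h4 6) (hq : q ∈ roots h4 6)
    (hpq : ¬ Commute p q) (hr : r ∈ roots h4 6) (hrp : Commute r p) (hrq : Commute r q) :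
    {u ∈ ThreeTrans.perp (roots h4 6) r | Commute u p ∧ Commute u q}.ncard = 12 := by
  classical
  obtain ⟨w, hw0, hw1, hww, hwc, -⟩ := exists_omega h4
  have h := roots_class h4
  have hn : (1 : ℕ) ≤ 6 := by norm_num
  obtain ⟨g, hgp, hgq⟩ := pair_conj h4 hw0 hwc hp hq hpq
  have e1 : {u ∈ ThreeTrans.perp (roots h4 6) r | Commute u p ∧ Commute u q}.ncard =
      {u ∈ ThreeTrans.perp (roots h4 6) (g * r * g⁻¹) |
        Commute u (p0 h4) ∧ Commute u (root h4 (hQ0 h4 hw0))}.ncard := by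
    rw [← hgp, ← hgq]
    refine Set.ncard_congr (fun u _ => g * u * g⁻¹)
      (fun u hu => ⟨⟨ThreeTrans.conj_mem h g hu.1.1, fun e => hu.1.2.1 (by simpa using e),
        (ThreeTrans.commute_conj_iff g r u).mpr hu.1.2.2⟩, (ThreeTrans.commute_conj_iff g u p).mpr hu.2.1,
        (ThreeTrans.commute_conj_iff g u q).mpr hu.2.2⟩)
      (fun u v _ _ e => by simpa using e) fun u hu => ?_
    obtain ⟨u, rfl⟩ : ∃ v, u = g * v * g⁻¹ := ⟨g⁻¹ * u * g, by simp [mul_assoc]⟩
    exact ⟨u, ⟨⟨by simpa [mul_assoc] using ThreeTrans.conj_mem h g⁻¹ hu.1.1, fun e => hu.1.2.1 (by rw [e]),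
      (ThreeTrans.commute_conj_iff g r u).mp hu.1.2.2⟩, (ThreeTrans.commute_conj_iff g u p).mp hu.2.1,
      (ThreeTrans.commute_conj_iff g u q).mp hu.2.2⟩, rfl⟩
  obtain ⟨R, hR0, hRR, eR⟩ := ThreeTrans.conj_mem h g hr
  have hQne : Q0 w ≠ 0 := fun k => hw0 (by rw [← hPQ0 h4 hwc, k, h_zero_right hF])
  have zero_fst : ∀ a : Fin 2 → F, ∀ b : Fin 4 → F,
      (hermForm 6 F 2 (cat a b) P0 = 0 ∧ hermForm 6 F 2 (cat a b) (Q0 w) = 0) ↔ a = 0 := by
    intro a b
    rw [P0, h_cat, Q0, h_cat]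
    constructor
    · rintro ⟨k1, k2⟩
      simp [hermForm, Fin.sum_univ_two] at k1 k2
      have ha0 : a 0 = 0 := by
        have : a 0 * w = 0 := by
          linear_combination k1 + k2 - (a 0 + a 1) * add_self h4 (1 : F) - a 0 * hww
        exact (mul_eq_zero.mp this).resolve_right hw0
      funext i
      fin_cases i
      · exact ha0
      · show a 1 = 0
        linear_combination k1 - ha0
    · rintro rfl
      simp [hermForm]
  obtain ⟨a, b₀, rfl⟩ := cat_split R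
  have ha : a = 0 := (zero_fst a b₀).mp
    ⟨(root_commute h4 hn hRR (hP0 h4) hR0 (P0_ne h4)).mp (by
      show Commute (root h4 hRR) (p0 h4)
      rw [← hgp, eR]; exact (ThreeTrans.commute_conj_iff g r p).mpr hrp),
     (root_commute h4 hn hRR (hQ0 h4 hw0) hR0 hQne).mp (by
      rw [← hgq, eR]; exact (ThreeTrans.commute_conj_iff g r q).mpr hrq)⟩
  subst ha
  have hb0 : b₀ ≠ 0 := fun e => hR0 (by rw [e, cat_zero])
  have hb : hermForm 4 F 2 b₀ b₀ = 0 := by
    rw [h_cat] at hRR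
    simpa [hermForm] using hRR
  rw [e1, ← eR]
  have h2 := roots_count h4 (n := 6) hn
    (fun v => (hermForm 6 F 2 v (cat 0 b₀) = 0 ∧ ∀ a : F, v ≠ a • cat 0 b₀) ∧
      hermForm 6 F 2 v P0 = 0 ∧ hermForm 6 F 2 v (Q0 w) = 0)
    (fun x => x ∈ ThreeTrans.perp (roots h4 6) (root h4 hRR) ∧
      Commute x (p0 h4) ∧ Commute x (root h4 (hQ0 h4 hw0)))
    fun v hv hv0 => and_congr (perp_iff h4 hn hRR hv hR0 hv0)
      (and_congr (root_commute h4 hn hv (hP0 h4) hv0 (P0_ne h4))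
        (root_commute h4 hn hv (hQ0 h4 hw0) hv0 hQne))
  have h3 := roots_count h4 (n := 4) (by norm_num)
    (fun v => hermForm 4 F 2 v b₀ = 0 ∧ ∀ a : F, v ≠ a • b₀)
    (fun x => x ∈ ThreeTrans.perp (roots h4 4) (root h4 hb))
    fun v hv hv0 => perp_iff h4 (by norm_num) hb hv hb0 hv0
  have h36 := perp_card_step h4 (m := 2) (k := 9) (by norm_num) (iso_count h4).1
    (r := root h4 hb) ⟨b₀, hb0, hb, rfl⟩
  rw [show {x ∈ roots h4 4 | x ∈ ThreeTrans.perp (roots h4 4) (root h4 hb)} =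
    ThreeTrans.perp (roots h4 4) (root h4 hb) from Set.ext fun x => ⟨fun k => k.2, fun k => ⟨k.1, k⟩⟩,
    h36] at h3
  rw [show {x ∈ roots h4 6 | x ∈ ThreeTrans.perp (roots h4 6) (root h4 hRR) ∧
      Commute x (p0 h4) ∧ Commute x (root h4 (hQ0 h4 hw0))} =
    {u ∈ ThreeTrans.perp (roots h4 6) (root h4 hRR) |
      Commute u (p0 h4) ∧ Commute u (root h4 (hQ0 h4 hw0))} from
      Set.ext fun x => ⟨fun k => k.2, fun k => ⟨k.1.1, k⟩⟩] at h2
  suffices e : Nat.card {v : Fin 6 → F // v ≠ 0 ∧ hermForm 6 F 2 v v = 0 ∧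
      (hermForm 6 F 2 v (cat 0 b₀) = 0 ∧ ∀ a : F, v ≠ a • cat 0 b₀) ∧
      hermForm 6 F 2 v P0 = 0 ∧ hermForm 6 F 2 v (Q0 w) = 0} =
    Nat.card {v : Fin 4 → F // v ≠ 0 ∧ hermForm 4 F 2 v v = 0 ∧
      hermForm 4 F 2 v b₀ = 0 ∧ ∀ a : F, v ≠ a • b₀} by
    rw [e, h3] at h2
    omega
  have hzero : hermForm 2 F 2 (0 : Fin 2 → F) 0 = 0 := by simp [hermForm]
  have hsm : ∀ (a : F) (b : Fin 4 → F), a • cat (0 : Fin 2 → F) b = cat 0 (a • b) := fun a b => by
    rw [← cat_smul, smul_zero]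
  symm
  refine Nat.card_eq_of_bijective (fun b => ⟨cat 0 b.1, fun e => b.2.1 ?_, ?_, ⟨?_, fun a e => b.2.2.2.2 a ?_⟩,
    (zero_fst 0 b.1).mpr rfl⟩) ⟨fun b c e => ?_, fun ⟨v, hv0, hv, ⟨hvR, hne⟩, hPQ⟩ => ?_⟩
  · rw [← cat_zero] at e; exact (cat_inj e).2
  · rw [h_cat, hzero, b.2.2.1, zero_add]
  · rw [h_cat, hzero, b.2.2.2.1, zero_add]
  · rw [hsm] at e; exact (cat_inj e).2
  · exact Subtype.ext (cat_inj (congrArg Subtype.val e)).2
  · obtain ⟨a, b, rfl⟩ := cat_split v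
    obtain rfl := (zero_fst a b).mp hPQ
    rw [h_cat, hzero, zero_add] at hv hvR
    exact ⟨⟨b, fun e => hv0 (by rw [e, cat_zero]), hv, hvR, fun a e => hne a (by rw [hsm, e])⟩, rfl⟩

end Cfsg.Agent.Block.FischerTypes.U6
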