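import Cfsg.Agent.Lib.Block.FischerTypes.U6Class
import Cfsg.Agent.Lib.Block.FischerTypes.Types
import Cfsg.Agent.Lib.Classical.UnitTwoGenEmbed

/-! The stabiliser of a root of `PSU_6(2)` and the meeting lemma for sets with two points on a line. -/

set_option autoImplicit false
set_option linter.style.haveILetI false
set_option linter.unusedSectionVars false

namespace Cfsg.Agent.Block.FischerTypes.U6

open Matrix Cfsg Cfsg.Agent.Classical Cfsg.Agent.Classical.PSUAut Cfsg.Agent.Spor.UnitTwo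
open Cfsg.Agent.Spor

variable {F : Type} [Field F] [Fintype F] (h4 : Fintype.card F = 4)

local notation "hh" => hermForm 6 F 2
local notation "hF" => card_sq h4
local notation "π" => suToPSU 6 F 2

/-- Concatenation of two and four coordinates. -/
def cat (a : Fin 2 → F) (b : Fin 4 → F) : Fin 6 → F := Fin.append a b

theorem cat_split (x : Fin 6 → F) :
    ∃ (a : Fin 2 → F) (b : Fin 4 → F), x = cat a b :=
  ⟨fun i => x (Fin.castAdd 4 i), fun i => x (Fin.natAdd 2 i),
    (Fin.append_castAdd_natAdd (m := 2) (n := 4) (f := x)).symm⟩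

theorem cat_inj {a a' : Fin 2 → F} {b b' : Fin 4 → F} (e : cat a b = cat a' b') : a = a' ∧ b = b' := by
  constructor
  · funext i
    have := congrFun e (Fin.castAdd 4 i)
    simp only [cat, Fin.append_left] at this
    exact this
  · funext i
    have := congrFun e (Fin.natAdd 2 i)
    simp only [cat, Fin.append_right] at this
    exact this

theorem cat_add (a a' : Fin 2 → F) (b b' : Fin 4 → F) : cat (a + a') (b + b') = cat a b + cat a' b' := by
  funext i
  refine Fin.addCases (m := 2) (n := 4) (fun i => ?_) (fun i => ?_) i <;> simp [cat]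

theorem cat_smul (c : F) (a : Fin 2 → F) (b : Fin 4 → F) : cat (c • a) (c • b) = c • cat a b := by
  funext i
  refine Fin.addCases (m := 2) (n := 4) (fun i => ?_) (fun i => ?_) i <;> simp [cat]

theorem cat_zero : cat (0 : Fin 2 → F) (0 : Fin 4 → F) = 0 := by
  funext i
  refine Fin.addCases (m := 2) (n := 4) (fun i => ?_) (fun i => ?_) i <;> simp [cat]

theorem h_cat (a a' : Fin 2 → F) (b b' : Fin 4 → F) :
    hh (cat a b) (cat a' b') = hermForm 2 F 2 a a' + hermForm 4 F 2 b b' := by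
  show ∑ i : Fin (2 + 4), Fin.append a b i * (Fin.append a' b' i) ^ 2 = _
  rw [Fin.sum_univ_add]
  simp [hermForm]

/-- The matrix acting as one on two coordinates. -/
def catM (B : Matrix (Fin 4) (Fin 4) F) : Matrix (Fin 6) (Fin 6) F :=
  (Matrix.fromBlocks (1 : Matrix (Fin 2) (Fin 2) F) 0 0 B).submatrix
    (finSumFinEquiv (m := 2) (n := 4)).symm (finSumFinEquiv (m := 2) (n := 4)).symm

theorem catM_mulVec (B : Matrix (Fin 4) (Fin 4) F) (a : Fin 2 → F) (b : Fin 4 → F) :
    catM B *ᵥ cat a b = cat a (B *ᵥ b) := by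
  rw [catM, Matrix.submatrix_mulVec_equiv, Equiv.symm_symm]
  have h1 : cat a b ∘ (finSumFinEquiv (m := 2) (n := 4)) = Sum.elim a b := by
    funext i; rcases i with i | i
    · exact Fin.append_left a b i
    · exact Fin.append_right a b i
  rw [h1, Matrix.fromBlocks_mulVec]
  funext i
  refine Fin.addCases (m := 2) (n := 4) (fun i => ?_) (fun i => ?_) i
  · refine (congrArg _ (finSumFinEquiv_symm_apply_castAdd i)).trans ?_
    simp [cat]
  · refine (congrArg _ (finSumFinEquiv_symm_apply_natAdd i)).trans ?_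
    simp [cat]

theorem det_catM (B : Matrix (Fin 4) (Fin 4) F) : (catM B).det = B.det := by
  rw [catM, Matrix.det_submatrix_equiv_self, Matrix.det_fromBlocks_zero₂₁, Matrix.det_one, one_mul]

theorem su_ext_cat {s t : SU 6 F 2}
    (H : ∀ a b, suVal s *ᵥ cat a b = suVal t *ᵥ cat a b) : s = t :=
  suVal_ext (Matrix.ext_iff_mulVec.2 fun x => by
    obtain ⟨a, b, rfl⟩ := cat_split x
    exact H a b)

/-- A block element. -/
def catSU (B : Matrix (Fin 4) (Fin 4) F) (hd : B.det = 1)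
    (hB : ∀ x y, hermForm 4 F 2 (B *ᵥ x) (B *ᵥ y) = hermForm 4 F 2 x y) : SU 6 F 2 :=
  ⟨⟨catM B, (det_catM B).trans hd⟩, fun x y => by
    obtain ⟨a, b, rfl⟩ := cat_split x
    obtain ⟨a', b', rfl⟩ := cat_split y
    show hh (catM B *ᵥ cat a b) (catM B *ᵥ cat a' b') = _
    rw [catM_mulVec, catM_mulVec, h_cat, h_cat, hB]⟩

theorem catSU_apply (B : Matrix (Fin 4) (Fin 4) F) (hd : B.det = 1)
    (hB : ∀ x y, hermForm 4 F 2 (B *ᵥ x) (B *ᵥ y) = hermForm 4 F 2 x y) (a : Fin 2 → F)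
    (b : Fin 4 → F) : suVal (catSU B hd hB) *ᵥ cat a b = cat a (B *ᵥ b) := catM_mulVec B a b

/-- The embedding of `SU_4(2)`. -/
def emb4 : SU 4 F 2 →* SU 6 F 2 where
  toFun s := catSU (suVal s) s.1.2 (su_form s)
  map_one' := su_ext_cat fun a b => by
    rw [catSU_apply, show suVal (1 : SU 4 F 2) = 1 from rfl, show suVal (1 : SU 6 F 2) = 1 from rfl,
      Matrix.one_mulVec, Matrix.one_mulVec]
  map_mul' s t := su_ext_cat fun a b => by
    rw [catSU_apply, suVal_mul, suVal_mul, ← Matrix.mulVec_mulVec, ← Matrix.mulVec_mulVec, catSU_apply,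
      catSU_apply]

include h4

theorem roots_class : IsThreeTranspositionClass (roots h4 6) := by
  have h := UnitTwo.isThreeTranspositionClass (n := 6) h4 (by norm_num)
  have hE : IsThreeTranspositionClass (π '' {g : SU 6 F 2 | (suVal g - 1).rank = 1}) := by
    refine ⟨⟨?_, ?_⟩, ?_, ?_⟩
    · rintro _ ⟨x, hx, rfl⟩
      obtain ⟨v, hv0, hv, rfl⟩ := (rank_one_iff h4 x).mp hx
      refine orderOf_eq_prime (by rw [pow_two, ← map_mul, tv_mul_self, map_one]) ?_
      exact tv_ne_one hF (by norm_num) hv0 hv (by rw [map_one, add_self h4]) one_ne_zero (suVal_tv h4 hv)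
    · rintro _ ⟨x, hx, rfl⟩ _ ⟨y, hy, rfl⟩
      rcases h.1.2 x hx y hy with k | k
      · exact Or.inl (by rw [← map_mul, ← map_pow, k, map_one])
      · exact Or.inr (by rw [← map_mul, ← map_pow, k, map_one])
    · obtain ⟨d, hd, hc⟩ := h.2.1
      refine ⟨π d, Set.mem_image_of_mem _ hd, Set.ext fun y => ⟨?_, fun hy => ?_⟩⟩
      · rintro ⟨x, hx, rfl⟩
        rw [hc] at hx
        obtain ⟨g, rfl⟩ := isConj_iff.mp hx
        exact isConj_iff.mpr ⟨π g, by simp⟩
      · obtain ⟨g, rfl⟩ := isConj_iff.mp hy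
        obtain ⟨g, rfl⟩ := pi_surjective (n := 6) (F := F) (q := 2) g
        refine ⟨g * d * g⁻¹, ?_, by simp⟩
        rw [hc]
        exact isConj_iff.mpr ⟨_, rfl⟩
    · rw [← MonoidHom.map_closure, h.2.2]
      exact Subgroup.map_top_of_surjective _ pi_surjective
  have := class_eq h4 (by norm_num) hE
  rwa [this] at hE

theorem roots_hyp : ThreeTrans.Hyp (roots h4 6) := by
  obtain ⟨hs, x, y, hxy⟩ := psu_six h4
  haveI := hs
  have hcomm : commutator (PSU 6 F 2) = ⊤ :=
    (Subgroup.Normal.eq_bot_or_eq_top inferInstance).resolve_left fun hb => hxy (by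
      have := Subgroup.commutator_mem_commutator (Subgroup.mem_top x) (Subgroup.mem_top y)
      rw [← commutator_def, hb, Subgroup.mem_bot, commutatorElement_eq_one_iff_commute] at this
      exact this)
  refine ThreeTrans.hyp_of_no_solvable (fun N hN hsol => ?_) ?_ (roots_class h4)
  · refine (hN.eq_bot_or_eq_top).resolve_right fun ht => ?_
    subst ht
    haveI : Group.IsSolvable (PSU 6 F 2) := Group.isSolvable_of_surjective (f := (Subgroup.topEquiv (G := PSU 6 F 2)).toMonoidHom)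
      Subgroup.topEquiv.surjective
    exact hxy (IsSimpleGroup.comm_iff_isSolvable.mpr this x y)
  · rw [hcomm, ← commutator_def, hcomm]

/-- The element obtained by a scalar. -/
theorem exists_scale (s : SU 6 F 2) {a : F} (ha : a ≠ 0) :
    ∃ t : SU 6 F 2, suVal t = a • suVal s ∧ π t = π s := by
  have h3 : a ^ 3 = 1 := by
    have := FiniteField.pow_card_sub_one_eq_one a ha
    rwa [h4] at this
  have hd : (a • suVal s).det = 1 := by
    rw [Matrix.det_smul, show (suVal s).det = 1 from s.1.2, mul_one, Fintype.card_fin,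
      show a ^ 6 = (a ^ 3) ^ 2 by ring, h3, one_pow]
  let t : SU 6 F 2 := ⟨⟨a • suVal s, hd⟩, fun x y => by
    show hh ((a • suVal s) *ᵥ x) ((a • suVal s) *ᵥ y) = hh x y
    rw [Matrix.smul_mulVec, Matrix.smul_mulVec, h_smul_left, h_smul_right hF, su_form, ← mul_assoc,
      norm_one h4 ha, one_mul]⟩
  exact ⟨t, rfl, (pi_eq_iff hF).2 ⟨a, rfl⟩⟩

/-- The standard isotropic vector. -/
def P0 : Fin 6 → F := cat ![1, 1] 0

theorem hP0 : hh (P0 (F := F)) P0 = 0 := by
  rw [P0, h_cat]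
  simp [hermForm, Fin.sum_univ_two]
  exact add_self h4 1

theorem P0_ne : (P0 (F := F)) ≠ 0 := fun e => by
  rw [P0, ← cat_zero] at e
  simpa using congrFun (cat_inj e).1 0

/-- Its standard root. -/
noncomputable def p0 : PSU 6 F 2 := root h4 (hP0 h4)

theorem p0_mem : p0 h4 ∈ roots h4 6 := ⟨_, P0_ne h4, _, rfl⟩

/-- A second vector. -/
def Q0 (w : F) : Fin 6 → F := cat ![w, 1] 0

theorem hQ0 {w : F} (hw : w ≠ 0) : hh (Q0 w) (Q0 w) = 0 := by
  rw [Q0, h_cat]
  simp [hermForm, Fin.sum_univ_two]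
  have := norm_one h4 hw
  rw [qFrob_apply] at this
  linear_combination this + add_self h4 (1 : F)

theorem hPQ0 {w : F} (hwc : qFrob hF w = w + 1) : hh P0 (Q0 w) = w := by
  rw [qFrob_apply] at hwc
  rw [P0, Q0, h_cat]
  simp [hermForm, Fin.sum_univ_two]
  linear_combination hwc + add_self h4 (1 : F)

/-- Elements fixing the standard pair are products of transvections of the complement. -/
theorem pair_stab {w : F} (hw0 : w ≠ 0) (hw1 : w ≠ 1) (hwc : qFrob hF w = w + 1) {g : PSU 6 F 2}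
    (hp : Commute g (p0 h4)) (hq : Commute g (root h4 (hQ0 h4 hw0))) :
    g ∈ Subgroup.closure {y | ∃ b : Fin 4 → F, b ≠ 0 ∧ ∃ hb : hh (cat 0 b) (cat 0 b) = 0, root h4 hb = y} := by
  obtain ⟨s, rfl⟩ := pi_surjective (n := 6) (F := F) (q := 2) g
  have hfix : ∀ {v : Fin 6 → F} (hv : hh v v = 0), v ≠ 0 → Commute (π s) (root h4 hv) →
      ∃ a : F, a ≠ 0 ∧ suVal s *ᵥ v = a • v := fun {v} hv hv0 hc => by
    refine root_eq h4 (by norm_num) (by rw [su_form]; exact hv) hv (fun e => hv0 (su_injective s e)) ?_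
    show π (tv h4 _) = π (tv h4 hv)
    rw [← suVal_conj h4 s hv, map_mul, map_mul, map_inv]
    exact mul_inv_eq_iff_eq_mul.mpr hc.eq
  have hQne : Q0 w ≠ 0 := fun e => by
    rw [Q0, ← cat_zero] at e
    simpa using congrFun (cat_inj e).1 1
  obtain ⟨a, ha, hsa⟩ := hfix (hP0 h4) (P0_ne h4) hp
  obtain ⟨b, hb, hsb⟩ := hfix (hQ0 h4 hw0) hQne hq
  have hab : a = b := by
    have h1 := su_form s P0 (Q0 w)
    rw [hsa, hsb, h_smul_left, h_smul_right hF, hPQ0 h4 hwc] at h1
    have h2 : a * qFrob hF b = 1 := mul_right_cancel₀ hw0 (by rw [one_mul]; linear_combination h1)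
    have := norm_one h4 hb
    linear_combination b * h2 - a * this
  subst hab
  obtain ⟨t, ht, hπ⟩ := exists_scale h4 s (inv_ne_zero ha)
  rw [← hπ]
  have htP : suVal t *ᵥ P0 = P0 := by
    rw [ht, Matrix.smul_mulVec, hsa, smul_smul, inv_mul_cancel₀ ha, one_smul]
  have htQ : suVal t *ᵥ Q0 w = Q0 w := by
    rw [ht, Matrix.smul_mulVec, hsb, smul_smul, inv_mul_cancel₀ ha, one_smul]
  have hw1' : w + 1 ≠ 0 := fun e => hw1 (by rw [eq_neg_of_add_eq_zero_left e, neg_eq h4])
  have hw1'' : w - 1 ≠ 0 := sub_ne_zero.mpr hw1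
  have hwq : qFrob hF w - 1 ≠ 0 := by
    rw [hwc, add_sub_cancel_right]; exact hw0
  have hspan : ∀ x : Fin 2 → F, ∃ c e : F, cat x (0 : Fin 4 → F) = c • P0 + e • Q0 w := fun x => by
    refine ⟨x 1 - (x 0 - x 1) / (w - 1), (x 0 - x 1) / (w - 1), ?_⟩
    rw [P0, Q0, ← cat_smul, ← cat_smul, ← cat_add, smul_zero, smul_zero, add_zero]
    congr 1
    funext i
    fin_cases i <;> simp <;> field_simp <;> ring
  have htop : ∀ x : Fin 2 → F, suVal t *ᵥ cat x 0 = cat x 0 := fun x => by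
    obtain ⟨c, e, hce⟩ := hspan x
    rw [hce, Matrix.mulVec_add, Matrix.mulVec_smul, Matrix.mulVec_smul, htP, htQ]
  let B : Matrix (Fin 4) (Fin 4) F :=
    fun i j => (suVal t *ᵥ cat 0 (Pi.single j 1)) (Fin.natAdd 2 i)
  have hbot : ∀ y : Fin 4 → F, suVal t *ᵥ cat 0 y = cat 0 (B *ᵥ y) := fun y => by
    obtain ⟨x, z, hxz⟩ := cat_split (suVal t *ᵥ cat 0 y)
    have key : ∀ u : Fin 2 → F, hermForm 2 F 2 x u = 0 := fun u => by
      have h1 := su_form t (cat 0 y) (cat u 0)
      rw [hxz, htop, h_cat, h_cat] at h1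
      simpa [hermForm] using h1
    have hx : x = 0 := by
      funext i
      have := key (Pi.single i 1)
      fin_cases i <;> simpa [hermForm, Fin.sum_univ_two] using this
    rw [hxz, hx]
    congr 1
    funext i
    have hlin : cat (0 : Fin 2 → F) y = ∑ j, y j • cat (0 : Fin 2 → F) (Pi.single j 1) := by
      funext k
      refine Fin.addCases (m := 2) (n := 4) (fun k => ?_) (fun k => ?_) k <;>
        simp [cat, Finset.sum_apply, Pi.single_apply]
    have hz : z i = (suVal t *ᵥ cat 0 y) (Fin.natAdd 2 i) := by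
      rw [hxz]; simp [cat]
    rw [hz, hlin, Matrix.mulVec_sum, Finset.sum_apply]
    simp only [Matrix.mulVec_smul, Pi.smul_apply, smul_eq_mul, B, Matrix.mulVec, dotProduct]
    refine Finset.sum_congr rfl fun j _ => ?_
    rw [Finset.sum_mul]
    exact Finset.sum_congr rfl fun k _ => by ring
  have hall : ∀ x y, suVal t *ᵥ cat x y = cat x (B *ᵥ y) := fun x y => by
    rw [show cat x y = cat x 0 + cat 0 y by rw [← cat_add, add_zero, zero_add],
      Matrix.mulVec_add, htop, hbot, ← cat_add, add_zero, zero_add]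
  have hmat : suVal t = catM B := Matrix.ext_iff_mulVec.2 fun x => by
    obtain ⟨u, v, rfl⟩ := cat_split x
    rw [hall, catM_mulVec]
  have hdet : B.det = 1 := by rw [← det_catM, ← hmat]; exact t.1.2
  have hB : ∀ x y, hermForm 4 F 2 (B *ᵥ x) (B *ᵥ y) = hermForm 4 F 2 x y := fun x y => by
    have h1 := su_form t (cat 0 x) (cat 0 y)
    rw [hbot, hbot, h_cat, h_cat] at h1
    simpa [hermForm] using h1
  let t₄ : SU 4 F 2 := ⟨⟨B, hdet⟩, hB⟩
  have ht4 : t = emb4 t₄ := suVal_ext hmat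
  let M := ((Subgroup.closure {y | ∃ b : Fin 4 → F, b ≠ 0 ∧ ∃ hb : hh (cat 0 b) (cat 0 b) = 0,
    root h4 hb = y}).comap π).comap (emb4 (F := F))
  have hM : M = ⊤ := UnitTwoGen.top_of_transvections hF (by norm_num) (by norm_num) fun v c H => by
    show π (emb4 (eSU hF H)) ∈ Subgroup.closure {y | ∃ b : Fin 4 → F, b ≠ 0 ∧
      ∃ hb : hh (cat 0 b) (cat 0 b) = 0, root h4 hb = y}
    have hone : eMat 2 v (0 : Fin 4 → F) c = 1 → π (emb4 (eSU hF H)) ∈
        Subgroup.closure {y | ∃ b : Fin 4 → F, b ≠ 0 ∧ ∃ hb : hh (cat 0 b) (cat 0 b) = 0,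
          root h4 hb = y} := fun e => by
      rw [show eSU hF H = 1 from suVal_ext e, map_one, map_one]
      exact one_mem _
    by_cases hv0 : v = 0
    · refine hone (Matrix.ext_iff_mulVec.2 fun x => ?_)
      rw [tv_apply' hF, hv0, smul_zero, add_zero, Matrix.one_mulVec]
    have hc : c = 0 ∨ c = 1 := by
      refine real_zero_or_one h4 ?_
      have h1 : c + qFrob hF c = 0 := by
        obtain ⟨hvv, -, hc⟩ := H
        rw [qFrob_apply]
        simpa [hermForm] using hc
      linear_combination h1 - add_self h4 c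
    rcases hc with rfl | rfl
    · refine hone (Matrix.ext_iff_mulVec.2 fun x => ?_)
      rw [tv_apply' hF, zero_mul, zero_smul, add_zero, Matrix.one_mulVec]
    have hvv : hermForm 4 F 2 v v = 0 := H.1
    have hb : hh (cat 0 v) (cat 0 v) = 0 := by rw [h_cat, hvv]; simp [hermForm]
    refine Subgroup.subset_closure ⟨v, hv0, hb, ?_⟩
    show π (tv h4 hb) = π (emb4 (eSU hF H))
    congr 1
    refine su_ext_cat fun x y => ?_
    rw [suVal_tv h4, T_apply h4, h_cat]
    show _ = catM (suVal (eSU hF H)) *ᵥ cat x y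
    rw [catM_mulVec, suVal_eSU, tv_apply' hF, one_mul, ← cat_smul, ← cat_add]
    simp [hermForm]
  have := hM.ge (Subgroup.mem_top t₄)
  rw [ht4]
  exact this

/-- Noncommuting roots move to the standard pair. -/
theorem pair_conj {w : F} (hw0 : w ≠ 0) (hwc : qFrob hF w = w + 1) {p q : PSU 6 F 2} (hp : p ∈ roots h4 6)
    (hq : q ∈ roots h4 6) (hpq : ¬ Commute p q) :
    ∃ g : PSU 6 F 2, g * p * g⁻¹ = p0 h4 ∧ g * q * g⁻¹ = root h4 (hQ0 h4 hw0) := by
  have h := roots_class h4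
  have hQne : Q0 w ≠ 0 := fun e => hw0 (by rw [← hPQ0 h4 hwc, e, h_zero_right hF])
  have hne : ¬ Commute (p0 h4) (root h4 (hQ0 h4 hw0)) := fun k => hw0 (by
    rw [← hPQ0 h4 hwc]
    exact (root_commute h4 (by norm_num) (hP0 h4) (hQ0 h4 hw0) (P0_ne h4) hQne).mp k)
  obtain ⟨g, hg⟩ := ThreeTrans.transitive h hp (p0_mem h4)
  obtain ⟨k, hk, hk'⟩ := ThreeTrans.transitive_apart (roots_hyp h4) (p0_mem h4)
    (a₀ := g * q * g⁻¹) ⟨ThreeTrans.conj_mem h g hq, fun k => hpq (by
      rw [← hg] at k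
      exact ((ThreeTrans.commute_conj_iff g q p).mp k).symm)⟩
    (b₀ := root h4 (hQ0 h4 hw0)) ⟨⟨_, hQne, _, rfl⟩, fun k => hne k.symm⟩
  refine ⟨k * g, ?_, ?_⟩
  · rw [show k * g * p * (k * g)⁻¹ = k * (g * p * g⁻¹) * k⁻¹ by simp [mul_assoc], hg]
    exact ThreeTrans.conj_self_eq (ThreeTrans.localGroup_commute hk)
  · rw [show k * g * q * (k * g)⁻¹ = k * (g * q * g⁻¹) * k⁻¹ by simp [mul_assoc], hk']

/-- The stabiliser of a root is generated by the roots commuting with it. -/
theorem point_stab {g p : PSU 6 F 2} (hp : p ∈ roots h4 6) (hg : Commute g p) :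
    g ∈ ThreeTrans.localGroup (roots h4 6) p := by
  obtain ⟨w, hw0, hw1, -, hwc, -⟩ := exists_omega h4
  have h := roots_class h4
  obtain ⟨q, hq⟩ := ThreeTrans.apart_nonempty (roots_hyp h4) hp
  obtain ⟨t, htp, htq⟩ := pair_conj h4 hw0 hwc hp hq.1 (fun k => hq.2 k.symm)
  have hgq : g * q * g⁻¹ ∈ ThreeTrans.apart (roots h4 6) p :=
    ThreeTrans.apart_conj h hg hq
  obtain ⟨k, hk, hk'⟩ := ThreeTrans.transitive_apart (roots_hyp h4) hp hq hgq
  have hkp := ThreeTrans.localGroup_commute hk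
  have hm : Commute (k⁻¹ * g) p ∧ Commute (k⁻¹ * g) q := by
    refine ⟨hkp.inv_left.mul_left hg, mul_inv_eq_iff_eq_mul.mp ?_⟩
    rw [show k⁻¹ * g * q * (k⁻¹ * g)⁻¹ = k⁻¹ * (g * q * g⁻¹) * k by simp [mul_assoc], ← hk']
    simp [mul_assoc]
  have h1 := pair_stab h4 hw0 hw1 hwc (g := t * (k⁻¹ * g) * t⁻¹)
    (by rw [← htp]; exact (ThreeTrans.commute_conj_iff t _ _).mpr hm.1)
    (by rw [← htq]; exact (ThreeTrans.commute_conj_iff t _ _).mpr hm.2)
  have hle : Subgroup.closure {y | ∃ b : Fin 4 → F, b ≠ 0 ∧ ∃ hb : hh (cat 0 b) (cat 0 b) = 0,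
      root h4 hb = y} ≤ (ThreeTrans.localGroup (roots h4 6) p).comap (MulAut.conj t⁻¹).toMonoidHom := by
    refine (Subgroup.closure_le _).mpr ?_
    rintro _ ⟨b, hb0, hb, rfl⟩
    have hne : cat (0 : Fin 2 → F) b ≠ 0 := fun e => hb0 (by rw [← cat_zero] at e; exact (cat_inj e).2)
    have hc : Commute (root h4 hb) (p0 h4) := (root_commute h4 (by norm_num) hb (hP0 h4) hne (P0_ne h4)).mpr
      (by rw [P0, h_cat]; simp [hermForm])
    show t⁻¹ * root h4 hb * t⁻¹⁻¹ ∈ ThreeTrans.localGroup (roots h4 6) p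
    by_cases e : t⁻¹ * root h4 hb * t⁻¹⁻¹ = p
    · rw [e]; exact ThreeTrans.self_mem_localGroup p
    · refine ThreeTrans.perp_le_localGroup ⟨ThreeTrans.conj_mem h _ ⟨_, hne, hb, rfl⟩, e, ?_⟩
      have := ((ThreeTrans.commute_conj_iff t⁻¹ _ _).mpr hc).symm
      rwa [← htp, show t⁻¹ * (t * p * t⁻¹) * t⁻¹⁻¹ = p by simp [mul_assoc]] at this
  have h2 := hle h1
  rw [Subgroup.mem_comap] at h2
  simp only [MulEquiv.coe_toMonoidHom, MulAut.conj_apply] at h2
  have := mul_mem hk h2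
  simpa [mul_assoc] using this

/-- Twins of a root in the perpendicular of another lie on their line. -/
theorem twin_vec {P C : Fin 6 → F} (hP : P ≠ 0) (hPP : hh P P = 0) (hC : C ≠ 0) (hCC : hh C C = 0)
    (hne : root h4 hCC ≠ root h4 hPP) (hPC : hh P C = 0) {e : PSU 6 F 2}
    (he : e ∈ ThreeTrans.perp (roots h4 6) (root h4 hPP))
    (htw : ∀ y ∈ ThreeTrans.perp (roots h4 6) (root h4 hPP), Commute y (root h4 hCC) ↔ Commute y e) :
    ∃ (α : F) (hα : hh (C + α • P) (C + α • P) = 0), C + α • P ≠ 0 ∧ root h4 hα = e := by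
  classical
  have hn : (1 : ℕ) ≤ 6 := by norm_num
  have hCP := h_comm_zero hF hPC
  have horth : ∀ α : F, hh (C + α • P) (C + α • P) = 0 := fun α => by
    rw [h_add_left, h_add_right hF, h_add_right hF, h_smul_left, h_smul_left, h_smul_right hF,
      h_smul_right hF, hCC, hCP, hPC, hPP]
    ring
  have hind : ∀ a : F, C ≠ a • P := fun a e => hne (by
    rw [root_congr h4 hCC (e ▸ hCC) e]
    exact root_smul h4 hPP (fun h0 => hC (by rw [e, h0, zero_smul])) _)
  have hne0 : ∀ α : F, C + α • P ≠ 0 := fun α h0 => hind (-α) (by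
    rw [neg_smul]; exact eq_neg_of_add_eq_zero_left h0)
  have hperp : ∀ α, root h4 (horth α) ∈ ThreeTrans.perp (roots h4 6) (root h4 hPP) := fun α => by
    refine ⟨⟨_, hne0 α, _, rfl⟩, fun k => ?_, (root_commute h4 hn hPP (horth α) hP (hne0 α)).mpr
      (by rw [h_add_right hF, h_smul_right hF, hPC, hPP, mul_zero, add_zero])⟩
    obtain ⟨a, -, e'⟩ := root_eq h4 hn (horth α) hPP (hne0 α) k
    exact hind (a - α) (by rw [sub_smul, ← e', add_sub_cancel_right])
  obtain ⟨l, -, hlen, hl, -, -⟩ := line h4 hn (p := root h4 hPP) (c := root h4 hCC) ⟨P, hP, hPP, rfl⟩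
    ⟨⟨C, hC, hCC, rfl⟩, hne, (root_commute h4 hn hPP hCC hP hC).mpr hPC⟩
  have hin : ∀ α, root h4 (horth α) ∈ l := fun α => (hl _).mpr ⟨hperp α, fun y hy => by
    obtain ⟨⟨Y, hY0, hYY, rfl⟩, -, hyc⟩ := hy
    rw [root_commute h4 hn hYY hCC hY0 hC, root_commute h4 hn hYY (horth α) hY0 (hne0 α),
      h_add_right hF, h_smul_right hF,
      h_comm_zero hF ((root_commute h4 hn hPP hYY hP hY0).mp hyc), mul_zero, add_zero]⟩
  have hinj : Function.Injective fun α => root h4 (horth α) := fun α β k => by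
    obtain ⟨a, ha, e'⟩ := root_eq h4 hn (horth α) (horth β) (hne0 α) k
    by_cases h1 : a = 1
    · rw [h1, one_smul] at e'
      exact smul_left_injective F hP (add_left_cancel e')
    · exfalso
      have h1' : (1 : F) - a ≠ 0 := sub_ne_zero.mpr (Ne.symm h1)
      refine hind ((a * β - α) / (1 - a)) ?_
      have e2 : (1 - a) • C = (a * β - α) • P := by
        linear_combination (norm := module) e'
      rw [div_eq_inv_mul, mul_smul, ← e2, smul_smul, inv_mul_cancel₀ h1', one_smul]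
  have himg : Finset.univ.image (fun α => root h4 (horth α)) = l.toFinset := by
    refine Finset.eq_of_subset_of_card_le (fun x hx => ?_) ?_
    · obtain ⟨α, -, rfl⟩ := Finset.mem_image.mp hx
      exact List.mem_toFinset.mpr (hin α)
    · rw [Finset.card_image_of_injective _ hinj, Finset.card_univ, h4, ← hlen]
      exact List.toFinset_card_le l
  have : e ∈ l.toFinset := List.mem_toFinset.mpr ((hl e).mpr ⟨he, htw⟩)
  rw [← himg] at this
  obtain ⟨α, -, rfl⟩ := Finset.mem_image.mp this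
  exact ⟨α, horth α, hne0 α, rfl⟩

/-- A set of roots with further points on all lines through its members, closed under braiding, meets
each such double perpendicular. -/
theorem meet {S : Set (PSU 6 F 2)}
    (hline : ∀ x ∈ S, ∀ c ∈ ThreeTrans.perp (roots h4 6) x, ∃ e ∈ S, e ∈ ThreeTrans.perp (roots h4 6) x ∧
      ∀ y ∈ ThreeTrans.perp (roots h4 6) x, Commute y c ↔ Commute y e)
    (hclosed : ∀ s ∈ S, ∀ s' ∈ S, ¬ Commute s s' → s * s' * s ∈ S) {x y : PSU 6 F 2} (hx : x ∈ S)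
    (hxr : x ∈ roots h4 6) (hy : y ∈ roots h4 6) (hxy : ¬ Commute x y) :
    ∃ z ∈ S, z ≠ x ∧ Commute z x ∧ Commute z y := by
  classical
  obtain ⟨w, hw0, hw1, hww, hwc, -⟩ := exists_omega h4
  have h := roots_class h4
  have hn : (1 : ℕ) ≤ 6 := by norm_num
  obtain ⟨g, hgx, hgy⟩ := pair_conj h4 hw0 hwc hxr hy hxy
  have pull : ∀ a b : PSU 6 F 2, Commute (g⁻¹ * a * g) b ↔ Commute a (g * b * g⁻¹) := fun a b => by
    rw [← ThreeTrans.commute_conj_iff g]
    simp [mul_assoc]
  have two : (2 : F) = 0 := by rw [← one_add_one_eq_two, add_self h4]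
  let u : Fin 4 → (Fin 4 → F) :=
    ![![1, 1, 0, 0], ![w, w + 1, 0, 0], ![1 + w, w, 1, 1], ![1 + w, w, w, w + 1]]
  have hsq : (w + 1) ^ 2 = w := by linear_combination hww + (w + 1) * two
  have hw2 : w ^ 2 = w + 1 := by rw [pow_two, hww]
  have hgram : ∀ i j, hh (cat 0 (u i)) (cat 0 (u j)) = if i = j then 0 else 1 := fun i j => by
    rw [h_cat]
    fin_cases i <;> fin_cases j <;> simp [u, hermForm, Fin.sum_univ_succ, hw2, hsq, add_comm (1 : F) w] <;>
      first
        | linear_combination two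
        | linear_combination w * two
        | linear_combination (w * w + w) * two
        | linear_combination (w * w + w + 1) * two
        | linear_combination (2 * w * w + 2 * w) * two
        | linear_combination (w * w + 2 * w) * two
  have hvv : ∀ i, hh (cat 0 (u i)) (cat 0 (u i)) = 0 := fun i => by rw [hgram, if_pos rfl]
  have hv0 : ∀ i, cat (0 : Fin 2 → F) (u i) ≠ 0 := fun i e => one_ne_zero (α := F) (by
    have h1 := hgram i (i + 1)
    rw [e, h_zero_left, if_neg (by fin_cases i <;> decide)] at h1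
    exact h1.symm)
  have hPv : ∀ i, hh P0 (cat 0 (u i)) = 0 := fun i => by rw [P0, h_cat]; simp [hermForm]
  have hQv : ∀ i, hh (Q0 w) (cat 0 (u i)) = 0 := fun i => by rw [Q0, h_cat]; simp [hermForm]
  have hvp : ∀ i, root h4 (hvv i) ∈ ThreeTrans.perp (roots h4 6) (p0 h4) := fun i => by
    refine ⟨⟨_, hv0 i, _, rfl⟩, fun k => ?_, (root_commute h4 hn (hP0 h4) (hvv i) (P0_ne h4) (hv0 i)).mpr
      (hPv i)⟩
    obtain ⟨a, ha, e'⟩ := root_eq h4 hn (hvv i) (hP0 h4) (hv0 i) k
    rw [P0, ← cat_smul] at e'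
    exact ha (by simpa using (congrFun (cat_inj e').1 0).symm)
  have hline' : ∀ c ∈ ThreeTrans.perp (roots h4 6) (p0 h4), ∃ e, g⁻¹ * e * g ∈ S ∧
      e ∈ ThreeTrans.perp (roots h4 6) (p0 h4) ∧
      ∀ z ∈ ThreeTrans.perp (roots h4 6) (p0 h4), Commute z c ↔ Commute z e := by
    intro c hc
    have hc' : g⁻¹ * c * g ∈ ThreeTrans.perp (roots h4 6) x := by
      rw [← conj_mem_perp h g, hgx]
      simpa [mul_assoc] using hc
    obtain ⟨e, he, hep, htw⟩ := hline x hx _ hc'
    refine ⟨g * e * g⁻¹, by simpa [mul_assoc] using he, ?_, fun z hz => ?_⟩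
    · rw [← hgx]; exact (conj_mem_perp h g x).mpr hep
    · have hz' : g⁻¹ * z * g ∈ ThreeTrans.perp (roots h4 6) x := by
        rw [← conj_mem_perp h g, hgx]
        simpa [mul_assoc] using hz
      have := htw _ hz'
      rw [← ThreeTrans.commute_conj_iff g, pull] at this
      simpa [mul_assoc] using this
  have hpick : ∀ i, ∃ (α : F) (hα : hh (cat 0 (u i) + α • P0) (cat 0 (u i) + α • P0) = 0),
      cat 0 (u i) + α • P0 ≠ 0 ∧ g⁻¹ * root h4 hα * g ∈ S := fun i => by
    obtain ⟨e, he, hep, htw⟩ := hline' _ (hvp i)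
    obtain ⟨α, hα, hα0, rfl⟩ := twin_vec h4 (P0_ne h4) (hP0 h4) (hv0 i) (hvv i) (hvp i).2.1 (hPv i) hep htw
    exact ⟨α, hα, hα0, he⟩
  choose α hα hα0 hαS using hpick
  have fin : ∀ {v : Fin 6 → F} (hv : hh v v = 0), v ≠ 0 → hh P0 v = 0 → hh (Q0 w) v = 0 →
      g⁻¹ * root h4 hv * g ∈ S → ∃ z ∈ S, z ≠ x ∧ Commute z x ∧ Commute z y := by
    intro v hv hv0 hPv hQv hS
    have hQne : Q0 w ≠ 0 := fun e => hw0 (by rw [← hPQ0 h4 hwc, e, h_zero_right hF])
    have k1 := ((root_commute h4 hn (hP0 h4) hv (P0_ne h4) hv0).mpr hPv).symm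
    have k2 := ((root_commute h4 hn (hQ0 h4 hw0) hv hQne hv0).mpr hQv).symm
    refine ⟨_, hS, fun k => hxy ?_, ?_, ?_⟩
    · rw [← k, pull, hgy]; exact k2
    · rw [pull, hgx]; exact k1
    · rw [pull, hgy]; exact k2
  by_cases hzero : ∃ i, α i = 0
  · obtain ⟨i, hi⟩ := hzero
    have e : cat 0 (u i) + α i • P0 = cat 0 (u i) := by rw [hi, zero_smul, add_zero]
    refine fin (hvv i) (hv0 i) (hPv i) (hQv i) ?_
    rw [← root_congr h4 (hα i) (hvv i) e]
    exact hαS i
  push Not at hzero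
  obtain ⟨i, j, hij, hαij⟩ := Fintype.exists_ne_map_eq_of_card_lt
    (fun i : Fin 4 => (⟨α i, hzero i⟩ : {a : F // a ≠ 0}))
    (by simp [Fintype.card_subtype_compl, h4])
  have hαeq : α i = α j := congrArg Subtype.val hαij
  have hij1 : hh (cat 0 (u i) + α i • P0) (cat 0 (u j) + α j • P0) = 1 := by
    rw [h_add_left, h_add_right hF, h_add_right hF, h_smul_left, h_smul_left, h_smul_right hF,
      h_smul_right hF, hgram, if_neg hij, hPv, h_comm_zero hF (hPv i), hP0 h4]
    ring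
  have hnc : ¬ Commute (g⁻¹ * root h4 (hα i) * g) (g⁻¹ * root h4 (hα j) * g) := fun k => by
    rw [pull, show g * (g⁻¹ * root h4 (hα j) * g) * g⁻¹ = root h4 (hα j) by simp [mul_assoc],
      root_commute h4 hn (hα i) (hα j) (hα0 i) (hα0 j), hij1] at k
    exact one_ne_zero k
  have hS3 := hclosed _ (hαS i) _ (hαS j) hnc
  have hv3 : hh (cat 0 (u i) + cat 0 (u j)) (cat 0 (u i) + cat 0 (u j)) = 0 := by
    rw [h_add_left, h_add_right hF, h_add_right hF, hvv, hvv, hgram, hgram, if_neg hij,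
      if_neg (Ne.symm hij)]
    linear_combination add_self h4 (1 : F)
  refine fin hv3 (fun e => one_ne_zero (α := F) ?_) (by rw [h_add_right hF, hPv, hPv, add_zero])
    (by rw [h_add_right hF, hQv, hQv, add_zero]) ?_
  · have := congrArg (hh · (cat 0 (u i))) e
    simp only [h_add_left, h_zero_left, hvv, hgram, if_neg (Ne.symm hij), zero_add] at this
    exact this
  convert hS3 using 1
  rw [show g⁻¹ * root h4 (hα i) * g * (g⁻¹ * root h4 (hα j) * g) * (g⁻¹ * root h4 (hα i) * g) =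
    g⁻¹ * (root h4 (hα i) * root h4 (hα j) * root h4 (hα i)) * g by simp [mul_assoc]]
  congr 2
  have hinv : (tv h4 (hα i))⁻¹ = tv h4 (hα i) := inv_eq_of_mul_eq_one_right (tv_mul_self h4 (hα i))
  simp only [root]
  conv_rhs => rw [← map_mul, ← map_mul]; arg 2; arg 2; rw [← hinv]
  rw [suVal_conj h4 _ (hα j)]
  congr 1
  refine suVal_ext ?_
  rw [suVal_tv h4, suVal_tv h4]
  congr 1
  rw [suVal_tv h4, T_apply h4, ← cj_h hF (cat 0 (u i) + α i • P0), hij1, map_one, one_smul, ← hαeq,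
    add_add_add_comm, ← add_smul, add_self h4, zero_smul, add_zero, add_comm]

end Cfsg.Agent.Block.FischerTypes.U6
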